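import Mathlib.GroupTheory.Sylow
import Mathlib.GroupTheory.Nilpotent
import Mathlib.GroupTheory.Frattini
import Mathlib.GroupTheory.PGroup
import Mathlib.GroupTheory.SpecificGroups.Cyclic
import Mathlib.Data.Nat.Prime.Int
import Mathlib.RingTheory.PrincipalIdealDomain
import Mathlib.Algebra.EuclideanDomain.Int
import Cfsg.Prelude.Def_Transfer

/-!
# Basic facts about finite `p`-groups

Commutators with `p`-groups, maximal subgroups, the Frattini subgroup, elementary abelian subgroups,
central elements of order `p`.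
-/

set_option autoImplicit false

namespace Cfsg.Lib.PGroup

open scoped commutatorElement

universe u

variable {G : Type u} [Group G] {p : ℕ}

theorem exists_card_eq [Finite G] [Fact p.Prime] {H : Subgroup G} (hH : IsPGroup p H) :
    ∃ n, Nat.card H = p ^ n :=
  IsPGroup.iff_card.mp hH

/-- In a nilpotent group a nontrivial subgroup `V` is never equal to `[V, P]`. -/
theorem commutator_ne_self_of_isNilpotent {V P : Subgroup G} [Group.IsNilpotent G] (hV : V ≠ ⊥) :
    ⁅V, P⁆ ≠ V := by
  intro h
  obtain ⟨n, hn⟩ := Subgroup.nilpotent_iff_lowerCentralSeries.mp (inferInstance : Group.IsNilpotent G)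
  have hle : ∀ k, V ≤ (⊤ : Subgroup G).lowerCentralSeries k := by
    intro k
    induction k with
    | zero => exact le_top
    | succ k ih =>
      rw [Subgroup.lowerCentralSeries_succ]
      calc V = ⁅V, P⁆ := h.symm
        _ ≤ _ := Subgroup.commutator_mono ih le_top
  exact hV (le_bot_iff.mp (hn ▸ hle n))

/-- `[V, P] < V` when `P` normalizes `V` and both are `p`-groups. -/
theorem commutator_lt_of_isPGroup [Finite G] [Fact p.Prime] {V P : Subgroup G}
    (hV : IsPGroup p V) (hP : IsPGroup p P) (hPV : P ≤ Subgroup.normalizer (V : Set G))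
    (hne : V ≠ ⊥) : ⁅V, P⁆ < V := by
  refine lt_of_le_of_ne (Subgroup.le_normalizer_iff_commutator_le_left.mp hPV) fun h => ?_
  let H : Subgroup G := V ⊔ P
  have hH : IsPGroup p H := by
    rw [show H = P ⊔ V from sup_comm _ _]
    exact hP.to_sup_of_normal_right' hV hPV
  have : Group.IsNilpotent H := hH.isNilpotent
  have hV' : V.subgroupOf H ≠ ⊥ := by
    intro h'
    apply hne
    have := congrArg (Subgroup.map H.subtype) h'
    rwa [Subgroup.map_subgroupOf_eq_of_le le_sup_left, Subgroup.map_bot] at this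
  refine commutator_ne_self_of_isNilpotent (P := P.subgroupOf H) hV' ?_
  apply Subgroup.map_injective H.subtype_injective
  rw [Subgroup.map_commutator, Subgroup.map_subgroupOf_eq_of_le le_sup_left,
    Subgroup.map_subgroupOf_eq_of_le le_sup_right, h]

/-- Maximal subgroups of finite `p`-groups are normal. -/
theorem normal_of_isCoatom [Finite G] [Fact p.Prime] (hG : IsPGroup p G) {M : Subgroup G}
    (hM : IsCoatom M) : M.Normal := by
  have := hG.isNilpotent
  exact Subgroup.NormalizerCondition.normal_of_coatom M Group.normalizerCondition_of_isNilpotent hM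

/-- Maximal subgroups of finite `p`-groups have index `p`. -/
theorem index_of_isCoatom [Finite G] [hp : Fact p.Prime] (hG : IsPGroup p G) {M : Subgroup G}
    (hM : IsCoatom M) : M.index = p := by
  have := normal_of_isCoatom hG hM
  obtain ⟨n, hn⟩ := hG.index M
  rcases Nat.eq_zero_or_pos n with hn0 | hn0
  · exact absurd (Subgroup.index_eq_one.mp (by rw [hn, hn0, pow_zero])) hM.1
  have hdvd : p ∣ Nat.card (G ⧸ M) := by
    rw [← Subgroup.index_eq_card, hn]; exact dvd_pow_self p hn0.ne'
  obtain ⟨x, hx⟩ := exists_prime_orderOf_dvd_card' p hdvd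
  let K : Subgroup G := (Subgroup.zpowers x).comap (QuotientGroup.mk' M)
  have hMK : M ≤ K := by
    intro m hm
    change (m : G ⧸ M) ∈ Subgroup.zpowers x
    rw [(QuotientGroup.eq_one_iff m).mpr hm]
    exact one_mem _
  have hK : K = ⊤ := by
    refine (eq_or_lt_of_le hMK).elim (fun h => ?_) (hM.2 K)
    exfalso
    obtain ⟨g, rfl⟩ := QuotientGroup.mk_surjective x
    have : g ∈ K := Subgroup.mem_zpowers _
    rw [← h] at this
    rw [(QuotientGroup.eq_one_iff g).mpr this, orderOf_one] at hx
    exact hp.out.one_lt.ne hx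
  have htop : Subgroup.zpowers x = ⊤ := by
    rw [← Subgroup.map_comap_eq_self_of_surjective (QuotientGroup.mk'_surjective M)
      (Subgroup.zpowers x)]
    change K.map _ = ⊤
    rw [hK]
    exact Subgroup.map_top_of_surjective _ (QuotientGroup.mk'_surjective M)
  rw [Subgroup.index_eq_card, ← Subgroup.card_top, ← htop, Nat.card_zpowers, hx]

theorem commutator_le_of_isCoatom [Finite G] [hp : Fact p.Prime] (hG : IsPGroup p G)
    {M : Subgroup G} (hM : IsCoatom M) : commutator G ≤ M := by
  have := normal_of_isCoatom hG hM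
  have hidx := index_of_isCoatom hG hM
  have : IsCyclic (G ⧸ M) := isCyclic_of_prime_card (p := p) (by rw [← Subgroup.index_eq_card, hidx])
  exact Subgroup.Normal.quotient_commutative_iff_commutator_le.mp inferInstance

theorem pow_mem_of_isCoatom [Finite G] [hp : Fact p.Prime] (hG : IsPGroup p G)
    {M : Subgroup G} (hM : IsCoatom M) (g : G) : g ^ p ∈ M := by
  have := normal_of_isCoatom hG hM
  rw [← index_of_isCoatom hG hM]
  exact Subgroup.pow_index_mem M g

theorem commutator_le_frattini [Finite G] [Fact p.Prime] (hG : IsPGroup p G) :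
    commutator G ≤ frattini G :=
  le_iInf₂ fun _ hM => commutator_le_of_isCoatom hG hM

theorem pow_mem_frattini [Finite G] [Fact p.Prime] (hG : IsPGroup p G) (g : G) :
    g ^ p ∈ frattini G := by
  simp only [frattini, Order.radical, Subgroup.mem_iInf]
  exact fun M hM => pow_mem_of_isCoatom hG hM g

/-- A subgroup containing the commutators and the `p`-th powers contains the Frattini subgroup. -/
theorem frattini_le_of_commutator_le_of_pow_mem [Finite G] [hp : Fact p.Prime] {N : Subgroup G}
    (hc : commutator G ≤ N) (hpow : ∀ g : G, g ^ p ∈ N) : frattini G ≤ N := by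
  intro x hx
  by_contra hxN
  obtain ⟨M, hNM, ⟨-, hxM⟩, hmax⟩ :=
    (Set.toFinite {M : Subgroup G | N ≤ M ∧ x ∉ M}).exists_le_maximal (a := N) ⟨le_rfl, hxN⟩
  have : M.Normal := Subgroup.Normal.of_commutator_le _ (hc.trans hNM)
  have hbig : ∀ K : Subgroup G, M < K → x ∈ K := by
    intro K hK
    by_contra hxK
    exact not_le_of_gt hK (hmax ⟨hNM.trans hK.le, hxK⟩ hK.le)
  have htop : M ⊔ Subgroup.zpowers x = ⊤ := by
    rw [eq_top_iff]
    intro y _
    by_cases hy : y ∈ M
    · exact Subgroup.mem_sup_left hy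
    have hlt : M < M ⊔ Subgroup.zpowers y := lt_of_le_of_ne le_sup_left fun h =>
      hy (h ▸ (le_sup_right : Subgroup.zpowers y ≤ _) (Subgroup.mem_zpowers y))
    obtain ⟨m, hm, z, hz, hxz⟩ := Subgroup.mem_sup_of_normal_left.mp (hbig _ hlt)
    obtain ⟨i, rfl⟩ := Subgroup.mem_zpowers_iff.mp hz
    have hi : ¬ (p : ℤ) ∣ i := by
      rintro ⟨j, rfl⟩
      apply hxM
      rw [← hxz, zpow_mul, zpow_natCast]
      exact mul_mem hm (zpow_mem (hNM (hpow y)) j)
    obtain ⟨s, t, hst⟩ := (((Nat.prime_iff_prime_int).mp hp.out).coprime_iff_not_dvd.mpr hi).symm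
    have hyi : y ^ i ∈ M ⊔ Subgroup.zpowers x := by
      have : y ^ i = m⁻¹ * x := by rw [← hxz, inv_mul_cancel_left]
      rw [this]
      exact Subgroup.mul_mem_sup (inv_mem hm) (Subgroup.mem_zpowers x)
    have hyp : y ^ (p : ℤ) ∈ M ⊔ Subgroup.zpowers x := by
      rw [zpow_natCast]; exact Subgroup.mem_sup_left (hNM (hpow y))
    have hy' : y = (y ^ i) ^ s * (y ^ (p : ℤ)) ^ t := by
      rw [← zpow_mul, ← zpow_mul, ← zpow_add, mul_comm i s, mul_comm (p : ℤ) t, hst, zpow_one]
    rw [hy']
    exact mul_mem (zpow_mem hyi s) (zpow_mem hyp t)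
  have hco : IsCoatom M := by
    refine ⟨fun h => hxM (h ▸ Subgroup.mem_top x), fun K hK => ?_⟩
    exact eq_top_iff.mpr (htop ▸ sup_le hK.le (Subgroup.zpowers_le.mpr (hbig K hK)))
  exact hxM (frattini_le_coatom hco hx)

theorem frattini_eq_sup [Finite G] [Fact p.Prime] (hG : IsPGroup p G) :
    frattini G = commutator G ⊔ Subgroup.closure (Set.range fun g : G => g ^ p) := by
  refine le_antisymm ?_ (sup_le (commutator_le_frattini hG) ?_)
  · exact frattini_le_of_commutator_le_of_pow_mem (p := p) le_sup_left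
      fun g => Subgroup.mem_sup_right (Subgroup.subset_closure ⟨g, rfl⟩)
  · rw [Subgroup.closure_le]
    rintro _ ⟨g, rfl⟩
    exact pow_mem_frattini hG g

theorem isElementaryAbelian_quotient_frattini [Finite G] [Fact p.Prime] (hG : IsPGroup p G) :
    IsElementaryAbelian p (⊤ : Subgroup (G ⧸ frattini G)) := by
  have : IsMulCommutative (G ⧸ frattini G) :=
    Subgroup.Normal.quotient_commutative_iff_commutator_le.mpr (commutator_le_frattini hG)
  refine ⟨inferInstance, fun a _ => ?_⟩
  obtain ⟨g, rfl⟩ := QuotientGroup.mk_surjective a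
  rw [← QuotientGroup.mk_pow, QuotientGroup.eq_one_iff]
  exact pow_mem_frattini hG g

theorem frattini_ne_top [Finite G] [Nontrivial G] : frattini G ≠ ⊤ := fun h =>
  bot_ne_top (α := Subgroup G) (frattini_nongenerating (K := ⊥) (by rw [bot_sup_eq, h]))

/-- A homomorphism between finite `p`-groups maps Frattini subgroup into Frattini subgroup. -/
theorem map_frattini_le [Finite G] [Fact p.Prime] {H : Type*} [Group H] [Finite H]
    (hG : IsPGroup p G) (hH : IsPGroup p H) (f : G →* H) :
    (frattini G).map f ≤ frattini H := by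
  rw [frattini_eq_sup hG, Subgroup.map_sup]
  refine sup_le ?_ ?_
  · rw [commutator_def, Subgroup.map_commutator]
    exact le_trans (Subgroup.commutator_mono le_top le_top)
      ((commutator_def H).ge.trans (commutator_le_frattini hH))
  · rw [MonoidHom.map_closure, Subgroup.closure_le]
    rintro _ ⟨_, ⟨g, rfl⟩, rfl⟩
    rw [map_pow]
    exact pow_mem_frattini hH _

/-- A nontrivial normal subgroup of a finite `p`-group meets the centre. -/
theorem inf_center_ne_bot [Finite G] [Fact p.Prime] (hG : IsPGroup p G) {N : Subgroup G}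
    [hN : N.Normal] (hne : N ≠ ⊥) : N ⊓ Subgroup.center G ≠ ⊥ := by
  have := hG.isNilpotent
  intro h
  obtain ⟨n, hn⟩ := Subgroup.nilpotent_iff_lowerCentralSeries.mp
    (inferInstance : Group.IsNilpotent G)
  have key : ∀ k, (⊤ : Subgroup G).lowerCentralSeries k ⊓ N = ⊥ → N = ⊥ := by
    intro k
    induction k with
    | zero => intro hk; simpa using hk
    | succ k ih =>
      intro hk
      refine ih (le_bot_iff.mp ?_)
      intro x hx
      have hxc : x ∈ Subgroup.center G := by
        rw [Subgroup.mem_center_iff]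
        intro g
        refine (commutatorElement_eq_one_iff_mul_comm.mp ?_).symm
        rw [← Subgroup.mem_bot, ← hk]
        refine Subgroup.mem_inf.mpr ⟨?_, ?_⟩
        · rw [Subgroup.lowerCentralSeries_succ]
          exact Subgroup.commutator_mem_commutator hx.1 (Subgroup.mem_top g)
        · rw [commutatorElement_def, mul_assoc, mul_assoc]
          exact mul_mem hx.2 (by simpa [mul_assoc] using hN.conj_mem _ (inv_mem hx.2) g)
      exact (h.le ⟨hx.2, hxc⟩ : x ∈ (⊥ : Subgroup G))
  exact hne (key n (by rw [hn, bot_inf_eq]))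

theorem exists_mem_center_orderOf_eq [Finite G] [hp : Fact p.Prime] (hG : IsPGroup p G)
    {N : Subgroup G} [N.Normal] (hne : N ≠ ⊥) :
    ∃ z ∈ N, z ∈ Subgroup.center G ∧ orderOf z = p := by
  obtain ⟨z, hz, hz1⟩ :=
    (N ⊓ Subgroup.center G).bot_or_exists_ne_one.resolve_left (inf_center_ne_bot hG hne)
  obtain ⟨k, hk⟩ := IsPGroup.iff_orderOf.mp hG z
  rcases Nat.eq_zero_or_pos k with hk0 | hk0
  · exact absurd (orderOf_eq_one_iff.mp (by rw [hk, hk0, pow_zero])) hz1
  refine ⟨z ^ p ^ (k - 1), pow_mem hz.1 _, pow_mem hz.2 _, ?_⟩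
  rw [orderOf_pow' z (pow_ne_zero _ hp.out.ne_zero), hk,
    Nat.gcd_eq_right (pow_dvd_pow p (Nat.sub_le k 1)), Nat.pow_div (Nat.sub_le k 1) hp.out.pos]
  rw [show k - (k - 1) = 1 by omega, pow_one]

/-- A normal subgroup of order `p` is central. -/
theorem le_center_of_card_eq_prime [Finite G] [hp : Fact p.Prime] (hG : IsPGroup p G)
    {N : Subgroup G} [N.Normal] (hN : Nat.card N = p) : N ≤ Subgroup.center G := by
  have hne : N ≠ ⊥ := fun h => hp.out.one_lt.ne' (by rw [← hN, h, Subgroup.card_bot])
  obtain ⟨z, hzN, hzc, hz⟩ := exists_mem_center_orderOf_eq hG hne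
  have h : Subgroup.zpowers z = N :=
    Subgroup.eq_of_le_of_card_ge (Subgroup.zpowers_le.mpr hzN) (by rw [Nat.card_zpowers, hz, hN])
  rw [← h]
  exact Subgroup.zpowers_le.mpr hzc

/-- A nontrivial elementary abelian subgroup is a `p`-group. -/
theorem isPGroup_of_isElementaryAbelian {A : Subgroup G} (hA : IsElementaryAbelian p A) :
    IsPGroup p A := fun a => ⟨1, by ext; simpa using hA.2 a a.2⟩

theorem isElementaryAbelian_of_le {A B : Subgroup G} (hA : IsElementaryAbelian p A) (hBA : B ≤ A) :
    IsElementaryAbelian p B :=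
  ⟨⟨⟨fun x y => Subtype.ext (by
      have h := hA.1.1.comm ⟨x, hBA x.2⟩ ⟨y, hBA y.2⟩
      simpa using congrArg Subtype.val h)⟩⟩, fun a ha => hA.2 a (hBA ha)⟩

theorem isElementaryAbelian_map {H : Type u} [Group H] {A : Subgroup G}
    (hA : IsElementaryAbelian p A) (f : G →* H) : IsElementaryAbelian p (A.map f) := by
  refine ⟨⟨⟨?_⟩⟩, ?_⟩
  · rintro ⟨_, x, hx, rfl⟩ ⟨_, y, hy, rfl⟩
    apply Subtype.ext
    change f x * f y = f y * f x
    rw [← map_mul, ← map_mul]
    exact congrArg f (congrArg Subtype.val (hA.1.1.comm ⟨x, hx⟩ ⟨y, hy⟩))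
  · rintro _ ⟨x, hx, rfl⟩
    rw [← map_pow, hA.2 x hx, map_one]

theorem orderOf_of_mem_isElementaryAbelian [hp : Fact p.Prime] {A : Subgroup G}
    (hA : IsElementaryAbelian p A) {a : G} (ha : a ∈ A) (ha1 : a ≠ 1) : orderOf a = p :=
  orderOf_eq_prime (hA.2 a ha) ha1

end Cfsg.Lib.PGroup
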