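import Mathlib.GroupTheory.Sylow
import Mathlib.GroupTheory.Nilpotent
import Mathlib.GroupTheory.PGroup
import Mathlib.GroupTheory.Archimedean

/-!
# Elements of finite groups: coprime commuting, primary parts, covering by conjugates
-/

set_option autoImplicit false

namespace Cfsg.Lib.PGroup

open scoped commutatorElement

universe u

/-- In a nilpotent group two elements of coprime order commute. -/
theorem commute_of_coprime_orderOf {G : Type u} [Group G] [Group.IsNilpotent G] (x y : G)
    (h : (orderOf x).Coprime (orderOf y)) : Commute x y := by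
  revert x y
  refine Group.nilpotent_center_quotient_ind
    (P := fun G _ _ => ∀ x y : G, (orderOf x).Coprime (orderOf y) → Commute x y) G ?_ ?_
  · intro G _ _ x y _
    exact Subsingleton.elim _ _
  · intro G _ _ ih x y h
    have hq := ih (x : G ⧸ Subgroup.center G) y
      ((h.coprime_dvd_left (orderOf_map_dvd (QuotientGroup.mk' _) x)).coprime_dvd_right
        (orderOf_map_dvd (QuotientGroup.mk' _) y))
    have hz : ⁅x, y⁆ ∈ Subgroup.center G := by
      rw [← QuotientGroup.eq_one_iff]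
      exact (map_commutatorElement (QuotientGroup.mk' (Subgroup.center G)) x y).trans hq.commutator_eq
    have hz' : ∀ g : G, Commute ⁅x, y⁆ g := fun g => (Subgroup.mem_center_iff.mp hz g).symm
    have h1 : x * y * x⁻¹ = ⁅x, y⁆ * y := by simp [commutatorElement_def]
    have h2 : ⁅x, y⁆ ^ orderOf y = 1 := by
      have h := congrArg (· ^ orderOf y) h1
      simpa [conj_pow, (hz' y).mul_pow, pow_orderOf_eq_one] using h.symm
    have h3 : y * x * y⁻¹ = ⁅x, y⁆⁻¹ * x := by simp [commutatorElement_def, mul_assoc]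
    have h4 : ⁅x, y⁆ ^ orderOf x = 1 := by
      have h := congrArg (· ^ orderOf x) h3
      simp only [conj_pow, (hz' x).inv_left.mul_pow, pow_orderOf_eq_one, mul_one, mul_inv_cancel,
        inv_pow] at h
      exact inv_eq_one.mp h.symm
    have h5 : ⁅x, y⁆ = 1 := by
      have hd := Nat.dvd_gcd (orderOf_dvd_of_pow_eq_one h4) (orderOf_dvd_of_pow_eq_one h2)
      rw [h.gcd_eq_one, Nat.dvd_one, orderOf_eq_one_iff] at hd
      exact hd
    exact commutatorElement_eq_one_iff_commute.mp h5

variable {G : Type u} [Group G]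

/-- An element lies in `H` as soon as all its primary parts do. -/
theorem mem_of_ordCompl_pow_mem [Finite G] {H : Subgroup G} {g : G}
    (h : ∀ p : ℕ, p.Prime → p ∣ orderOf g →
      g ^ (orderOf g / p ^ (orderOf g).factorization p) ∈ H) : g ∈ H := by
  let S : AddSubgroup ℤ :=
    { carrier := {k | g ^ k ∈ H}
      zero_mem' := by simp [one_mem]
      add_mem' := fun {a b} (ha : g ^ a ∈ H) (hb : g ^ b ∈ H) => by
        change g ^ (a + b) ∈ H
        rw [zpow_add]; exact mul_mem ha hb
      neg_mem' := fun {a} (ha : g ^ a ∈ H) => by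
        change g ^ (-a) ∈ H
        rw [zpow_neg]; exact inv_mem ha }
  obtain ⟨d, hd⟩ := Int.subgroup_cyclic S
  have hmem : ∀ k : ℤ, k ∈ S → d ∣ k := fun k hk => by
    rw [hd, AddSubgroup.mem_closure_singleton] at hk
    obtain ⟨n, rfl⟩ := hk
    exact ⟨n, by rw [smul_eq_mul, mul_comm]⟩
  have hn : d ∣ (orderOf g : ℤ) :=
    hmem _ (by change g ^ (orderOf g : ℤ) ∈ H; rw [zpow_natCast, pow_orderOf_eq_one]; exact one_mem _)
  have hdS : g ^ d ∈ H := (hd ▸ AddSubgroup.subset_closure rfl : d ∈ S)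
  have hd1 : d.natAbs = 1 := by
    by_contra hne
    obtain ⟨p, hp, hpd⟩ := Nat.exists_prime_and_dvd hne
    have hpn : p ∣ orderOf g := hpd.trans (Int.natCast_dvd_natCast.mp (by
      rw [Int.natAbs_dvd]; exact hn))
    refine Nat.not_dvd_ordCompl hp (orderOf_pos g).ne' (hpd.trans (Int.natCast_dvd_natCast.mp ?_))
    rw [Int.natAbs_dvd]
    exact hmem _ (by
      change g ^ ((orderOf g / p ^ (orderOf g).factorization p : ℕ) : ℤ) ∈ H
      rw [zpow_natCast]; exact h p hp hpn)
  rcases Int.natAbs_eq d with he | he <;> rw [he, hd1] at hdS <;> simpa using hdS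

theorem orderOf_ordCompl_pow [Finite G] {g : G} {p : ℕ} (hp : p.Prime) :
    orderOf (g ^ (orderOf g / p ^ (orderOf g).factorization p)) =
      p ^ (orderOf g).factorization p := by
  rw [orderOf_pow' g (Nat.ordCompl_pos p (orderOf_pos g).ne').ne',
    Nat.gcd_eq_right (Nat.ordCompl_dvd _ _), Nat.div_div_self (Nat.ordProj_dvd _ _)
      (orderOf_pos g).ne']

/-- A subgroup whose conjugates cover the finite group is everything. -/
theorem eq_top_of_forall_exists_conj_mem [Finite G] {H : Subgroup G}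
    (h : ∀ g : G, ∃ x : G, x * g * x⁻¹ ∈ H) : H = ⊤ := by
  classical
  rw [← Subgroup.index_eq_one]
  let f : Option ((G ⧸ H) × {k : H // k ≠ 1}) → G := fun o =>
    o.elim 1 fun p => p.1.out * ((p.2 : H) : G) * p.1.out⁻¹
  have hf : Function.Surjective f := by
    intro g
    by_cases hg : g = 1
    · exact ⟨none, hg.symm⟩
    obtain ⟨x, hx⟩ := h g
    obtain ⟨k, hk⟩ : ∃ k : H, ((x⁻¹ : G) : G ⧸ H).out = x⁻¹ * k :=
      ⟨⟨_, QuotientGroup.eq.mp (QuotientGroup.out_eq' ((x⁻¹ : G) : G ⧸ H)).symm⟩, by simp⟩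
    refine ⟨some (((x⁻¹ : G) : G ⧸ H), ⟨⟨(k : G)⁻¹ * (x * g * x⁻¹) * k,
      mul_mem (mul_mem (inv_mem k.2) hx) k.2⟩, ?_⟩), ?_⟩
    · intro h1
      simp only [Subtype.ext_iff, Subgroup.coe_one] at h1
      apply hg
      have h2 := congrArg (fun z => x⁻¹ * ((k : G) * z * (k : G)⁻¹) * x) h1
      simpa [mul_assoc] using h2
    · simp [f, hk, mul_assoc]
  have hle' := Nat.card_le_card_of_surjective f hf
  have := Fintype.ofFinite H
  rw [Finite.card_option, Nat.card_prod, ← Subgroup.index_eq_card,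
    Nat.card_eq_fintype_card (α := {k : H // k ≠ 1}), Fintype.card_subtype_compl,
    Fintype.card_subtype_eq, ← Nat.card_eq_fintype_card, ← H.index_mul_card,
    Nat.mul_sub_one] at hle'
  have hpos : 0 < H.index := Nat.pos_of_ne_zero Subgroup.index_ne_zero_of_finite
  have hle : H.index * 1 ≤ H.index * Nat.card H := Nat.mul_le_mul_left _ Nat.card_pos
  omega

/-- A set of commuting `p`-elements generates a `p`-group. -/
theorem isPGroup_closure_of_commute {p : ℕ} {S : Set G}
    (hc : ∀ x ∈ S, ∀ y ∈ S, x * y = y * x) (hp : ∀ x ∈ S, ∃ k : ℕ, x ^ p ^ k = 1) :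
    IsPGroup p (Subgroup.closure S) := by
  have hcomm := Subgroup.isMulCommutative_closure hc
  rintro ⟨x, hx⟩
  suffices h : ∃ k : ℕ, x ^ p ^ k = 1 by
    obtain ⟨k, hk⟩ := h
    exact ⟨k, Subtype.ext (by simpa using hk)⟩
  induction hx using Subgroup.closure_induction with
  | mem x hx => exact hp x hx
  | one => exact ⟨0, one_pow _⟩
  | mul x y hx hy hx' hy' =>
    obtain ⟨k, hk⟩ := hx'
    obtain ⟨l, hl⟩ := hy'
    have hxy : Commute x y := congrArg Subtype.val
      (hcomm.1.comm (⟨x, hx⟩ : Subgroup.closure S) ⟨y, hy⟩)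
    exact ⟨k + l, by rw [hxy.mul_pow, pow_add, pow_mul, hk, one_pow, mul_comm (p ^ k), pow_mul, hl,
      one_pow, one_mul]⟩
  | inv x _ hx' =>
    obtain ⟨k, hk⟩ := hx'
    exact ⟨k, by rw [inv_pow, hk, inv_one]⟩

end Cfsg.Lib.PGroup
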