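import Mathlib.GroupTheory.Commutator.Basic
import Mathlib.GroupTheory.Nilpotent
import Mathlib.Data.Nat.Choose.Basic

/-!
# Commutator and power calculus in class two
-/

set_option autoImplicit false

namespace Cfsg.Lib.PGroup

open scoped commutatorElement

universe u

variable {G : Type u} [Group G]

theorem commutator_le_center_of_lowerCentralSeries_two
    (h : (⊤ : Subgroup G).lowerCentralSeries 2 = ⊥) : commutator G ≤ Subgroup.center G := by
  rw [← Subgroup.top_lowerCentralSeries_one]
  exact Subgroup.commutator_top_right_eq_bot_iff_le_center.mp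
    (by rw [← Subgroup.lowerCentralSeries_succ]; exact h)

theorem commutator_le_center_of_nilpotencyClass_le [Group.IsNilpotent G]
    (h : Group.nilpotencyClass G ≤ 2) : commutator G ≤ Subgroup.center G :=
  commutator_le_center_of_lowerCentralSeries_two
    (Subgroup.lowerCentralSeries_eq_bot_iff_nilpotencyClass_le.mpr h)

theorem commutatorElement_comm_of_central (hG : commutator G ≤ Subgroup.center G) (a b g : G) :
    g * ⁅a, b⁆ = ⁅a, b⁆ * g :=
  Subgroup.mem_center_iff.mp
    (hG (Subgroup.commutator_mem_commutator (Subgroup.mem_top a) (Subgroup.mem_top b))) g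

theorem commutatorElement_mul_left (hG : commutator G ≤ Subgroup.center G) (a b c : G) :
    ⁅a * b, c⁆ = ⁅a, c⁆ * ⁅b, c⁆ := by
  rw [commutatorElement_mul_left_eq_conj_mul, commutatorElement_comm_of_central hG b c a,
    mul_inv_cancel_right, commutatorElement_comm_of_central hG a c]

theorem commutatorElement_mul_right (hG : commutator G ≤ Subgroup.center G) (a b c : G) :
    ⁅a, b * c⁆ = ⁅a, b⁆ * ⁅a, c⁆ := by
  rw [commutatorElement_mul_right_eq_mul_conj, mul_assoc ⁅a, b⁆, mul_assoc ⁅a, b⁆,
    commutatorElement_comm_of_central hG a c b, mul_inv_cancel_right]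

theorem commutatorElement_pow_left (hG : commutator G ≤ Subgroup.center G) (a b : G) (n : ℕ) :
    ⁅a ^ n, b⁆ = ⁅a, b⁆ ^ n := by
  induction n with
  | zero => simp
  | succ n ih => rw [pow_succ, commutatorElement_mul_left hG, ih, pow_succ]

theorem commutatorElement_pow_right (hG : commutator G ≤ Subgroup.center G) (a b : G) (n : ℕ) :
    ⁅a, b ^ n⁆ = ⁅a, b⁆ ^ n := by
  induction n with
  | zero => simp
  | succ n ih => rw [pow_succ, commutatorElement_mul_right hG, ih, pow_succ]

theorem mul_pow_of_class_two (hG : commutator G ≤ Subgroup.center G) (x y : G) (n : ℕ) :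
    (x * y) ^ n = x ^ n * y ^ n * ⁅y, x⁆ ^ n.choose 2 := by
  have hc : ∀ (g : G) (k : ℕ), g * ⁅y, x⁆ ^ k = ⁅y, x⁆ ^ k * g := fun g k =>
    ((show Commute g ⁅y, x⁆ from commutatorElement_comm_of_central hG y x g).pow_right k).eq
  induction n with
  | zero => simp
  | succ n ih =>
    have hswap : y ^ n * x = x * y ^ n * ⁅y, x⁆ ^ n := by
      have h1 : y ^ n * x = ⁅y ^ n, x⁆ * (x * y ^ n) := by simp [commutatorElement_def, mul_assoc]
      rw [h1, commutatorElement_pow_left hG, hc]
    calc (x * y) ^ (n + 1) = x ^ n * y ^ n * ⁅y, x⁆ ^ n.choose 2 * (x * y) := by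
          rw [pow_succ, ih]
      _ = x ^ n * (y ^ n * x) * y * ⁅y, x⁆ ^ n.choose 2 := by
          simp only [mul_assoc]
          rw [← mul_assoc (⁅y, x⁆ ^ n.choose 2) x y, ← hc x, mul_assoc, ← hc y]
      _ = x ^ (n + 1) * y ^ (n + 1) * ⁅y, x⁆ ^ (n + 1).choose 2 := by
          rw [hswap, Nat.choose_succ_succ' n 1, Nat.choose_one_right, show 1 + 1 = 2 from rfl,
            pow_add ⁅y, x⁆, pow_succ x n, pow_succ y n]
          simp only [mul_assoc]
          rw [← mul_assoc (⁅y, x⁆ ^ n) y, ← hc y]
          simp only [mul_assoc]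

end Cfsg.Lib.PGroup
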