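import Mathlib.Data.Nat.Choose.Dvd
import Cfsg.Agent.Lib.Coprime.Action
import Cfsg.Agent.Lib.PGroup.Basic
import Cfsg.Agent.Lib.PGroup.ClassTwo

/-!
# Coprime operators on `p`-groups, `p` odd, centralizing every element of order `p`
-/

set_option autoImplicit false

namespace Cfsg.Lib.PGroup

open scoped commutatorElement
open Subgroup

variable {X : Type*} [Group X] [Finite X] {p : ℕ} [Fact p.Prime]

/-- For odd `p`, a coprime operator group centralizing all elements of order dividing `p`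
centralizes the `p`-group. -/
theorem le_centralizer_of_centralizes_omega (hp2 : p ≠ 2) (A P : Subgroup X) (hP : IsPGroup p P)
    (hAP : A ≤ normalizer (P : Set X)) (hcop : (Nat.card A).Coprime (Nat.card P))
    (h : ∀ x ∈ P, x ^ p = 1 → ∀ a ∈ A, a * x = x * a) : A ≤ centralizer (P : Set X) := by
  induction P using WellFoundedLT.induction with
  | _ P ih =>
  by_cases hne : P = ⊥
  · intro a _
    rw [mem_centralizer_iff]
    intro x hx
    rw [hne, SetLike.mem_coe, mem_bot] at hx
    simp [hx]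
  have hP' : Group.IsSolvable P := by
    have := hP.isNilpotent
    infer_instance
  have hsub : ∀ Q : Subgroup X, Q < P → A ≤ normalizer (Q : Set X) → A ≤ centralizer (Q : Set X) :=
    fun Q hQ hAQ => ih Q hQ (hP.to_le hQ.le) hAQ (hcop.coprime_dvd_right (card_dvd_of_le hQ.le))
      fun x hx => h x (hQ.le hx)
  have hnorm : ∀ (Q R : Subgroup X), A ≤ normalizer (Q : Set X) → A ≤ normalizer (R : Set X) →
      A ≤ normalizer ((⁅Q, R⁆ : Subgroup X) : Set X) := by
    intro Q R hQ hR a ha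
    rw [mem_normalizer_iff_map_conj_eq, map_commutator]
    exact congrArg₂ (⁅·, ·⁆) (Cfsg.Lib.Coprime.map_conj_eq_self (hQ ha))
      (Cfsg.Lib.Coprime.map_conj_eq_self (hR ha))
  have hPA : ⁅P, A⁆ ≤ P := Cfsg.Lib.Coprime.commutator_le_of_le_normalizer hAP
  by_cases htop : ⁅P, A⁆ = P
  swap
  · have hc := hsub _ (lt_of_le_of_ne hPA htop) (hnorm P A hAP le_normalizer)
    have h1 : ⁅⁅P, A⁆, A⁆ = ⊥ := commutator_eq_bot_iff_le_centralizer.mpr (le_centralizer_iff.mp hc)
    rw [Cfsg.Lib.Coprime.commutator_commutator_eq hAP hcop (Or.inr hP')] at h1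
    exact le_centralizer_iff.mp (commutator_eq_bot_iff_le_centralizer.mp h1)
  -- the derived subgroup and the `p`-th powers are centralized
  set D := ⁅P, P⁆ with hD
  set S := (frattini P).map P.subtype with hS
  have hSP : S < P := by
    refine lt_of_le_of_ne (map_subtype_le _) fun he => ?_
    have : Nontrivial P := (nontrivial_iff_ne_bot P).mpr hne
    refine frattini_ne_top (map_injective P.subtype_injective ?_)
    rw [← hS, he, ← MonoidHom.range_eq_map, range_subtype]
  have hDS : D ≤ S := by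
    rw [hD, ← map_subtype_commutator P]
    exact map_mono (commutator_le_frattini hP)
  have hAS : A ≤ normalizer (S : Set X) := by
    intro a ha
    have hcl : S = D ⊔ closure ((fun x => x ^ p) '' (P : Set X)) := by
      refine le_antisymm ?_ (sup_le hDS ((closure_le _).mpr ?_))
      · rw [hS, map_le_iff_le_comap]
        refine frattini_le_of_commutator_le_of_pow_mem (p := p) ?_ fun x => ?_
        · rw [← map_le_iff_le_comap, map_subtype_commutator]
          exact le_sup_left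
        · exact mem_sup_right (subset_closure ⟨x, x.2, by simp⟩)
      · rintro _ ⟨x, hx, rfl⟩
        exact ⟨⟨x, hx⟩ ^ p, pow_mem_frattini hP _, rfl⟩
    rw [hcl]
    refine mem_normalizer_iff_map_conj_eq.mpr ?_
    rw [Subgroup.map_sup, MonoidHom.map_closure]
    refine congrArg₂ (· ⊔ ·) (Cfsg.Lib.Coprime.map_conj_eq_self (hnorm P P hAP hAP ha)) (congrArg closure ?_)
    ext w
    constructor
    · rintro ⟨_, ⟨x, hx, rfl⟩, rfl⟩
      exact ⟨a * x * a⁻¹, (mem_normalizer_iff.mp (hAP ha) x).mp hx, by simp [conj_pow]⟩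
    · rintro ⟨x, hx, rfl⟩
      refine ⟨(a⁻¹ * x * a) ^ p, ⟨_, ?_, rfl⟩, ?_⟩
      · have h1 := (mem_normalizer_iff.mp (hAP (inv_mem ha)) x).mp hx
        simp only [inv_inv] at h1
        exact h1
      · have h2 := conj_pow (a := a⁻¹) (b := x) (i := p)
        simp only [inv_inv] at h2
        show a * (a⁻¹ * x * a) ^ p * a⁻¹ = x ^ p
        rw [h2]; simp [mul_assoc]
  have hSA : ⁅S, A⁆ = ⊥ := commutator_eq_bot_iff_le_centralizer.mpr (le_centralizer_iff.mp (hsub S hSP hAS))
  have hPn : P ≤ normalizer (S : Set X) := by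
    intro g hg
    rw [mem_normalizer_iff_map_conj_eq]
    refine eq_of_le_of_card_ge ?_ (card_map_of_injective (MulAut.conj g).injective).ge
    rintro _ ⟨_, ⟨s, hs, rfl⟩, rfl⟩
    exact ⟨⟨g, hg⟩ * s * ⟨g, hg⟩⁻¹, (inferInstance : (frattini P).Normal).conj_mem s hs _, rfl⟩
  have hPS : ⁅P, S⁆ ≤ S := by
    rw [commutator_comm]
    exact Cfsg.Lib.Coprime.commutator_le_of_le_normalizer hPn
  have hcentral : ⁅P, S⁆ = ⊥ := by
    have h1 : ⁅⁅A, S⁆, P⁆ = ⊥ := by rw [commutator_comm A S, hSA, commutator_bot_left]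
    have h2 : ⁅⁅S, P⁆, A⁆ = ⊥ := le_bot_iff.mp <| hSA ▸
      commutator_mono (by rw [commutator_comm]; exact hPS) le_rfl
    have h3 := commutator_commutator_eq_bot_of_rotate h1 h2
    rwa [htop] at h3
  have hzS : ∀ s ∈ S, ∀ x ∈ P, x * s = s * x := fun s hs x hx =>
    ((mem_centralizer_iff.mp (commutator_eq_bot_iff_le_centralizer.mp hcentral hx) s hs)).symm
  have hG : commutator P ≤ center P := fun z hz => mem_center_iff.mpr fun x =>
    Subtype.ext (hzS z (hDS (by
      rw [hD, ← map_subtype_commutator P]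
      exact ⟨z, hz, rfl⟩)) x x.2)
  have hpow : ∀ x y : P, (x * y) ^ p = x ^ p * y ^ p := by
    intro x y
    have hc1 : ⁅y, x⁆ ^ p = 1 := by
      rw [← commutatorElement_pow_right hG, commutatorElement_eq_one_iff_mul_comm]
      exact Subtype.ext (hzS _ ⟨x ^ p, pow_mem_frattini hP x, rfl⟩ y y.2)
    have h2 := mul_pow_of_class_two hG x y p
    obtain ⟨k, hk⟩ : p ∣ p.choose 2 :=
      Nat.Prime.dvd_choose_self (Fact.out : p.Prime) (by norm_num) (by
        have := (Fact.out : p.Prime).two_le; omega)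
    rw [hk, pow_mul, hc1, one_pow, mul_one] at h2
    exact h2
  have hker : ⁅P, A⁆ ≤ ((MonoidHom.mk' (fun x : P => x ^ p) hpow).ker).map P.subtype := by
    rw [commutator_le]
    intro x hx a ha
    have hmem : ⁅x, a⁆ ∈ P := hPA (commutator_mem_commutator hx ha)
    refine ⟨⟨⁅x, a⁆, hmem⟩, ?_, rfl⟩
    have hxp : x ^ p ∈ S := ⟨⟨x, hx⟩ ^ p, pow_mem_frattini hP _, rfl⟩
    have hax : a * x * a⁻¹ ∈ P := (mem_normalizer_iff.mp (hAP ha) x).mp hx
    have h1 : (⟨⁅x, a⁆, hmem⟩ : P) = ⟨x, hx⟩ * (⟨a * x * a⁻¹, hax⟩ : P)⁻¹ :=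
      Subtype.ext (by simp [commutatorElement_def, mul_assoc])
    show (⟨⁅x, a⁆, hmem⟩ : P) ^ p = 1
    rw [h1, hpow, inv_pow, mul_inv_eq_one]
    refine Subtype.ext ?_
    show x ^ p = (a * x * a⁻¹) ^ p
    rw [conj_pow, ← mem_centralizer_iff.mp (hsub S hSP hAS ha) (x ^ p) hxp, mul_inv_cancel_right]
  intro a ha
  rw [mem_centralizer_iff]
  intro x hx
  obtain ⟨y, hy, rfl⟩ := hker (htop.symm ▸ hx)
  exact (h _ y.2 (congrArg Subtype.val (MonoidHom.mem_ker.mp hy)) a ha).symm

end Cfsg.Lib.PGroup
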