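import Cfsg.Agent.S0144
import Cfsg.Agent.Lib.Core.Layer
import Cfsg.Agent.Lib.Coprime.Action
import Cfsg.Agent.Lib.PGroup.Basic
import Cfsg.Agent.Lib.PGroup.Elements
import Cfsg.Agent.Lib.PGroup.OddOmega
import Cfsg.Agent.Lib.Solv.FrobeniusBasic
import Cfsg.Agent.Lib.Solv.FixedPointFree
import Cfsg.Agent.Lib.Invol.Quaternion
import Mathlib.GroupTheory.SchurZassenhaus

/-!
# Order type of Frobenius groups

Solvable groups all of whose abelian subgroups are cyclic have a normal Sylow subgroup for their largest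
prime divisor (if at least 5); solvability of such groups, and being a Frobenius group with nilpotent kernel,
are recognised by the numbers of elements of each order.
-/

set_option autoImplicit false

namespace Cfsg.Lib.PGroup.OrderType

open Subgroup Cfsg
open scoped commutatorElement

universe u v w

variable {G : Type u} [Group G]

/-- Every abelian subgroup is cyclic. -/
def AbelianCyclic (G : Type u) [Group G] : Prop :=
  ∀ B : Subgroup G, IsMulCommutative B → IsCyclic B

theorem abelianCyclic_of_injective {H : Type v} [Group H] (f : H →* G) (hf : Function.Injective f)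
    (h : AbelianCyclic G) : AbelianCyclic H := by
  intro B hB
  have e := B.equivMapOfInjective f hf
  have hc : IsMulCommutative (B.map f) := ⟨⟨fun a b => by
    apply e.symm.injective
    simpa only [map_mul] using hB.is_comm.comm (e.symm a) (e.symm b)⟩⟩
  exact e.isCyclic.mpr (h _ hc)

theorem isMulCommutative_closure {S : Set G} (h : ∀ a ∈ S, ∀ b ∈ S, a * b = b * a) :
    IsMulCommutative (closure S) :=
  Subgroup.isMulCommutative_closure h

/-- An element of `r`-power order acts trivially on any set of size less than `r`. -/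
theorem map_eq_one_of_small {A : Type v} [Group A] {α : Type w} [Finite α] (f : A →* Equiv.Perm α)
    {r : ℕ} (hr : r.Prime) (hα : Nat.card α < r) {x : A} {k : ℕ} (hx : orderOf x ∣ r ^ k) :
    f x = 1 := by
  refine orderOf_eq_one_iff.mp (Nat.eq_one_of_dvd_coprimes ?_ ((orderOf_map_dvd f x).trans hx)
    (orderOf_dvd_natCard _))
  rw [Nat.card_perm]
  refine Nat.Coprime.pow_left _ ?_
  rw [hr.coprime_iff_not_dvd, hr.dvd_factorial]
  omega

/-- An `r`-element normalising a subgroup of order less than `r` centralises it. -/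
theorem commute_of_small [Finite G] {M : Subgroup G} {r : ℕ} (hr : r.Prime) (hM : Nat.card M < r)
    {x : G} (hxM : x ∈ normalizer (M : Set G)) {k : ℕ} (hx : orderOf x ∣ r ^ k) {m : G} (hm : m ∈ M) :
    x * m = m * x := by
  let f : normalizer (M : Set G) →* Equiv.Perm M :=
    (MulAut.toPerm M).comp (M.normalizerMonoidHom)
  have h1 : f ⟨x, hxM⟩ = 1 := map_eq_one_of_small f hr hM (k := k) (by rwa [orderOf_mk])
  have h2 := congrArg (fun e : Equiv.Perm M => ((e ⟨m, hm⟩ : M) : G)) h1
  change x * m * x⁻¹ = m at h2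
  exact mul_inv_eq_iff_eq_mul.mp h2

/-- Commuting elements of the same order generate the same subgroup. -/
theorem mem_zpowers_of_eq_orderOf [Finite G] (hG : AbelianCyclic G) {z y : G} (h : z * y = y * z)
    (ho : orderOf z = orderOf y) : y ∈ zpowers z := by
  have hc : IsMulCommutative (closure ({z, y} : Set G)) := isMulCommutative_closure (by
    rintro a (rfl | rfl) b (rfl | rfl) <;> first | rfl | exact h | exact h.symm)
  have := hG _ hc
  set zb : closure ({z, y} : Set G) := ⟨z, subset_closure (Set.mem_insert _ _)⟩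
  set yb : closure ({z, y} : Set G) := ⟨y, subset_closure (Set.mem_insert_of_mem _ rfl)⟩
  have h1 : yb ∈ zpowers zb :=
    (Cfsg.Lib.Invol.zpowers_eq_of_cyclic (x := zb) (y := yb) (by rw [orderOf_mk, orderOf_mk, ho])) ▸
      mem_zpowers yb
  obtain ⟨j, hj⟩ := mem_zpowers_iff.mp h1
  exact mem_zpowers_iff.mpr ⟨j, by simpa [zb, yb] using congrArg Subtype.val hj⟩

/-- Commuting involutions are equal. -/
theorem unique_involution [Finite G] (hG : AbelianCyclic G) {u v : G} (hu : orderOf u = 2)
    (hv : orderOf v = 2) (huv : u * v = v * u) : u = v := by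
  obtain ⟨j, hj⟩ := mem_zpowers_iff.mp (mem_zpowers_of_eq_orderOf hG huv.symm (hv.trans hu.symm))
  rcases Int.even_or_odd' j with ⟨i, rfl | rfl⟩
  · rw [zpow_mul, zpow_ofNat, ← hv, pow_orderOf_eq_one, one_zpow] at hj
    rw [← hj, orderOf_one] at hu
    exact absurd hu (by decide)
  · rw [zpow_add, zpow_one, zpow_mul, zpow_ofNat, ← hv, pow_orderOf_eq_one, one_zpow, one_mul] at hj
    exact hj.symm

/-- An `r`-element (`r ≥ 5`) normalising a 2-group whose abelian subgroups are cyclic centralises it. -/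
theorem le_centralizer_two [Finite G] (hG : AbelianCyclic G) {r : ℕ} (hr : r.Prime) (h5 : 5 ≤ r)
    {x : G} {k : ℕ} (hx : orderOf x ∣ r ^ k) :
    ∀ (n : ℕ) (Q : Subgroup G), Nat.card Q = n → IsPGroup 2 Q → x ∈ normalizer (Q : Set G) →
      ∀ q ∈ Q, x * q = q * x := by
  have : Fact (Nat.Prime 2) := ⟨Nat.prime_two⟩
  classical
  intro n
  induction n using Nat.strong_induction_on with
  | _ n ih =>
  intro Q hn hQ hxQ
  subst hn
  set A := zpowers x with hA
  have hAQ : A ≤ normalizer (Q : Set G) := zpowers_le.mpr hxQ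
  have hcop : (Nat.card A).Coprime (Nat.card Q) := by
    obtain ⟨j, hj⟩ := IsPGroup.iff_card.mp hQ
    rw [hA, Nat.card_zpowers, hj]
    refine Nat.Coprime.coprime_dvd_left hx (Nat.Coprime.pow _ _ ?_)
    exact (Nat.coprime_primes hr Nat.prime_two).mpr (by omega)
  have hsol : Group.IsSolvable A ∨ Group.IsSolvable Q :=
    Or.inl (Cfsg.Lib.Core.isSolvable_of_isMulCommutative _)
  suffices h : ⁅Q, A⁆ = ⊥ by
    intro q hq
    exact (commutator_eq_bot_iff_le_centralizer.mp h hq x (mem_zpowers x))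
  by_cases hbot : Q = ⊥
  · rw [hbot]; exact commutator_bot_left _
  have hcent : ∀ R : Subgroup G, R < Q → x ∈ normalizer (R : Set G) → ⁅R, A⁆ = ⊥ := by
    intro R hR hxR
    rw [commutator_eq_bot_iff_le_centralizer]
    intro q hq a ha
    have h1 := ih _ (Set.Finite.card_lt_card (Set.toFinite _) (SetLike.coe_ssubset_coe.mpr hR)) R rfl
      (hQ.to_le hR.le) hxR q hq
    obtain ⟨j, rfl⟩ := mem_zpowers_iff.mp ha
    exact ((show Commute x q from h1).zpow_left j).eq
  by_cases hS : ⁅Q, A⁆ = Q
  swap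
  · refine Cfsg.Lib.Coprime.commutator_eq_bot_of_commutator_commutator_eq_bot hAQ hcop hsol
      (hcent _ (lt_of_le_of_ne (Cfsg.Lib.Coprime.commutator_le_of_le_normalizer hAQ) hS) ?_)
    exact Cfsg.Lib.Core.le_normalizer_iff_conj_mem.mpr (fun a ha b hb => by
      have h1 : ⁅Q, A⁆.map (MulAut.conj a).toMonoidHom = ⁅Q, A⁆ := by
        rw [map_commutator, Cfsg.Lib.Core.map_conj_eq_of_mem_normalizer (hAQ ha),
          Cfsg.Lib.Core.map_conj_eq_of_mem_normalizer (le_normalizer ha)]
      exact h1 ▸ ⟨b, hb, rfl⟩) (mem_zpowers x)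
  set Φ := (frattini Q).map Q.subtype with hΦ
  have : Nontrivial Q := Q.nontrivial_iff_ne_bot.mpr hbot
  have hΦlt : Φ < Q := lt_of_le_of_ne (map_subtype_le _) fun h => Cfsg.Lib.PGroup.frattini_ne_top
    (G := Q) (map_injective Q.subtype_injective (by rw [← hΦ, h, ← MonoidHom.range_eq_map, range_subtype]))
  have hnΦ : normalizer (Q : Set G) ≤ normalizer (Φ : Set G) :=
    Cfsg.Lib.Core.normalizer_le_normalizer_map_char _
  have hΦA : ⁅Φ, A⁆ = ⊥ := hcent Φ hΦlt (hnΦ hxQ)
  have hΦQ : ⁅Φ, Q⁆ ≤ Φ := le_normalizer_iff_commutator_le_left.mp (le_normalizer.trans hnΦ)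
  have hΦZ : ⁅Q, Φ⁆ = ⊥ := by
    rw [← hS]
    refine commutator_commutator_eq_bot_of_rotate ?_ ?_
    · rw [commutator_comm A Φ, hΦA, commutator_bot_left]
    · exact le_bot_iff.mp ((commutator_mono hΦQ le_rfl).trans hΦA.le)
  have hΦc : ∀ q ∈ Q, ∀ f ∈ Φ, q * f = f * q := fun q hq f hf =>
    ((commutator_eq_bot_iff_le_centralizer.mp hΦZ hq) f hf).symm
  have hsq : ∀ a ∈ Q, a ^ 2 ∈ Φ := fun a ha =>
    ⟨⟨a, ha⟩ ^ 2, Cfsg.Lib.PGroup.pow_mem_frattini hQ _, rfl⟩
  have hcom : ∀ a ∈ Q, ∀ b ∈ Q, ⁅a, b⁆ ∈ Φ := fun a ha b hb =>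
    ⟨⁅(⟨a, ha⟩ : Q), ⟨b, hb⟩⁆, Cfsg.Lib.PGroup.commutator_le_frattini hQ
      (commutator_mem_commutator (mem_top _) (mem_top _)), by simp [commutatorElement_def]⟩
  -- elements of different classes do not commute
  have hnc : ∀ a ∈ Q, ∀ b ∈ Q, a ∉ Φ → b ∉ Φ → a * b ∉ Φ → a * b ≠ b * a := by
    intro a ha b hb haΦ hbΦ habΦ hab
    set B := closure (insert a (insert b (Φ : Set G))) with hB
    have hBQ : B ≤ Q := (closure_le _).mpr (by
      rintro y (rfl | rfl | hy)
      exacts [ha, hb, hΦlt.le hy])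
    have hc : IsMulCommutative B := isMulCommutative_closure (by
      have hQΦ : ∀ y ∈ (Φ : Set G), y ∈ Q := fun y hy => hΦlt.le hy
      rintro y (rfl | rfl | hy) z (rfl | rfl | hz)
      exacts [rfl, hab, hΦc _ ha _ hz, hab.symm, rfl, hΦc _ hb _ hz, (hΦc _ ha _ hy).symm,
        (hΦc _ hb _ hy).symm, hΦc _ (hQΦ _ hy) _ hz])
    have := hG B hc
    obtain ⟨g, hg⟩ := IsCyclic.exists_generator (α := B)
    have hga : ∀ y ∈ B, y ∈ Φ ∨ y * (g : G)⁻¹ ∈ Φ := by
      intro y hy
      obtain ⟨j, hj⟩ := mem_zpowers_iff.mp (hg ⟨y, hy⟩)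
      have hj' : y = (g : G) ^ j := by rw [← SubgroupClass.coe_zpow, hj]
      have hg2 := hsq _ (hBQ g.2)
      rcases Int.even_or_odd' j with ⟨i, rfl | rfl⟩
      · left; rw [hj', zpow_mul]; exact zpow_mem (by simpa [zpow_ofNat] using hg2) i
      · right; rw [hj', zpow_add, zpow_one, mul_inv_cancel_right, zpow_mul]
        exact zpow_mem (by simpa [zpow_ofNat] using hg2) i
    have h1 := (hga a (subset_closure (Set.mem_insert _ _))).resolve_left haΦ
    have h2 := (hga b (subset_closure (Set.mem_insert_of_mem _ (Set.mem_insert _ _)))).resolve_left hbΦ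
    have hgQ : (g : G) ∈ Q := hBQ g.2
    apply habΦ
    have e1 := hΦc _ hgQ _ h2
    have : a * b = (a * (g : G)⁻¹) * (b * (g : G)⁻¹) * ((g : G) ^ 2) := by
      calc a * b = (a * (g : G)⁻¹) * ((g : G) * (b * (g : G)⁻¹)) * (g : G) := by group
        _ = (a * (g : G)⁻¹) * ((b * (g : G)⁻¹) * (g : G)) * (g : G) := by rw [e1]
        _ = _ := by rw [sq]; group
    rw [this]
    exact mul_mem (mul_mem h1 h2) (hsq _ hgQ)
  -- commutators are bilinear modulo the central subgroup, with values of order two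
  have hinv : ∀ a ∈ Q, ∀ b ∈ Q, a ∉ Φ → b ∉ Φ → a * b ∉ Φ → orderOf ⁅a, b⁆ = 2 := by
    intro a ha b hb haΦ hbΦ habΦ
    refine orderOf_eq_prime ?_ (fun h => hnc a ha b hb haΦ hbΦ habΦ
      (commutatorElement_eq_one_iff_mul_comm.mp h))
    have h1 : a ^ 2 * b = b * a ^ 2 := (hΦc b hb _ (hsq a ha)).symm
    have h2 := hΦc a ha _ (hcom a ha b hb)
    have h3 : ⁅a ^ 2, b⁆ = a * ⁅a, b⁆ * a⁻¹ * ⁅a, b⁆ := by
      simp only [commutatorElement_def, sq]; group
    rw [commutatorElement_eq_one_iff_mul_comm.mpr h1, h2, mul_inv_cancel_right] at h3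
    rw [sq]; exact h3.symm
  let Qb := Q ⧸ frattini Q
  have hmem : ∀ a : Q, ((a : Q ⧸ frattini Q) = 1 ↔ (a : G) ∈ Φ) := fun a => by
    rw [QuotientGroup.eq_one_iff]
    exact ⟨fun h => ⟨a, h, rfl⟩, fun ⟨y, hy, hye⟩ => Q.subtype_injective hye ▸ hy⟩
  have hcard : Nat.card (Q ⧸ frattini Q) ≤ 4 := by
    classical
    by_contra hgt
    have : Fintype (Q ⧸ frattini Q) := Fintype.ofFinite _
    rw [not_le, Nat.card_eq_fintype_card, ← Finset.card_univ] at hgt
    obtain ⟨A₁, hA₁⟩ := Finset.exists_mem_notMem_of_card_lt_card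
      (s := ({1} : Finset (Q ⧸ frattini Q))) (t := Finset.univ) (by simp only [Finset.card_singleton]; omega)
    obtain ⟨B₁, hB₁⟩ := Finset.exists_mem_notMem_of_card_lt_card
      (s := ({1, A₁} : Finset (Q ⧸ frattini Q))) (t := Finset.univ)
      (lt_of_le_of_lt (Finset.card_le_two) (by omega))
    obtain ⟨C₁, hC₁⟩ := Finset.exists_mem_notMem_of_card_lt_card
      (s := ({1, A₁, B₁, A₁ * B₁} : Finset (Q ⧸ frattini Q))) (t := Finset.univ)
      (lt_of_le_of_lt (Finset.card_le_four) hgt)
    obtain ⟨a, rfl⟩ := QuotientGroup.mk_surjective A₁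
    obtain ⟨b, rfl⟩ := QuotientGroup.mk_surjective B₁
    obtain ⟨c, rfl⟩ := QuotientGroup.mk_surjective C₁
    simp only [Finset.mem_insert, Finset.mem_singleton, not_or, Finset.mem_univ, true_and] at hA₁ hB₁ hC₁
    have hself : ∀ y : Q, (y : Q ⧸ frattini Q) * y = 1 := fun y => by
      rw [← QuotientGroup.mk_mul, hmem, Subgroup.coe_mul, ← sq]; exact hsq _ y.2
    have hne : ∀ y z : Q, (y : Q ⧸ frattini Q) ≠ z → ((y : G) * z) ∉ Φ := fun y z hyz h => hyz (by
      have h1 : ((y : Q ⧸ frattini Q) * z) = 1 := by rw [← QuotientGroup.mk_mul, hmem]; exact h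
      exact (eq_inv_of_mul_eq_one_left h1).trans (inv_eq_of_mul_eq_one_right (hself z)))
    have hbc : ((b * c : Q) : Q ⧸ frattini Q) ≠ 1 := fun h => hC₁.2.2.1
      ((eq_inv_of_mul_eq_one_right (show (b : Q ⧸ frattini Q) * c = 1 from h)).trans
        (inv_eq_of_mul_eq_one_right (hself b)))
    have habc : (a : Q ⧸ frattini Q) ≠ ((b * c : Q) : Q ⧸ frattini Q) := fun h => hC₁.2.2.2 (by
      rw [QuotientGroup.mk_mul] at h
      rw [h, mul_assoc]
      have hcb : (c : Q ⧸ frattini Q) * b = b * c := by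
        have := (Cfsg.Lib.PGroup.isElementaryAbelian_quotient_frattini hQ).1
        exact congrArg Subtype.val (this.is_comm.comm ⟨_, mem_top _⟩ ⟨_, mem_top _⟩)
      rw [hcb, ← mul_assoc, hself, one_mul])
    have hanΦ : (a : G) ∉ Φ := fun h => hA₁ ((hmem a).mpr h)
    have hab := hinv a a.2 b b.2 hanΦ (fun h => hB₁.1 ((hmem b).mpr h))
      (hne a b (fun h => hB₁.2 h.symm))
    have hac := hinv a a.2 c c.2 hanΦ (fun h => hC₁.1 ((hmem c).mpr h))
      (hne a c (fun h => hC₁.2.1 h.symm))
    have habc' := hinv a a.2 (b * c : Q) (b * c : Q).2 hanΦ (fun h => hbc ((hmem _).mpr h))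
      (hne a (b * c) habc)
    have hsame : ⁅(a : G), (b : G)⁆ = ⁅(a : G), (c : G)⁆ := unique_involution hG hab hac
      (hΦc _ (hΦlt.le (hcom _ a.2 _ b.2)) _ (hcom _ a.2 _ c.2))
    have h3 : ⁅(a : G), ((b * c : Q) : G)⁆ = ⁅(a : G), (b : G)⁆ * ⁅(a : G), (c : G)⁆ := by
      have h4 : ⁅(a : G), (b : G) * c⁆ = ⁅(a : G), (b : G)⁆ * (b * ⁅(a : G), (c : G)⁆ * (b : G)⁻¹) := by
        simp only [commutatorElement_def]; group
      rw [Subgroup.coe_mul, h4, hΦc _ b.2 _ (hcom _ a.2 _ c.2), mul_inv_cancel_right]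
    have h5 : ⁅(a : G), ((b * c : Q) : G)⁆ = 1 := by
      rw [h3, ← hsame, ← sq, ← hab, pow_orderOf_eq_one]
    rw [h5, orderOf_one] at habc'
    exact absurd habc' (by decide)
  have hfix : ∀ q ∈ Q, ⁅q, x⁆ ∈ Φ := by
    have hchar : ∀ e : MulAut Q, (frattini Q).map e.toMonoidHom = frattini Q := fun e =>
      characteristic_iff_map_eq.mp inferInstance e
    let f : normalizer (Q : Set G) →* Equiv.Perm (Q ⧸ frattini Q) :=
      { toFun := fun y =>
          (QuotientGroup.congr (frattini Q) (frattini Q) (Q.normalizerMonoidHom y) (hchar _)).toEquiv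
        map_one' := Equiv.ext fun v => by
          induction v using QuotientGroup.induction_on with
          | _ v =>
            show ((Q.normalizerMonoidHom 1 v : Q) : Q ⧸ frattini Q) = _
            rw [map_one]; rfl
        map_mul' := fun y z => Equiv.ext fun v => by
          induction v using QuotientGroup.induction_on with
          | _ v =>
            show ((Q.normalizerMonoidHom (y * z) v : Q) : Q ⧸ frattini Q) = _
            rw [map_mul]; rfl }
    have h1 : f ⟨x, hxQ⟩ = 1 := map_eq_one_of_small f hr (lt_of_le_of_lt hcard (by omega)) (k := k)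
      (by rwa [orderOf_mk])
    intro q hq
    have h2 := congrArg (fun e : Equiv.Perm (Q ⧸ frattini Q) => e ((⟨q, hq⟩ : Q) : Q ⧸ frattini Q)) h1
    have h3 : (((⟨x * q * x⁻¹, (mem_normalizer_iff.mp hxQ q).mp hq⟩ : Q)) : Q ⧸ frattini Q) =
        ((⟨q, hq⟩ : Q) : Q ⧸ frattini Q) := h2
    have h4 := QuotientGroup.eq_iff_div_mem.mp h3.symm
    refine ⟨_, h4, ?_⟩
    simp [commutatorElement_def, div_eq_mul_inv, mul_assoc]
  have hle : ⁅Q, A⁆ ≤ Φ := by
    rw [commutator_le]
    intro q hq a ha
    obtain ⟨j, rfl⟩ : ∃ j : ℕ, x ^ j = a := by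
      have h1 := ha
      rw [hA, mem_zpowers_iff_mem_range_orderOf] at h1
      obtain ⟨j, -, hj⟩ := Finset.mem_image.mp h1
      exact ⟨j, hj⟩
    clear ha
    induction j generalizing q with
    | zero => simp
    | succ j ih2 =>
      have h1 : ⁅q, x ^ (j + 1)⁆ = ⁅q, x⁆ * (x * ⁅q, x ^ j⁆ * x⁻¹) := by
        simp only [commutatorElement_def, pow_succ']; group
      rw [h1]
      exact mul_mem (hfix q hq) ((mem_normalizer_iff.mp (hnΦ hxQ) _).mp (ih2 q hq))
  exact absurd (hS ▸ hle) hΦlt.not_ge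

/-- The Sylow subgroup for the largest prime divisor `r ≥ 5` of a solvable group all of whose abelian
subgroups are cyclic is normal. -/
theorem sylow_normal [Finite G] [Group.IsSolvable G] (hG : AbelianCyclic G) {r : ℕ} [hr : Fact r.Prime]
    (h5 : 5 ≤ r) (hmax : ∀ q : ℕ, q.Prime → q ∣ Nat.card G → q ≤ r) (R : Sylow r G) :
    (R : Subgroup G).Normal := by
  classical
  set M := ⨆ q : {q : ℕ // q.Prime ∧ q ≠ r}, pCore (q : ℕ) G with hM
  have hMn : M.Normal := hM ▸ Subgroup.iSup_normal _
  -- a normal subgroup of order 1 or r containing the elements of order r of the r-core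
  obtain ⟨Z, hZn, hZR, hZc, hZ⟩ : ∃ Z : Subgroup G, Z.Normal ∧ Z ≤ pCore r G ∧
      (Z = ⊥ ∨ Nat.card Z = r) ∧ ∀ y ∈ pCore r G, y ^ r = 1 → y ∈ Z := by
    by_cases hO : pCore r G = ⊥
    · exact ⟨⊥, inferInstance, bot_le, Or.inl rfl, fun y hy _ => hO ▸ hy⟩
    have hOp : IsPGroup r (pCore r G) := Cfsg.Lib.Core.pCore_isPGroup r G
    have : Nontrivial (pCore r G) := (pCore r G).nontrivial_iff_ne_bot.mpr hO
    obtain ⟨z, -, hz, hzo⟩ := Cfsg.Lib.PGroup.exists_mem_center_orderOf_eq hOp (N := ⊤) top_ne_bot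
    have huniq : ∀ y ∈ pCore r G, y ^ r = 1 → y ∈ zpowers (z : G) := by
      intro y hy hyr
      by_cases hy1 : y = 1
      · exact hy1 ▸ one_mem _
      exact mem_zpowers_of_eq_orderOf hG
        ((congrArg Subtype.val (mem_center_iff.mp hz ⟨y, hy⟩)).symm)
        (by rw [orderOf_coe, hzo, orderOf_eq_prime hyr hy1])
    refine ⟨zpowers (z : G), ⟨fun y hy g => ?_⟩, zpowers_le.mpr z.2,
      Or.inr (by rw [Nat.card_zpowers, orderOf_coe, hzo]), huniq⟩
    refine huniq _ ((inferInstance : (pCore r G).Normal).conj_mem y (zpowers_le.mpr z.2 hy) g) ?_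
    obtain ⟨j, rfl⟩ := mem_zpowers_iff.mp hy
    have h3 : ((z : G) ^ j) ^ r = 1 := by
      have h4 : (z : G) ^ r = 1 := orderOf_dvd_iff_pow_eq_one.mp (by rw [orderOf_coe, hzo])
      rw [← zpow_natCast, ← zpow_mul, mul_comm, zpow_mul, zpow_natCast, h4, one_zpow]
    rw [conj_pow, h3, mul_one, mul_inv_cancel]
  set D := centralizer (M : Set G) ⊓ centralizer (Z : Set G) with hD
  have hDn : D.Normal := by
    rw [hD]; infer_instance
  -- R lies in D
  have hRD : (R : Subgroup G) ≤ D := by
    intro x hx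
    obtain ⟨k, hk⟩ := R.isPGroup' ⟨x, hx⟩
    have hxk : orderOf x ∣ r ^ k := orderOf_dvd_of_pow_eq_one (by
      simpa using congrArg Subtype.val hk)
    refine ⟨?_, ?_⟩
    · suffices h : M ≤ centralizer ({x} : Set G) from fun m hm =>
        mem_centralizer_singleton_iff.mp (h hm)
      refine iSup_le fun ⟨q, hq, hqr⟩ => ?_
      have := Fact.mk hq
      have hxn : x ∈ normalizer (pCore q G : Set G) := by
        rw [normalizer_eq_top]; exact mem_top _
      have hQp : IsPGroup q (pCore q G) := Cfsg.Lib.Core.pCore_isPGroup q G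
      intro m hm
      rw [mem_centralizer_singleton_iff]
      by_cases hq2 : q = 2
      · subst hq2
        exact (le_centralizer_two hG hr.out h5 hxk _ _ rfl hQp hxn m hm).symm
      by_cases hm1 : m = 1
      · simp [hm1]
      have hqr' : q < r := by
        refine lt_of_le_of_ne (hmax q hq ?_) hqr
        obtain ⟨j, hj⟩ := hQp ⟨m, hm⟩
        have hj' : orderOf m ∣ q ^ j := orderOf_dvd_of_pow_eq_one (by simpa using congrArg Subtype.val hj)
        obtain ⟨i, -, hi⟩ := (Nat.dvd_prime_pow hq).mp hj'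
        have hi0 : i ≠ 0 := fun h => hm1 (orderOf_eq_one_iff.mp (by rw [hi, h, pow_zero]))
        exact ((dvd_pow_self q hi0).trans hi.symm.dvd).trans (orderOf_dvd_natCard m)
      have hcop : (Nat.card (zpowers x)).Coprime (Nat.card (pCore q G)) := by
        obtain ⟨j, hj⟩ := IsPGroup.iff_card.mp hQp
        rw [Nat.card_zpowers, hj]
        exact Nat.Coprime.coprime_dvd_left hxk
          (Nat.Coprime.pow _ _ ((Nat.coprime_primes hr.out hq).mpr hqr.symm))
      refine (Cfsg.Lib.PGroup.le_centralizer_of_centralizes_omega hq2 (zpowers x) _ hQp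
        (zpowers_le.mpr hxn) hcop ?_ (mem_zpowers x) m hm)
      intro y hy hyq a ha
      obtain ⟨i, rfl⟩ := mem_zpowers_iff.mp ha
      refine (Commute.zpow_left ?_ i).eq
      -- the elements of order q generate a normal subgroup of order q
      by_cases hy1 : y = 1
      · exact hy1 ▸ Commute.one_right x
      obtain ⟨z, -, hz, hzo⟩ := by
        have : Nontrivial (pCore q G) := ⟨⟨⟨y, hy⟩, 1, fun h => hy1 (congrArg Subtype.val h)⟩⟩
        exact Cfsg.Lib.PGroup.exists_mem_center_orderOf_eq hQp (N := ⊤) top_ne_bot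
      have huniq : ∀ w ∈ pCore q G, w ^ q = 1 → w ∈ zpowers (z : G) := by
        intro w hw hwr
        by_cases hw1 : w = 1
        · exact hw1 ▸ one_mem _
        exact mem_zpowers_of_eq_orderOf hG
          ((congrArg Subtype.val (mem_center_iff.mp hz ⟨w, hw⟩)).symm)
          (by rw [orderOf_coe, hzo, orderOf_eq_prime hwr hw1])
      have hcard : Nat.card (zpowers (z : G)) = q := by rw [Nat.card_zpowers, orderOf_coe, hzo]
      refine commute_of_small hr.out (show Nat.card (zpowers (z : G)) < r by rw [hcard]; exact hqr') ?_ hxk (huniq y hy hyq)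
      rw [mem_normalizer_iff]
      intro w
      constructor
      · intro hw
        refine huniq _ ((inferInstance : (pCore q G).Normal).conj_mem w (zpowers_le.mpr z.2 hw) x) ?_
        rw [conj_pow, orderOf_dvd_iff_pow_eq_one.mp
          ((Subgroup.orderOf_dvd_natCard _ hw).trans hcard.dvd), mul_one, mul_inv_cancel]
      · intro hw
        have h4 := (inferInstance : (pCore q G).Normal).conj_mem _ (zpowers_le.mpr z.2 hw) x⁻¹
        have e : x⁻¹ * (x * w * x⁻¹) * x⁻¹⁻¹ = w := by group
        rw [e] at h4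
        refine huniq _ h4 ?_
        have h5 := orderOf_dvd_iff_pow_eq_one.mp ((Subgroup.orderOf_dvd_natCard _ hw).trans hcard.dvd)
        rw [conj_pow, conj_eq_one_iff] at h5
        exact h5
    · rcases hZc with h | h
      · rw [h]; intro m hm; rw [mem_bot.mp hm]; simp
      intro m hm
      have hZle : Z ≤ R := hZR.trans (Cfsg.Lib.Core.pCore_le_sylow R)
      have h1 : (Z.subgroupOf R).Normal := hZn.subgroupOf _
      have h2 : Z.subgroupOf R ≤ center R := Cfsg.Lib.PGroup.le_center_of_card_eq_prime R.isPGroup'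
        (by rw [Nat.card_congr (subgroupOfEquivOfLe hZle).toEquiv, h])
      have h3 := congrArg Subtype.val (mem_center_iff.mp
        (h2 (show (⟨m, hZle hm⟩ : (R : Subgroup G)) ∈ Z.subgroupOf R from hm)) ⟨x, hx⟩)
      exact h3.symm
  -- r'-elements of prime power order in D are central in D
  have hcentral : ∀ y ∈ D, ∀ q : ℕ, q.Prime → q ≠ r → (∃ j : ℕ, orderOf y = q ^ j) → y ∈ M := by
    intro y hy q hq hqr ⟨j, hj⟩
    have := Fact.mk hq
    have hOr : zpowers y ≤ centralizer (pCore r G : Set G) := by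
      refine Cfsg.Lib.PGroup.le_centralizer_of_centralizes_omega (by omega) _ _
        (Cfsg.Lib.Core.pCore_isPGroup r G) (by rw [normalizer_eq_top]; exact le_top) ?_ ?_
      · obtain ⟨i, hi⟩ := IsPGroup.iff_card.mp (Cfsg.Lib.Core.pCore_isPGroup r G)
        rw [Nat.card_zpowers, hj, hi]
        exact Nat.Coprime.pow _ _ ((Nat.coprime_primes hq hr.out).mpr hqr)
      · intro w hw hwr a ha
        obtain ⟨i, rfl⟩ := mem_zpowers_iff.mp ha
        exact ((show Commute y w from (hy.2 w (hZ w hw hwr)).symm).zpow_left i).eq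
    have hyF : y ∈ centralizer (fittingSubgroup G : Set G) := by
      suffices h : fittingSubgroup G ≤ centralizer ({y} : Set G) from fun f hf =>
        mem_centralizer_singleton_iff.mp (h hf)
      rw [Cfsg.Lib.Core.fittingSubgroup_eq_iSup_pCore]
      refine iSup_le fun ⟨s, hs⟩ m hm => mem_centralizer_singleton_iff.mpr ?_
      by_cases hsr : s = r
      · subst hsr
        exact hOr (mem_zpowers y) m hm
      · exact hy.1 m (mem_iSup_of_mem (⟨s, hs, hsr⟩ : {q : ℕ // q.Prime ∧ q ≠ r}) hm)
    have hyF' := Cfsg.Lib.Core.centralizer_fitting_le_of_isSolvable hyF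
    have hFn : Group.IsNilpotent (fittingSubgroup G) := Cfsg.Lib.Core.fittingSubgroup_isNilpotent G
    -- a q-element of the Fitting subgroup lies in the q-core
    obtain ⟨S⟩ : Nonempty (Sylow q (fittingSubgroup G)) := inferInstance
    have hSn : (S : Subgroup (fittingSubgroup G)).Normal := inferInstance
    have : (S : Subgroup (fittingSubgroup G)).Characteristic := S.characteristic_of_normal hSn
    have hFnormal := Cfsg.Lib.Core.fittingSubgroup_normal' G
    have h1 : ((S : Subgroup (fittingSubgroup G)).map (fittingSubgroup G).subtype) ≤ pCore q G :=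
      Cfsg.Lib.Core.le_pCore' (Cfsg.Lib.Core.normal_map_char_of_normal _) (S.isPGroup'.map _)
    refine mem_iSup_of_mem (⟨q, hq, hqr⟩ : {q : ℕ // q.Prime ∧ q ≠ r}) (h1 ⟨⟨y, hyF'⟩, ?_, rfl⟩)
    have hyp : IsPGroup q (zpowers (⟨y, hyF'⟩ : fittingSubgroup G)) :=
      IsPGroup.of_card (n := j) (by rw [Nat.card_zpowers, orderOf_mk, hj])
    obtain ⟨g, hg⟩ := hyp.exists_le_sylow
    have : Unique (Sylow q (fittingSubgroup G)) := Sylow.unique_of_normal S hSn
    exact (Subsingleton.elim g S) ▸ hg (mem_zpowers _)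
  have hDnil : Group.IsNilpotent D := by
    refine of_quotient_center_nilpotent (IsPGroup.isNilpotent (p := r) ?_)
    intro gb
    obtain ⟨g, rfl⟩ := QuotientGroup.mk_surjective gb
    refine ⟨(orderOf g).factorization r, ?_⟩
    rw [← QuotientGroup.mk_pow, QuotientGroup.eq_one_iff]
    set y := g ^ r ^ (orderOf g).factorization r with hy
    -- y is an r'-element, a product of prime-power elements
    have hr' : ∀ i : ℕ, ∀ w : D, orderOf w = i → i.factorization r = 0 → w ∈ center D := by
      intro i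
      induction i using Nat.strong_induction_on with
      | _ i ih =>
        intro w hw hi
        by_cases hi1 : i = 1
        · rw [orderOf_eq_one_iff.mp (hw.trans hi1)]; exact one_mem _
        obtain ⟨q, hq, hqi⟩ := Nat.exists_prime_and_dvd hi1
        have hi0 : i ≠ 0 := hw ▸ (orderOf_pos w).ne'
        have hqr : q ≠ r := fun h => by
          subst h
          exact (Nat.Prime.factorization_pos_of_dvd hq hi0 hqi).ne' hi
        set a := i.factorization q
        have hdec := Nat.ordProj_mul_ordCompl_eq_self i q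
        have hco : (q ^ a).Coprime (i / q ^ a) :=
          Nat.Coprime.pow_left _ (Nat.coprime_ordCompl hq hi0)
        -- split w
        obtain ⟨s, t, hst⟩ : ∃ s t : ℤ, (q ^ a : ℕ) * s + ((i / q ^ a : ℕ) : ℤ) * t = 1 := by
          refine ⟨Nat.gcdA (q ^ a) (i / q ^ a), Nat.gcdB (q ^ a) (i / q ^ a), ?_⟩
          have h := Nat.gcd_eq_gcd_ab (q ^ a) (i / q ^ a)
          rw [hco, Nat.cast_one] at h
          exact h.symm
        have hsplit : w = w ^ ((q ^ a : ℕ) * s) * w ^ (((i / q ^ a : ℕ) : ℤ) * t) := by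
          rw [← zpow_add, hst, zpow_one]
        rw [hsplit]
        refine mul_mem ?_ ?_
        · rw [zpow_mul, zpow_natCast]
          refine zpow_mem (ih (i / q ^ a) (Nat.div_lt_self (Nat.pos_of_ne_zero hi0) ?_) _ ?_ ?_) s
          · exact one_lt_pow₀ hq.one_lt (Nat.Prime.factorization_pos_of_dvd hq hi0 hqi).ne'
          · rw [orderOf_pow, hw, Nat.gcd_eq_right (Nat.ordProj_dvd i q)]
          · refine Nat.factorization_eq_zero_of_not_dvd fun h => ?_
            exact absurd hi ((hr.out.factorization_pos_of_dvd hi0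
              (h.trans (Nat.ordCompl_dvd i q))).ne')
        · rw [zpow_mul, zpow_natCast]
          refine zpow_mem ?_ t
          have ho : orderOf (w ^ (i / q ^ a)) = q ^ a := by
            rw [orderOf_pow, hw, Nat.gcd_eq_right (Nat.ordCompl_dvd i q)]
            exact Nat.div_div_self (Nat.ordProj_dvd i q) hi0
          have hwM := hcentral _ (w ^ (i / q ^ a)).2 q hq hqr ⟨a, by rw [orderOf_coe, ho]⟩
          rw [mem_center_iff]
          intro v
          exact Subtype.ext ((v.2.1 _ hwM).symm)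
    refine hr' _ y rfl ?_
    rw [hy, orderOf_pow, Nat.gcd_eq_right (Nat.ordProj_dvd _ r)]
    exact Nat.factorization_eq_zero_of_not_dvd (Nat.not_dvd_ordCompl hr.out (orderOf_pos g).ne')
  let R' : Sylow r D := R.subtype hRD
  have hR'n : (R' : Subgroup D).Normal := inferInstance
  have hchar : (R' : Subgroup D).Characteristic := R'.characteristic_of_normal hR'n
  have hmap : (R' : Subgroup D).map D.subtype = R := by
    rw [Sylow.coe_subtype, subgroupOf_map_subtype, inf_of_le_left hRD]
  exact hmap ▸ Cfsg.Lib.Core.normal_map_char_of_normal _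

/-- The solutions of `x ^ n = 1` are equally many in both groups, for every `n`. -/
def Same (A : Type v) [Group A] (B : Type w) [Group B] : Prop :=
  ∀ n : ℕ, Nat.card {a : A // a ^ n = 1} = Nat.card {b : B // b ^ n = 1}

theorem same_symm {A : Type v} [Group A] {B : Type w} [Group B] (h : Same A B) : Same B A :=
  fun n => (h n).symm

theorem card_quotient_solutions [Finite G] (N : Subgroup G) [N.Normal]
    (hN : (Nat.card N).Coprime N.index) (n : ℕ) :
    Nat.card {a : G // a ^ (n * Nat.card N) = 1} = Nat.card N * Nat.card {y : G ⧸ N // y ^ n = 1} := by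
  have hiff : ∀ a : G, a ^ (n * Nat.card N) = 1 ↔ (a : G ⧸ N) ^ n = 1 := by
    intro a
    constructor
    · intro h
      refine orderOf_dvd_iff_pow_eq_one.mp (Nat.Coprime.dvd_of_dvd_mul_right ?_
        ((orderOf_map_dvd (QuotientGroup.mk' N) a).trans (orderOf_dvd_of_pow_eq_one h)))
      exact Nat.Coprime.coprime_dvd_left (N.index_eq_card ▸ _root_.orderOf_dvd_natCard _) hN.symm
    · intro h
      rw [← QuotientGroup.mk_pow, QuotientGroup.eq_one_iff] at h
      rw [pow_mul]
      exact orderOf_dvd_iff_pow_eq_one.mp (Subgroup.orderOf_dvd_natCard N h)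
  rw [Nat.card_congr (Equiv.subtypeEquivRight hiff), ← Nat.card_prod]
  exact Nat.card_congr (QuotientGroup.preimageMkEquivSubgroupProdSet N {y : G ⧸ N | y ^ n = 1})

theorem same_quotient [Finite G] {H : Type v} [Group H] [Finite H] (h : Same G H) (N : Subgroup G)
    [N.Normal] (M : Subgroup H) [M.Normal] (hc : Nat.card N = Nat.card M)
    (hN : (Nat.card N).Coprime N.index) (hM : (Nat.card M).Coprime M.index) : Same (G ⧸ N) (H ⧸ M) := by
  intro n
  have h1 := h (n * Nat.card N)
  rw [card_quotient_solutions N hN n] at h1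
  rw [hc, card_quotient_solutions M hM n] at h1
  exact Nat.eq_of_mul_eq_mul_left Nat.card_pos h1

/-- A normal Sylow subgroup is seen in the number of solutions. -/
theorem exists_normal_of_same [Finite G] {H : Type v} [Group H] [Finite H] (h : Same G H)
    (hc : Nat.card G = Nat.card H) {p : ℕ} [hp : Fact p.Prime] (P : Sylow p G)
    (hP : (P : Subgroup G).Normal) (Q : Sylow p H) : (Q : Subgroup H).Normal := by
  classical
  have hPc : Nat.card P = p ^ (Nat.card G).factorization p := P.card_eq_multiplicity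
  have hQc : Nat.card Q = p ^ (Nat.card G).factorization p := hc ▸ Q.card_eq_multiplicity
  set e := (Nat.card G).factorization p
  have hQsub : (Q : Set H) ⊆ {b | b ^ p ^ e = 1} := by
    intro b hb
    exact orderOf_dvd_iff_pow_eq_one.mp ((Subgroup.orderOf_dvd_natCard _ hb).trans hQc.dvd)
  have hPsub : ∀ a : G, a ^ p ^ e = 1 ↔ a ∈ (P : Subgroup G) := by
    intro a
    constructor
    · intro ha
      have hz : IsPGroup p (zpowers a) := by
        obtain ⟨i, -, hi⟩ := (Nat.dvd_prime_pow hp.out).mp (orderOf_dvd_of_pow_eq_one ha)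
        exact IsPGroup.of_card (n := i) (by rw [Nat.card_zpowers, hi])
      obtain ⟨S, hS⟩ := hz.exists_le_sylow
      have : Unique (Sylow p G) := Sylow.unique_of_normal P hP
      exact (Subsingleton.elim S P) ▸ hS (mem_zpowers a)
    · intro ha
      exact orderOf_dvd_iff_pow_eq_one.mp ((Subgroup.orderOf_dvd_natCard _ ha).trans hPc.dvd)
  have heq : (Q : Set H) = {b | b ^ p ^ e = 1} := by
    refine Set.eq_of_subset_of_ncard_le hQsub (le_of_eq ?_) (Set.toFinite _)
    rw [← Nat.card_coe_set_eq, ← Nat.card_coe_set_eq]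
    refine ((h (p ^ e)).symm.trans (Nat.card_congr (Equiv.subtypeEquivRight hPsub))).trans ?_
    exact hPc.trans hQc.symm
  refine ⟨fun b hb g => ?_⟩
  have hb' : b ^ p ^ e = 1 := (Set.ext_iff.mp heq b).mp hb
  exact (Set.ext_iff.mp heq _).mpr (by
    show (g * b * g⁻¹) ^ p ^ e = 1
    rw [conj_pow, hb', mul_one, mul_inv_cancel])

/-- Solvability is seen in the numbers of solutions, for groups whose abelian subgroups are cyclic. -/
theorem isSolvable_of_same : ∀ (n : ℕ) (A : Type u) [Group A] [Finite A], Nat.card A = n →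
    Group.IsSolvable A → AbelianCyclic A → ∀ (B : Type v) [Group B] [Finite B], Same A B →
      Nat.card B = n → Group.IsSolvable B := by
  intro n
  induction n using Nat.strong_induction_on with
  | _ n ih =>
  intro A _ _ hn hA hcyc B _ _ hs hB
  subst hn
  by_cases hsmall : ∀ q : ℕ, q.Prime → q ∣ Nat.card A → q ≤ 3
  · refine Cfsg.Agent.S0144.result 2 3 ((Nat.card B).factorization 2) ((Nat.card B).factorization 3)
      Nat.prime_two Nat.prime_three (Nat.eq_of_factorization_eq Nat.card_pos.ne' (by positivity) fun q => ?_)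
    rw [Nat.factorization_mul (by positivity) (by positivity), Nat.prime_two.factorization_pow,
      Nat.prime_three.factorization_pow]
    by_cases hq2 : q = 2
    · subst hq2; simp
    by_cases hq3 : q = 3
    · subst hq3; simp
    simp only [Finsupp.add_apply, Finsupp.single_apply, Ne.symm hq2, Ne.symm hq3, if_false, add_zero]
    by_cases hq : q.Prime
    · refine Nat.factorization_eq_zero_of_not_dvd fun hd => ?_
      have h3 := hsmall q hq (hB ▸ hd)
      have h2 := hq.two_le
      omega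
    · exact Nat.factorization_eq_zero_of_not_prime _ hq
  push Not at hsmall
  obtain ⟨q₀, hq₀, hq₀d, hq₀3⟩ := hsmall
  set r := ((Nat.card A).primeFactors).max' ⟨q₀, Nat.mem_primeFactors.mpr ⟨hq₀, hq₀d, Nat.card_pos.ne'⟩⟩
  have hrmem := Finset.max'_mem (Nat.card A).primeFactors
    ⟨q₀, Nat.mem_primeFactors.mpr ⟨hq₀, hq₀d, Nat.card_pos.ne'⟩⟩
  have hmax : ∀ q : ℕ, q.Prime → q ∣ Nat.card A → q ≤ r := fun q hq hd =>
    Finset.le_max' _ q (Nat.mem_primeFactors.mpr ⟨hq, hd, Nat.card_pos.ne'⟩)
  obtain ⟨hr, hrd, -⟩ := Nat.mem_primeFactors.mp hrmem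
  have := Fact.mk hr
  have h5 : 5 ≤ r := by
    have h4 : r ≠ 4 := fun h => absurd (show Nat.Prime r from hr) (by rw [h]; norm_num)
    have := hmax q₀ hq₀ hq₀d
    omega
  obtain ⟨P⟩ : Nonempty (Sylow r A) := inferInstance
  obtain ⟨Q⟩ : Nonempty (Sylow r B) := inferInstance
  have hPn : (P : Subgroup A).Normal := sylow_normal hcyc h5 hmax P
  have hQn : (Q : Subgroup B).Normal := exists_normal_of_same hs hB.symm P hPn Q
  have hcard : Nat.card P = Nat.card Q := by
    rw [P.card_eq_multiplicity, Q.card_eq_multiplicity, hB]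
  have hPcop : (Nat.card P).Coprime (P : Subgroup A).index := P.card_coprime_index
  have hQcop : (Nat.card Q).Coprime (Q : Subgroup B).index := Q.card_coprime_index
  obtain ⟨K, hK⟩ := Subgroup.exists_right_complement'_of_coprime (N := (P : Subgroup A)) hPcop
  have hPne : (P : Subgroup A) ≠ ⊥ := P.ne_bot_of_dvd_card hrd
  have hlt : Nat.card (A ⧸ (P : Subgroup A)) < Nat.card A := Cfsg.Lib.Core.card_quotient_lt hPne
  have hcyc' : AbelianCyclic (A ⧸ (P : Subgroup A)) :=
    abelianCyclic_of_injective (K.subtype.comp (hK.symm.QuotientMulEquiv).toMonoidHom)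
      (K.subtype_injective.comp (hK.symm.QuotientMulEquiv).injective) hcyc
  have hBq : Nat.card (B ⧸ (Q : Subgroup B)) = Nat.card (A ⧸ (P : Subgroup A)) := by
    have h1 := (P : Subgroup A).card_mul_index
    have h2 := (Q : Subgroup B).card_mul_index
    rw [Subgroup.index_eq_card] at h1 h2
    rw [hB, ← h1, hcard] at h2
    exact Nat.eq_of_mul_eq_mul_left Nat.card_pos h2
  have hsolq : Group.IsSolvable (B ⧸ (Q : Subgroup B)) :=
    ih _ hlt (A ⧸ (P : Subgroup A)) rfl inferInstance hcyc' (B ⧸ (Q : Subgroup B))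
      (same_quotient hs _ _ hcard hPcop hQcop) hBq
  have hQs : Group.IsSolvable (Q : Subgroup B) := by
    have h := Q.isPGroup'.isNilpotent
    exact IsNilpotent.to_isSolvable (G := (Q : Subgroup B)) (h := h)
  exact Group.isSolvable_of_ker_le_range (Q : Subgroup B).subtype (QuotientGroup.mk' (Q : Subgroup B))
    (by rw [QuotientGroup.ker_mk', range_subtype])

end Cfsg.Lib.PGroup.OrderType
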