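import Cfsg.Agent.Lib.PGroup.Basic
import Cfsg.Agent.Lib.TwoGroup.AutChain
import Mathlib.GroupTheory.Perm.Cycle.Type

/-!
# Automorphisms trivial on the Frattini quotient (Burnside)
-/

set_option autoImplicit false

namespace Cfsg.Lib.PGroup

variable {p : ℕ} [Fact p.Prime] {Q : Type*} [Group Q] [Finite Q]

/-- The automorphisms acting trivially on the Frattini quotient. -/
def frattiniStab (Q : Type*) [Group Q] : Subgroup (MulAut Q) where
  carrier := {g | ∀ x : Q, x⁻¹ * g x ∈ frattini Q}
  one_mem' := fun x => by simp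
  mul_mem' := fun {a b} ha hb x => by
    have h := mul_mem (hb x) (ha (b x))
    simpa [MulAut.mul_apply, mul_assoc] using h
  inv_mem' := fun {a} ha x => by
    have h := inv_mem (ha (a⁻¹ x))
    simpa [MulAut.inv_apply] using h

theorem mem_frattiniStab {g : MulAut Q} :
    g ∈ frattiniStab Q ↔ ∀ x : Q, x⁻¹ * g x ∈ frattini Q := Iff.rfl

theorem apply_mem_frattini (g : MulAut Q) {x : Q} (hx : x ∈ frattini Q) : g x ∈ frattini Q := by
  have h : (frattini Q).Characteristic := inferInstance
  exact (h.fixed g).symm.le hx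

instance frattiniStab_normal : (frattiniStab Q).Normal := by
  refine ⟨fun a ha b x => ?_⟩
  have h := apply_mem_frattini b (ha (b⁻¹ x))
  simpa [MulAut.mul_apply, MulAut.inv_apply, map_mul] using h

/-- Burnside: the kernel of the action on the Frattini quotient of a `p`-group is a `p`-group. -/
theorem isPGroup_frattiniStab (hQ : IsPGroup p Q) : IsPGroup p (frattiniStab Q) := by
  classical
  haveI : Finite (MulAut Q) := Finite.of_injective (fun a : MulAut Q => (a : Q → Q))
    DFunLike.coe_injective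
  have key : ∀ (ℓ : ℕ), ℓ.Prime → ℓ ≠ p → ∀ g ∈ frattiniStab Q, orderOf g = ℓ → False := by
    intro ℓ hℓ hℓp g hg hord
    haveI : Fact ℓ.Prime := ⟨hℓ⟩
    let C : Subgroup Q :=
      { carrier := {x | g x = x}
        one_mem' := map_one g
        mul_mem' := fun {a b} (ha : g a = a) (hb : g b = b) => show g (a * b) = a * b by
          rw [map_mul, ha, hb]
        inv_mem' := fun {a} (ha : g a = a) => show g a⁻¹ = a⁻¹ by rw [map_inv, ha] }
    have hsup : C ⊔ frattini Q = ⊤ := by
      refine eq_top_iff.mpr fun x _ => ?_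
      let K := {y : Q // x⁻¹ * y ∈ frattini Q}
      haveI : Fintype K := Fintype.ofFinite K
      have hmem : ∀ y : Q, x⁻¹ * y ∈ frattini Q ↔ x⁻¹ * g y ∈ frattini Q := fun y => by
        have h1 : x⁻¹ * g y = x⁻¹ * y * (y⁻¹ * g y) := by group
        rw [h1]
        exact (Subgroup.mul_mem_cancel_right _ (hg y)).symm
      let σ : Equiv.Perm K := g.toEquiv.subtypeEquiv hmem
      have hσ : ∀ (n : ℕ) (y : K), (((σ ^ n) y : K) : Q) = (g ^ n) (y : Q) := by
        intro n
        induction n with
        | zero => intro y; rfl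
        | succ n ih =>
          intro y
          rw [pow_succ', Equiv.Perm.mul_apply, pow_succ', MulAut.mul_apply]
          show g (((σ ^ n) y : K) : Q) = _
          rw [ih]
      have hσ1 : σ ^ ℓ ^ 1 = 1 := by
        rw [pow_one]
        refine Equiv.ext fun y => Subtype.ext ?_
        rw [hσ, ← hord, pow_orderOf_eq_one]
        rfl
      have hcard : ¬ ℓ ∣ Fintype.card K := by
        rw [← Nat.card_eq_fintype_card]
        have e : K ≃ (frattini Q : Subgroup Q) :=
          (Equiv.mulLeft x⁻¹).subtypeEquiv (fun y => Iff.rfl)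
        rw [Nat.card_congr e]
        obtain ⟨k, hk⟩ := IsPGroup.iff_card.mp (hQ.to_subgroup (frattini Q))
        rw [hk]
        exact fun hd => hℓp ((Nat.prime_dvd_prime_iff_eq hℓ Fact.out).mp (hℓ.dvd_of_dvd_pow hd))
      obtain ⟨y, hy⟩ := Equiv.Perm.exists_fixed_point_of_prime hcard hσ1
      have hy' : g (y : Q) = y := congrArg Subtype.val hy
      have : x = (y : Q) * (x⁻¹ * (y : Q))⁻¹ := by group
      rw [this]
      exact mul_mem (Subgroup.mem_sup_left hy') (Subgroup.mem_sup_right (inv_mem y.2))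
    have htop : C = ⊤ := frattini_nongenerating hsup
    have hg1 : g = 1 := MulEquiv.ext fun x => by
      have : x ∈ C := htop ▸ Subgroup.mem_top x
      exact this
    rw [hg1, orderOf_one] at hord
    exact hℓ.ne_one hord.symm
  rw [IsPGroup.iff_card]
  refine ⟨_, Nat.eq_prime_pow_of_unique_prime_dvd Nat.card_pos.ne' fun {d} hd hdvd => ?_⟩
  by_contra hne
  haveI : Fact d.Prime := ⟨hd⟩
  obtain ⟨g, hg⟩ := exists_prime_orderOf_dvd_card' d hdvd
  exact key d hd hne g g.2 (by rw [Subgroup.orderOf_coe]; exact hg)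

/-- A finite group without non-trivial elements of odd order is a `2`-group. -/
theorem isPGroup_two_of_odd_eq_one {G : Type*} [Group G] [Finite G]
    (h : ∀ g : G, Odd (orderOf g) → g = 1) : IsPGroup 2 G := by
  haveI : Fact (Nat.Prime 2) := ⟨Nat.prime_two⟩
  rw [IsPGroup.iff_card]
  refine ⟨_, Nat.eq_prime_pow_of_unique_prime_dvd Nat.card_pos.ne' fun {d} hd hdvd => ?_⟩
  haveI : Fact d.Prime := ⟨hd⟩
  obtain ⟨g, hg⟩ := exists_prime_orderOf_dvd_card' d hdvd
  rcases hd.eq_two_or_odd' with h2 | ho
  · exact h2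
  · have h1 := h g (hg ▸ ho)
    rw [h1, orderOf_one] at hg
    exact absurd hg.symm hd.ne_one

end Cfsg.Lib.PGroup
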