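import Mathlib.Data.Nat.Choose.Dvd
import Cfsg.Agent.Lib.PGroup.Basic
import Cfsg.Agent.Lib.PGroup.ClassTwo
import Cfsg.Agent.Lib.Core.Cores

/-!
# Elementary abelian subgroups of order `p²` in noncyclic `p`-groups, `p` odd
-/

set_option autoImplicit false
set_option linter.style.haveILetI false

namespace Cfsg.Lib.PGroup.Noncyclic

open Subgroup
open scoped commutatorElement

theorem not_isCyclic_of_elemAb {R : Type*} [Group R] [Finite R] {p : ℕ} [hp : Fact p.Prime]
    {E : Subgroup R} (hE : Cfsg.IsElementaryAbelian p E) (hc : Nat.card E = p ^ 2) :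
    ¬ IsCyclic E := by
  intro h
  obtain ⟨g, hg⟩ := h.exists_generator
  have h1 : orderOf g = p ^ 2 := by
    rw [← hc, ← Nat.card_zpowers, (Subgroup.eq_top_iff' _).2 hg, Subgroup.card_top]
  have h2 : orderOf g ∣ p := orderOf_dvd_of_pow_eq_one (Subtype.ext (by simpa using hE.2 g g.2))
  rw [h1] at h2
  have := Nat.le_of_dvd hp.out.pos h2
  have : p * 2 ≤ p ^ 2 := by rw [sq]; exact Nat.mul_le_mul_left p hp.out.two_le
  have := hp.out.pos
  omega

/-- A noncyclic `p`-group, `p` odd, has an elementary abelian subgroup of order `p ^ 2`. -/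
theorem exists_elemAb_sq {R : Type*} [Group R] [Finite R] {p : ℕ} [hp : Fact p.Prime] (hp2 : p ≠ 2)
    (hR : IsPGroup p R) :
    ∀ H : Subgroup R, ¬ IsCyclic H →
      ∃ E ≤ H, Cfsg.IsElementaryAbelian p E ∧ Nat.card E = p ^ 2 := by
  intro H
  induction H using WellFoundedLT.induction with
  | _ H ih =>
    intro hnc
    have hH := hR.to_subgroup H
    by_cases hM : ∃ M : Subgroup H, IsCoatom M ∧ ¬ IsCyclic M
    · obtain ⟨M, hM, hMc⟩ := hM
      have hlt : M.map H.subtype < H := lt_of_le_of_ne (map_subtype_le M) fun he =>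
        hM.1 (map_injective H.subtype_injective (he.trans (by
          rw [← MonoidHom.range_eq_map, range_subtype])))
      obtain ⟨E, hEM, hE⟩ := ih _ hlt fun hc =>
        hMc ((M.equivMapOfInjective H.subtype H.subtype_injective).isCyclic.2 hc)
      exact ⟨E, hEM.trans (map_subtype_le M), hE⟩
    push Not at hM
    obtain ⟨M, hMc⟩ : ∃ M : Subgroup H, IsCoatom M := by
      rcases eq_top_or_exists_le_coatom (⊥ : Subgroup H) with h | ⟨M, hM', -⟩
      · haveI : Subsingleton H := Subgroup.subsingleton_iff.1 (subsingleton_of_bot_eq_top h)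
        exact absurd isCyclic_of_subsingleton hnc
      · exact ⟨M, hM'⟩
    obtain ⟨x, hx⟩ : ∃ x, x ∉ M := by
      by_contra hc
      push Not at hc
      exact hMc.1 ((eq_top_iff' M).2 hc)
    obtain ⟨N, hNc, hxN⟩ : ∃ N : Subgroup H, IsCoatom N ∧ zpowers x ≤ N := by
      refine (eq_top_or_exists_le_coatom (zpowers x)).resolve_left fun h => hnc ?_
      exact ⟨⟨x, fun y => (h.symm ▸ mem_top y : y ∈ zpowers x)⟩⟩
    have hMN : M ≠ N := fun h => hx (h ▸ hxN (mem_zpowers x))
    haveI := hM M hMc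
    haveI := hM N hNc
    haveI := normal_of_isCoatom hH hMc
    haveI := normal_of_isCoatom hH hNc
    set D := M ⊓ N with hD
    have hsup : M ⊔ N = ⊤ := hMc.sup_eq_top_of_ne hNc hMN
    have hDc : D ≤ center H := by
      intro d hd
      have h1 : M ≤ centralizer ({d} : Set H) := fun m hm => mem_centralizer_singleton_iff.2
        (congrArg Subtype.val (IsCyclic.commGroup.mul_comm (⟨m, hm⟩ : M) ⟨d, hd.1⟩))
      have h2 : N ≤ centralizer ({d} : Set H) := fun m hm => mem_centralizer_singleton_iff.2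
        (congrArg Subtype.val (IsCyclic.commGroup.mul_comm (⟨m, hm⟩ : N) ⟨d, hd.2⟩))
      have h3 := sup_le h1 h2
      rw [hsup] at h3
      exact mem_center_iff.2 fun g => mem_centralizer_singleton_iff.1 (h3 (mem_top g))
    have hDi : D.index ≤ p ^ 2 := by
      refine index_inf_le.trans (le_of_eq ?_)
      rw [index_of_isCoatom hH hMc, index_of_isCoatom hH hNc, sq]
    have hcl : commutator H ≤ center H := le_trans (le_inf (commutator_le_of_isCoatom hH hMc)
      (commutator_le_of_isCoatom hH hNc)) hDc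
    have hpw : ∀ g : H, g ^ p ∈ D := fun g =>
      ⟨pow_mem_of_isCoatom hH hMc g, pow_mem_of_isCoatom hH hNc g⟩
    let f : H →* H := MonoidHom.mk' (fun g => g ^ p) fun a b => by
      show (a * b) ^ p = a ^ p * b ^ p
      rw [mul_pow_of_class_two hcl]
      obtain ⟨c, hc⟩ := Nat.Prime.dvd_choose_self hp.out two_ne_zero
        (lt_of_le_of_ne hp.out.two_le (Ne.symm hp2))
      have h1 : ⁅b, a⁆ ^ p = 1 := by
        rw [← commutatorElement_pow_left hcl, commutatorElement_eq_one_iff_mul_comm]
        exact (mem_center_iff.1 (hDc (hpw b)) a).symm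
      rw [hc, pow_mul, h1, one_pow, mul_one]
    have hrange : f.range ≤ D := by
      rintro _ ⟨g, rfl⟩
      exact hpw g
    have hker : p ^ 2 ≤ Nat.card f.ker := by
      rcases le_or_gt (p ^ 2) (Nat.card f.ker) with h | h
      · exact h
      exfalso
      have h1 : f.ker.index = Nat.card f.range := index_ker f
      have h2 := f.ker.card_mul_index
      have h3 := D.card_mul_index
      have h4 := card_le_of_le hrange
      rw [h1] at h2
      have hDpos : 0 < Nat.card D := Nat.card_pos
      -- `|H| = |ker| |range| < p ^ 2 |D|`, while `D` has index `p ^ 2` once it differs from `M`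
      have hDM : D ≠ M := fun e => hMN ((hMc.le_iff.1 (inf_eq_left.1 e)).resolve_left hNc.1).symm
      have h5 : D.index = p ^ 2 := by
        refine le_antisymm hDi ?_
        have hlt : D < M := lt_of_le_of_ne inf_le_left hDM
        obtain ⟨k, hk⟩ := hH.index D
        have h6 : M.index < D.index := index_strictAnti hlt
        rw [index_of_isCoatom hH hMc, hk] at h6
        rw [hk]
        have : 1 < k := (Nat.pow_lt_pow_iff_right hp.out.one_lt).1 (by simpa using h6)
        exact Nat.pow_le_pow_right hp.out.pos this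
      rw [h5] at h3
      have := Nat.mul_le_mul (le_refl (Nat.card f.ker)) h4
      nlinarith
    obtain ⟨E, hEc⟩ := Sylow.exists_subgroup_card_pow_prime_of_le_card hp.out (hH.to_subgroup f.ker) hker
    let E' : Subgroup R := (E.map f.ker.subtype).map H.subtype
    have hE'c : Nat.card E' = p ^ 2 := by
      rw [card_map_of_injective H.subtype_injective, card_map_of_injective f.ker.subtype_injective,
        hEc]
    refine ⟨E', map_subtype_le _, ⟨IsPGroup.isMulCommutative_of_card_eq_prime_sq hE'c, ?_⟩, hE'c⟩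
    rintro _ ⟨_, ⟨k, -, rfl⟩, rfl⟩
    rw [← map_pow, show (f.ker.subtype k) ^ p = 1 from k.2, map_one]

/-- A noncyclic normal abelian subgroup contains a normal elementary abelian subgroup of order
`p ^ 2`. -/
theorem exists_normal_elemAb_sq_of_abelian {R : Type*} [Group R] [Finite R] {p : ℕ}
    [hp : Fact p.Prime] (hp2 : p ≠ 2) (hR : IsPGroup p R) (A : Subgroup R) [hAn : A.Normal]
    [hAc : IsMulCommutative A] (hAnc : ¬ IsCyclic A) :
    ∃ E ≤ A, E.Normal ∧ Cfsg.IsElementaryAbelian p E ∧ Nat.card E = p ^ 2 := by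
  have cA : ∀ {a b : R}, a ∈ A → b ∈ A → Commute a b := fun ha hb =>
    congrArg Subtype.val (hAc.is_comm.comm ⟨_, ha⟩ ⟨_, hb⟩)
  let Ω : Subgroup R :=
    { carrier := {a | a ∈ A ∧ a ^ p = 1}
      one_mem' := ⟨A.one_mem, one_pow _⟩
      mul_mem' := fun ha hb => ⟨A.mul_mem ha.1 hb.1, by
        rw [(cA ha.1 hb.1).mul_pow, ha.2, hb.2, one_mul]⟩
      inv_mem' := fun ha => ⟨A.inv_mem ha.1, by rw [inv_pow, ha.2, inv_one]⟩ }
  haveI hΩn : Ω.Normal := ⟨fun a ha g => ⟨hAn.conj_mem a ha.1 g, by
    rw [conj_pow, ha.2, mul_one, mul_inv_cancel]⟩⟩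
  obtain ⟨E, hEA, hE, hEc⟩ := exists_elemAb_sq hp2 hR A hAnc
  have hEΩ : E ≤ Ω := fun x hx => ⟨hEA hx, hE.2 x hx⟩
  have hΩne : Ω ≠ ⊥ := fun h => by
    have := card_le_of_le hEΩ
    rw [h, card_bot, hEc] at this
    exact absurd this (not_le.2 (Nat.one_lt_pow two_ne_zero hp.out.one_lt))
  obtain ⟨z, hzΩ, hzc, hz⟩ := exists_mem_center_orderOf_eq hR hΩne
  haveI : (zpowers z).Normal := ⟨fun a ha g => by
    rw [Subgroup.mem_center_iff.1 (zpowers_le.2 hzc ha) g, mul_inv_cancel_right]; exact ha⟩
  set f := QuotientGroup.mk' (zpowers z) with hf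
  haveI : (Ω.map f).Normal := hΩn.map f (QuotientGroup.mk'_surjective _)
  have hne : Ω.map f ≠ ⊥ := by
    intro h
    rw [Subgroup.map_eq_bot_iff, hf, QuotientGroup.ker_mk'] at h
    have := (card_le_of_le hEΩ).trans (card_le_of_le h)
    rw [hEc, Nat.card_zpowers, hz] at this
    exact absurd this (not_le.2 (lt_self_pow₀ hp.out.one_lt one_lt_two))
  obtain ⟨w, hwΩ, hwc, hw⟩ := exists_mem_center_orderOf_eq (hR.to_quotient (zpowers z)) hne
  haveI : (zpowers w).Normal := ⟨fun a ha g => by
    rw [Subgroup.mem_center_iff.1 (zpowers_le.2 hwc ha) g, mul_inv_cancel_right]; exact ha⟩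
  have hle : (zpowers w).comap f ≤ Ω := by
    refine (comap_mono (zpowers_le.2 hwΩ)).trans (le_of_eq ?_)
    rw [comap_map_eq, hf, QuotientGroup.ker_mk', sup_eq_left]
    exact zpowers_le.2 hzΩ
  have hcard : Nat.card ((zpowers w).comap f) = p ^ 2 := by
    rw [Cfsg.Lib.Core.card_comap_eq f (QuotientGroup.mk'_surjective _), hf, QuotientGroup.ker_mk',
      Nat.card_zpowers, Nat.card_zpowers, hz, hw, sq]
  exact ⟨(zpowers w).comap f, fun a ha => (hle ha).1, inferInstance,
    ⟨IsPGroup.isMulCommutative_of_card_eq_prime_sq hcard, fun a ha => (hle ha).2⟩, hcard⟩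

end Cfsg.Lib.PGroup.Noncyclic
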