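import Cfsg.Agent.Lib.PGroup.Basic

/-!
# `p`-groups with an abelian subgroup of index `p`
-/

set_option autoImplicit false

namespace Cfsg.Lib.PGroup

open scoped commutatorElement

universe u

variable {S : Type u} [Group S] [Finite S] {p : ℕ} [Fact p.Prime]

theorem isCoatom_of_index_prime {A : Subgroup S} (h : A.index = p) : IsCoatom A := by
  refine ⟨fun h' => ?_, fun B hB => ?_⟩
  · rw [h', Subgroup.index_top] at h
    exact (Fact.out : p.Prime).ne_one h.symm
  · rcases (Nat.dvd_prime Fact.out).mp (h ▸ Subgroup.index_dvd_of_le hB.le) with h1 | h1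
    · exact Subgroup.index_eq_one.mp h1
    · refine absurd (Subgroup.eq_of_le_of_card_ge hB.le ?_) hB.ne
      have e1 := Subgroup.card_mul_index B
      rw [h1, ← Subgroup.card_mul_index A, h] at e1
      exact le_of_eq (Nat.eq_of_mul_eq_mul_right (Fact.out : p.Prime).pos e1)

theorem normal_of_index_eq (hS : IsPGroup p S) {A : Subgroup S} (h : A.index = p) : A.Normal :=
  normal_of_isCoatom hS (isCoatom_of_index_prime h)

theorem sup_zpowers_eq_top_of_index {A : Subgroup S} (h : A.index = p) {t : S} (ht : t ∉ A) :
    A ⊔ Subgroup.zpowers t = ⊤ :=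
  (isCoatom_of_index_prime h).2 _ (lt_of_le_of_ne le_sup_left fun h' =>
    ht (h' ▸ Subgroup.mem_sup_right (Subgroup.mem_zpowers t)))

theorem center_le_of_abelian_index (hna : ¬ IsMulCommutative S) {A : Subgroup S}
    [IsMulCommutative A] (h : A.index = p) : Subgroup.center S ≤ A := by
  intro z hz
  by_contra hzA
  apply hna
  have h1 : (⊤ : Subgroup S) ≤ Subgroup.centralizer ((A : Set S)) := by
    rw [← sup_zpowers_eq_top_of_index h hzA]
    refine sup_le (Subgroup.le_centralizer A) ((Subgroup.zpowers_le.mpr hz).trans ?_)
    exact Subgroup.center_le_centralizer _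
  have h2 : A ≤ Subgroup.center S := fun a ha => Subgroup.mem_center_iff.mpr fun g =>
    (Subgroup.mem_centralizer_iff.mp (h1 (Subgroup.mem_top g)) a ha).symm
  have h3 : Subgroup.center S = ⊤ := by
    rw [eq_top_iff, ← sup_zpowers_eq_top_of_index h hzA]
    exact sup_le h2 (Subgroup.zpowers_le.mpr hz)
  exact ⟨⟨fun a b => (Subgroup.mem_center_iff.mp (h3 ▸ Subgroup.mem_top b) a)⟩⟩

/-- If `A` is an abelian subgroup of index `p` in a non-abelian `p`-group, then
`|S : Z(S)| = p |[S, S]|`. -/
theorem index_center_of_abelian_index (hS : IsPGroup p S) (hna : ¬ IsMulCommutative S)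
    {A : Subgroup S} [IsMulCommutative A] (h : A.index = p) :
    (Subgroup.center S).index = p * Nat.card (commutator S) := by
  have hA : A.Normal := normal_of_index_eq hS h
  obtain ⟨t, -, ht⟩ := SetLike.exists_of_lt (lt_top_iff_ne_top.mpr fun h' : A = ⊤ => by
    rw [h', Subgroup.index_top] at h
    exact (Fact.out : p.Prime).ne_one h.symm)
  have hmem : ∀ a : A, ⁅(a : S), t⁆ ∈ A := fun a => by
    rw [commutatorElement_def, mul_assoc, mul_assoc]
    exact mul_mem a.2 (by
      have := hA.conj_mem _ (inv_mem a.2) t
      rwa [mul_assoc] at this)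
  let f : A →* S :=
    { toFun := fun a => ⁅(a : S), t⁆
      map_one' := by simp [commutatorElement_def]
      map_mul' := fun a b => by
        change ⁅(a : S) * b, t⁆ = ⁅(a : S), t⁆ * ⁅(b : S), t⁆
        have h1 : (a : S) * ⁅(b : S), t⁆ = ⁅(b : S), t⁆ * a := setLike_mul_comm a.2 (hmem b)
        calc ⁅(a : S) * b, t⁆ = (a : S) * ⁅(b : S), t⁆ * (a : S)⁻¹ * ⁅(a : S), t⁆ := by
              simp [commutatorElement_def, mul_assoc]
          _ = ⁅(b : S), t⁆ * ⁅(a : S), t⁆ := by rw [h1, mul_inv_cancel_right]
          _ = _ := setLike_mul_comm (hmem b) (hmem a) }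
  have htop := sup_zpowers_eq_top_of_index h ht
  have hker : f.ker = (Subgroup.center S).subgroupOf A := by
    ext a
    rw [MonoidHom.mem_ker, Subgroup.mem_subgroupOf]
    constructor
    · intro ha
      have hat : Commute (a : S) t := commutatorElement_eq_one_iff_mul_comm.mp ha
      have h1 : (⊤ : Subgroup S) ≤ Subgroup.centralizer {(a : S)} := by
        rw [← htop]
        refine sup_le (fun b hb => ?_) (Subgroup.zpowers_le.mpr ?_)
        · rw [Subgroup.mem_centralizer_iff]
          simp only [Set.mem_singleton_iff, forall_eq]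
          exact setLike_mul_comm a.2 hb
        · rw [Subgroup.mem_centralizer_iff]
          simp only [Set.mem_singleton_iff, forall_eq]
          exact hat.eq
      exact Subgroup.mem_center_iff.mpr fun g =>
        (Subgroup.mem_centralizer_iff.mp (h1 (Subgroup.mem_top g)) _ rfl).symm
    · intro ha
      exact commutatorElement_eq_one_iff_mul_comm.mpr (Subgroup.mem_center_iff.mp ha t).symm
  have hR : f.range = commutator S := by
    apply le_antisymm
    · rintro _ ⟨a, rfl⟩
      exact Subgroup.commutator_mem_commutator (Subgroup.mem_top _) (Subgroup.mem_top _)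
    · have hRA : f.range ≤ A := by rintro _ ⟨a, rfl⟩; exact hmem a
      have hn : f.range.Normal := by
        rw [← Subgroup.normalizer_eq_top_iff, eq_top_iff, ← htop]
        refine sup_le ?_ (Subgroup.zpowers_le.mpr ?_)
        · intro b hb
          rw [Subgroup.mem_normalizer_iff]
          intro x
          constructor
          · intro hx
            rw [setLike_mul_comm hb (hRA hx), mul_inv_cancel_right]
            exact hx
          · intro hx
            have h1 := setLike_mul_comm (hRA hx) hb
            have : x = b * x * b⁻¹ := by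
              apply mul_left_cancel (a := b)
              calc b * x = b * x * b⁻¹ * b := by simp
                _ = b * (b * x * b⁻¹) := h1
            rw [this]; exact hx
        · rw [Subgroup.mem_normalizer_iff_map_conj_eq]
          refine Subgroup.eq_of_le_of_card_ge ?_ (le_of_eq
            (Subgroup.card_map_of_injective (MulAut.conj t).injective).symm)
          rintro _ ⟨_, ⟨a, rfl⟩, rfl⟩
          exact ⟨⟨t * a * t⁻¹, hA.conj_mem _ a.2 t⟩, by
            simp [f, commutatorElement_def, mul_assoc]⟩
      have hAt : A ≤ (Subgroup.centralizer {QuotientGroup.mk' f.range t}).comap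
          (QuotientGroup.mk' f.range) := by
        intro a ha
        rw [Subgroup.mem_comap, Subgroup.mem_centralizer_iff]
        simp only [Set.mem_singleton_iff, forall_eq]
        refine (commutatorElement_eq_one_iff_mul_comm.mp ?_).symm
        rw [← map_commutatorElement, QuotientGroup.mk'_apply, QuotientGroup.eq_one_iff]
        exact ⟨⟨a, ha⟩, rfl⟩
      have habel : ∀ x y : S, ⁅x, y⁆ ∈ f.range := by
        have key : (⊤ : Subgroup (S ⧸ f.range)) ≤ Subgroup.center (S ⧸ f.range) := by
          have hc : ∀ z : S ⧸ f.range, z ∈ A.map (QuotientGroup.mk' f.range) ∨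
              z ∈ Subgroup.zpowers (QuotientGroup.mk' f.range t) → z ∈ Subgroup.center _ := by
            intro z hz
            rw [Subgroup.mem_center_iff]
            intro g
            have hgtop : g ∈ Subgroup.centralizer {z} := by
              have : (⊤ : Subgroup (S ⧸ f.range)) ≤ Subgroup.centralizer {z} := by
                rw [← Subgroup.map_top_of_surjective _ (QuotientGroup.mk'_surjective f.range),
                  ← htop, Subgroup.map_sup, MonoidHom.map_zpowers]
                refine sup_le ?_ (Subgroup.zpowers_le.mpr ?_)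
                · rintro _ ⟨a, ha, rfl⟩
                  rw [Subgroup.mem_centralizer_iff]
                  simp only [Set.mem_singleton_iff, forall_eq]
                  rcases hz with ⟨b, hb, rfl⟩ | hz
                  · rw [← map_mul, ← map_mul, setLike_mul_comm hb ha]
                  · obtain ⟨i, rfl⟩ := Subgroup.mem_zpowers_iff.mp hz
                    exact (Commute.zpow_left
                      (Subgroup.mem_centralizer_iff.mp (hAt ha) _ rfl) i).eq
                · rw [Subgroup.mem_centralizer_iff]
                  simp only [Set.mem_singleton_iff, forall_eq]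
                  rcases hz with ⟨b, hb, rfl⟩ | hz
                  · exact (Subgroup.mem_centralizer_iff.mp (hAt hb) _ rfl).symm
                  · obtain ⟨i, rfl⟩ := Subgroup.mem_zpowers_iff.mp hz
                    exact (Commute.zpow_self _ i).eq
              exact this (Subgroup.mem_top g)
            exact (Subgroup.mem_centralizer_iff.mp hgtop z rfl).symm
          rw [← Subgroup.map_top_of_surjective _ (QuotientGroup.mk'_surjective f.range), ← htop,
            Subgroup.map_sup, MonoidHom.map_zpowers]
          exact sup_le (fun z hz => hc z (Or.inl hz)) (fun z hz => hc z (Or.inr hz))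
        intro x y
        rw [← QuotientGroup.eq_one_iff, ← QuotientGroup.mk'_apply, map_commutatorElement,
          commutatorElement_eq_one_iff_mul_comm]
        exact Subgroup.mem_center_iff.mp (key (Subgroup.mem_top _)) _
      rw [commutator_def, Subgroup.commutator_le]
      exact fun x _ y _ => habel x y
  have hidx := Subgroup.index_ker f
  rw [hker, hR] at hidx
  rw [← Subgroup.relIndex_mul_index (center_le_of_abelian_index hna h), h, Subgroup.relIndex, hidx,
    mul_comm]

/-- A group of order `p²` and exponent `p` has exactly `p + 1` subgroups of order `p`. -/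
theorem card_subgroups_order_p {V : Type*} [Group V] [Finite V] (hV : Nat.card V = p ^ 2)
    (hexp : ∀ v : V, v ^ p = 1) : Nat.card {B : Subgroup V // Nat.card B = p} = p + 1 := by
  classical
  have := Fintype.ofFinite {B : Subgroup V // Nat.card B = p}
  have hp := (Fact.out : p.Prime)
  have hord : ∀ v : V, v ≠ 1 → orderOf v = p := fun v hv =>
    orderOf_eq_prime (hexp v) hv
  let g : {v : V // v ≠ 1} → {B : Subgroup V // Nat.card B = p} :=
    fun v => ⟨Subgroup.zpowers v.1, by rw [Nat.card_zpowers, hord _ v.2]⟩
  have hfib : ∀ B : {B : Subgroup V // Nat.card B = p}, Nat.card {v // g v = B} = p - 1 := by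
    intro B
    have e : {v // g v = B} ≃ {v : ↥B.1 // v ≠ 1} :=
      { toFun := fun v => ⟨⟨v.1.1, (congrArg Subtype.val v.2).le (Subgroup.mem_zpowers _)⟩,
          fun h => v.1.2 (congrArg Subtype.val h)⟩
        invFun := fun v => ⟨⟨v.1.1, fun h => v.2 (Subtype.ext h)⟩, Subtype.ext
          (Subgroup.eq_of_le_of_card_ge (Subgroup.zpowers_le.mpr v.1.2) (by
            rw [B.2, Nat.card_zpowers, hord _ (fun h => v.2 (Subtype.ext h))]))⟩
        left_inv := fun _ => rfl
        right_inv := fun _ => rfl }
    have := Fintype.ofFinite ↥B.1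
    rw [Nat.card_congr e, Nat.card_eq_fintype_card, Fintype.card_subtype_compl,
      Fintype.card_subtype_eq, ← Nat.card_eq_fintype_card, B.2]
  have h1 : Nat.card {v : V // v ≠ 1} =
      Nat.card {B : Subgroup V // Nat.card B = p} * (p - 1) := by
    rw [← Nat.card_congr (Equiv.sigmaFiberEquiv g), Nat.card_sigma,
      Finset.sum_congr rfl fun B _ => hfib B, Finset.sum_const, smul_eq_mul,
      Nat.card_eq_fintype_card, Finset.card_univ]
  have := Fintype.ofFinite V
  rw [Nat.card_eq_fintype_card (α := {v : V // v ≠ 1}), Fintype.card_subtype_compl,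
    Fintype.card_subtype_eq, ← Nat.card_eq_fintype_card, hV] at h1
  apply Nat.eq_of_mul_eq_mul_right (Nat.sub_pos_of_lt hp.one_lt)
  rw [← h1]
  obtain ⟨q, rfl⟩ : ∃ q, p = q + 1 := ⟨p - 1, (Nat.sub_add_cancel hp.one_le).symm⟩
  rw [Nat.add_sub_cancel]
  apply Nat.sub_eq_of_eq_add
  ring

end Cfsg.Lib.PGroup
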