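import Cfsg.Prelude.Def_OddOrderLocal
import Mathlib.GroupTheory.PGroup
import Mathlib.GroupTheory.Commutator.Basic
import Mathlib.GroupTheory.SpecificGroups.Cyclic
import Mathlib.Analysis.Fourier.ZMod
import Mathlib.Analysis.Fourier.FiniteAbelian.PontryaginDuality

/-!
# Metacyclic p-groups, p odd

For such a group `G` with derived subgroup of order `p ^ n`, a crossed homomorphism
`τ : G → (ZMod (p ^ n)) × (ZMod (p ^ n))` with kernel the centre turns commutation into the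
vanishing of the determinant and centralisers into orthogonal complements.
-/

set_option autoImplicit false

namespace Cfsg.Lib.PGroup.Metacyclic

open Subgroup Finset
open scoped commutatorElement

universe u

/-! ### Geometric sums -/

/-- The sum `1 + r + ... + r ^ (k - 1)`. -/
def geom (r k : ℕ) : ℕ := ∑ i ∈ Finset.range k, r ^ i

theorem geom_zero (r : ℕ) : geom r 0 = 0 := Finset.sum_range_zero _

theorem geom_one (r : ℕ) : geom r 1 = 1 := by simp [geom]

theorem geom_succ (r k : ℕ) : geom r (k + 1) = geom r k + r ^ k := Finset.sum_range_succ _ _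

theorem geom_add (r i k : ℕ) : geom r (i + k) = geom r i + r ^ i * geom r k := by
  unfold geom
  rw [Finset.sum_range_add, Finset.mul_sum]
  simp only [pow_add]

theorem geom_mul (r i k : ℕ) : geom r (i * k) = geom r i * geom (r ^ i) k := by
  induction k with
  | zero => simp [geom_zero]
  | succ k ih => rw [Nat.mul_succ, geom_add, ih, geom_succ, mul_add, ← pow_mul]; ring

theorem mul_geom (r k : ℕ) (hr : 1 ≤ r) : (r - 1) * geom r k + 1 = r ^ k := by
  obtain ⟨t, rfl⟩ : ∃ t, r = t + 1 := ⟨r - 1, by omega⟩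
  induction k with
  | zero => simp [geom_zero]
  | succ k ih =>
    rw [Nat.add_sub_cancel] at ih ⊢
    rw [geom_succ, pow_succ, ← ih]
    ring

variable {p : ℕ} [hp : Fact p.Prime]

theorem geom_modEq {r : ℕ} (hr : r ≡ 1 [MOD p]) (k : ℕ) : geom r k ≡ k [MOD p] := by
  induction k with
  | zero => rw [geom_zero]
  | succ k ih => rw [geom_succ]; exact ih.add (by simpa using hr.pow k)

theorem geom_prime {r : ℕ} (hp2 : p ≠ 2) (hr : r ≡ 1 [MOD p]) :
    ∃ u : ℕ, ¬ p ∣ u ∧ geom r p = p * u := by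
  obtain ⟨u, hu⟩ : p ∣ geom r p := (geom_modEq hr p).dvd_iff dvd_rfl |>.mpr dvd_rfl
  refine ⟨u, fun ⟨v, hv⟩ => ?_, hu⟩
  have key : ((geom r p : ℕ) : ZMod (p ^ 2)) = (p : ZMod (p ^ 2)) := by
    obtain ⟨t, ht⟩ : (p : ZMod (p ^ 2)) ∣ ((r : ZMod (p ^ 2)) - 1) := by
      obtain ⟨c, hc⟩ := (Nat.modEq_iff_dvd.mp hr.symm : (p : ℤ) ∣ (r : ℤ) - 1)
      refine ⟨((c : ℤ) : ZMod (p ^ 2)), ?_⟩
      have := congrArg (Int.cast : ℤ → ZMod (p ^ 2)) hc
      push_cast at this
      exact this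
    have hsq : (p : ZMod (p ^ 2)) * p = 0 := by
      rw [← Nat.cast_mul, ← sq]; exact ZMod.natCast_self _
    have hpow : ∀ i : ℕ, (r : ZMod (p ^ 2)) ^ i = 1 + (i : ZMod (p ^ 2)) * ((p : ZMod (p ^ 2)) * t) := by
      intro i
      induction i with
      | zero => simp
      | succ i ih =>
        rw [pow_succ (r : ZMod (p ^ 2)) i, ih, sub_eq_iff_eq_add.mp ht]
        push_cast
        linear_combination ((i : ZMod (p ^ 2)) * t * t) * hsq
    obtain ⟨w, hw⟩ : p ∣ ∑ i ∈ Finset.range p, i := by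
      refine ((Nat.coprime_primes hp.out Nat.prime_two).mpr hp2).dvd_of_dvd_mul_right ?_
      rw [Finset.sum_range_id_mul_two]; exact dvd_mul_right _ _
    unfold geom
    push_cast
    rw [Finset.sum_congr rfl fun i _ => hpow i, Finset.sum_add_distrib, ← Finset.sum_mul, ← Nat.cast_sum, hw]
    simp only [Finset.sum_const, Finset.card_range, nsmul_eq_mul, mul_one, Nat.cast_mul]
    linear_combination ((w : ZMod (p ^ 2)) * t) * hsq
  rw [hu, hv, ← mul_assoc, ← sq, Nat.cast_mul, ZMod.natCast_self, zero_mul] at key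
  have h2 : p ^ 2 ∣ p := (ZMod.natCast_eq_zero_iff p _).mp key.symm
  have h3 : p ^ 2 ≤ p ^ 1 := by simpa using Nat.le_of_dvd hp.out.pos h2
  exact absurd (Nat.pow_le_pow_iff_right hp.out.one_lt |>.mp h3) (by norm_num)

theorem geom_prime_pow (hp2 : p ≠ 2) : ∀ (e : ℕ) {r : ℕ}, r ≡ 1 [MOD p] → ∀ k, ¬ p ∣ k →
    ∃ u : ℕ, ¬ p ∣ u ∧ geom r (p ^ e * k) = p ^ e * u := by
  intro e
  induction e with
  | zero =>
    intro r hr k hk
    exact ⟨geom r k, fun h => hk ((geom_modEq hr k).dvd_iff dvd_rfl |>.mp h), by simp⟩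
  | succ e ih =>
    intro r hr k hk
    obtain ⟨u, hu, hu'⟩ := geom_prime hp2 hr
    obtain ⟨v, hv, hv'⟩ := ih (r := r ^ p) (by simpa using hr.pow p) k hk
    refine ⟨u * v, fun h => (hp.out.dvd_mul.mp h).elim hu hv, ?_⟩
    rw [pow_succ', mul_assoc, geom_mul, hu', hv']
    ring

theorem dvd_geom_iff (hp2 : p ≠ 2) {r : ℕ} (hr : r ≡ 1 [MOD p]) (n k : ℕ) :
    p ^ n ∣ geom r k ↔ p ^ n ∣ k := by
  rcases Nat.eq_zero_or_pos k with rfl | hk
  · simp [geom_zero]
  obtain ⟨e, k', hk', rfl⟩ := Nat.exists_eq_pow_mul_and_not_dvd hk.ne' p hp.out.ne_one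
  obtain ⟨u, hu, hu'⟩ := geom_prime_pow hp2 e hr k' hk'
  rw [hu', ((hp.out.coprime_iff_not_dvd.mpr hu).pow_left n).dvd_mul_right,
    ((hp.out.coprime_iff_not_dvd.mpr hk').pow_left n).dvd_mul_right]

/-! ### Presentations -/

/-- A presentation of a metacyclic `p`-group with derived subgroup of order `p ^ n`. -/
structure Pres (p : ℕ) (G : Type u) [Group G] where
  /-- generator of the normal cyclic subgroup -/
  a : G
  /-- lift of a generator of the quotient -/
  b : G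
  /-- exponent of the action -/
  r : ℕ
  /-- logarithm of the order of the derived subgroup -/
  n : ℕ
  one_le : 1 ≤ r
  modEq : r ≡ 1 [MOD p]
  conj : b * a * b⁻¹ = a ^ r
  gen : ∀ g : G, ∃ j i : ℕ, g = a ^ j * b ^ i
  order : orderOf (a ^ (r - 1)) = p ^ n
  card_commutator : Nat.card (commutator G) = p ^ n
  /-- logarithm of the index of the normal cyclic subgroup -/
  q : ℕ
  /-- exponent with `b ^ (p ^ q) = a ^ t` -/
  t : ℕ
  pow_q : b ^ p ^ q = a ^ t
  mem_a : ∀ i : ℕ, b ^ i ∈ zpowers a → p ^ q ∣ i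
  card_eq : Nat.card G = orderOf a * p ^ q

variable {G : Type u} [Group G]

theorem conj_pow_base {a b : G} {r : ℕ} (h : b * a * b⁻¹ = a ^ r) (i j : ℕ) :
    b ^ i * a ^ j = a ^ (r ^ i * j) * b ^ i := by
  induction i with
  | zero => simp
  | succ i ih =>
    have h1 : ∀ l : ℕ, b * a ^ l = a ^ (r * l) * b := fun l => by
      rw [← mul_inv_eq_iff_eq_mul, ← conj_pow, h, ← pow_mul]
    rw [pow_succ', mul_assoc, ih, ← mul_assoc, h1, mul_assoc]
    congr 2
    ring

theorem comm_formula {a b : G} {r : ℕ} (hr1 : 1 ≤ r) (h : b * a * b⁻¹ = a ^ r) (j i l k : ℕ) :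
    a ^ j * b ^ i * (a ^ l * b ^ k) * (a ^ l * b ^ k * (a ^ j * b ^ i))⁻¹ =
      (a ^ (r - 1)) ^ (geom r i * l) * ((a ^ (r - 1)) ^ (geom r k * j))⁻¹ := by
  have e : ∀ j i l k : ℕ, a ^ j * b ^ i * (a ^ l * b ^ k) =
      a ^ (j + l) * (a ^ (r - 1)) ^ (geom r i * l) * b ^ (i + k) := by
    intro j i l k
    rw [mul_assoc, ← mul_assoc (b ^ i), conj_pow_base h, mul_assoc, ← pow_add b, ← mul_assoc, ← pow_mul,
      ← pow_add, ← pow_add, ← mul_geom r i hr1]
    congr 2
    ring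
  rw [e, e, add_comm l j, add_comm k i, mul_inv_rev, mul_inv_rev]
  have hc : Commute (a ^ (j + l)) ((a ^ (r - 1)) ^ (geom r i * l) * ((a ^ (r - 1)) ^ (geom r k * j))⁻¹) :=
    ((Commute.refl a).pow_pow _ _ |>.pow_right _).mul_right
      (((Commute.refl a).pow_pow _ _ |>.pow_right _).inv_right)
  rw [← mul_assoc, mul_inv_cancel_right, ← mul_assoc, mul_assoc (a ^ (j + l)), hc.eq, mul_inv_cancel_right]

theorem nonempty_pres [Finite G] (hp2 : p ≠ 2) (hG : IsPGroup p G) (hmc : Cfsg.IsMetacyclic G) :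
    Nonempty (Pres p G) := by
  classical
  obtain ⟨N, hN, hNc, hQc⟩ := hmc
  obtain ⟨⟨a, haN⟩, ha⟩ := hNc.exists_generator
  obtain ⟨bb, hbb⟩ := hQc.exists_generator
  obtain ⟨b, rfl⟩ := QuotientGroup.mk'_surjective N bb
  have hNa : N = zpowers a := by
    refine le_antisymm (fun x hx => ?_) (zpowers_le.mpr haN)
    obtain ⟨i, hi⟩ := mem_zpowers_iff.mp (ha ⟨x, hx⟩)
    exact mem_zpowers_iff.mpr ⟨i, congrArg Subtype.val hi⟩
  have hpow : ∀ x ∈ N, ∃ j : ℕ, a ^ j = x := fun x hx => by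
    obtain ⟨j, -, hj⟩ := (isOfFinOrder_of_finite a).mem_zpowers_iff_mem_range_orderOf.mp (hNa ▸ hx) |>
      Finset.mem_image.mp
    exact ⟨j, hj⟩
  obtain ⟨r₀, hr₀⟩ := hpow _ (hN.conj_mem a haN b)
  set r := r₀ + orderOf a with hr
  have hconj : b * a * b⁻¹ = a ^ r := by rw [hr, pow_add, pow_orderOf_eq_one, mul_one, hr₀]
  have hr1 : 1 ≤ r := by have := orderOf_pos a; omega
  obtain ⟨q, hq⟩ := (IsPGroup.iff_orderOf.mp (hG.to_quotient N)) (QuotientGroup.mk' N b)
  obtain ⟨t, ht⟩ := hpow (b ^ p ^ q) (by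
    rw [← QuotientGroup.eq_one_iff, QuotientGroup.mk_pow, ← hq]; exact pow_orderOf_eq_one _)
  have hgen : ∀ g : G, ∃ j i : ℕ, g = a ^ j * b ^ i := fun g => by
    obtain ⟨i, -, hi⟩ := (isOfFinOrder_of_finite (QuotientGroup.mk' N b)).mem_zpowers_iff_mem_range_orderOf.mp
      (hbb (QuotientGroup.mk' N g)) |> Finset.mem_image.mp
    have : g * (b ^ i)⁻¹ ∈ N := by
      rw [← QuotientGroup.eq_one_iff, QuotientGroup.mk_mul, QuotientGroup.mk_inv, QuotientGroup.mk_pow]
      exact mul_inv_eq_one.mpr hi.symm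
    obtain ⟨j, hj⟩ := hpow _ this
    exact ⟨j, i, by rw [hj, inv_mul_cancel_right]⟩
  obtain ⟨m, hm⟩ := (IsPGroup.iff_orderOf.mp hG) a
  have hmod : r ≡ 1 [MOD p] ∨ m = 0 := by
    rcases Nat.eq_zero_or_pos m with h | h
    · exact Or.inr h
    left
    obtain ⟨k, hk⟩ := (IsPGroup.iff_orderOf.mp hG) b
    have h1 : a ^ (r ^ p ^ k * 1) = a ^ 1 := by
      have := conj_pow_base hconj (p ^ k) 1
      rw [← hk, pow_orderOf_eq_one, one_mul, mul_one] at this
      rw [← hk]
      exact this.symm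
    have h2 : r ^ p ^ k ≡ 1 [MOD p] :=
      ((by simpa using pow_eq_pow_iff_modEq.mp h1 : r ^ p ^ k ≡ 1 [MOD orderOf a])).of_dvd
        (hm ▸ dvd_pow_self p h.ne')
    rw [← ZMod.natCast_eq_natCast_iff] at h2 ⊢
    rwa [Nat.cast_pow, ZMod.pow_card_pow] at h2
  -- if `a = 1`, replace `r` by `1`
  obtain ⟨r', hr'1, hr'p, hr'⟩ : ∃ r', 1 ≤ r' ∧ r' ≡ 1 [MOD p] ∧ b * a * b⁻¹ = a ^ r' := by
    rcases hmod with h | h
    · exact ⟨r, hr1, h, hconj⟩
    · rw [h, pow_zero, orderOf_eq_one_iff] at hm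
      exact ⟨1, le_rfl, rfl, by simp [hm]⟩
  set w := a ^ (r' - 1) with hw
  obtain ⟨n, hn⟩ := (IsPGroup.iff_orderOf.mp hG) w
  have hwc : w = ⁅b, a⁆ := by
    rw [commutatorElement_def, hr', hw, eq_mul_inv_iff_mul_eq, ← pow_succ, Nat.sub_add_cancel hr'1]
  have hcomm : commutator G = zpowers w := by
    refine le_antisymm ?_ (zpowers_le.mpr (hwc ▸ commutator_mem_commutator (mem_top b) (mem_top a)))
    rw [_root_.commutator_def, commutator_le]
    intro x _ y _
    obtain ⟨j, i, rfl⟩ := hgen x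
    obtain ⟨l, k, rfl⟩ := hgen y
    have h1 : ⁅a ^ j * b ^ i, a ^ l * b ^ k⁆ =
        (a ^ j * b ^ i * (a ^ l * b ^ k)) * (a ^ l * b ^ k * (a ^ j * b ^ i))⁻¹ := by
      simp [commutatorElement_def, mul_assoc]
    rw [h1, comm_formula hr'1 hr', ← hw]
    exact mul_mem (pow_mem (mem_zpowers w) _) (inv_mem (pow_mem (mem_zpowers w) _))
  have hidx : N.index = p ^ q := by
    rw [index_eq_card, ← orderOf_eq_card_of_forall_mem_zpowers hbb, hq]
  refine ⟨⟨a, b, r', n, hr'1, hr'p, hr', hgen, hn, by rw [hcomm, Nat.card_zpowers, hn], q, t, ht.symm, ?_, ?_⟩⟩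
  · intro i hi
    rw [← hq]
    exact orderOf_dvd_of_pow_eq_one (by
      rw [← map_pow]; exact (QuotientGroup.eq_one_iff _).mpr (hNa ▸ hi))
  · rw [← N.card_mul_index, hidx, hNa, Nat.card_zpowers]

namespace Pres

variable (P : Pres p G)

theorem pow_mul_pow (i j : ℕ) : P.b ^ i * P.a ^ j = P.a ^ (P.r ^ i * j) * P.b ^ i :=
  conj_pow_base P.conj i j

/-- The element generating the derived subgroup. -/
def w : G := P.a ^ (P.r - 1)

theorem mul_eq (j i l k : ℕ) : P.a ^ j * P.b ^ i * (P.a ^ l * P.b ^ k) =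
    P.a ^ (j + l) * P.w ^ (geom P.r i * l) * P.b ^ (i + k) := by
  rw [mul_assoc, ← mul_assoc (P.b ^ i), P.pow_mul_pow, mul_assoc, ← pow_add P.b, ← mul_assoc, w, ← pow_mul,
    ← pow_add, ← pow_add, ← mul_geom P.r i P.one_le]
  congr 2
  ring

theorem pow_eq (j i k : ℕ) :
    (P.a ^ j * P.b ^ i) ^ k = P.a ^ (j * geom (P.r ^ i) k) * P.b ^ (i * k) := by
  induction k with
  | zero => simp [geom_zero]
  | succ k ih =>
    rw [pow_succ, ih, geom_succ, mul_assoc, ← mul_assoc (P.b ^ (i * k)), P.pow_mul_pow, mul_assoc,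
      ← pow_add P.b, ← mul_assoc, ← pow_add, ← pow_mul, Nat.mul_succ]
    congr 2
    ring

/-- The target ring. -/
abbrev R : Type := ZMod (p ^ P.n)

/-- The target of `τ`. -/
abbrev V : Type := ZMod (p ^ P.n) × ZMod (p ^ P.n)

instance : NeZero (p ^ P.n) := ⟨pow_ne_zero _ hp.out.ne_zero⟩

theorem w_pow_eq_iff (x y : ℕ) : P.w ^ x = P.w ^ y ↔ ((x : ℕ) : P.R) = (y : P.R) := by
  rw [pow_eq_pow_iff_modEq, ZMod.natCast_eq_natCast_iff]
  unfold w
  rw [P.order]

/-- The representation chosen for an element. -/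
noncomputable def rep (g : G) : ℕ × ℕ := ((P.gen g).choose, (P.gen g).choose_spec.choose)

theorem rep_spec (g : G) : g = P.a ^ (P.rep g).1 * P.b ^ (P.rep g).2 :=
  (P.gen g).choose_spec.choose_spec

/-- The crossed homomorphism. -/
noncomputable def tau (g : G) : P.V := (((P.rep g).1 : P.R), (geom P.r (P.rep g).2 : P.R))

theorem commute_base (j i l k : ℕ) :
    Commute (P.a ^ j * P.b ^ i) (P.a ^ l * P.b ^ k) ↔
      ((geom P.r i * l : ℕ) : P.R) = ((geom P.r k * j : ℕ) : P.R) := by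
  rw [← P.w_pow_eq_iff]
  unfold Commute SemiconjBy
  rw [P.mul_eq, P.mul_eq, add_comm l j, add_comm k i, mul_left_inj, mul_right_inj]

theorem tau_base (j i : ℕ) : P.tau (P.a ^ j * P.b ^ i) = ((j : P.R), (geom P.r i : P.R)) := by
  set g := P.a ^ j * P.b ^ i with hg
  obtain ⟨j', i', hrep⟩ : ∃ j' i', P.rep g = (j', i') := ⟨_, _, rfl⟩
  have h := P.rep_spec g
  unfold tau
  rw [hrep] at h ⊢
  have h1 : P.a ^ j * P.b ^ i = P.a ^ j' * P.b ^ i' := h
  have key : ∀ l k : ℕ, P.w ^ (geom P.r i * l) * (P.w ^ (geom P.r k * j))⁻¹ =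
      P.w ^ (geom P.r i' * l) * (P.w ^ (geom P.r k * j'))⁻¹ := fun l k => by
    unfold w
    rw [← comm_formula P.one_le P.conj, ← comm_formula P.one_le P.conj, h1]
  have e1 : P.w ^ geom P.r i = P.w ^ geom P.r i' := by simpa [geom_zero] using key 1 0
  have e2 : P.w ^ j = P.w ^ j' := by simpa [geom_one] using key 0 1
  rw [P.w_pow_eq_iff] at e1 e2
  rw [e1, e2]

theorem tau_a : P.tau P.a = (1, 0) := by
  have := P.tau_base 1 0
  simpa [geom_zero] using this

theorem tau_b : P.tau P.b = (0, 1) := by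
  have := P.tau_base 0 1
  simpa [geom_one] using this

theorem tau_one : P.tau 1 = 0 := by
  have := P.tau_base 0 0
  rw [pow_zero, pow_zero, one_mul] at this
  simpa [geom_zero, Prod.ext_iff] using this

/-- The determinant. -/
def det (u v : P.V) : P.R := u.1 * v.2 - u.2 * v.1

/-- The twist of the crossed homomorphism. -/
noncomputable def cc (g : G) : P.R := ((P.r ^ (P.rep g).2 : ℕ) : P.R)

theorem tau_mul (g h : G) : P.tau (g * h) = P.tau g + P.cc g • P.tau h := by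
  obtain ⟨j, i, hji⟩ : ∃ j i, P.rep g = (j, i) := ⟨_, _, rfl⟩
  obtain ⟨l, k, hlk⟩ : ∃ l k, P.rep h = (l, k) := ⟨_, _, rfl⟩
  have hg := P.rep_spec g
  have hh := P.rep_spec h
  rw [hji] at hg
  rw [hlk] at hh
  have e : g * h = P.a ^ (j + P.r ^ i * l) * P.b ^ (i + k) := by
    rw [hg, hh, mul_assoc, ← mul_assoc (P.b ^ i), P.pow_mul_pow, mul_assoc, ← pow_add P.b, ← mul_assoc, ← pow_add]
  have hcc : P.cc g = ((P.r ^ i : ℕ) : P.R) := by unfold cc; rw [hji]
  rw [e, P.tau_base, hcc, show P.tau g = ((j : P.R), (geom P.r i : P.R)) by unfold tau; rw [hji],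
    show P.tau h = ((l : P.R), (geom P.r k : P.R)) by unfold tau; rw [hlk], geom_add]
  ext <;> simp

theorem commute_iff (g h : G) : Commute g h ↔ P.det (P.tau g) (P.tau h) = 0 := by
  conv_lhs => rw [P.rep_spec g, P.rep_spec h]
  rw [P.commute_base]
  unfold det tau
  push_cast
  rw [sub_eq_zero]
  constructor <;> intro e <;> linear_combination -e

theorem isUnit_cc (g : G) : IsUnit (P.cc g) := by
  unfold cc
  rw [ZMod.isUnit_iff_coprime]
  refine Nat.Coprime.pow _ _ ?_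
  refine Nat.Coprime.symm (hp.out.coprime_iff_not_dvd.mpr fun h => ?_)
  exact hp.out.not_dvd_one ((P.modEq.dvd_iff dvd_rfl).mp h)

theorem tau_pow (g : G) (k : ℕ) :
    P.tau (g ^ k) = ((geom (P.r ^ (P.rep g).2) k : ℕ) : P.R) • P.tau g := by
  induction k with
  | zero => simp [geom_zero, P.tau_one]
  | succ k ih =>
    rw [pow_succ', P.tau_mul, ih, smul_smul, add_comm k 1, geom_add, geom_one, pow_one]
    unfold cc
    push_cast
    rw [add_smul, one_smul]

theorem exists_geom_eq (hp2 : p ≠ 2) {s : ℕ} (hs : s ≡ 1 [MOD p]) (x : P.R) :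
    ∃ k : ℕ, ((geom s k : ℕ) : P.R) = x := by
  let f : P.R → P.R := fun y => ((geom s y.val : ℕ) : P.R)
  have hf : Function.Injective f := by
    have key : ∀ y z : P.R, y.val ≤ z.val → f y = f z → y = z := by
      intro y z hle he
      obtain ⟨c, hc⟩ := Nat.exists_eq_add_of_le hle
      have he' : ((geom s y.val : ℕ) : P.R) = ((geom s z.val : ℕ) : P.R) := he
      rw [hc, geom_add, Nat.cast_add, left_eq_add, ZMod.natCast_eq_zero_iff,
        Nat.Coprime.dvd_mul_left, dvd_geom_iff hp2 hs] at he'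
      · have h0 : c = 0 := Nat.eq_zero_of_dvd_of_lt he' (by have := z.val_lt; omega)
        exact ZMod.val_injective _ (by omega)
      · refine Nat.Coprime.pow _ _ (hp.out.coprime_iff_not_dvd.mpr fun h => ?_)
        exact hp.out.not_dvd_one ((hs.dvd_iff dvd_rfl).mp h)
    intro y z he
    rcases le_total y.val z.val with h | h
    · exact key y z h he
    · exact (key z y h he.symm).symm
  obtain ⟨y, hy⟩ := Finite.injective_iff_surjective.mp hf x
  exact ⟨y.val, hy⟩

theorem tau_surjective (hp2 : p ≠ 2) : Function.Surjective P.tau := by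
  intro v
  obtain ⟨k, hk⟩ := P.exists_geom_eq hp2 P.modEq v.2
  exact ⟨P.a ^ v.1.val * P.b ^ k, by rw [P.tau_base, ZMod.natCast_zmod_val, hk]⟩

theorem mem_center_iff' (g : G) : g ∈ center G ↔ P.tau g = 0 := by
  constructor
  · intro hg
    have h1 := (P.commute_iff g P.a).mp (mem_center_iff.mp hg P.a).symm
    have h2 := (P.commute_iff g P.b).mp (mem_center_iff.mp hg P.b).symm
    rw [P.tau_a] at h1
    rw [P.tau_b] at h2
    unfold det at h1 h2
    simp only [mul_zero, mul_one, zero_sub, neg_eq_zero, sub_zero] at h1 h2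
    exact Prod.ext h2 h1
  · intro hg
    refine mem_center_iff.mpr fun h => ((P.commute_iff g h).mpr ?_).symm
    rw [hg]; simp [det]

theorem smul_mem {U : AddSubgroup P.V} (x : P.R) {v : P.V} (hv : v ∈ U) : x • v ∈ U := by
  rw [← ZMod.natCast_zmod_val x, Nat.cast_smul_eq_nsmul]
  exact U.nsmul_mem hv _

theorem smul_tau_mem_image (hp2 : p ≠ 2) (L : Subgroup G) {g : G} (hg : g ∈ L) (x : P.R) :
    x • P.tau g ∈ P.tau '' (L : Set G) := by
  obtain ⟨k, hk⟩ := P.exists_geom_eq hp2 (s := P.r ^ (P.rep g).2) (by simpa using P.modEq.pow _) x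
  exact ⟨g ^ k, pow_mem hg k, by rw [P.tau_pow, hk]⟩

/-- The image of a subgroup. -/
noncomputable def img (hp2 : p ≠ 2) (L : Subgroup G) : AddSubgroup P.V where
  carrier := P.tau '' (L : Set G)
  zero_mem' := ⟨1, L.one_mem, P.tau_one⟩
  add_mem' := by
    rintro _ _ ⟨g, hg, rfl⟩ ⟨h, hh, rfl⟩
    obtain ⟨k, hk, hk'⟩ := P.smul_tau_mem_image hp2 L hh (Ring.inverse (P.cc g))
    exact ⟨g * k, L.mul_mem hg hk, by
      rw [P.tau_mul, hk', smul_smul, Ring.mul_inverse_cancel _ (P.isUnit_cc g), one_smul]⟩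
  neg_mem' := by
    rintro _ ⟨g, hg, rfl⟩
    obtain ⟨k, hk, hk'⟩ := P.smul_tau_mem_image hp2 L hg (-1)
    exact ⟨k, hk, by rw [hk', neg_smul, one_smul]⟩

theorem mem_img {hp2 : p ≠ 2} {L : Subgroup G} {v : P.V} : v ∈ P.img hp2 L ↔ ∃ g ∈ L, P.tau g = v := Iff.rfl

variable [Finite G]

/-- The preimage of a subgroup. -/
noncomputable def pre (U : AddSubgroup P.V) : Subgroup G where
  carrier := {g | P.tau g ∈ U}
  one_mem' := by show P.tau 1 ∈ U; rw [P.tau_one]; exact U.zero_mem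
  mul_mem' := fun {g h} hg hh => by
    show P.tau (g * h) ∈ U
    rw [P.tau_mul]; exact U.add_mem hg (P.smul_mem _ hh)
  inv_mem' := fun {g} hg => by
    show P.tau g⁻¹ ∈ U
    have h1 : g⁻¹ = g ^ (orderOf g - 1) := by
      refine inv_eq_of_mul_eq_one_right ?_
      rw [← pow_succ', Nat.sub_add_cancel (orderOf_pos g), pow_orderOf_eq_one]
    rw [h1, P.tau_pow]; exact P.smul_mem _ hg

theorem mem_pre {U : AddSubgroup P.V} {g : G} : g ∈ P.pre U ↔ P.tau g ∈ U := Iff.rfl

theorem center_le_pre (U : AddSubgroup P.V) : center G ≤ P.pre U := fun g hg => by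
  rw [mem_pre, (P.mem_center_iff' g).mp hg]; exact U.zero_mem

theorem tau_eq_iff (g h : G) : P.tau g = P.tau h ↔ g⁻¹ * h ∈ center G := by
  rw [P.mem_center_iff']
  have := P.tau_mul g (g⁻¹ * h)
  rw [mul_inv_cancel_left] at this
  rw [this, left_eq_add, (P.isUnit_cc g).smul_eq_zero]

theorem card_eq_mul (hp2 : p ≠ 2) (L : Subgroup G) :
    Nat.card L = Nat.card (L ⊓ center G : Subgroup G) * Nat.card (P.img hp2 L) := by
  rw [← card_mul_index ((center G).subgroupOf L), index_eq_card]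
  congr 1
  · exact Nat.card_congr
      { toFun := fun x => ⟨((x : L) : G), (x : L).2, x.2⟩
        invFun := fun x => ⟨⟨(x : G), x.2.1⟩, x.2.2⟩
        left_inv := fun x => rfl
        right_inv := fun x => rfl }
  refine Nat.card_congr (Equiv.ofBijective
    (Quotient.lift (fun g : L => (⟨P.tau g, g, g.2, rfl⟩ : P.img hp2 L)) fun g h e => ?_) ⟨?_, ?_⟩)
  · have he := QuotientGroup.leftRel_apply.mp e
    exact Subtype.ext ((P.tau_eq_iff (g : G) (h : G)).mpr he)
  · intro x y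
    refine Quotient.inductionOn₂ x y fun g h e => ?_
    exact Quotient.sound (QuotientGroup.leftRel_apply.mpr ((P.tau_eq_iff _ _).mp (congrArg Subtype.val e)))
  · rintro ⟨_, g, hg, rfl⟩
    exact ⟨Quotient.mk'' ⟨g, hg⟩, rfl⟩

theorem card_of_center_le (hp2 : p ≠ 2) {L : Subgroup G} (h : center G ≤ L) :
    Nat.card L = Nat.card (center G) * Nat.card (P.img hp2 L) := by
  rw [P.card_eq_mul hp2 L, inf_eq_right.mpr h]

theorem img_pre (hp2 : p ≠ 2) (U : AddSubgroup P.V) : P.img hp2 (P.pre U) = U := by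
  ext v
  refine ⟨fun ⟨g, hg, e⟩ => e ▸ hg, fun hv => ?_⟩
  obtain ⟨g, rfl⟩ := P.tau_surjective hp2 v
  exact ⟨g, hv, rfl⟩

theorem pre_img (hp2 : p ≠ 2) {L : Subgroup G} (h : center G ≤ L) : P.pre (P.img hp2 L) = L := by
  ext g
  refine ⟨fun ⟨k, hk, e⟩ => ?_, fun hg => ⟨g, hg, rfl⟩⟩
  have := L.mul_mem hk (h ((P.tau_eq_iff k g).mp e))
  rwa [mul_inv_cancel_left] at this

/-! ### Orthogonal complements -/

/-- The orthogonal complement for the determinant. -/
def perp (U : AddSubgroup P.V) : AddSubgroup P.V where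
  carrier := {v | ∀ u ∈ U, P.det u v = 0}
  zero_mem' := fun u _ => by simp [det]
  add_mem' := fun {x y} hx hy u hu => by
    have h1 := hx u hu
    have h2 := hy u hu
    unfold det at *
    simp only [Prod.fst_add, Prod.snd_add]
    linear_combination h1 + h2
  neg_mem' := fun {x} hx u hu => by
    have h1 := hx u hu
    unfold det at *
    simp only [Prod.fst_neg, Prod.snd_neg]
    linear_combination -h1

theorem mem_perp {U : AddSubgroup P.V} {v : P.V} : v ∈ P.perp U ↔ ∀ u ∈ U, P.det u v = 0 := Iff.rfl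

theorem det_add_left (u v x : P.V) : P.det (u + v) x = P.det u x + P.det v x := by
  unfold det; simp only [Prod.fst_add, Prod.snd_add]; ring

theorem det_smul_left (c : P.R) (u x : P.V) : P.det (c • u) x = c * P.det u x := by
  unfold det; simp only [Prod.smul_fst, Prod.smul_snd, smul_eq_mul]; ring

/-- The character attached to a vector. -/
noncomputable def chi (v : P.V) : AddChar P.V ℂ where
  toFun x := ZMod.stdAddChar (P.det x v)
  map_zero_eq_one' := by simp [det]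
  map_add_eq_mul' x y := by rw [det_add_left, AddChar.map_add_eq_mul]

theorem card_perp (U : AddSubgroup P.V) : Nat.card U * Nat.card (P.perp U) = p ^ P.n * p ^ P.n := by
  have hinj : Function.Injective P.chi := by
    intro x y hxy
    have h : ∀ u : P.V, P.det u x = P.det u y := fun u =>
      ZMod.injective_stdAddChar (DFunLike.congr_fun hxy u)
    have h1 := h (1, 0)
    have h2 := h (0, 1)
    unfold det at h1 h2
    simp at h1 h2
    exact Prod.ext h2 h1
  have hbij : Function.Bijective P.chi := by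
    refine (Nat.bijective_iff_injective_and_card _).mpr ⟨hinj, ?_⟩
    rw [Nat.card_eq_fintype_card, Nat.card_eq_fintype_card]
    exact (AddChar.card_eq (α := P.V)).symm
  have e1 : P.perp U ≃ {χ : AddChar P.V ℂ // ∀ u ∈ U, χ u = 1} :=
    Equiv.subtypeEquiv (Equiv.ofBijective _ hbij) fun v => by
      show (∀ u ∈ U, P.det u v = 0) ↔ ∀ u ∈ U, ZMod.stdAddChar (P.det u v) = 1
      refine forall₂_congr fun u _ => ?_
      rw [← AddChar.map_zero_eq_one (ZMod.stdAddChar (N := p ^ P.n))]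
      exact ZMod.injective_stdAddChar.eq_iff.symm
  have e2 : AddChar (P.V ⧸ U) ℂ ≃ {χ : AddChar P.V ℂ // ∀ u ∈ U, χ u = 1} :=
    { toFun := fun χ => ⟨χ.compAddMonoidHom (QuotientAddGroup.mk' U), fun u hu => by
        show χ ((u : P.V) : P.V ⧸ U) = 1
        rw [(QuotientAddGroup.eq_zero_iff u).mpr hu, AddChar.map_zero_eq_one]⟩
      invFun := fun χ => AddChar.toAddMonoidHomEquiv.symm
        (QuotientAddGroup.lift U (AddChar.toAddMonoidHomEquiv χ.1) fun u hu => χ.2 u hu)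
      left_inv := fun χ => by
        ext x
        obtain ⟨x, rfl⟩ := QuotientAddGroup.mk_surjective x
        rfl
      right_inv := fun χ => by ext x; rfl }
  have : Fintype (P.V ⧸ U) := Fintype.ofFinite _
  rw [Nat.card_congr (e1.trans e2.symm), Nat.card_eq_fintype_card (α := AddChar (P.V ⧸ U) ℂ),
    AddChar.card_eq, ← Nat.card_eq_fintype_card, mul_comm, ← AddSubgroup.card_eq_card_quotient_mul_card_addSubgroup]
  simp

theorem perp_perp (U : AddSubgroup P.V) : P.perp (P.perp U) = U := by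
  have hle : U ≤ P.perp (P.perp U) := fun u hu v hv => by
    have h1 := hv u hu
    unfold det at *
    linear_combination -h1
  symm
  refine SetLike.coe_injective (Set.eq_of_subset_of_ncard_le hle ?_ (Set.toFinite _))
  rw [← Nat.card_coe_set_eq, ← Nat.card_coe_set_eq]
  refine (Nat.eq_of_mul_eq_mul_left (Nat.card_pos (α := P.perp U)) ?_).le
  exact ((P.card_perp (P.perp U)).trans (P.card_perp U).symm).trans (mul_comm _ _)

theorem img_centralizer (hp2 : p ≠ 2) (L : Subgroup G) :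
    P.img hp2 (centralizer (L : Set G)) = P.perp (P.img hp2 L) := by
  ext v
  constructor
  · rintro ⟨g, hg, rfl⟩ _ ⟨h, hh, rfl⟩
    exact (P.commute_iff h g).mp (hg h hh)
  · intro hv
    obtain ⟨g, rfl⟩ := P.tau_surjective hp2 v
    exact ⟨g, fun h hh => ((P.commute_iff h g).mpr (hv _ ⟨h, hh, rfl⟩)).eq, rfl⟩

theorem center_le_centralizer' (L : Subgroup G) : center G ≤ centralizer (L : Set G) :=
  fun z hz h _ => mem_center_iff.mp hz h

theorem card_centralizer_mul (hp2 : p ≠ 2) (L : Subgroup G) :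
    Nat.card (centralizer (L : Set G)) * Nat.card (P.img hp2 L) = Nat.card (center G) * (p ^ P.n * p ^ P.n) := by
  rw [P.card_of_center_le hp2 (center_le_centralizer' L), P.img_centralizer, mul_assoc,
    mul_comm (Nat.card (P.perp _)), P.card_perp]

theorem card_group (hp2 : p ≠ 2) : Nat.card G = Nat.card (center G) * (p ^ P.n * p ^ P.n) := by
  have h : P.img hp2 ⊤ = ⊤ := eq_top_iff.mpr fun v _ => by
    obtain ⟨g, rfl⟩ := P.tau_surjective hp2 v
    exact ⟨g, mem_top g, rfl⟩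
  have := P.card_of_center_le hp2 (L := ⊤) le_top
  rw [h, card_top] at this
  rw [this]
  simp

theorem index_commutator (hp2 : p ≠ 2) : (commutator G).index = Nat.card (center G) * p ^ P.n := by
  refine Nat.eq_of_mul_eq_mul_left (pow_pos hp.out.pos P.n) ?_
  rw [← P.card_commutator, card_mul_index, P.card_group hp2, P.card_commutator]
  ring

/-- A subgroup is abelian exactly when its image is totally isotropic. -/
theorem isMulCommutative_iff (hp2 : p ≠ 2) (L : Subgroup G) :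
    IsMulCommutative L ↔ P.img hp2 L ≤ P.perp (P.img hp2 L) := by
  constructor
  · rintro hL _ ⟨g, hg, rfl⟩ _ ⟨h, hh, rfl⟩
    exact (P.commute_iff h g).mp (congrArg Subtype.val (hL.is_comm.comm (⟨h, hh⟩ : L) ⟨g, hg⟩))
  · intro hle
    exact ⟨⟨fun x y => Subtype.ext ((P.commute_iff x y).mpr (hle ⟨y, y.2, rfl⟩ _ ⟨x, x.2, rfl⟩)).eq⟩⟩

theorem card_img_le_of_comm (hp2 : p ≠ 2) {L : Subgroup G} (hL : IsMulCommutative L) :
    Nat.card (P.img hp2 L) ≤ p ^ P.n := by
  have h1 := P.card_perp (P.img hp2 L)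
  have h2 : Nat.card (P.img hp2 L) ≤ Nat.card (P.perp (P.img hp2 L)) :=
    Nat.card_le_card_of_injective _ (Set.inclusion_injective ((P.isMulCommutative_iff hp2 L).mp hL))
  by_contra hlt
  push Not at hlt
  have := Nat.mul_lt_mul_of_lt_of_lt hlt (hlt.trans_le h2)
  omega

theorem exists_det_ne (hp2 : p ≠ 2) {L : Subgroup G} (hL : ¬ IsMulCommutative L) :
    ∃ u ∈ P.img hp2 L, ∃ v ∈ P.img hp2 L, P.det u v ≠ 0 := by
  rw [P.isMulCommutative_iff hp2] at hL
  obtain ⟨v, hv, hv'⟩ := SetLike.not_le_iff_exists.mp hL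
  rw [mem_perp] at hv'
  push Not at hv'
  obtain ⟨u, hu, hne⟩ := hv'
  exact ⟨u, hu, v, hv, hne⟩

include P in
/-- A nonabelian subgroup contains the centre. -/
theorem center_le_of_not_comm (hp2 : p ≠ 2) (hG : IsPGroup p G) {L : Subgroup G} (hL : ¬ IsMulCommutative L) :
    center G ≤ L := by
  obtain ⟨u, hu, v, hv, hd⟩ := P.exists_det_ne hp2 hL
  obtain ⟨s, k, hk, hsk⟩ := Nat.exists_eq_pow_mul_and_not_dvd
    (fun e => hd ((ZMod.val_eq_zero _).mp e) : (P.det u v).val ≠ 0) p hp.out.ne_one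
  have hsn : s < P.n := by
    by_contra hle
    refine hd ?_
    rw [← ZMod.natCast_zmod_val (P.det u v), ZMod.natCast_eq_zero_iff, hsk]
    exact dvd_mul_of_dvd_left (pow_dvd_pow p (not_lt.mp hle)) k
  -- `p ^ s` times everything lies in the image
  have hall : ∀ x : P.V, ((p ^ s : ℕ) : P.R) • x ∈ P.img hp2 L := by
    intro x
    have hk' : IsUnit ((k : ℕ) : P.R) := by
      rw [ZMod.isUnit_iff_coprime]
      exact ((hp.out.coprime_iff_not_dvd.mpr hk).pow_left _).symm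
    have hd' : P.det u v = ((p ^ s : ℕ) : P.R) * (k : P.R) := by
      rw [← Nat.cast_mul, ← hsk, ZMod.natCast_zmod_val]
    have h1 : P.det u v • x = P.det x v • u + P.det u x • v := by
      unfold det
      ext <;> simp <;> ring
    have h2 : ((p ^ s : ℕ) : P.R) • x = Ring.inverse (k : P.R) • (P.det x v • u + P.det u x • v) := by
      rw [← h1, hd', smul_smul, mul_comm _ (k : P.R), ← mul_assoc, Ring.inverse_mul_cancel _ hk', one_mul]
    rw [h2]
    exact P.smul_mem _ (add_mem (P.smul_mem _ hu) (P.smul_mem _ hv))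
  -- powers
  set c := p ^ P.n with hc
  have hcen : ∀ g : G, g ^ c ∈ center G := fun g => by
    rw [P.mem_center_iff', P.tau_pow, hc,
      (ZMod.natCast_eq_zero_iff _ _).mpr ((dvd_geom_iff hp2 (by simpa using P.modEq.pow _) _ _).mpr dvd_rfl),
      zero_smul]
  have hstep : ∀ g : G, ∃ l ∈ L, ∃ z ∈ center G, g ^ c = l * z ^ p := by
    intro g
    have h1 : P.tau (g ^ p ^ s) ∈ P.img hp2 L := by
      rw [P.tau_pow]
      obtain ⟨e, he⟩ : p ^ s ∣ geom (P.r ^ (P.rep g).2) (p ^ s) :=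
        (dvd_geom_iff hp2 (by simpa using P.modEq.pow _) _ _).mpr dvd_rfl
      rw [he, Nat.cast_mul, mul_smul]
      exact hall _
    obtain ⟨l, hl, hle⟩ := h1
    have hz : l⁻¹ * g ^ p ^ s ∈ center G := (P.tau_eq_iff _ _).mp hle
    refine ⟨l ^ p ^ (P.n - s), pow_mem hl _, (l⁻¹ * g ^ p ^ s) ^ p ^ (P.n - s - 1), pow_mem hz _, ?_⟩
    have hg : g ^ p ^ s = l * (l⁻¹ * g ^ p ^ s) := (mul_inv_cancel_left _ _).symm
    have e1 : p ^ s * p ^ (P.n - s) = c := by rw [← pow_add, hc, Nat.add_sub_cancel' hsn.le]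
    rw [← pow_mul (l⁻¹ * g ^ p ^ s), ← pow_succ, Nat.sub_add_cancel (by omega : 1 ≤ P.n - s), ← e1, pow_mul]
    conv_lhs => rw [hg]
    exact (show Commute l (l⁻¹ * g ^ p ^ s) from mem_center_iff.mp hz l).mul_pow _
  -- the two generators of the centre
  have hZ : ∀ z ∈ center G, ∃ x y : G, z = x ^ c * y ^ c := by
    intro z hz
    obtain ⟨j, i, rfl⟩ := P.gen z
    rw [P.mem_center_iff', P.tau_base, Prod.mk_eq_zero, ZMod.natCast_eq_zero_iff, ZMod.natCast_eq_zero_iff,
      dvd_geom_iff hp2 P.modEq] at hz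
    obtain ⟨⟨j', rfl⟩, ⟨i', rfl⟩⟩ := hz
    exact ⟨P.a ^ j', P.b ^ i', by rw [← pow_mul, ← pow_mul, mul_comm j', mul_comm i']⟩
  have hone : ∀ z ∈ center G, ∃ l ∈ L, ∃ z' ∈ center G, z = l * z' ^ p := by
    intro z hz
    obtain ⟨x, y, rfl⟩ := hZ z hz
    obtain ⟨l₁, hl₁, z₁, hz₁, e1⟩ := hstep x
    obtain ⟨l₂, hl₂, z₂, hz₂, e2⟩ := hstep y
    refine ⟨l₁ * l₂, mul_mem hl₁ hl₂, z₁ * z₂, mul_mem hz₁ hz₂, ?_⟩
    rw [e1, e2, (show Commute z₁ z₂ from mem_center_iff.mp hz₂ z₁).mul_pow]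
    have := mem_center_iff.mp (pow_mem hz₁ p) l₂
    calc l₁ * z₁ ^ p * (l₂ * z₂ ^ p) = l₁ * (z₁ ^ p * l₂) * z₂ ^ p := by group
      _ = l₁ * (l₂ * z₁ ^ p) * z₂ ^ p := by rw [this]
      _ = _ := by group
  have hiter : ∀ e : ℕ, ∀ z ∈ center G, ∃ l ∈ L, ∃ z' ∈ center G, z = l * z' ^ p ^ e := by
    intro e
    induction e with
    | zero => exact fun z hz => ⟨1, L.one_mem, z, hz, by simp⟩
    | succ e ih =>
      intro z hz
      obtain ⟨l, hl, z', hz', rfl⟩ := ih z hz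
      obtain ⟨l', hl', z'', hz'', rfl⟩ := hone z' hz'
      refine ⟨l * l' ^ p ^ e, mul_mem hl (pow_mem hl' _), z'', hz'', ?_⟩
      rw [(show Commute l' (z'' ^ p) from mem_center_iff.mp (pow_mem hz'' p) l').mul_pow, ← pow_mul, pow_succ',
        mul_assoc]
  intro z hz
  obtain ⟨k', hk'⟩ := IsPGroup.iff_card.mp hG
  obtain ⟨l, hl, z', -, rfl⟩ := hiter k' z hz
  rw [← hk', pow_card_eq_one', mul_one]
  exact hl

/-- The orthogonal complement of a non-isotropic subgroup is isotropic. -/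
theorem perp_isotropic {U : AddSubgroup P.V} {u v : P.V} (hu : u ∈ U) (hv : v ∈ U) (hd : P.det u v ≠ 0) :
    P.perp U ≤ P.perp (P.perp U) := by
  intro y hy x hx
  have h1 := hx u hu
  have h2 := hx v hv
  have h3 := hy u hu
  have h4 := hy v hv
  unfold det at *
  obtain ⟨a1, ha1⟩ := ZMod.intCast_surjective u.1
  obtain ⟨a2, ha2⟩ := ZMod.intCast_surjective u.2
  obtain ⟨b1, hb1⟩ := ZMod.intCast_surjective v.1
  obtain ⟨b2, hb2⟩ := ZMod.intCast_surjective v.2
  obtain ⟨c1, hc1⟩ := ZMod.intCast_surjective x.1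
  obtain ⟨c2, hc2⟩ := ZMod.intCast_surjective x.2
  obtain ⟨d1, hd1⟩ := ZMod.intCast_surjective y.1
  obtain ⟨d2, hd2⟩ := ZMod.intCast_surjective y.2
  simp only [← ha1, ← ha2, ← hb1, ← hb2, ← hc1, ← hc2, ← hd1, ← hd2, ← Int.cast_mul, ← Int.cast_sub,
    ZMod.intCast_zmod_eq_zero_iff_dvd] at h1 h2 h3 h4 hd ⊢
  obtain ⟨k1, hk1⟩ := h1
  obtain ⟨k2, hk2⟩ := h2
  obtain ⟨k3, hk3⟩ := h3
  obtain ⟨k4, hk4⟩ := h4
  set D := a1 * b2 - a2 * b1
  set E := c1 * d2 - c2 * d1
  have hDE : ((p ^ P.n : ℕ) : ℤ) * ((p ^ P.n : ℕ) : ℤ) ∣ D * E := by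
    refine ⟨k1 * k4 - k3 * k2, ?_⟩
    have : D * E = (a1 * c2 - a2 * c1) * (b1 * d2 - b2 * d1) - (a1 * d2 - a2 * d1) * (b1 * c2 - b2 * c1) := by
      simp only [D, E]; ring
    rw [this, hk1, hk2, hk3, hk4]; ring
  by_contra hE
  rw [← Int.natCast_mul, Int.natCast_dvd, Int.natAbs_mul] at hDE
  simp only [ne_eq, ZMod.intCast_zmod_eq_zero_iff_dvd, Int.natCast_dvd] at hd hE
  have hD0 : D.natAbs ≠ 0 := fun e => hd (e ▸ dvd_zero _)
  have hE0 : E.natAbs ≠ 0 := fun e => hE (e ▸ dvd_zero _)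
  rw [← pow_add, hp.out.pow_dvd_iff_le_factorization (mul_ne_zero hD0 hE0),
    Nat.factorization_mul hD0 hE0, Finsupp.add_apply] at hDE
  rw [hp.out.pow_dvd_iff_le_factorization hD0] at hd
  rw [hp.out.pow_dvd_iff_le_factorization hE0] at hE
  omega

theorem perp_le_of_not_comm (hp2 : p ≠ 2) {L : Subgroup G} (hL : ¬ IsMulCommutative L) :
    P.perp (P.img hp2 L) ≤ P.img hp2 L := by
  obtain ⟨u, hu, v, hv, hd⟩ := P.exists_det_ne hp2 hL
  refine (P.perp_isotropic hu hv hd).trans (le_of_eq ?_)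
  exact P.perp_perp _

theorem lt_card_img_of_not_comm (hp2 : p ≠ 2) {L : Subgroup G} (hL : ¬ IsMulCommutative L) :
    p ^ P.n < Nat.card (P.img hp2 L) := by
  have hle := P.perp_le_of_not_comm hp2 hL
  have hne : P.perp (P.img hp2 L) ≠ P.img hp2 L := fun e => hL ((P.isMulCommutative_iff hp2 L).mpr e.ge)
  have hlt : Nat.card (P.perp (P.img hp2 L)) < Nat.card (P.img hp2 L) := by
    rw [← SetLike.coe_sort_coe, ← SetLike.coe_sort_coe, Nat.card_coe_set_eq, Nat.card_coe_set_eq]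
    exact Set.ncard_lt_ncard (SetLike.coe_ssubset_coe.mpr (lt_of_le_of_ne hle hne)) (Set.toFinite _)
  by_contra hcon
  push Not at hcon
  have := Nat.mul_lt_mul_of_le_of_lt hcon (hlt.trans_le hcon) (pow_pos hp.out.pos P.n)
  rw [P.card_perp] at this
  omega

include P in
/-- A subgroup is abelian exactly when its order is at most the index of the derived subgroup. -/
theorem comm_iff_card_le (hp2 : p ≠ 2) (hG : IsPGroup p G) (L : Subgroup G) :
    IsMulCommutative L ↔ Nat.card L ≤ (commutator G).index := by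
  rw [P.index_commutator hp2]
  constructor
  · intro hL
    rw [P.card_eq_mul hp2 L]
    exact Nat.mul_le_mul (Nat.card_le_card_of_injective _ (Subgroup.inclusion_injective inf_le_right))
      (P.card_img_le_of_comm hp2 hL)
  · intro hle
    by_contra hL
    rw [P.card_of_center_le hp2 (P.center_le_of_not_comm hp2 hG hL)] at hle
    exact absurd (Nat.le_of_mul_le_mul_left hle Nat.card_pos) (P.lt_card_img_of_not_comm hp2 hL).not_ge

/-- The subgroup of `p ^ s` multiples. -/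
def mulSub (s : ℕ) : AddSubgroup P.V := (DistribSMul.toAddMonoidHom P.V ((p ^ s : ℕ) : P.R)).range

theorem mem_mulSub {s : ℕ} {v : P.V} : v ∈ P.mulSub s ↔ ∃ x : P.V, ((p ^ s : ℕ) : P.R) • x = v := Iff.rfl

/-- The subgroup generated by the `p ^ s`-th powers is the preimage of the `p ^ s` multiples. -/
theorem closure_pow (hp2 : p ≠ 2) {s : ℕ} (hs : s ≤ P.n) :
    Subgroup.closure {x : G | ∃ y : G, y ^ p ^ s = x} = P.pre (P.mulSub s) := by
  have hmod : ∀ g : G, P.r ^ (P.rep g).2 ≡ 1 [MOD p] := fun g => by simpa using P.modEq.pow _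
  set C := Subgroup.closure {x : G | ∃ y : G, y ^ p ^ s = x} with hC
  have hle : C ≤ P.pre (P.mulSub s) := by
    rw [hC, Subgroup.closure_le]
    rintro _ ⟨y, rfl⟩
    show P.tau (y ^ p ^ s) ∈ P.mulSub s
    obtain ⟨e, he⟩ : p ^ s ∣ geom (P.r ^ (P.rep y).2) (p ^ s) := (dvd_geom_iff hp2 (hmod y) _ _).mpr dvd_rfl
    rw [P.tau_pow, he, Nat.cast_mul, mul_smul]
    exact ⟨_, rfl⟩
  refine le_antisymm hle ?_
  have hZ : center G ≤ C := by
    intro z hz
    obtain ⟨j, i, rfl⟩ := P.gen z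
    rw [P.mem_center_iff', P.tau_base, Prod.mk_eq_zero, ZMod.natCast_eq_zero_iff, ZMod.natCast_eq_zero_iff,
      dvd_geom_iff hp2 P.modEq] at hz
    obtain ⟨⟨j', hj⟩, ⟨i', hi⟩⟩ := hz
    obtain ⟨c, hc⟩ := pow_dvd_pow p hs
    refine C.mul_mem (Subgroup.subset_closure ⟨P.a ^ (c * j'), ?_⟩) (Subgroup.subset_closure ⟨P.b ^ (c * i'), ?_⟩)
    · rw [← pow_mul, hj, hc]; congr 1; ring
    · rw [← pow_mul, hi, hc]; congr 1; ring
  rw [← P.pre_img hp2 hZ]
  intro g hg
  rw [mem_pre] at hg ⊢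
  obtain ⟨x, hx⟩ := hg
  rw [← hx]
  show ((p ^ s : ℕ) : P.R) • x ∈ P.img hp2 C
  have key : ∀ y : G, ((p ^ s : ℕ) : P.R) • P.tau y ∈ P.img hp2 C := by
    intro y
    obtain ⟨e, he⟩ : ∃ u : ℕ, ¬ p ∣ u ∧ geom (P.r ^ (P.rep y).2) (p ^ s * 1) = p ^ s * u :=
      geom_prime_pow hp2 s (hmod y) 1 hp.out.not_dvd_one
    rw [mul_one] at he
    have h1 : P.tau (y ^ p ^ s) ∈ P.img hp2 C := ⟨_, Subgroup.subset_closure ⟨y, rfl⟩, rfl⟩
    rw [P.tau_pow, he.2, Nat.cast_mul, mul_comm, mul_smul] at h1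
    have h2 := P.smul_mem (Ring.inverse (e : P.R)) h1
    rwa [smul_smul, Ring.inverse_mul_cancel _ (by
      rw [ZMod.isUnit_iff_coprime]; exact ((hp.out.coprime_iff_not_dvd.mpr he.1).pow_left _).symm), one_smul] at h2
  obtain ⟨y, rfl⟩ := P.tau_surjective hp2 x
  exact key y

/-- The class size is the order of the image. -/
theorem centralizer_index (hp2 : p ≠ 2) (g : G) :
    (centralizer ({g} : Set G)).index = addOrderOf (P.tau g) := by
  have himg : P.img hp2 (zpowers g) = AddSubgroup.zmultiples (P.tau g) := by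
    refine le_antisymm ?_ (AddSubgroup.zmultiples_le.mpr ⟨g, mem_zpowers g, rfl⟩)
    rintro _ ⟨x, hx, rfl⟩
    obtain ⟨k, rfl⟩ := (isOfFinOrder_of_finite g).mem_powers_iff_mem_zpowers.mpr hx
    rw [P.tau_pow, Nat.cast_smul_eq_nsmul]
    exact AddSubgroup.nsmul_mem_zmultiples _ _
  have h1 := P.card_centralizer_mul hp2 (zpowers g)
  rw [himg, Nat.card_zmultiples, ← P.card_group hp2, zpowers_eq_closure, centralizer_closure] at h1
  refine Nat.eq_of_mul_eq_mul_left Nat.card_pos (?_ : Nat.card (centralizer ({g} : Set G)) * _ = _ * _)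
  rw [card_mul_index, h1]

end Pres

end Cfsg.Lib.PGroup.Metacyclic
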