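import Cfsg.Agent.Lib.PGroup.OddOmega
import Cfsg.Agent.Lib.PGroup.Metacyclic
import Mathlib.GroupTheory.SemidirectProduct
import Mathlib.GroupTheory.FixedPointFree

/-!
# The subgroup generated by the elements of order `p` of a metacyclic group; automorphisms trivial on it
-/

set_option autoImplicit false

namespace Cfsg.Lib.PGroup

open Subgroup
open scoped commutatorElement

variable {p : ℕ} [Fact p.Prime] {P : Type*} [Group P] [Finite P]

/-- For odd `p` a `p'`-automorphism fixing every element of order `p` is trivial. -/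
theorem mulAut_eq_one_of_fix_omega (hp2 : p ≠ 2) (hP : IsPGroup p P) {γ : MulAut P}
    (hco : (orderOf γ).Coprime p) (h : ∀ x : P, x ^ p = 1 → γ x = x) : γ = 1 := by
  haveI : Finite (MulAut P) := Finite.of_injective (fun a : MulAut P => (a : P → P))
    DFunLike.coe_injective
  haveI : Finite (P ⋊[MonoidHom.id (MulAut P)] MulAut P) :=
    Finite.of_equiv _ SemidirectProduct.equivProd.symm
  let ι : P →* P ⋊[MonoidHom.id (MulAut P)] MulAut P := SemidirectProduct.inl
  let r : P ⋊[MonoidHom.id (MulAut P)] MulAut P := SemidirectProduct.inr γ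
  have hr : orderOf r = orderOf γ :=
    orderOf_injective (SemidirectProduct.inr : MulAut P →* P ⋊[MonoidHom.id (MulAut P)] MulAut P)
      SemidirectProduct.inr_injective γ
  have hconj : ∀ x : P, r * ι x * r⁻¹ = ι (γ x) := fun x => by
    show SemidirectProduct.inr γ * SemidirectProduct.inl x * (SemidirectProduct.inr γ)⁻¹ = _
    rw [← map_inv]
    exact (SemidirectProduct.inl_aut (φ := MonoidHom.id (MulAut P)) γ x).symm
  have hn : r ∈ normalizer (ι.range : Set (P ⋊[MonoidHom.id (MulAut P)] MulAut P)) := by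
    refine mem_normalizer_fintype fun y hy => ?_
    obtain ⟨x, rfl⟩ := hy
    exact ⟨γ x, (hconj x).symm⟩
  obtain ⟨k, hk⟩ := IsPGroup.iff_card.mp hP
  have hc : zpowers r ≤ centralizer (ι.range : Set (P ⋊[MonoidHom.id (MulAut P)] MulAut P)) := by
    refine le_centralizer_of_centralizes_omega hp2 (zpowers r) ι.range
      (hP.of_surjective ι.rangeRestrict ι.rangeRestrict_surjective) (zpowers_le.mpr hn) ?_ ?_
    · rw [Nat.card_zpowers, hr,
        ← Nat.card_congr (MonoidHom.ofInjective
          (SemidirectProduct.inl_injective : Function.Injective ι)).toEquiv, hk]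
      exact hco.pow_right k
    · rintro _ ⟨x, rfl⟩ hx a ha
      have hxp : x ^ p = 1 := SemidirectProduct.inl_injective
        ((map_pow ι x p).trans (hx.trans (map_one ι).symm))
      have h1 : Commute r (ι x) := by
        show r * ι x = ι x * r
        rw [← mul_inv_eq_iff_eq_mul, hconj, h x hxp]
      obtain ⟨i, rfl⟩ := mem_zpowers_iff.mp ha
      exact (h1.zpow_left i).eq
  refine MulEquiv.ext fun x => SemidirectProduct.inl_injective
    (φ := MonoidHom.id (MulAut P)) ?_
  show ι (γ x) = ι x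
  rw [← hconj, mul_inv_eq_iff_eq_mul]
  exact ((mem_centralizer_iff.mp (hc (mem_zpowers r))) (ι x) ⟨x, rfl⟩).symm

theorem mem_zpowers_of_cyclic {C : Type*} [Group C] [Finite C] [IsCyclic C] {q : ℕ} (hq : q.Prime)
    {z y : C} (hz : orderOf z = q) (hy : y ^ q = 1) : y ∈ zpowers z := by
  classical
  haveI := Fintype.ofFinite C
  have h1 : Finset.univ.filter (fun c : C => c ∈ zpowers z) =
      Finset.univ.filter (fun c : C => c ^ q = 1) := by
    refine Finset.eq_of_subset_of_card_le (fun c hc => ?_) ?_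
    · simp only [Finset.mem_filter, Finset.mem_univ, true_and] at hc ⊢
      obtain ⟨i, rfl⟩ := mem_zpowers_iff.mp hc
      rw [← zpow_natCast, ← zpow_mul, mul_comm, zpow_mul, zpow_natCast, ← hz, pow_orderOf_eq_one,
        one_zpow]
    · refine (IsCyclic.card_pow_eq_one_le hq.pos).trans ?_
      rw [← Fintype.card_subtype, ← Nat.card_eq_fintype_card, Nat.card_zpowers, hz]
  have h2 : y ∈ Finset.univ.filter (fun c : C => c ∈ zpowers z) := by
    rw [h1]; simp [hy]
  simpa using h2

/-- In a metacyclic `p`-group, `p` odd, the elements of order dividing `p` form an elementary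
abelian subgroup of order at most `p ^ 2`. -/
theorem exists_omega_of_metacyclic (hp2 : p ≠ 2) (hP : IsPGroup p P) (hm : Cfsg.IsMetacyclic P) :
    ∃ E : Subgroup P, (∀ x, x ∈ E ↔ x ^ p = 1) ∧ (∀ x ∈ E, ∀ y ∈ E, x * y = y * x) ∧
      Nat.card E ≤ p ^ 2 := by
  obtain ⟨N, hN, hNc, hQc⟩ := hm
  have hp := (Fact.out : p.Prime)
  obtain ⟨⟨a, haN⟩, ha⟩ := hNc.exists_generator
  have hNa : N = zpowers a := by
    refine le_antisymm (fun x hx => ?_) (zpowers_le.mpr haN)
    obtain ⟨i, hi⟩ := mem_zpowers_iff.mp (ha ⟨x, hx⟩)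
    exact mem_zpowers_iff.mpr ⟨i, congrArg Subtype.val hi⟩
  -- the elements of order `p` in `N` are central
  have hZ : ∀ z ∈ N, z ^ p = 1 → ∀ g : P, g * z = z * g := by
    intro z hz hzp g
    by_cases hz1 : z = 1
    · simp [hz1]
    have hcard : Nat.card (zpowers z) = p := by
      rw [Nat.card_zpowers]; exact orderOf_eq_prime hzp hz1
    haveI hn : (zpowers z).Normal := by
      refine ⟨fun w hw b => ?_⟩
      have hb : b * z * b⁻¹ ∈ zpowers z := by
        have h1 : b * z * b⁻¹ ∈ N := hN.conj_mem z hz b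
        have h2 : (⟨b * z * b⁻¹, h1⟩ : N) ∈ zpowers (⟨z, hz⟩ : N) :=
          mem_zpowers_of_cyclic hp ((Subgroup.orderOf_mk z hz).trans (orderOf_eq_prime hzp hz1))
            (Subtype.ext (by simp [conj_pow, hzp]))
        obtain ⟨i, hi⟩ := mem_zpowers_iff.mp h2
        exact mem_zpowers_iff.mpr ⟨i, congrArg Subtype.val hi⟩
      obtain ⟨i, rfl⟩ := mem_zpowers_iff.mp hw
      rw [← conj_zpow]
      exact zpow_mem hb i
    exact mem_center_iff.mp (le_center_of_card_eq_prime hP hcard (mem_zpowers z)) g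
  let E : Set P := {x | x ^ p = 1}
  by_cases hall : ∀ x ∈ E, x ∈ N
  · refine ⟨⟨⟨⟨E, fun {x y} hx hy => ?_⟩, one_pow p⟩, fun {x} hx => ?_⟩, fun x => Iff.rfl, ?_, ?_⟩
    · show (x * y) ^ p = 1
      rw [Commute.mul_pow (hZ y (hall y hy) hy x), (hx : x ^ p = 1), (hy : y ^ p = 1), mul_one]
    · show x⁻¹ ^ p = 1
      rw [inv_pow, (hx : x ^ p = 1), inv_one]
    · intro x hx y hy
      exact hZ y (hall y hy) hy x
    · refine le_trans ?_ (Nat.le_self_pow two_ne_zero p)
      classical
      haveI := Fintype.ofFinite N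
      haveI := Fintype.ofFinite P
      refine le_trans ?_ (hNc.card_pow_eq_one_le hp.pos)
      rw [← Fintype.card_subtype, ← Nat.card_eq_fintype_card]
      refine Nat.card_le_card_of_injective
        (fun x : {x : P | x ^ p = 1} => (⟨⟨x, hall x x.2⟩, Subtype.ext x.2⟩ : {y : N // y ^ p = 1}))
        fun x y h => Subtype.ext (congrArg (fun w => (w.1 : P)) h)
  push_neg at hall
  obtain ⟨x, hx, hxN⟩ := hall
  have hx : x ^ p = 1 := hx
  obtain ⟨m, hm⟩ := (IsPGroup.iff_orderOf.mp hP) a
  -- `x` acts on `N` as a power map congruent to `1`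
  obtain ⟨r₀, hr₀⟩ : ∃ j : ℕ, a ^ j = x * a * x⁻¹ := by
    have h1 : x * a * x⁻¹ ∈ zpowers a := hNa ▸ hN.conj_mem a haN x
    exact (isOfFinOrder_of_finite a).mem_powers_iff_mem_zpowers.mpr h1
  set r := r₀ + orderOf a with hr
  have hconj : x * a * x⁻¹ = a ^ r := by rw [hr, pow_add, pow_orderOf_eq_one, mul_one, hr₀]
  have hr1 : 1 ≤ r := by have := orderOf_pos a; omega
  have hz : (a ^ (r - 1)) ^ p = 1 := by
    rcases Nat.eq_zero_or_pos m with rfl | hm0
    · rw [pow_zero, orderOf_eq_one_iff] at hm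
      simp [hm]
    have h1 : r ^ p ≡ 1 [MOD orderOf a] := by
      have h2 := Metacyclic.conj_pow_base hconj p 1
      rw [hx, one_mul, mul_one, pow_one, mul_one] at h2
      exact (pow_eq_pow_iff_modEq.mp (h2.symm.trans (pow_one a).symm))
    have hrp : r ≡ 1 [MOD p] := by
      have h2 := h1.of_dvd (hm ▸ dvd_pow_self p hm0.ne')
      rw [← ZMod.natCast_eq_natCast_iff] at h2 ⊢
      rwa [Nat.cast_pow, ZMod.pow_card] at h2
    obtain ⟨u, hu, hu'⟩ := Metacyclic.geom_prime hp2 hrp
    have h3 : orderOf a ∣ (r - 1) * p * u := by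
      have h4 := (Nat.modEq_iff_dvd' (Nat.one_le_pow _ _ hr1)).mp h1.symm
      have h5 := Metacyclic.mul_geom r p hr1
      have h6 : r ^ p - 1 = (r - 1) * p * u := by
        rw [← h5, Nat.add_sub_cancel, hu', mul_assoc]
      rwa [h6] at h4
    have h4 : orderOf a ∣ (r - 1) * p :=
      Nat.Coprime.dvd_of_dvd_mul_right
        (hm.symm ▸ (hp.coprime_iff_not_dvd.mpr hu).pow_left m) h3
    rw [← pow_mul]
    exact orderOf_dvd_iff_pow_eq_one.mp h4
  -- the subgroup `K` generated by `N` and `x`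
  set K := N ⊔ zpowers x with hK
  have hEK : ∀ y : P, y ^ p = 1 → ∃ i j : ℕ, y = a ^ i * x ^ j := by
    intro y hy
    have hmem : (QuotientGroup.mk' N) y ∈ zpowers (QuotientGroup.mk' N x) := by
      by_cases hy1 : (QuotientGroup.mk' N) y = 1
      · rw [hy1]; exact one_mem _
      have hx1 : (QuotientGroup.mk' N) x ≠ 1 := fun h => hxN ((QuotientGroup.eq_one_iff x).mp h)
      exact mem_zpowers_of_cyclic hp (orderOf_eq_prime (by rw [← map_pow, hx, map_one]) hx1)
        (by rw [← map_pow, hy, map_one])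
    obtain ⟨j, hj⟩ := (isOfFinOrder_of_finite (QuotientGroup.mk' N x)).mem_powers_iff_mem_zpowers.mpr hmem
    have h1 : y * (x ^ j)⁻¹ ∈ N := by
      refine (QuotientGroup.eq_one_iff _).mp ?_
      show QuotientGroup.mk' N (y * (x ^ j)⁻¹) = 1
      rw [map_mul, map_inv, map_pow]
      exact mul_inv_eq_one.mpr hj.symm
    obtain ⟨i, hi⟩ := (isOfFinOrder_of_finite a).mem_powers_iff_mem_zpowers.mpr (hNa ▸ h1)
    exact ⟨i, j, by rw [show a ^ i = y * (x ^ j)⁻¹ from hi, inv_mul_cancel_right]⟩
  set z := a ^ (r - 1) with hzdef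
  have hzN : z ∈ N := pow_mem haN _
  have hzc : ∀ g : P, g * z = z * g := hZ z hzN hz
  have hxa : x * a = z * a * x := by
    rw [hzdef, ← pow_succ, Nat.sub_add_cancel hr1, ← hconj, inv_mul_cancel_right]
  have hxai : ∀ i : ℕ, x * a ^ i = z ^ i * a ^ i * x := by
    intro i
    induction i with
    | zero => simp
    | succ i ih =>
      have hc1 : a ^ i * z = z * a ^ i := hzc _
      calc x * a ^ (i + 1) = z ^ i * a ^ i * (x * a) := by
            rw [pow_succ, ← mul_assoc, ih, mul_assoc]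
        _ = z ^ i * (a ^ i * z) * a * x := by rw [hxa]; group
        _ = z ^ (i + 1) * a ^ (i + 1) * x := by rw [hc1]; group
  have hswap : ∀ j i : ℕ, x ^ j * a ^ i = z ^ (i * j) * a ^ i * x ^ j := by
    intro j i
    induction j with
    | zero => simp
    | succ j ih =>
      have hc1 : x * z ^ (i * j) = z ^ (i * j) * x :=
        (Commute.pow_right (hzc x) _).eq
      calc x ^ (j + 1) * a ^ i = x * (x ^ j * a ^ i) := by rw [pow_succ', mul_assoc]
        _ = x * z ^ (i * j) * a ^ i * x ^ j := by rw [ih]; group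
        _ = z ^ (i * j) * (x * a ^ i) * x ^ j := by rw [hc1]; group
        _ = z ^ (i * (j + 1)) * a ^ i * x ^ (j + 1) := by
          rw [hxai, mul_add, mul_one, pow_add, pow_succ']; group
  have hpow : ∀ i j n : ℕ,
      (a ^ i * x ^ j) ^ n = z ^ (i * j * n.choose 2) * a ^ (i * n) * x ^ (j * n) := by
    intro i j n
    induction n with
    | zero => simp
    | succ n ih =>
      have hc1 : a ^ (i * n) * z ^ (i * (j * n)) = z ^ (i * (j * n)) * a ^ (i * n) :=
        (Commute.pow_right (hzc (a ^ (i * n))) _).eq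
      calc (a ^ i * x ^ j) ^ (n + 1)
          = z ^ (i * j * n.choose 2) * a ^ (i * n) * (x ^ (j * n) * a ^ i) * x ^ j := by
            rw [pow_succ, ih]; group
        _ = z ^ (i * j * n.choose 2) * (a ^ (i * n) * z ^ (i * (j * n))) * a ^ i *
              (x ^ (j * n) * x ^ j) := by rw [hswap]; group
        _ = z ^ (i * j * (n + 1).choose 2) * a ^ (i * (n + 1)) * x ^ (j * (n + 1)) := by
          rw [hc1, Nat.choose_succ_succ' n 1, Nat.choose_one_right, mul_add (i * j), pow_add,
            mul_add i, mul_one, pow_add a, mul_add j, mul_one, pow_add x, mul_assoc i j n]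
          simp only [show (1 + 1 : ℕ) = 2 from rfl]
          rw [((Commute.refl z).pow_pow (i * (j * n)) (i * j * n.choose 2)).eq]
          group
  -- the elements of order `p` are the products `w * x ^ j` with `w` of order `p` in `N`
  have hchar : ∀ y : P, y ^ p = 1 ↔ ∃ w ∈ N, w ^ p = 1 ∧ ∃ j : ℕ, y = w * x ^ j := by
    intro y
    constructor
    · intro hy
      obtain ⟨i, j, rfl⟩ := hEK y hy
      refine ⟨a ^ i, pow_mem haN i, ?_, j, rfl⟩
      have h1 := hpow i j p
      obtain ⟨k, hk⟩ : p ∣ p.choose 2 :=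
        Nat.Prime.dvd_choose_self hp (by norm_num) (by have := hp.two_le; omega)
      rw [hy, hk, show i * j * (p * k) = p * (i * j * k) by ring, pow_mul z, hz, one_pow, one_mul,
        mul_comm j p, pow_mul x, hx, one_pow, mul_one, pow_mul a] at h1
      exact h1.symm
    · rintro ⟨w, hw, hwp, j, rfl⟩
      rw [Commute.mul_pow (hZ w hw hwp (x ^ j)).symm, hwp, ← pow_mul, mul_comm, pow_mul,
        hx, one_pow, one_mul]
  have hcomm : ∀ u v : P, u ^ p = 1 → v ^ p = 1 → u * v = v * u := by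
    intro u v hu hv
    obtain ⟨w, hw, hwp, j, rfl⟩ := (hchar u).mp hu
    obtain ⟨w', hw', hwp', j', rfl⟩ := (hchar v).mp hv
    have h1 : ∀ g, Commute g w := fun g => hZ w hw hwp g
    have h2 : ∀ g, Commute g w' := fun g => hZ w' hw' hwp' g
    exact (((h2 w).mul_left (h2 _)).mul_right
      ((h1 _).symm.mul_left ((Commute.refl x).pow_pow _ _))).eq
  refine ⟨⟨⟨⟨E, fun {u v} hu hv => ?_⟩, one_pow p⟩, fun {u} hu => ?_⟩, fun u => Iff.rfl,
    fun u hu v hv => hcomm u v hu hv, ?_⟩
  · show (u * v) ^ p = 1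
    rw [Commute.mul_pow (hcomm u v hu hv), (hu : u ^ p = 1), (hv : v ^ p = 1), mul_one]
  · show u⁻¹ ^ p = 1
    rw [inv_pow, (hu : u ^ p = 1), inv_one]
  · classical
    haveI := Fintype.ofFinite N
    have hle : Nat.card {w : N // w ^ p = 1} ≤ p := by
      rw [Nat.card_eq_fintype_card, Fintype.card_subtype]
      exact hNc.card_pow_eq_one_le hp.pos
    let f : {w : N // w ^ p = 1} × Fin p → {u : P | u ^ p = 1} := fun q =>
      ⟨(q.1.1 : P) * x ^ (q.2 : ℕ), (hchar _).mpr
        ⟨_, q.1.1.2, by rw [← SubmonoidClass.coe_pow, q.1.2, OneMemClass.coe_one], _, rfl⟩⟩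
    have hf : Function.Surjective f := by
      rintro ⟨u, hu⟩
      obtain ⟨w, hw, hwp, j, rfl⟩ := (hchar u).mp hu
      refine ⟨(⟨⟨w, hw⟩, Subtype.ext hwp⟩, ⟨j % p, Nat.mod_lt _ hp.pos⟩), Subtype.ext ?_⟩
      show w * x ^ (j % p) = w * x ^ j
      rw [← pow_mod_orderOf x j, orderOf_eq_prime hx (fun h => hxN (h ▸ one_mem N))]
    refine (Nat.card_le_card_of_surjective f hf).trans ?_
    rw [Nat.card_prod, Nat.card_fin, sq]
    exact Nat.mul_le_mul_right _ hle

/-- A `p'`-automorphism of a `p`-group, `p` odd, that inverts all elements of order `p` makes the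
group abelian. -/
theorem commute_of_inverts_omega (hp2 : p ≠ 2) (hP : IsPGroup p P) {γ : MulAut P}
    (h : ∀ x : P, x ^ p = 1 → γ x = x⁻¹) (x y : P) : x * y = y * x := by
  have hp := (Fact.out : p.Prime)
  haveI : Finite (MulAut P) := Finite.of_injective (fun a : MulAut P => (a : P → P))
    DFunLike.coe_injective
  obtain ⟨k, m, hm, hkm⟩ := Nat.exists_eq_pow_mul_and_not_dvd (orderOf_pos γ).ne' p hp.ne_one
  have hpow : ∀ n : ℕ, ∀ u : P, u ^ p = 1 → (γ ^ n) u = if Even n then u else u⁻¹ := by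
    intro n
    induction n with
    | zero => simp
    | succ n ih =>
      intro u hu
      rw [pow_succ, MulAut.mul_apply, h u hu, map_inv, ih u hu]
      by_cases hn : Even n
      · rw [if_pos hn, if_neg (Nat.not_even_iff_odd.mpr hn.add_one)]
      · rw [if_neg hn, if_pos ((Nat.not_even_iff_odd.mp hn).add_one), inv_inv]
  set δ := γ ^ (p ^ k) with hδ
  have hodd : ¬ Even (p ^ k) := Nat.not_even_iff_odd.mpr ((hp.odd_of_ne_two hp2).pow)
  have hord : orderOf δ = m := by
    rw [hδ, orderOf_pow' γ (pow_pos hp.pos k).ne', hkm, Nat.gcd_eq_right (dvd_mul_right _ _),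
      Nat.mul_div_cancel_left _ (pow_pos hp.pos k)]
  have hδ1 : ∀ u : P, u ^ p = 1 → δ u = u⁻¹ := fun u hu => by rw [hδ, hpow _ u hu, if_neg hodd]
  have hsq : δ ^ 2 = 1 := by
    refine mulAut_eq_one_of_fix_omega hp2 hP ?_ fun u hu => ?_
    · exact Nat.Coprime.coprime_dvd_left (hord ▸ orderOf_pow_dvd 2)
        (((hp.coprime_iff_not_dvd).mpr hm).symm)
    · rw [sq, MulAut.mul_apply, hδ1 u hu, map_inv, hδ1 u hu, inv_inv]
  have hfpf : MonoidHom.FixedPointFree δ := by
    intro u hu
    by_contra hu1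
    obtain ⟨n, hn⟩ := IsPGroup.iff_orderOf.mp hP u
    rcases n with _ | n
    · exact hu1 (orderOf_eq_one_iff.mp (by simpa using hn))
    set v := u ^ p ^ n with hv
    have hvp : v ^ p = 1 := by rw [hv, ← pow_mul, ← pow_succ, ← hn, pow_orderOf_eq_one]
    have hv1 : v ≠ 1 := fun hv1 => by
      have h2 := orderOf_dvd_of_pow_eq_one (hv ▸ hv1)
      rw [hn] at h2
      exact absurd ((Nat.pow_dvd_pow_iff_le_right hp.one_lt).mp h2) (by omega)
    have h3 : δ v = v := by rw [hv, map_pow, hu]
    rw [hδ1 v hvp] at h3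
    have h4 : v ^ 2 = 1 := by rw [sq]; exact inv_eq_iff_mul_eq_one.mp h3
    exact hv1 (orderOf_eq_one_iff.mp (Nat.eq_one_of_dvd_coprimes
      (((Nat.coprime_primes hp Nat.prime_two).mpr hp2))
      (orderOf_dvd_of_pow_eq_one hvp) (orderOf_dvd_of_pow_eq_one h4)))
  have hinvol : Function.Involutive δ := fun u => by
    have := DFunLike.congr_fun hsq u
    rwa [sq, MulAut.mul_apply, MulAut.one_apply] at this
  exact (hfpf.commute_all_of_involutive hinvol x y).eq

end Cfsg.Lib.PGroup
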