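import Mathlib.GroupTheory.FreeGroup.Basic
import Mathlib.GroupTheory.Nilpotent
import Mathlib.GroupTheory.QuotientGroup.Basic
import Mathlib.Data.Nat.Choose.Basic
import Mathlib.Data.Finset.Powerset
import Mathlib.Algebra.BigOperators.Group.List.Basic

/-!
# The Hall–Petrescu identity

For elements `a`, `b` of a group, `(ab)^n = a^n b^n ∏ e_j^(n choose j)` where `e_j` lies in the
`j`-th term of the lower central series of the subgroup generated by `a` and `b`.
-/

set_option autoImplicit false

namespace Cfsg.Lib.PGroup.HallPetrescu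

open Subgroup
open scoped commutatorElement

/-- Product of an indicator family over a list. -/
theorem prod_map_ite {M α : Type*} [Monoid M] [DecidableEq α] (l : List α) (hl : l.Nodup)
    (P : α → Prop) [DecidablePred P] (c : M) :
    (l.map fun x => if P x then c else 1).prod = c ^ (l.toFinset.filter P).card := by
  induction l with
  | nil => simp
  | cons x l ih =>
    rw [List.nodup_cons] at hl
    rw [List.map_cons, List.prod_cons, ih hl.2, List.toFinset_cons, Finset.filter_insert]
    by_cases hx : P x
    · have hn : x ∉ l.toFinset.filter P := by simp [hl.1]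
      rw [ite_cond_eq_true _ _ (eq_true hx), if_pos hx, Finset.card_insert_of_notMem hn, pow_succ']
    · rw [if_neg hx, if_neg hx, one_mul]

section Free

variable {k : ℕ}

/-- The endomorphism killing the generators with index `i`. -/
def kill (i : Fin k) : FreeGroup (Fin k × Bool) →* FreeGroup (Fin k × Bool) :=
  FreeGroup.lift fun x => if x.1 = i then 1 else FreeGroup.of x

theorem kill_of (i : Fin k) (x : Fin k × Bool) :
    kill i (FreeGroup.of x) = if x.1 = i then 1 else FreeGroup.of x := by
  simp [kill]

theorem kill_comm (i l : Fin k) (w : FreeGroup (Fin k × Bool)) :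
    kill i (kill l w) = kill l (kill i w) := by
  have : (kill i).comp (kill l) = (kill l).comp (kill i) := by
    refine FreeGroup.ext_hom _ _ fun x => ?_
    by_cases h1 : x.1 = i <;> by_cases h2 : x.1 = l <;>
      simp only [MonoidHom.comp_apply, kill_of, h1, h2, if_true, if_false, map_one] <;>
      simp_all [kill_of]
  exact DFunLike.congr_fun this w

/-- The elements supported on a set of indices. -/
def supp (I : Finset (Fin k)) : Subgroup (FreeGroup (Fin k × Bool)) :=
  Subgroup.closure (FreeGroup.of '' {x | x.1 ∈ I})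

theorem supp_mono {I J : Finset (Fin k)} (h : I ⊆ J) : supp I ≤ supp J :=
  Subgroup.closure_mono (Set.image_mono fun _ hx => h hx)

theorem kill_eq_self {I : Finset (Fin k)} {i : Fin k} (hi : i ∉ I)
    {w : FreeGroup (Fin k × Bool)} (hw : w ∈ supp I) : kill i w = w := by
  refine Subgroup.closure_induction (p := fun w _ => kill i w = w) ?_ (map_one _)
    (fun x y _ _ hx hy => by rw [map_mul, hx, hy]) (fun x _ hx => by rw [map_inv, hx]) hw
  rintro _ ⟨x, hx, rfl⟩
  rw [kill_of, if_neg]
  rintro rfl
  exact hi hx

/-- The iterated difference operator. -/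
def dif : List (Fin k) → FreeGroup (Fin k × Bool) → FreeGroup (Fin k × Bool)
  | [], w => w
  | i :: l, w => dif l w * (kill i (dif l w))⁻¹

theorem kill_dif (i : Fin k) : ∀ (l : List (Fin k)) (w : FreeGroup (Fin k × Bool)),
    kill i (dif l w) = dif l (kill i w)
  | [], w => rfl
  | j :: l, w => by
    simp only [dif, map_mul, map_inv]
    rw [kill_comm i j, kill_dif i l w]

theorem dif_eq_self : ∀ (l : List (Fin k)) (w : FreeGroup (Fin k × Bool)),
    (∀ i, kill i w = 1) → dif l w = w
  | [], _, _ => rfl
  | j :: l, w, h => by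
    simp only [dif]
    rw [dif_eq_self l w h, h j, inv_one, mul_one]

theorem dif_eq_one : ∀ (l : List (Fin k)) (w : FreeGroup (Fin k × Bool)) (i : Fin k),
    i ∈ l → kill i w = w → dif l w = 1
  | [], _, _, h, _ => absurd h List.not_mem_nil
  | j :: l, w, i, hi, hw => by
    simp only [dif]
    rcases List.mem_cons.mp hi with rfl | hi'
    · rw [kill_dif, hw, mul_inv_cancel]
    · rw [dif_eq_one l w i hi' hw, map_one, inv_one, mul_one]

theorem kill_lcs (i : Fin k) {j : ℕ} {w : FreeGroup (Fin k × Bool)}
    (hw : w ∈ (⊤ : Subgroup (FreeGroup (Fin k × Bool))).lowerCentralSeries j) :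
    kill i w ∈ (⊤ : Subgroup (FreeGroup (Fin k × Bool))).lowerCentralSeries j := by
  have h := Subgroup.mem_map_of_mem (kill i) hw
  rw [Subgroup.map_lowerCentralSeries] at h
  exact Subgroup.lowerCentralSeries_mono j le_top h

theorem dif_lcs : ∀ (l : List (Fin k)) {j : ℕ} {w : FreeGroup (Fin k × Bool)},
    w ∈ (⊤ : Subgroup (FreeGroup (Fin k × Bool))).lowerCentralSeries j →
      dif l w ∈ (⊤ : Subgroup (FreeGroup (Fin k × Bool))).lowerCentralSeries j
  | [], _, _, h => h
  | i :: l, _, _, h => mul_mem (dif_lcs l h) (inv_mem (kill_lcs i (dif_lcs l h)))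

theorem mk_commute {G : Type*} [Group G] {j : ℕ} {x : G}
    (hx : x ∈ (⊤ : Subgroup G).lowerCentralSeries j) (y : G) :
    Commute (QuotientGroup.mk' ((⊤ : Subgroup G).lowerCentralSeries (j + 1)) x)
      (QuotientGroup.mk' ((⊤ : Subgroup G).lowerCentralSeries (j + 1)) y) := by
  rw [← commutatorElement_eq_one_iff_commute, ← map_commutatorElement, ← MonoidHom.mem_ker,
    QuotientGroup.ker_mk']
  exact Subgroup.commutator_mem_commutator hx (Subgroup.mem_top y)

theorem swap_mul {G : Type*} [Group G] (A B B' A' : G) (h : Commute (B * B'⁻¹) A'⁻¹) :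
    A * B * (B'⁻¹ * A'⁻¹) = A * A'⁻¹ * (B * B'⁻¹) := by
  rw [← mul_assoc, mul_assoc A B, mul_assoc A, h.eq, ← mul_assoc]

theorem dif_mul_mk : ∀ (l : List (Fin k)) {j : ℕ} {x y : FreeGroup (Fin k × Bool)},
    x ∈ (⊤ : Subgroup (FreeGroup (Fin k × Bool))).lowerCentralSeries j →
    y ∈ (⊤ : Subgroup (FreeGroup (Fin k × Bool))).lowerCentralSeries j →
    QuotientGroup.mk' ((⊤ : Subgroup (FreeGroup (Fin k × Bool))).lowerCentralSeries (j + 1))
        (dif l (x * y)) =
      QuotientGroup.mk' _ (dif l x) * QuotientGroup.mk' _ (dif l y)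
  | [], j, x, y, _, _ => map_mul _ _ _
  | i :: l, j, x, y, hx, hy => by
    have key := dif_mul_mk l hx hy
    have key' := dif_mul_mk l (kill_lcs i hx) (kill_lcs i hy)
    simp only [dif, map_mul, map_inv, kill_dif]
    rw [key, key', mul_inv_rev]
    have c2 := (mk_commute (mul_mem (dif_lcs l hy) (inv_mem (dif_lcs l (kill_lcs i hy))))
      (dif l (kill i x))).inv_right
    rw [map_mul, map_inv] at c2
    exact swap_mul _ _ _ _ c2

/-- The supported elements generate a term of the lower central series modulo the next one. -/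
theorem lcs_le_supported (j : ℕ) :
    (⊤ : Subgroup (FreeGroup (Fin k × Bool))).lowerCentralSeries j ≤
      Subgroup.closure {w | w ∈ (⊤ : Subgroup (FreeGroup (Fin k × Bool))).lowerCentralSeries j ∧
          ∃ I : Finset (Fin k), I.card ≤ j + 1 ∧ w ∈ supp I} ⊔
        (⊤ : Subgroup (FreeGroup (Fin k × Bool))).lowerCentralSeries (j + 1) := by
  induction j with
  | zero =>
    refine le_sup_of_le_left ?_
    rw [Subgroup.lowerCentralSeries_zero, ← FreeGroup.closure_range_of]
    refine Subgroup.closure_mono ?_
    rintro _ ⟨x, rfl⟩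
    exact ⟨Subgroup.subset_closure (Set.mem_range_self x), {x.1}, by simp,
      Subgroup.subset_closure ⟨x, Finset.mem_singleton_self _, rfl⟩⟩
  | succ j ih =>
    set L := fun n => (⊤ : Subgroup (FreeGroup (Fin k × Bool))).lowerCentralSeries n with hL
    set T := Subgroup.closure {w | w ∈ L (j + 1) ∧ ∃ I : Finset (Fin k), I.card ≤ j + 1 + 1 ∧
      w ∈ supp I} ⊔ L (j + 1 + 1) with hT
    have hTle : T ≤ L (j + 1) :=
      sup_le ((Subgroup.closure_le _).mpr fun w hw => hw.1)
        (Subgroup.lowerCentralSeries_antitone _ (Nat.le_succ _))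
    have hTn : ∀ t ∈ T, ∀ g, g * t * g⁻¹ ∈ T := by
      intro t ht g
      have h1 : ⁅t, g⁆ ∈ L (j + 1 + 1) :=
        Subgroup.commutator_mem_commutator (hTle ht) (Subgroup.mem_top g)
      have h2 : g * t * g⁻¹ = ⁅t, g⁆⁻¹ * t := by simp [commutatorElement_def, mul_assoc]
      rw [h2]
      exact mul_mem (inv_mem (le_sup_right (a := Subgroup.closure _) h1)) ht
    show L (j + 1) ≤ T
    refine Subgroup.commutator_le.mpr fun x hx y _ => ?_
    -- reduce in the second variable
    suffices hgen : ∀ z, ∀ x ∈ L j, ⁅x, FreeGroup.of z⁆ ∈ T by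
      have hy' : y ∈ Subgroup.closure (Set.range (FreeGroup.of (α := Fin k × Bool))) := by
        rw [FreeGroup.closure_range_of]; exact Subgroup.mem_top y
      refine Subgroup.closure_induction (p := fun y _ => ⁅x, y⁆ ∈ T) ?_ (by simp) ?_ ?_ hy'
      · rintro _ ⟨z, rfl⟩; exact hgen z x hx
      · intro y y' _ _ hy1 hy2
        have h3 : ⁅x, y * y'⁆ = ⁅x, y⁆ * (y * ⁅x, y'⁆ * y⁻¹) := by
          simp [commutatorElement_def, mul_assoc]
        rw [h3]; exact mul_mem hy1 (hTn _ hy2 _)
      · intro y _ hy1
        have h3 : ⁅x, y⁻¹⁆ = y⁻¹ * ⁅x, y⁆⁻¹ * y⁻¹⁻¹ := by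
          simp [commutatorElement_def, mul_assoc]
        rw [h3]; exact hTn _ (inv_mem hy1) _
    intro z x hx
    have hsup := ih hx
    rw [Subgroup.sup_eq_closure] at hsup
    refine (Subgroup.closure_induction (p := fun x _ => x ∈ L j ∧ ⁅x, FreeGroup.of z⁆ ∈ T)
      ?_ ⟨one_mem _, by simp⟩ ?_ ?_ hsup).2
    · rintro w (hw | hw)
      · refine Subgroup.closure_induction (p := fun x _ => x ∈ L j ∧ ⁅x, FreeGroup.of z⁆ ∈ T)
          ?_ ⟨one_mem _, by simp⟩ ?_ ?_ hw
        · rintro w ⟨hw1, I, hI, hwI⟩
          refine ⟨hw1, le_sup_left (b := L (j + 1 + 1)) (Subgroup.subset_closure ?_)⟩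
          refine ⟨Subgroup.commutator_mem_commutator hw1 (Subgroup.mem_top _), insert z.1 I,
            le_trans (Finset.card_insert_le _ _) (by omega), ?_⟩
          have a1 : w ∈ supp (insert z.1 I) := supp_mono (Finset.subset_insert _ _) hwI
          have a2 : FreeGroup.of z ∈ supp (insert z.1 I) :=
            Subgroup.subset_closure ⟨z, Finset.mem_insert_self _ _, rfl⟩
          rw [commutatorElement_def]
          exact mul_mem (mul_mem (mul_mem a1 a2) (inv_mem a1)) (inv_mem a2)
        · intro a b _ _ ha hb
          refine ⟨mul_mem ha.1 hb.1, ?_⟩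
          have h3 : ⁅a * b, FreeGroup.of z⁆ = a * ⁅b, FreeGroup.of z⁆ * a⁻¹ * ⁅a, FreeGroup.of z⁆ := by
            simp [commutatorElement_def, mul_assoc]
          rw [h3]; exact mul_mem (hTn _ hb.2 _) ha.2
        · intro a _ ha
          refine ⟨inv_mem ha.1, ?_⟩
          have h3 : ⁅a⁻¹, FreeGroup.of z⁆ = a⁻¹ * ⁅a, FreeGroup.of z⁆⁻¹ * a⁻¹⁻¹ := by
            simp [commutatorElement_def, mul_assoc]
          rw [h3]; exact hTn _ (inv_mem ha.2) _
      · exact ⟨Subgroup.lowerCentralSeries_antitone _ (Nat.le_succ _) hw,
          le_sup_right (a := Subgroup.closure _)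
            (Subgroup.commutator_mem_commutator hw (Subgroup.mem_top _))⟩
    · intro a b _ _ ha hb
      refine ⟨mul_mem ha.1 hb.1, ?_⟩
      have h3 : ⁅a * b, FreeGroup.of z⁆ = a * ⁅b, FreeGroup.of z⁆ * a⁻¹ * ⁅a, FreeGroup.of z⁆ := by
        simp [commutatorElement_def, mul_assoc]
      rw [h3]; exact mul_mem (hTn _ hb.2 _) ha.2
    · intro a _ ha
      refine ⟨inv_mem ha.1, ?_⟩
      have h3 : ⁅a⁻¹, FreeGroup.of z⁆ = a⁻¹ * ⁅a, FreeGroup.of z⁆⁻¹ * a⁻¹⁻¹ := by
        simp [commutatorElement_def, mul_assoc]
      rw [h3]; exact hTn _ (inv_mem ha.2) _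

/-- An element killed by all `k` retractions lies in `γ_k`. -/
theorem mem_lcs_of_kill {w : FreeGroup (Fin k × Bool)} (hw : ∀ i, kill i w = 1) :
    w ∈ (⊤ : Subgroup (FreeGroup (Fin k × Bool))).lowerCentralSeries (k - 1) := by
  suffices h : ∀ j, j ≤ k - 1 →
      w ∈ (⊤ : Subgroup (FreeGroup (Fin k × Bool))).lowerCentralSeries j from h _ le_rfl
  intro j
  induction j with
  | zero => intro _; simp
  | succ j ih =>
    intro hj
    have hwj := ih (by omega)
    set N := (⊤ : Subgroup (FreeGroup (Fin k × Bool))).lowerCentralSeries (j + 1) with hN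
    have hz : ∀ x ∈ (⊤ : Subgroup (FreeGroup (Fin k × Bool))).lowerCentralSeries j,
        QuotientGroup.mk' N (dif (List.finRange k) x) = 1 := by
      intro x hx
      have hmul := @dif_mul_mk k (List.finRange k) j
      have hsup := lcs_le_supported (k := k) j hx
      rw [Subgroup.sup_eq_closure] at hsup
      refine (Subgroup.closure_induction (p := fun x _ =>
        x ∈ (⊤ : Subgroup (FreeGroup (Fin k × Bool))).lowerCentralSeries j ∧
          QuotientGroup.mk' N (dif (List.finRange k) x) = 1) ?_ ?_ ?_ ?_ hsup).2
      · rintro v (hv | hv)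
        · refine Subgroup.closure_induction (p := fun x _ =>
            x ∈ (⊤ : Subgroup (FreeGroup (Fin k × Bool))).lowerCentralSeries j ∧
              QuotientGroup.mk' N (dif (List.finRange k) x) = 1) ?_ ?_ ?_ ?_ hv
          · rintro v ⟨hv1, I, hI, hvI⟩
            obtain ⟨i, hi⟩ : ∃ i : Fin k, i ∉ I := by
              by_contra hall
              push Not at hall
              have : Finset.univ ⊆ I := fun i _ => hall i
              have := Finset.card_le_card this
              simp at this
              omega
            exact ⟨hv1, by rw [dif_eq_one _ v i (List.mem_finRange i) (kill_eq_self hi hvI), map_one]⟩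
          · exact ⟨one_mem _, by rw [dif_eq_self _ 1 fun i => map_one _, map_one]⟩
          · intro a b _ _ ha hb
            exact ⟨mul_mem ha.1 hb.1, by rw [hmul ha.1 hb.1, ha.2, hb.2, one_mul]⟩
          · intro a _ ha
            refine ⟨inv_mem ha.1, ?_⟩
            have := hmul (inv_mem ha.1) ha.1
            rw [inv_mul_cancel, dif_eq_self _ 1 fun i => map_one _, map_one, ha.2, mul_one] at this
            exact this.symm
        · exact ⟨Subgroup.lowerCentralSeries_antitone _ (Nat.le_succ _) hv,
            (QuotientGroup.eq_one_iff _).mpr (dif_lcs _ hv)⟩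
      · exact ⟨one_mem _, by rw [dif_eq_self _ 1 fun i => map_one _, map_one]⟩
      · intro a b _ _ ha hb
        exact ⟨mul_mem ha.1 hb.1, by rw [hmul ha.1 hb.1, ha.2, hb.2, one_mul]⟩
      · intro a _ ha
        refine ⟨inv_mem ha.1, ?_⟩
        have := hmul (inv_mem ha.1) ha.1
        rw [inv_mul_cancel, dif_eq_self _ 1 fun i => map_one _, map_one, ha.2, mul_one] at this
        exact this.symm
    have := hz w hwj
    rw [dif_eq_self _ w hw] at this
    exact (QuotientGroup.eq_one_iff w).mp this

/-- The product over the indices in `T` of a family. -/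
def indProd (f : Fin k → FreeGroup (Fin k × Bool)) (T : Finset (Fin k)) :
    FreeGroup (Fin k × Bool) :=
  ((List.finRange k).map fun l => if l ∈ T then f l else 1).prod

/-- The error word attached to a set of indices. -/
def word (T : Finset (Fin k)) : FreeGroup (Fin k × Bool) :=
  (indProd (fun l => FreeGroup.of (l, false)) T * indProd (fun l => FreeGroup.of (l, true)) T)⁻¹ *
    indProd (fun l => FreeGroup.of (l, false) * FreeGroup.of (l, true)) T

theorem kill_indProd (f : Fin k → FreeGroup (Fin k × Bool)) (i : Fin k)
    (hf : ∀ l, kill i (f l) = if l = i then 1 else f l) (T : Finset (Fin k)) :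
    kill i (indProd f T) = indProd f (T.erase i) := by
  unfold indProd
  rw [map_list_prod, List.map_map]
  congr 1
  refine List.map_congr_left fun l _ => ?_
  by_cases h1 : l = i <;> by_cases h2 : l ∈ T <;> simp [h1, h2, hf]
  all_goals (subst h1; simp_all)

theorem kill_word (i : Fin k) (T : Finset (Fin k)) : kill i (word T) = word (T.erase i) := by
  unfold word
  simp only [map_mul, map_inv]
  rw [kill_indProd _ i (fun l => kill_of i (l, false)) T,
    kill_indProd _ i (fun l => kill_of i (l, true)) T,
    kill_indProd _ i (fun l => by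
      rw [map_mul, kill_of, kill_of]
      by_cases h : l = i <;> simp [h]) T]

/-- Ordered product of the error factors of level less than the first argument. -/
noncomputable def partProd : ℕ → Finset (Fin k) → FreeGroup (Fin k × Bool)
  | 0, _ => 1
  | j + 1, T => partProd j T * ((Finset.powersetCard j Finset.univ).toList.map fun S =>
      if S ⊆ T then (partProd j S)⁻¹ * word S else 1).prod

theorem partProd_succ_self (m : ℕ) (T : Finset (Fin k)) (hT : T.card = m) :
    partProd (m + 1) T = word T := by
  rw [partProd]
  have : ((Finset.powersetCard m Finset.univ).toList.map fun S =>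
      if S ⊆ T then (partProd m S)⁻¹ * word S else 1).prod = (partProd m T)⁻¹ * word T := by
    rw [List.prod_map_eq_pow_single T]
    · rw [List.count_eq_one_of_mem (Finset.nodup_toList _)
        (Finset.mem_toList.mpr (Finset.mem_powersetCard.mpr ⟨Finset.subset_univ _, hT⟩)),
        pow_one, if_pos subset_rfl]
    · intro S hne hS
      rw [if_neg]
      intro hsub
      rw [Finset.mem_toList, Finset.mem_powersetCard] at hS
      exact hne (Finset.eq_of_subset_of_card_le hsub (by omega))
  rw [this, mul_inv_cancel_left]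

theorem kill_partProd (j : ℕ) : ∀ (i : Fin k) (T : Finset (Fin k)),
    kill i (partProd j T) = partProd j (T.erase i) := by
  induction j with
  | zero => intro i T; simp [partProd]
  | succ j ih =>
    intro i T
    rw [partProd, partProd, map_mul, ih, map_list_prod, List.map_map]
    congr 2
    refine List.map_congr_left fun S hS => ?_
    rw [Finset.mem_toList, Finset.mem_powersetCard] at hS
    simp only [Function.comp_apply]
    by_cases hi : i ∈ S
    · have hne : ¬ S ⊆ T.erase i := fun h => (Finset.mem_erase.mp (h hi)).1 rfl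
      rw [if_neg hne]
      by_cases hST : S ⊆ T
      · rw [if_pos hST, map_mul, map_inv, ih, kill_word]
        have hj : 0 < j := hS.2 ▸ Finset.card_pos.mpr ⟨i, hi⟩
        have hc : (S.erase i).card = j - 1 := by rw [Finset.card_erase_of_mem hi, hS.2]
        have := partProd_succ_self (j - 1) (S.erase i) hc
        rw [Nat.sub_add_cancel hj] at this
        rw [this, inv_mul_cancel]
      · rw [if_neg hST, map_one]
    · have heq : (S ⊆ T.erase i) ↔ S ⊆ T := by
        constructor
        · exact fun h => h.trans (Finset.erase_subset _ _)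
        · exact fun h x hx => Finset.mem_erase.mpr ⟨fun hxi => hi (hxi ▸ hx), h hx⟩
      by_cases hST : S ⊆ T
      · rw [if_pos hST, if_pos (heq.mpr hST), map_mul, map_inv, ih, kill_word,
          Finset.erase_eq_of_notMem hi]
      · rw [if_neg hST, if_neg (fun h => hST (heq.mp h)), map_one]

/-- The top error factor. -/
theorem top_mem_lcs :
    (partProd k (Finset.univ : Finset (Fin k)))⁻¹ * word Finset.univ ∈
      (⊤ : Subgroup (FreeGroup (Fin k × Bool))).lowerCentralSeries (k - 1) := by
  refine mem_lcs_of_kill fun i => ?_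
  rw [map_mul, map_inv, kill_partProd, kill_word]
  have hc : ((Finset.univ : Finset (Fin k)).erase i).card = k - 1 := by simp
  have := partProd_succ_self (k - 1) _ hc
  have hk : 0 < k := Fin.pos i
  rw [Nat.sub_add_cancel hk] at this
  rw [this, inv_mul_cancel]

end Free

section Eval

variable {G : Type*} [Group G]

/-- The error `(a^n b^n)⁻¹ (ab)^n`. -/
def err (a b : G) (n : ℕ) : G := (a ^ n * b ^ n)⁻¹ * (a * b) ^ n

/-- Ordered product of the Hall–Petrescu factors below a level. -/
def evalProd (a b : G) : ℕ → ℕ → G
  | 0, _ => 1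
  | j + 1, n => evalProd a b j n * ((evalProd a b j j)⁻¹ * err a b j) ^ n.choose j

/-- The Hall–Petrescu element of weight `j`. -/
def term (a b : G) (j : ℕ) : G := (evalProd a b j j)⁻¹ * err a b j

theorem evalProd_eq (a b : G) (n : ℕ) : ∀ j,
    evalProd a b j n = ((List.range j).map fun l => term a b l ^ n.choose l).prod
  | 0 => rfl
  | j + 1 => by
    rw [evalProd, evalProd_eq a b n j, List.range_succ, List.map_append, List.prod_append]
    simp [term]

theorem err_eq (a b : G) (n : ℕ) :
    (a * b) ^ n = a ^ n * b ^ n * ((List.range (n + 1)).map fun l => term a b l ^ n.choose l).prod := by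
  rw [← evalProd_eq, evalProd, Nat.choose_self, pow_one, mul_inv_cancel_left, err,
    mul_inv_cancel_left]

theorem lift_word (a b : G) {k : ℕ} (T : Finset (Fin k)) :
    FreeGroup.lift (fun x : Fin k × Bool => if x.2 then b else a) (word T) = err a b T.card := by
  have key : ∀ (g : Fin k → FreeGroup (Fin k × Bool)) (c : G),
      (∀ l, FreeGroup.lift (fun x : Fin k × Bool => if x.2 then b else a) (g l) = c) →
      FreeGroup.lift (fun x : Fin k × Bool => if x.2 then b else a) (indProd g T) = c ^ T.card := by
    intro g c hg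
    unfold indProd
    rw [map_list_prod, List.map_map]
    have : ((FreeGroup.lift (fun x : Fin k × Bool => if x.2 then b else a)) ∘
        fun l => if l ∈ T then g l else 1) = fun l => if l ∈ T then c else 1 := by
      funext l
      simp only [Function.comp_apply]
      split_ifs
      · exact hg l
      · exact map_one _
    rw [this, prod_map_ite _ (List.nodup_finRange k)]
    congr 2
    ext l
    simp
  simp only [word, map_mul, map_inv]
  rw [key _ a fun l => by simp, key _ b fun l => by simp, key _ (a * b) fun l => by simp]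
  rfl

theorem lift_partProd (a b : G) {k : ℕ} : ∀ (j : ℕ) (T : Finset (Fin k)),
    FreeGroup.lift (fun x : Fin k × Bool => if x.2 then b else a) (partProd j T) =
      evalProd a b j T.card
  | 0, T => by simp [partProd, evalProd]
  | j + 1, T => by
    rw [partProd, evalProd, map_mul, lift_partProd a b j T, map_list_prod, List.map_map]
    congr 1
    have : ∀ S ∈ (Finset.powersetCard j (Finset.univ : Finset (Fin k))).toList,
        ((FreeGroup.lift (fun x : Fin k × Bool => if x.2 then b else a)) ∘
          fun S => if S ⊆ T then (partProd j S)⁻¹ * word S else 1) S =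
        if S ⊆ T then (evalProd a b j j)⁻¹ * err a b j else 1 := by
      intro S hS
      rw [Finset.mem_toList, Finset.mem_powersetCard] at hS
      simp only [Function.comp_apply]
      split_ifs
      · rw [map_mul, map_inv, lift_partProd a b j S, lift_word, hS.2]
      · exact map_one _
    rw [List.map_congr_left this, prod_map_ite _ (Finset.nodup_toList _)]
    congr 1
    rw [← Finset.card_powersetCard j T, Finset.toList_toFinset]
    congr 1
    ext S
    simp only [Finset.mem_filter, Finset.mem_powersetCard, Finset.subset_univ, true_and]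
    exact and_comm

theorem term_mem_lcs (a b : G) (k : ℕ) :
    term a b k ∈ (Subgroup.closure ({a, b} : Set G)).lowerCentralSeries (k - 1) := by
  let f : FreeGroup (Fin k × Bool) →* G := FreeGroup.lift fun x => if x.2 then b else a
  have hr : f.range ≤ Subgroup.closure ({a, b} : Set G) := by
    rw [FreeGroup.range_lift_eq_closure]
    refine Subgroup.closure_mono ?_
    rintro _ ⟨x, rfl⟩
    simp only
    split_ifs <;> simp
  have h := Subgroup.mem_map_of_mem f (top_mem_lcs (k := k))
  rw [Subgroup.map_lowerCentralSeries, ← MonoidHom.range_eq_map, map_mul, map_inv, lift_partProd,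
    lift_word, Finset.card_univ, Fintype.card_fin] at h
  exact Subgroup.lowerCentralSeries_mono (k - 1) hr h

theorem term_zero (a b : G) : term a b 0 = 1 := by simp [term, evalProd, err]

theorem term_one (a b : G) : term a b 1 = 1 := by simp [term, evalProd, err]

end Eval

end Cfsg.Lib.PGroup.HallPetrescu
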