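import Cfsg.Prelude.Def_PLocal
import Cfsg.Agent.Lib.PGroup.Basic
import Cfsg.Agent.Lib.PGroup.HallPetrescu
import Mathlib.Data.Nat.Choose.Dvd

/-!
# Regular p-groups

The theory of regular `p`-groups, developed from the condition for the first power only.
-/

set_option autoImplicit false

namespace Cfsg.Lib.PGroup.Regular

open Subgroup
open scoped commutatorElement

universe u

variable {p : ℕ}

/-- `(ab)^p` is `a^p b^p` times a product of `p`-th powers of elements of `⟨a,b⟩'`. -/
def PowLaw (p : ℕ) (G : Type u) [Group G] : Prop :=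
  ∀ a b : G, ∃ c ∈ powerClosure p 1 ⁅closure ({a, b} : Set G), closure ({a, b} : Set G)⁆,
    (a * b) ^ p = a ^ p * b ^ p * c

theorem map_powerClosure {G H : Type*} [Group G] [Group H] (f : G →* H) (n : ℕ) (K : Subgroup G) :
    (powerClosure p n K).map f = powerClosure p n (K.map f) := by
  rw [powerClosure, powerClosure, MonoidHom.map_closure]
  congr 1
  ext y
  constructor
  · rintro ⟨_, ⟨x, hx, rfl⟩, rfl⟩
    exact ⟨f x, mem_map_of_mem f hx, map_pow _ _ _⟩
  · rintro ⟨_, ⟨x, hx, rfl⟩, rfl⟩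
    exact ⟨x ^ p ^ n, ⟨x, hx, rfl⟩, map_pow _ _ _⟩

theorem powerClosure_mono {G : Type*} [Group G] (n : ℕ) {H K : Subgroup G} (h : H ≤ K) :
    powerClosure p n H ≤ powerClosure p n K :=
  closure_mono fun _ ⟨x, hx, hy⟩ => ⟨x, h hx, hy⟩

theorem map_closure_pair {G H : Type*} [Group G] [Group H] (f : G →* H) (a b : G) :
    (closure ({a, b} : Set G)).map f = closure ({f a, f b} : Set H) := by
  rw [MonoidHom.map_closure, Set.image_pair]

theorem powLaw_subgroup {G : Type u} [Group G] (h : PowLaw p G) (H : Subgroup G) : PowLaw p ↥H := by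
  intro a b
  obtain ⟨c, hc, he⟩ := h a b
  rw [← H.coe_subtype, ← map_closure_pair, ← map_commutator, ← map_powerClosure] at hc
  obtain ⟨d, hd, rfl⟩ := hc
  refine ⟨d, hd, H.subtype_injective ?_⟩
  simpa using he

theorem powLaw_of_surjective {G H : Type u} [Group G] [Group H] (h : PowLaw p G) (f : G →* H)
    (hf : Function.Surjective f) : PowLaw p H := by
  intro a b
  obtain ⟨a, rfl⟩ := hf a
  obtain ⟨b, rfl⟩ := hf b
  obtain ⟨c, hc, he⟩ := h a b
  refine ⟨f c, ?_, by rw [← map_mul, ← map_pow, he, map_mul, map_mul, map_pow, map_pow]⟩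
  rw [← map_closure_pair, ← map_commutator, ← map_powerClosure]
  exact mem_map_of_mem f hc

theorem powLaw_quotient {G : Type u} [Group G] (h : PowLaw p G) (N : Subgroup G) [N.Normal] :
    PowLaw p (G ⧸ N) :=
  powLaw_of_surjective h (QuotientGroup.mk' N) (QuotientGroup.mk'_surjective N)

theorem powLaw_of_isRegular {G : Type u} [Group G] (h : IsRegularPGroup p G) : PowLaw p G := by
  intro a b
  obtain ⟨c, hc, he⟩ := h.2 a b 1
  exact ⟨c, hc, by simpa using he⟩

section Base

variable {G : Type u} [Group G]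

theorem closure_pair_ne_top [Finite G] [Fact p.Prime] (hG : IsPGroup p G)
    (hnc : ¬ IsMulCommutative G) (x : G) {y : G} (hy : y ∈ commutator G) :
    closure ({x, y} : Set G) ≠ ⊤ := by
  intro h
  apply hnc
  have h1 : zpowers x ⊔ frattini G = ⊤ := by
    rw [eq_top_iff, ← h, closure_le]
    rintro _ (rfl | rfl)
    · exact mem_sup_left (mem_zpowers _)
    · exact mem_sup_right (Lib.PGroup.commutator_le_frattini hG hy)
  have h2 : zpowers x = ⊤ := frattini_nongenerating h1
  refine ⟨⟨fun a b => ?_⟩⟩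
  obtain ⟨i, rfl⟩ := mem_zpowers_iff.mp (show a ∈ zpowers x from h2 ▸ mem_top a)
  obtain ⟨j, rfl⟩ := mem_zpowers_iff.mp (show b ∈ zpowers x from h2 ▸ mem_top b)
  exact (Commute.zpow_zpow (Commute.refl x) i j).eq

theorem commutator_le_of_pair {N : Subgroup G} [N.Normal] {x y : G}
    (htop : closure ({x, y} : Set G) = ⊤) (h : ⁅x, y⁆ ∈ N) : commutator G ≤ N := by
  let f := QuotientGroup.mk' N
  have hxy : Commute (f x) (f y) := by
    rw [← commutatorElement_eq_one_iff_commute, ← map_commutatorElement, ← MonoidHom.mem_ker,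
      QuotientGroup.ker_mk']
    exact h
  have hk : ∀ a ∈ ({x, y} : Set G), ∀ b ∈ ({x, y} : Set G), Commute (f a) (f b) := by
    rintro _ (rfl | rfl) _ (rfl | rfl)
    exacts [Commute.refl _, hxy, hxy.symm, Commute.refl _]
  have h1 : ∀ a ∈ ({x, y} : Set G), ∀ b, Commute (f a) (f b) := by
    intro a ha b
    refine closure_induction (p := fun b _ => Commute (f a) (f b)) (fun b hb => hk a ha b hb)
      (by rw [map_one]; exact Commute.one_right _) (fun u v _ _ hu hv => by
        rw [map_mul]; exact hu.mul_right hv) (fun u _ hu => by rw [map_inv]; exact hu.inv_right)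
      (show b ∈ closure ({x, y} : Set G) from htop ▸ mem_top b)
  have h2 : ∀ a b, Commute (f a) (f b) := by
    intro a b
    refine closure_induction (p := fun a _ => Commute (f a) (f b)) (fun a ha => h1 a ha b)
      (by rw [map_one]; exact Commute.one_left _) (fun u v _ _ hu hv => by
        rw [map_mul]; exact hu.mul_left hv) (fun u _ hu => by rw [map_inv]; exact hu.inv_left)
      (show a ∈ closure ({x, y} : Set G) from htop ▸ mem_top a)
  rw [commutator_def, commutator_le]
  intro a _ b _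
  rw [← QuotientGroup.ker_mk' N, MonoidHom.mem_ker, map_commutatorElement,
    commutatorElement_eq_one_iff_commute]
  exact h2 a b

/-- The two basic properties proved by simultaneous induction. -/
def Good (p : ℕ) (G : Type u) [Group G] : Prop :=
  (∀ x y : G, Commute (x ^ p) y → (x * y) ^ p = x ^ p * y ^ p) ∧
    ∀ x y : G, ∃ z : G, x ^ p * y ^ p = z ^ p

theorem good_E (h : Good p G) (a b : G) : a ^ p = b ^ p ↔ (a * b⁻¹) ^ p = 1 := by
  constructor
  · intro he
    rw [h.1 a b⁻¹ (by rw [he]; exact (Commute.pow_self b p).inv_right), he, inv_pow, mul_inv_cancel]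
  · intro he
    have := h.1 (a * b⁻¹) b (by rw [he]; exact Commute.one_left b)
    rw [inv_mul_cancel_right, he, one_mul] at this
    exact this

theorem good_O (h : Good p G) {x y : G} (hx : x ^ p = 1) (hy : y ^ p = 1) : (x * y) ^ p = 1 := by
  rw [h.1 x y (by rw [hx]; exact Commute.one_left y), hx, hy, one_mul]

/-- The subgroup of elements killed by `p`. -/
def omegaSubgroup (h : Good p G) : Subgroup G where
  carrier := {x | x ^ p = 1}
  one_mem' := one_pow _
  mul_mem' hx hy := good_O h hx hy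
  inv_mem' {x} hx := by
    show x⁻¹ ^ p = 1
    rw [inv_pow, show x ^ p = 1 from hx, inv_one]

instance omegaSubgroup_normal (h : Good p G) : (omegaSubgroup h).Normal := by
  refine ⟨fun x hx g => ?_⟩
  show (g * x * g⁻¹) ^ p = 1
  rw [conj_pow, show x ^ p = 1 from hx, mul_one, mul_inv_cancel]

/-- The subgroup of `p`-th powers. -/
def powSubgroup (h : Good p G) : Subgroup G where
  carrier := {y | ∃ x, y = x ^ p}
  one_mem' := ⟨1, (one_pow _).symm⟩
  mul_mem' := by
    rintro _ _ ⟨x, rfl⟩ ⟨y, rfl⟩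
    exact h.2 x y
  inv_mem' := by
    rintro _ ⟨x, rfl⟩
    exact ⟨x⁻¹, (inv_pow x p).symm⟩

theorem powerClosure_one_eq (h : Good p G) : powerClosure p 1 (⊤ : Subgroup G) = powSubgroup h := by
  refine le_antisymm ((closure_le _).mpr ?_) fun y ⟨x, hx⟩ => subset_closure ⟨x, mem_top x, by simpa using hx⟩
  rintro _ ⟨x, -, rfl⟩
  exact ⟨x, by rw [pow_one]⟩

theorem exists_pow_of_mem_powerClosure {D : Subgroup G} (h : Good p ↥D) {c : G}
    (hc : c ∈ powerClosure p 1 D) : ∃ d ∈ D, c = d ^ p := by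
  have : powerClosure p 1 D = (powerClosure p 1 (⊤ : Subgroup ↥D)).map D.subtype := by
    rw [map_powerClosure, ← MonoidHom.range_eq_map, range_subtype]
  rw [this, powerClosure_one_eq h] at hc
  obtain ⟨_, ⟨x, rfl⟩, rfl⟩ := hc
  exact ⟨x, x.2, by simp⟩

end Base

theorem good_aux [hp : Fact p.Prime] : ∀ (n : ℕ) (G : Type u) [Group G] [Finite G],
    Nat.card G ≤ n → IsPGroup p G → PowLaw p G → Good p G := by
  intro n
  induction n with
  | zero =>
    intro G _ _ hn _ _
    have := Nat.card_pos (α := G)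
    omega
  | succ n ih =>
    intro G _ _ hn hG hlaw
    by_cases hcomm : IsMulCommutative G
    · have hc : ∀ x y : G, Commute x y := fun x y => hcomm.is_comm.comm x y
      exact ⟨fun x y _ => (hc x y).mul_pow p, fun x y => ⟨x * y, ((hc x y).mul_pow p).symm⟩⟩
    have sub : ∀ H : Subgroup G, H ≠ ⊤ → Good p ↥H := by
      intro H hH
      refine ih ↥H ?_ (hG.to_subgroup H) (powLaw_subgroup hlaw H)
      have h1 : Nat.card H < Nat.card G := by
        refine lt_of_le_of_ne (Finite.card_subtype_le _) fun he => hH ?_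
        exact card_eq_iff_eq_top H |>.mp he
      omega
    have hder : commutator G ≠ ⊤ := by
      intro h
      obtain ⟨a, b, hab⟩ : ∃ a b : G, a * b ≠ b * a := by
        by_contra hall
        push Not at hall
        exact hcomm ⟨⟨hall⟩⟩
      haveI : Nontrivial G := ⟨⟨a * b, b * a, hab⟩⟩
      exact Lib.PGroup.frattini_ne_top (G := G)
        (top_le_iff.mp (h ▸ Lib.PGroup.commutator_le_frattini hG))
    constructor
    · intro x y hxy
      by_cases htop : closure ({x, y} : Set G) = ⊤
      swap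
      · have hx : x ∈ closure ({x, y} : Set G) := subset_closure (by simp)
        have hy : y ∈ closure ({x, y} : Set G) := subset_closure (by simp)
        have := (sub _ htop).1 ⟨x, hx⟩ ⟨y, hy⟩ (Subtype.ext (by simpa using hxy.eq))
        simpa using congrArg Subtype.val this
      have hH0 : closure ({x, ⁅y, x⁆} : Set G) ≠ ⊤ :=
        closure_pair_ne_top hG hcomm x (commutator_mem_commutator (mem_top y) (mem_top x))
      have hx0 : x ∈ closure ({x, ⁅y, x⁆} : Set G) := subset_closure (by simp)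
      have hy0 : y * x * y⁻¹ ∈ closure ({x, ⁅y, x⁆} : Set G) := by
        have e : y * x * y⁻¹ = ⁅y, x⁆ * x := by simp [commutatorElement_def, mul_assoc]
        rw [e]; exact mul_mem (subset_closure (by simp)) hx0
      have hc1 : ⁅x, y⁆ ^ p = 1 := by
        have hconj : x ^ p = (y * x * y⁻¹) ^ p := by
          rw [conj_pow, ← hxy.eq, mul_inv_cancel_right]
        have := (good_E (sub _ hH0) ⟨x, hx0⟩ ⟨_, hy0⟩).mp (Subtype.ext (by simpa using hconj))
        have e : ⁅x, y⁆ = x * (y * x * y⁻¹)⁻¹ := by simp [commutatorElement_def, mul_assoc]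
        rw [e]; simpa using congrArg Subtype.val this
      have hS : commutator G ≤ (omegaSubgroup (sub _ hder)).map (commutator G).subtype := by
        haveI : ((omegaSubgroup (sub _ hder)).map (commutator G).subtype).Normal := by
          refine ⟨fun z hz g => ?_⟩
          obtain ⟨⟨z, hz'⟩, hzp, rfl⟩ := hz
          refine ⟨⟨g * z * g⁻¹, Normal.conj_mem inferInstance z hz' g⟩, Subtype.ext ?_, rfl⟩
          have : z ^ p = 1 := by simpa using congrArg Subtype.val hzp
          simp [conj_pow, this]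
        exact commutator_le_of_pair htop ⟨⟨⁅x, y⁆, commutator_mem_commutator (mem_top x) (mem_top y)⟩,
          Subtype.ext (by simpa using hc1), rfl⟩
      obtain ⟨c, hc, he⟩ := hlaw x y
      rw [htop] at hc
      have hc' : c = 1 := by
        have hbot : powerClosure p 1 ⁅(⊤ : Subgroup G), (⊤ : Subgroup G)⁆ ≤ (⊥ : Subgroup G) := by
          refine (closure_le _).mpr ?_
          rintro _ ⟨z, hz, rfl⟩
          obtain ⟨w, hw, rfl⟩ := hS hz
          rw [pow_one]
          simpa using congrArg Subtype.val (show w ^ p = 1 from hw)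
        simpa using hbot hc
      rw [he, hc', mul_one]
    · intro x y
      by_cases htop : closure ({x, y} : Set G) = ⊤
      swap
      · have hx : x ∈ closure ({x, y} : Set G) := subset_closure (by simp)
        have hy : y ∈ closure ({x, y} : Set G) := subset_closure (by simp)
        obtain ⟨z, hz⟩ := (sub _ htop).2 ⟨x, hx⟩ ⟨y, hy⟩
        exact ⟨z, by simpa using congrArg Subtype.val hz⟩
      obtain ⟨c, hc, he⟩ := hlaw x y
      rw [htop] at hc
      obtain ⟨d, hd, hdc⟩ := exists_pow_of_mem_powerClosure (sub _ hder) (inv_mem hc)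
      have hH1 : closure ({x * y, d} : Set G) ≠ ⊤ := closure_pair_ne_top hG hcomm _ hd
      obtain ⟨z, hz⟩ := (sub _ hH1).2 ⟨x * y, subset_closure (by simp)⟩ ⟨d, subset_closure (by simp)⟩
      refine ⟨z, ?_⟩
      have hz' : (x * y) ^ p * d ^ p = (z : G) ^ p := by simpa using congrArg Subtype.val hz
      rw [← hz', he, ← hdc, mul_inv_cancel_right]

/-- Hall's basic properties of regular groups, for the first power. -/
theorem good [Fact p.Prime] {G : Type u} [Group G] [Finite G] (hG : IsPGroup p G) (h : PowLaw p G) :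
    Good p G :=
  good_aux _ G le_rfl hG h

/-- `a^(p^n) = b^(p^n)` iff `(a b⁻¹)^(p^n) = 1`. -/
theorem pow_eq_iff [Fact p.Prime] : ∀ (n : ℕ) {G : Type u} [Group G] [Finite G],
    IsPGroup p G → PowLaw p G → ∀ a b : G, a ^ p ^ n = b ^ p ^ n ↔ (a * b⁻¹) ^ p ^ n = 1
  | 0, G, _, _, _, _, a, b => by simp [mul_inv_eq_one]
  | n + 1, G, _, _, hG, h, a, b => by
    have hg := good hG h
    set O := omegaSubgroup hg with hO
    have key : ∀ x : G, x ∈ O ↔ x ^ p = 1 := fun x => Iff.rfl
    have ih := pow_eq_iff n (hG.to_quotient O) (powLaw_quotient h O)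
      (QuotientGroup.mk' O a) (QuotientGroup.mk' O b)
    rw [← map_pow, ← map_pow, ← map_inv, ← map_mul, ← map_pow, ← div_eq_one, ← map_div,
      ← MonoidHom.mem_ker, ← MonoidHom.mem_ker, QuotientGroup.ker_mk', div_eq_mul_inv,
      key, key, ← good_E hg] at ih
    rw [pow_succ, pow_mul, pow_mul, pow_mul]
    exact ih

/-- The elements killed by `p^n` form a subgroup. -/
theorem pow_mul_eq_one [Fact p.Prime] {G : Type u} [Group G] [Finite G] (hG : IsPGroup p G)
    (h : PowLaw p G) (n : ℕ) {x y : G} (hx : x ^ p ^ n = 1) (hy : y ^ p ^ n = 1) :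
    (x * y) ^ p ^ n = 1 := by
  have := (pow_eq_iff n hG h x y⁻¹).mp (by rw [inv_pow, hx, hy, inv_one])
  rwa [inv_inv] at this

/-- The set of `p^n`-th powers of a group is closed under products. -/
theorem exists_pow_mul [Fact p.Prime] : ∀ (n : ℕ) {G : Type u} [Group G] [Finite G],
    IsPGroup p G → PowLaw p G → ∀ a b : G, ∃ c : G, a ^ p ^ n * b ^ p ^ n = c ^ p ^ n
  | 0, G, _, _, _, _, a, b => ⟨a * b, by simp⟩
  | n + 1, G, _, _, hG, h, a, b => by
    have hg := good hG h
    obtain ⟨⟨_, c, rfl⟩, hc⟩ := exists_pow_mul n (hG.to_subgroup (powSubgroup hg))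
      (powLaw_subgroup h (powSubgroup hg)) ⟨a ^ p, a, rfl⟩ ⟨b ^ p, b, rfl⟩
    refine ⟨c, ?_⟩
    rw [pow_succ', pow_mul, pow_mul, pow_mul]
    simpa using congrArg Subtype.val hc

/-- The `p^n`-th powers of a subgroup are exactly the elements of the subgroup they generate. -/
theorem setOf_pow_eq [Fact p.Prime] {G : Type u} [Group G] [Finite G] (hG : IsPGroup p G)
    (h : PowLaw p G) (H : Subgroup G) (n : ℕ) :
    {y : G | ∃ x ∈ H, y = x ^ p ^ n} = (powerClosure p n H : Set G) := by
  refine Set.Subset.antisymm subset_closure fun y hy => ?_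
  refine closure_induction (p := fun y _ => ∃ x ∈ H, y = x ^ p ^ n) (fun y hy => hy)
    ⟨1, one_mem H, (one_pow _).symm⟩ ?_ ?_ hy
  · rintro _ _ _ _ ⟨x, hx, rfl⟩ ⟨z, hz, rfl⟩
    obtain ⟨c, hc⟩ := exists_pow_mul n (hG.to_subgroup H) (powLaw_subgroup h H) ⟨x, hx⟩ ⟨z, hz⟩
    exact ⟨c, c.2, by simpa using congrArg Subtype.val hc⟩
  · rintro _ _ ⟨x, hx, rfl⟩
    exact ⟨x⁻¹, inv_mem hx, (inv_pow x _).symm⟩

/-- `a^(p^n)` commutes with `b` iff `(a⁻¹ b⁻¹ a b)^(p^n) = 1`. -/
theorem commute_iff [Fact p.Prime] {G : Type u} [Group G] [Finite G] (hG : IsPGroup p G)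
    (h : PowLaw p G) (n : ℕ) (a b : G) :
    Commute (a ^ p ^ n) b ↔ (a⁻¹ * b⁻¹ * a * b) ^ p ^ n = 1 := by
  have e1 : Commute (a ^ p ^ n) b ↔ (b⁻¹ * a * b) ^ p ^ n = a ^ p ^ n := by
    have : (b⁻¹ * a * b) ^ p ^ n = b⁻¹ * a ^ p ^ n * b := by
      conv_lhs => rw [show b⁻¹ * a * b = b⁻¹ * a * b⁻¹⁻¹ by rw [inv_inv]]
      rw [conj_pow, inv_inv]
    rw [this, mul_assoc, inv_mul_eq_iff_eq_mul]
    exact Iff.rfl
  rw [e1, pow_eq_iff n hG h]
  have e2 : a⁻¹ * b⁻¹ * a * b = a⁻¹ * (b⁻¹ * a * b * a⁻¹) * a⁻¹⁻¹ := by simp [mul_assoc]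
  rw [e2, conj_pow]
  constructor
  · intro hh; rw [hh, mul_one, mul_inv_cancel]
  · intro hh; exact conj_eq_one_iff.mp hh

instance powerClosure_normal {G : Type*} [Group G] (n : ℕ) (H : Subgroup G) [H.Normal] :
    (powerClosure p n H).Normal := by
  refine ⟨fun x hx g => ?_⟩
  have hm := mem_map_of_mem (MulAut.conj g).toMonoidHom hx
  rw [map_powerClosure] at hm
  refine powerClosure_mono n ?_ hm
  rintro _ ⟨y, hy, rfl⟩
  exact Normal.conj_mem inferInstance y hy g

theorem commute_pow_pow [Fact p.Prime] {G : Type u} [Group G] [Finite G] (hG : IsPGroup p G)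
    (h : PowLaw p G) (n : ℕ) (a b : G) :
    ⁅a ^ p ^ n, b ^ p ^ n⁆ ∈ powerClosure p n (commutator G) := by
  set N := powerClosure p n (commutator G) with hN
  let f := QuotientGroup.mk' N
  rw [← QuotientGroup.ker_mk' N, MonoidHom.mem_ker, map_commutatorElement,
    commutatorElement_eq_one_iff_commute, map_pow, map_pow]
  rw [commute_iff (hG.to_quotient N) (powLaw_quotient h N)]
  rw [← map_pow, ← map_inv, ← map_inv, ← map_mul, ← map_mul, ← map_mul, ← map_pow,
    ← MonoidHom.mem_ker, QuotientGroup.ker_mk']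
  refine subset_closure ⟨_, ?_, rfl⟩
  have : a⁻¹ * (b ^ p ^ n)⁻¹ * a * b ^ p ^ n = ⁅a⁻¹, (b ^ p ^ n)⁻¹⁆ := by
    simp [commutatorElement_def]
  rw [this]
  exact commutator_mem_commutator (mem_top _) (mem_top _)

/-- The derived subgroup of `℧_n(H)` is contained in `℧_n(H')`. -/
theorem commutator_powerClosure_le [Fact p.Prime] {G : Type u} [Group G] [Finite G]
    (hG : IsPGroup p G) (h : PowLaw p G) (H : Subgroup G) (n : ℕ) :
    ⁅powerClosure p n H, powerClosure p n H⁆ ≤ powerClosure p n ⁅H, H⁆ := by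
  rw [commutator_le]
  intro x hx y hy
  rw [← SetLike.mem_coe, ← setOf_pow_eq hG h] at hx hy
  obtain ⟨a, ha, rfl⟩ := hx
  obtain ⟨b, hb, rfl⟩ := hy
  have hm := mem_map_of_mem H.subtype
    (commute_pow_pow (hG.to_subgroup H) (powLaw_subgroup h H) n ⟨a, ha⟩ ⟨b, hb⟩)
  rw [map_powerClosure, map_subtype_commutator, map_commutatorElement] at hm
  simpa using hm

/-- If `x^(p^n) = 1` on the derived subgroup then `x ↦ x^(p^n)` is multiplicative. -/
theorem mul_pow_eq [Fact p.Prime] : ∀ (n : ℕ) {G : Type u} [Group G] [Finite G],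
    IsPGroup p G → PowLaw p G → (∀ z ∈ commutator G, z ^ p ^ n = 1) →
      ∀ a b : G, (a * b) ^ p ^ n = a ^ p ^ n * b ^ p ^ n
  | 0, G, _, _, _, _, _, a, b => by simp
  | n + 1, G, _, _, hG, h, hz, a, b => by
    have hg := good hG h
    set K := powSubgroup hg with hK
    have hsub : powerClosure p 1 (⊤ : Subgroup G) = K := powerClosure_one_eq hg
    have hder : ∀ z ∈ commutator ↥K, z ^ p ^ n = 1 := by
      intro z hz'
      have hm := mem_map_of_mem K.subtype hz'
      rw [map_subtype_commutator] at hm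
      have h1 := commutator_powerClosure_le hG h ⊤ 1
      rw [hsub] at h1
      have h2 := h1 hm
      rw [← SetLike.mem_coe, ← setOf_pow_eq hG h] at h2
      obtain ⟨e, he, heq⟩ := h2
      refine Subtype.ext ?_
      have := hz e he
      rw [pow_succ', pow_mul] at this
      rw [pow_one] at heq
      simpa [show (z : G) = e ^ p from heq] using this
    obtain ⟨c, hc, he⟩ := h a b
    have hcK : c ∈ K := hsub ▸ powerClosure_mono 1 le_top hc
    have ih := mul_pow_eq n (hG.to_subgroup K) (powLaw_subgroup h K) hder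
    have e1 := congrArg Subtype.val (ih ⟨a ^ p, a, rfl⟩ ⟨b ^ p, b, rfl⟩)
    have hab : a ^ p * b ^ p ∈ K := mul_mem ⟨a, rfl⟩ ⟨b, rfl⟩
    have e2 := congrArg Subtype.val (ih ⟨_, hab⟩ ⟨c, hcK⟩)
    have hc1 : c ^ p ^ n = 1 := by
      rw [← SetLike.mem_coe, ← setOf_pow_eq hG h] at hc
      obtain ⟨e, he', rfl⟩ := hc
      rw [pow_one, ← pow_mul, ← pow_succ']
      exact hz e (commutator_mono le_top le_top he')
    simp only [coe_mul, SubmonoidClass.coe_pow] at e1 e2
    rw [pow_succ', pow_mul, pow_mul, pow_mul, he, e2, e1, hc1, mul_one]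

/-- The first-power law implies regularity. -/
theorem isRegular_of_powLaw [Fact p.Prime] {G : Type u} [Group G] [Finite G] (hG : IsPGroup p G)
    (h : PowLaw p G) : IsRegularPGroup p G := by
  refine ⟨hG, fun a b n => ?_⟩
  set H := closure ({a, b} : Set G) with hH
  let a' : H := ⟨a, subset_closure (by simp)⟩
  let b' : H := ⟨b, subset_closure (by simp)⟩
  let N := powerClosure p n (commutator ↥H)
  let f := QuotientGroup.mk' N
  have hq := mul_pow_eq n ((hG.to_subgroup H).to_quotient N)
    (powLaw_quotient (powLaw_subgroup h H) N) (by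
      intro z hz
      have e := map_commutator (⊤ : Subgroup ↥H) ⊤ f
      rw [map_top_of_surjective f (QuotientGroup.mk'_surjective N)] at e
      have hz' : z ∈ Subgroup.map f ⁅(⊤ : Subgroup ↥H), (⊤ : Subgroup ↥H)⁆ := by
        rw [e]; exact hz
      obtain ⟨w, hw, rfl⟩ := hz'
      rw [← map_pow, ← MonoidHom.mem_ker, QuotientGroup.ker_mk']
      exact subset_closure ⟨w, hw, rfl⟩) (f a') (f b')
  rw [← map_mul, ← map_pow, ← map_pow, ← map_pow, ← map_mul] at hq
  have hq' : (a' ^ p ^ n * b' ^ p ^ n)⁻¹ * (a' * b') ^ p ^ n ∈ N := by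
    rw [← QuotientGroup.ker_mk' N, MonoidHom.mem_ker, map_mul, map_inv, inv_mul_eq_one]
    exact hq.symm
  have hm := mem_map_of_mem H.subtype hq'
  rw [map_powerClosure, map_subtype_commutator] at hm
  exact ⟨_, hm, by simp [a', b', mul_assoc]⟩

/-- Nilpotency class less than `p` gives the first-power law. -/
theorem powLaw_of_lcs [hp : Fact p.Prime] {G : Type u} [Group G]
    (hcl : (⊤ : Subgroup G).lowerCentralSeries (p - 1) = ⊥) : PowLaw p G := by
  intro a b
  refine ⟨_, ?_, HallPetrescu.err_eq a b p⟩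
  refine list_prod_mem ?_
  intro x hx
  obtain ⟨j, hj, rfl⟩ := List.mem_map.mp hx
  rw [List.mem_range] at hj
  have hmem := HallPetrescu.term_mem_lcs a b j
  rcases Nat.lt_or_ge j p with hjp | hjp
  · rcases Nat.lt_or_ge j 2 with hj2 | hj2
    · interval_cases j
      · rw [HallPetrescu.term_zero, one_pow]; exact one_mem _
      · rw [HallPetrescu.term_one, one_pow]; exact one_mem _
    obtain ⟨t, ht⟩ := hp.out.dvd_choose_self (by omega) hjp
    rw [ht, mul_comm, pow_mul]
    refine subset_closure ⟨_, pow_mem ?_ t, by rw [pow_one]⟩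
    exact Subgroup.lowerCentralSeries_antitone _ (show 1 ≤ j - 1 by omega) hmem
  · have hjeq : j = p := by omega
    rw [hjeq] at hmem ⊢
    have h1 : HallPetrescu.term a b p = 1 := by
      rw [← mem_bot, ← hcl]
      exact lowerCentralSeries_mono _ le_top hmem
    rw [h1, one_pow]; exact one_mem _

/-- A finite p-group of class less than `p` is regular. -/
theorem isRegular_of_lcs [Fact p.Prime] {G : Type u} [Group G] [Finite G] (hG : IsPGroup p G)
    (hcl : (⊤ : Subgroup G).lowerCentralSeries (p - 1) = ⊥) : IsRegularPGroup p G :=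
  isRegular_of_powLaw hG (powLaw_of_lcs hcl)

end Cfsg.Lib.PGroup.Regular
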