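import Cfsg.Prelude.Def_OddOrderLocal
import Cfsg.Agent.Lib.PGroup.Regular
import Cfsg.Agent.Lib.PGroup.OmegaTwo
import Cfsg.Agent.Lib.Core.Basic

/-!
# Huppert's metacyclicity criterion and Omega in groups of small rank
-/

set_option autoImplicit false

namespace Cfsg.Lib.PGroup.Huppert

open Subgroup
open scoped commutatorElement
open Cfsg.Lib.PGroup.Regular

universe u

variable {p : ℕ}

theorem prime_dvd_card [hp : Fact p.Prime] {G : Type*} [Group G] [Finite G] (hG : IsPGroup p G)
    [Nontrivial G] : p ∣ Nat.card G := by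
  obtain ⟨n, hn⟩ := IsPGroup.iff_card.mp hG
  rcases Nat.eq_zero_or_pos n with h | h
  · have := Finite.one_lt_card (α := G)
    rw [hn, h, pow_zero] at this
    omega
  · rw [hn]; exact dvd_pow_self p h.ne'

/-- A group of order at most `p^4` has class at most 3. -/
theorem lcs_three_eq_bot [hp : Fact p.Prime] {G : Type*} [Group G] [Finite G] (hG : IsPGroup p G)
    (hcard : Nat.card G ≤ p ^ 4) : (⊤ : Subgroup G).lowerCentralSeries 3 = ⊥ := by
  by_contra hne
  have hp2 := hp.out.two_le
  have key : ∀ i, i ≤ 3 → Nat.card ↥((⊤ : Subgroup G).lowerCentralSeries i) ≠ 1 := by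
    intro i hi h
    exact hne (eq_bot_iff.mpr ((Subgroup.lowerCentralSeries_antitone _ hi).trans
      (Subgroup.card_eq_one.mp h).le))
  have step : ∀ i, i ≤ 2 → p * Nat.card ↥((⊤ : Subgroup G).lowerCentralSeries (i + 1)) ≤
      Nat.card ↥((⊤ : Subgroup G).lowerCentralSeries i) := by
    intro i hi
    have hle := Subgroup.lowerCentralSeries_antitone (⊤ : Subgroup G) (Nat.le_succ i)
    obtain ⟨a, ha⟩ := IsPGroup.iff_card.mp (hG.to_subgroup ((⊤ : Subgroup G).lowerCentralSeries (i + 1)))
    obtain ⟨b, hb⟩ := IsPGroup.iff_card.mp (hG.to_subgroup ((⊤ : Subgroup G).lowerCentralSeries i))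
    have hlt : Nat.card ↥((⊤ : Subgroup G).lowerCentralSeries (i + 1)) <
        Nat.card ↥((⊤ : Subgroup G).lowerCentralSeries i) := by
      haveI := hG.isNilpotent
      refine lt_of_le_of_ne (Subgroup.card_le_of_le hle) fun he => ?_
      refine commutator_ne_self_of_isNilpotent (V := (⊤ : Subgroup G).lowerCentralSeries i)
        (P := ⊤) ?_ (Subgroup.eq_of_le_of_card_ge hle he.ge)
      intro hb'
      exact key i (by omega) (Subgroup.card_eq_one.mpr hb')
    rw [ha, hb] at hlt ⊢
    rw [← pow_succ']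
    exact Nat.pow_le_pow_right hp.out.pos
      ((Nat.pow_lt_pow_iff_right hp.out.one_lt).mp hlt)
  have h0 := step 0 (by omega)
  have h1 := step 1 (by omega)
  have h2 := step 2 (by omega)
  obtain ⟨a, ha⟩ := IsPGroup.iff_card.mp (hG.to_subgroup ((⊤ : Subgroup G).lowerCentralSeries 3))
  have h3 : p ≤ Nat.card ↥((⊤ : Subgroup G).lowerCentralSeries 3) := by
    rcases Nat.eq_zero_or_pos a with h | h
    · exact absurd (by rw [ha, h, pow_zero]) (key 3 le_rfl)
    · rw [ha]; exact Nat.le_self_pow h.ne' p
  rw [Subgroup.lowerCentralSeries_zero, Subgroup.card_top] at h0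
  have e1 := Nat.mul_le_mul_left p h3
  have e2 := Nat.mul_le_mul_left p (e1.trans h2)
  have e3 := (Nat.mul_le_mul_left p (e2.trans h1)).trans h0
  -- the order is exactly `p^4`, so the abelianisation would be cyclic
  have heq : Nat.card G = p ^ 4 := le_antisymm hcard (by ring_nf at e3 ⊢; exact e3)
  have hc : p ^ 4 ≤ p * Nat.card ↥(commutator G) := by
    rw [← Subgroup.top_lowerCentralSeries_one]
    have := (e2.trans h1)
    calc p ^ 4 = p * (p * (p * p)) := by ring
      _ ≤ _ := Nat.mul_le_mul_left p this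
  have hidx : (commutator G).index ≤ p := by
    have h4 := Subgroup.card_mul_index (commutator G)
    rw [← heq, ← h4, mul_comm p] at hc
    exact Nat.le_of_mul_le_mul_left hc Nat.card_pos
  haveI : Nontrivial G := Finite.one_lt_card_iff_nontrivial.mp (by
    rw [heq]; exact Nat.one_lt_pow (by norm_num) hp.out.one_lt)
  have hfr : frattini G ≠ ⊤ := Lib.PGroup.frattini_ne_top
  have hfi : (frattini G).index ≤ p :=
    (Nat.le_of_dvd (Nat.pos_of_ne_zero Subgroup.index_ne_zero_of_finite)
      (Subgroup.index_dvd_of_le (Lib.PGroup.commutator_le_frattini hG))).trans hidx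
  -- so the group is cyclic
  obtain ⟨g, hg⟩ : ∃ g : G, g ∉ frattini G := by
    by_contra hall
    push Not at hall
    exact hfr (eq_top_iff.mpr fun x _ => hall x)
  have hzt : zpowers g = ⊤ := by
    refine frattini_nongenerating ?_
    by_contra hne'
    have hlt : frattini G < zpowers g ⊔ frattini G :=
      lt_of_le_of_ne le_sup_right fun he => hg (he ▸ mem_sup_left (mem_zpowers g))
    have hi1 : (zpowers g ⊔ frattini G).index < (frattini G).index := by
      have h5 := Subgroup.relIndex_mul_index hlt.le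
      have h6 : (frattini G).relIndex (zpowers g ⊔ frattini G) ≠ 1 := fun h =>
        not_le_of_gt hlt (Subgroup.relIndex_eq_one.mp h)
      have h7 : (frattini G).relIndex (zpowers g ⊔ frattini G) ≠ 0 := Subgroup.index_ne_zero_of_finite
      have h8 : 0 < (zpowers g ⊔ frattini G).index := Nat.pos_of_ne_zero Subgroup.index_ne_zero_of_finite
      rw [← h5]
      calc (zpowers g ⊔ frattini G).index = 1 * (zpowers g ⊔ frattini G).index := (one_mul _).symm
        _ < _ := Nat.mul_lt_mul_of_pos_right (by omega) h8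
    obtain ⟨n, hn⟩ := hG.index (zpowers g ⊔ frattini G)
    rcases Nat.eq_zero_or_pos n with h | h
    · exact hne' (Subgroup.index_eq_one.mp (by rw [hn, h, pow_zero]))
    · have : p ≤ p ^ n := Nat.le_self_pow h.ne' p
      omega
  refine hne (eq_bot_iff.mpr ((Subgroup.lowerCentralSeries_antitone _ (show 1 ≤ 3 by omega)).trans ?_))
  rw [Subgroup.top_lowerCentralSeries_one, commutator_def, commutator_le]
  intro a _ b _
  obtain ⟨i, rfl⟩ := mem_zpowers_iff.mp (show a ∈ zpowers g from hzt ▸ mem_top a)
  obtain ⟨j, rfl⟩ := mem_zpowers_iff.mp (show b ∈ zpowers g from hzt ▸ mem_top b)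
  exact mem_bot.mpr (commutatorElement_eq_one_iff_commute.mpr (Commute.zpow_zpow (Commute.refl g) i j))

theorem isRegular_of_card_le [Fact p.Prime] (hp3 : 3 < p) {G : Type u} [Group G] [Finite G]
    (hG : IsPGroup p G) (hcard : Nat.card G ≤ p ^ 4) : PowLaw p G := by
  refine powLaw_of_lcs (eq_bot_iff.mpr ?_)
  exact (Subgroup.lowerCentralSeries_antitone _ (show 3 ≤ p - 1 by omega)).trans
    (lcs_three_eq_bot hG hcard).le

/-- A group of exponent `p` and rank at most 2 has order at most `p^3`. -/
theorem card_le_of_exponent [hp : Fact p.Prime] {G : Type*} [Group G] [Finite G]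
    (hexp : ∀ x : G, x ^ p = 1)
    (hrk : ∀ E : Subgroup G, Cfsg.IsElementaryAbelian p E → Nat.card E ≤ p ^ 2) :
    Nat.card G ≤ p ^ 3 := by
  have hG : IsPGroup p G := fun x => ⟨1, by rw [pow_one]; exact hexp x⟩
  have hp0 := hp.out.pos
  rcases subsingleton_or_nontrivial G with hs | hn
  · rw [Nat.card_of_subsingleton (1 : G)]
    exact Nat.one_le_pow _ _ hp0
  obtain ⟨z, -, hzc, hz⟩ := exists_mem_center_orderOf_eq hG (N := (⊤ : Subgroup G)) top_ne_bot
  set Z := zpowers z with hZ
  have hZc : Z ≤ center G := zpowers_le.mpr hzc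
  haveI hZn : Z.Normal := ⟨fun a ha g => by
    rw [mem_center_iff.mp (hZc ha) g, mul_inv_cancel_right]; exact ha⟩
  have hZcard : Nat.card Z = p := by rw [hZ, Nat.card_zpowers, hz]
  rcases subsingleton_or_nontrivial (G ⧸ Z) with hs | hn'
  · have h1 : Z.index = 1 := by rw [index_eq_card]; exact Nat.card_of_subsingleton (1 : G ⧸ Z)
    have h2 := Subgroup.card_mul_index Z
    rw [h1, mul_one, hZcard] at h2
    rw [← h2]
    exact Nat.le_self_pow three_ne_zero p
  obtain ⟨n', -, hnc, hn1⟩ := exists_mem_center_orderOf_eq (hG.to_quotient Z)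
    (N := (⊤ : Subgroup (G ⧸ Z))) top_ne_bot
  obtain ⟨n, rfl⟩ := QuotientGroup.mk'_surjective Z n'
  have hnZ : n ∉ Z := fun h => by
    rw [QuotientGroup.mk'_apply, (QuotientGroup.eq_one_iff n).mpr h, orderOf_one] at hn1
    exact hp.out.one_lt.ne hn1
  -- the centraliser of `n` has index at most `p`
  have hidx : (centralizer ({n} : Set G)).index ≤ p := by
    rw [index_eq_card, ← hZcard]
    have hmem : ∀ g : G, ⁅g, n⁆ ∈ Z := fun g => by
      rw [← QuotientGroup.ker_mk' Z, MonoidHom.mem_ker, map_commutatorElement,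
        commutatorElement_eq_one_iff_commute]
      exact mem_center_iff.mp hnc _
    refine Nat.card_le_card_of_injective (fun q : G ⧸ centralizer ({n} : Set G) =>
      (⟨⁅q.out, n⁆, hmem _⟩ : Z)) fun q1 q2 h => ?_
    have h1 : q1.out * n * q1.out⁻¹ * n⁻¹ = q2.out * n * q2.out⁻¹ * n⁻¹ := congrArg Subtype.val h
    rw [← q1.out_eq', ← q2.out_eq', QuotientGroup.eq, mem_centralizer_singleton_iff]
    have h2 := mul_right_cancel h1
    calc q1.out⁻¹ * q2.out * n = q1.out⁻¹ * (q2.out * n * q2.out⁻¹) * q2.out := by group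
      _ = q1.out⁻¹ * (q1.out * n * q1.out⁻¹) * q2.out := by rw [h2]
      _ = n * (q1.out⁻¹ * q2.out) := by group
  -- and it is contained in an elementary abelian group of order `p^2`
  set E := closure ({z, n} : Set G) with hEdef
  have hzn : Commute z n := (mem_center_iff.mp hzc n).symm
  have hEc : ∀ c ∈ centralizer ({n} : Set G), closure ({z, n, c} : Set G) = E := by
    intro c hc
    have hcn : Commute c n := mem_centralizer_singleton_iff.mp hc
    have hcomm : ∀ x ∈ ({z, n, c} : Set G), ∀ y ∈ ({z, n, c} : Set G), x * y = y * x := by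
      rintro _ (rfl | rfl | rfl) _ (rfl | rfl | rfl)
      exacts [rfl, hzn, (mem_center_iff.mp hzc _).symm, hzn.symm, rfl, hcn.symm,
        mem_center_iff.mp hzc _, hcn, rfl]
    have hab := Subgroup.isMulCommutative_closure hcomm
    have hlt : zpowers z < E := lt_of_le_of_ne (zpowers_le.mpr (subset_closure (by simp)))
      fun he => hnZ (hZ ▸ he ▸ subset_closure (by simp))
    have hge : p ^ 2 ≤ Nat.card E := by
      have h1 : Nat.card (zpowers z) < Nat.card E := by
        refine lt_of_le_of_ne (Subgroup.card_le_of_le hlt.le) fun he => hlt.ne ?_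
        exact Subgroup.eq_of_le_of_card_ge hlt.le he.ge
      obtain ⟨k, hk⟩ := IsPGroup.iff_card.mp (hG.to_subgroup E)
      rw [hk] at h1 ⊢
      rw [Nat.card_zpowers, hz] at h1
      refine Nat.pow_le_pow_right hp0 ?_
      by_contra hk2
      have := Nat.pow_le_pow_right hp0 (show k ≤ 1 by omega)
      rw [pow_one] at this
      omega
    have hle : E ≤ closure ({z, n, c} : Set G) := closure_mono (by intro x hx; rcases hx with rfl | rfl <;> simp)
    exact (Subgroup.eq_of_le_of_card_ge hle ((hrk _ ⟨hab, fun a _ => hexp a⟩).trans hge)).symm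
  have hCE : centralizer ({n} : Set G) ≤ E := fun c hc => hEc c hc ▸ subset_closure (by simp)
  have hEcard : Nat.card E ≤ p ^ 2 := by
    refine hrk E ⟨?_, fun a _ => hexp a⟩
    refine Subgroup.isMulCommutative_closure ?_
    rintro _ (rfl | rfl) _ (rfl | rfl)
    exacts [rfl, hzn, hzn.symm, rfl]
  calc Nat.card G = Nat.card (centralizer ({n} : Set G)) * (centralizer ({n} : Set G)).index :=
        (Subgroup.card_mul_index _).symm
    _ ≤ p ^ 2 * p := Nat.mul_le_mul ((Subgroup.card_le_of_le hCE).trans hEcard) hidx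
    _ = p ^ 3 := by ring

/-- A group generated by a normal subgroup and an element of order `p`. -/
theorem card_le_mul [hp : Fact p.Prime] {G : Type*} [Group G] [Finite G] (S : Subgroup G) [S.Normal]
    {y : G} (hy : y ^ p = 1) (h : S ⊔ zpowers y = ⊤) : Nat.card G ≤ Nat.card S * p := by
  have h1 : Nat.card G ∣ Nat.card S * orderOf y := by
    have := Cfsg.Lib.Core.card_sup_dvd_mul (zpowers y) S
    rwa [sup_comm, h, Subgroup.card_top, Nat.card_zpowers, mul_comm] at this
  exact (Nat.le_of_dvd (Nat.mul_pos Nat.card_pos (orderOf_pos y)) h1).trans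
    (Nat.mul_le_mul_left _ (Nat.le_of_dvd hp.out.pos (orderOf_dvd_of_pow_eq_one hy)))

/-- For `p > 3`, in a `p`-group of rank at most 2 the elements killed by `p` are closed under
multiplication. -/
theorem omega_closed_aux [hp : Fact p.Prime] (hp3 : 3 < p) :
    ∀ (n : ℕ) (G : Type u) [Group G] [Finite G], Nat.card G ≤ n → IsPGroup p G →
      (∀ E : Subgroup G, Cfsg.IsElementaryAbelian p E → Nat.card E ≤ p ^ 2) →
      ∀ x y : G, x ^ p = 1 → y ^ p = 1 → (x * y) ^ p = 1 := by
  intro n
  induction n with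
  | zero =>
    intro G _ _ hn
    have := Nat.card_pos (α := G)
    omega
  | succ n ih =>
    intro G _ _ hn hG hrk x y hx hy
    have hrkH : ∀ H : Subgroup G, ∀ E : Subgroup H, Cfsg.IsElementaryAbelian p E → Nat.card E ≤ p ^ 2 := by
      intro H E hE
      rw [← Subgroup.card_map_of_injective (K := E) H.subtype_injective]
      exact hrk _ (isElementaryAbelian_map hE H.subtype)
    have sub : ∀ H : Subgroup G, H ≠ ⊤ → ∀ a b : G, a ∈ H → b ∈ H → a ^ p = 1 → b ^ p = 1 →
        (a * b) ^ p = 1 := by
      intro H hH a b ha hb hap hbp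
      have hlt : Nat.card H < Nat.card G :=
        lt_of_le_of_ne (Finite.card_subtype_le _) fun he => hH ((card_eq_iff_eq_top H).mp he)
      simpa using congrArg Subtype.val (ih H (by omega) (hG.to_subgroup H) (hrkH H) ⟨a, ha⟩ ⟨b, hb⟩
        (Subtype.ext (by simpa using hap)) (Subtype.ext (by simpa using hbp)))
    by_cases htop : closure ({x, y} : Set G) = ⊤
    swap
    · exact sub _ htop x y (subset_closure (by simp)) (subset_closure (by simp)) hx hy
    by_cases hxt : zpowers x = ⊤
    · have hc : Commute x y := by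
        obtain ⟨i, rfl⟩ := mem_zpowers_iff.mp (show y ∈ zpowers x from hxt ▸ mem_top y)
        exact (Commute.refl x).zpow_right i
      rw [hc.mul_pow, hx, hy, mul_one]
    obtain ⟨M, hM, hxM⟩ := (eq_top_or_exists_le_coatom (zpowers x)).resolve_left hxt
    haveI := normal_of_isCoatom hG hM
    let S : Subgroup G :=
      { carrier := {a | a ∈ M ∧ a ^ p = 1}
        one_mem' := ⟨one_mem M, one_pow _⟩
        mul_mem' := fun ha hb => ⟨mul_mem ha.1 hb.1, sub M hM.1 _ _ ha.1 hb.1 ha.2 hb.2⟩
        inv_mem' := fun {a} ha => ⟨inv_mem ha.1, by rw [inv_pow, ha.2, inv_one]⟩ }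
    haveI : S.Normal := ⟨fun a ha g => ⟨Normal.conj_mem inferInstance a ha.1 g, by
      rw [conj_pow, ha.2, mul_one, mul_inv_cancel]⟩⟩
    have hS : Nat.card S ≤ p ^ 3 :=
      card_le_of_exponent (fun a => Subtype.ext (by simpa using a.2.2)) (hrkH S)
    have hsup : S ⊔ zpowers y = ⊤ := by
      rw [eq_top_iff, ← htop, closure_le]
      rintro _ (rfl | rfl)
      · exact mem_sup_left (show _ ∈ S from ⟨hxM (mem_zpowers _), hx⟩)
      · exact mem_sup_right (mem_zpowers _)
    have hcard : Nat.card G ≤ p ^ 4 :=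
      (card_le_mul S hy hsup).trans (by rw [pow_succ p 3]; exact Nat.mul_le_mul_right p hS)
    exact good_O (good hG (isRegular_of_card_le hp3 hG hcard)) hx hy

theorem omega_closed [Fact p.Prime] (hp3 : 3 < p) {G : Type u} [Group G] [Finite G]
    (hG : IsPGroup p G) (hrk : ∀ E : Subgroup G, Cfsg.IsElementaryAbelian p E → Nat.card E ≤ p ^ 2)
    {x y : G} (hx : x ^ p = 1) (hy : y ^ p = 1) : (x * y) ^ p = 1 :=
  omega_closed_aux hp3 _ G le_rfl hG hrk x y hx hy

/-- A `p`-group with cyclic derived subgroup, `p` odd, is regular. -/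
theorem powLaw_of_isCyclic_commutator [hp : Fact p.Prime] (hp2 : p ≠ 2) {G : Type u} [Group G]
    [Finite G] (hG : IsPGroup p G) (hc : IsCyclic ↥(commutator G)) : PowLaw p G := by
  intro a b
  set H := closure ({a, b} : Set G) with hH
  refine ⟨_, ?_, HallPetrescu.err_eq a b p⟩
  refine list_prod_mem fun x hx => ?_
  obtain ⟨j, hj, rfl⟩ := List.mem_map.mp hx
  rw [List.mem_range] at hj
  have hmem := HallPetrescu.term_mem_lcs a b j
  have hp3 : 3 ≤ p := by have := hp.out.two_le; omega
  rcases Nat.lt_or_ge j p with hjp | hjp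
  · rcases Nat.lt_or_ge j 2 with hj2 | hj2
    · interval_cases j
      · rw [HallPetrescu.term_zero, one_pow]; exact one_mem _
      · rw [HallPetrescu.term_one, one_pow]; exact one_mem _
    obtain ⟨t, ht⟩ := hp.out.dvd_choose_self (by omega) hjp
    rw [ht, mul_comm, pow_mul]
    refine subset_closure ⟨_, pow_mem ?_ t, by rw [pow_one]⟩
    exact Subgroup.lowerCentralSeries_antitone _ (show 1 ≤ j - 1 by omega) hmem
  · refine pow_mem ?_ _
    have h2 : HallPetrescu.term a b j ∈ H.lowerCentralSeries 2 :=
      Subgroup.lowerCentralSeries_antitone _ (show 2 ≤ j - 1 by omega) hmem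
    refine (?_ : H.lowerCentralSeries 2 ≤ powerClosure p 1 ⁅H, H⁆) h2
    -- the second term is a proper subgroup of the cyclic first one
    haveI : IsCyclic ↥(⁅(⊤ : Subgroup G), (⊤ : Subgroup G)⁆) := hc
    haveI : IsCyclic ↥(⁅H, H⁆) :=
      isCyclic_of_injective (Subgroup.inclusion (commutator_mono (le_top : H ≤ ⊤) le_top))
        (Subgroup.inclusion_injective _)
    obtain ⟨⟨c, hcm⟩, hgen⟩ := IsCyclic.exists_generator (α := ↥(⁅H, H⁆))
    intro w hw
    have hw1 : w ∈ ⁅H, H⁆ := Subgroup.lowerCentralSeries_antitone H (show 1 ≤ 2 by omega) hw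
    obtain ⟨i, hi⟩ := mem_zpowers_iff.mp (hgen ⟨w, hw1⟩)
    have hi' : c ^ i = w := congrArg Subtype.val hi
    by_cases hbot : ⁅H, H⁆ = ⊥
    · rw [hbot, mem_bot] at hw1
      rw [hw1]
      exact one_mem _
    by_cases hdvd : (p : ℤ) ∣ i
    · obtain ⟨t, rfl⟩ := hdvd
      refine subset_closure ⟨c ^ t, zpow_mem hcm t, ?_⟩
      rw [← hi', pow_one, ← zpow_natCast, ← zpow_mul, mul_comm]
    · exfalso
      -- then `w` generates the derived subgroup, contradicting nilpotency
      haveI := hG.isNilpotent
      have hle : ⁅H, H⁆ ≤ H.lowerCentralSeries 2 := by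
        intro v hv
        obtain ⟨e, he⟩ := mem_zpowers_iff.mp (hgen ⟨v, hv⟩)
        have he' : c ^ e = v := congrArg Subtype.val he
        have hcw : c ∈ zpowers w := by
          obtain ⟨k, hk⟩ := IsPGroup.iff_orderOf.mp hG c
          have hcop : IsCoprime i ((orderOf c : ℕ) : ℤ) := by
            rw [hk, Nat.cast_pow]
            exact ((Nat.prime_iff_prime_int.mp hp.out).coprime_iff_not_dvd.mpr hdvd).symm.pow_right
          obtain ⟨r, s, hrs⟩ := hcop
          refine mem_zpowers_iff.mpr ⟨r, ?_⟩
          have e : c ^ (r * i + s * ((orderOf c : ℕ) : ℤ)) = c := by rw [hrs, zpow_one]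
          rw [zpow_add, mul_comm s, zpow_mul c ((orderOf c : ℕ) : ℤ) s, zpow_natCast,
            pow_orderOf_eq_one, one_zpow, mul_one, mul_comm r i, zpow_mul, hi'] at e
          exact e
        rw [← he']
        exact zpow_mem ((zpowers_le.mpr hw) hcw) e
      have heq : ⁅⁅H, H⁆, H⁆ = ⁅H, H⁆ := le_antisymm
        (Subgroup.lowerCentralSeries_antitone H (show 1 ≤ 2 by omega)) hle
      exact commutator_ne_self_of_isNilpotent hbot heq

/-- If a quotient by a central cyclic subgroup is metacyclic, the derived subgroup is cyclic. -/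
theorem isCyclic_commutator_of_central_quotient {G : Type*} [Group G] [Finite G] (Z : Subgroup G)
    (hZ : Z ≤ center G) [Z.Normal] (hm : Cfsg.IsMetacyclic (G ⧸ Z)) :
    IsCyclic ↥(commutator G) := by
  obtain ⟨N', hN', hNc, hQc⟩ := hm
  obtain ⟨⟨n', hn'⟩, hgn⟩ := hNc.exists_generator
  obtain ⟨g'', hgg⟩ := hQc.exists_generator
  obtain ⟨g', rfl⟩ := QuotientGroup.mk'_surjective N' g''
  obtain ⟨g, rfl⟩ := QuotientGroup.mk'_surjective Z g'
  obtain ⟨n, rfl⟩ := QuotientGroup.mk'_surjective Z n'
  set π := QuotientGroup.mk' Z with hπ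
  set M := N'.comap π with hM
  -- the preimage is abelian
  have hMgen : ∀ m ∈ M, ∃ (i : ℤ) (z : G), z ∈ Z ∧ m = n ^ i * z := by
    intro m hm
    obtain ⟨i, hi⟩ := mem_zpowers_iff.mp (hgn ⟨π m, hm⟩)
    have hi' : π n ^ i = π m := congrArg Subtype.val hi
    rw [← map_zpow, hπ, QuotientGroup.mk'_apply, QuotientGroup.mk'_apply, QuotientGroup.eq] at hi'
    exact ⟨i, _, hi', (mul_inv_cancel_left _ _).symm⟩
  have hzc : ∀ z ∈ Z, ∀ a : G, Commute z a := fun z hz a => (mem_center_iff.mp (hZ hz) a).symm
  have hnM : n ∈ M := hn'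
  have hMab : ∀ a ∈ M, ∀ b ∈ M, Commute a b := by
    intro a ha b hb
    obtain ⟨i, z, hz, rfl⟩ := hMgen a ha
    obtain ⟨k, z', hz', rfl⟩ := hMgen b hb
    exact ((Commute.zpow_zpow (Commute.refl n) i k).mul_right ((hzc z' hz' _).symm)).mul_left
      (hzc z hz _)
  -- every element is in `⟨n, g, z⟩`
  have hgen : ∀ a : G, ∃ m ∈ M, ∃ k : ℤ, a = g ^ k * m := by
    intro a
    obtain ⟨k, hk⟩ := mem_zpowers_iff.mp (hgg (QuotientGroup.mk' N' (π a)))
    rw [← map_zpow, ← map_zpow] at hk
    have hk2 := QuotientGroup.eq.mp hk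
    rw [← map_inv, ← map_mul] at hk2
    exact ⟨(g ^ k)⁻¹ * a, hk2, k, (mul_inv_cancel_left _ _).symm⟩
  -- the commutator of the two generators generates a normal subgroup
  set d := ⁅g, n⁆ with hd
  have hgnM : g * n * g⁻¹ ∈ M := Normal.conj_mem inferInstance n hnM g
  have hdM : d ∈ M := by rw [hd, commutatorElement_def]; exact mul_mem hgnM (inv_mem hnM)
  obtain ⟨s, t, ht, hst⟩ := hMgen d hdM
  have hgd : g * d * g⁻¹ = d ^ (1 + s) := by
    have hgn' : g * n * g⁻¹ = d * n := by rw [hd, commutatorElement_def, inv_mul_cancel_right]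
    conv_lhs => rw [hst]
    rw [← conj_mul, ← conj_zpow, hgn', ← (hzc t ht g).eq]
    rw [mul_inv_cancel_right, Commute.mul_zpow (hMab d hdM n hnM), mul_assoc, ← hst, ← zpow_add_one,
      add_comm]
  haveI hDnormal : (zpowers d).Normal := by
    have hgk' : ∀ k : ℕ, ∀ a ∈ zpowers d, g ^ k * a * (g ^ k)⁻¹ ∈ zpowers d := by
      intro k
      induction k with
      | zero => intro a ha; simpa using ha
      | succ k ih =>
        intro a ha
        obtain ⟨i, rfl⟩ := mem_zpowers_iff.mp ha
        have h1 : g * d ^ i * g⁻¹ ∈ zpowers d := by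
          rw [← conj_zpow, hgd, ← zpow_mul]; exact zpow_mem_zpowers _ _
        have := ih _ h1
        convert this using 1
        rw [pow_succ]; group
    have hgk : ∀ k : ℤ, ∀ a ∈ zpowers d, g ^ k * a * (g ^ k)⁻¹ ∈ zpowers d := by
      intro k a ha
      obtain ⟨m, hm⟩ := (mem_powers_iff_mem_zpowers (x := g) (y := g ^ k)).mpr (zpow_mem_zpowers _ _)
      have hm' : g ^ m = g ^ k := hm
      rw [← hm']; exact hgk' m a ha
    refine ⟨fun a ha b => ?_⟩
    obtain ⟨m, hm, k, rfl⟩ := hgen b
    have haM : a ∈ M := (zpowers_le.mpr hdM) ha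
    have e : g ^ k * m * a * (g ^ k * m)⁻¹ = g ^ k * a * (g ^ k)⁻¹ := by
      rw [mul_inv_rev, mul_assoc (g ^ k) m a, (hMab m hm a haM).eq]; group
    rw [e]; exact hgk k a ha
  -- the derived subgroup lies in it
  have hsub : commutator G ≤ zpowers d := by
    set f := QuotientGroup.mk' (zpowers d) with hf
    have hgn2 : Commute (f g) (f n) := by
      rw [← commutatorElement_eq_one_iff_commute, ← map_commutatorElement, ← MonoidHom.mem_ker,
        hf, QuotientGroup.ker_mk']
      exact mem_zpowers _
    have hfz : ∀ z ∈ Z, ∀ a, Commute (f z) (f a) := fun z hz a => (hzc z hz a).map f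
    have hfM : ∀ m ∈ M, ∀ b, Commute (f m) (f b) := by
      intro m hm b
      obtain ⟨i, z, hz, rfl⟩ := hMgen m hm
      obtain ⟨m', hm', k, rfl⟩ := hgen b
      rw [map_mul, map_mul, map_zpow, map_zpow]
      refine ((?_ : Commute (f n ^ i) _).mul_left ?_)
      · refine (Commute.zpow_left ?_ i)
        exact (hgn2.symm.zpow_right k).mul_right ((hMab n hnM m' hm').map f)
      · rw [← map_zpow, ← map_mul]; exact hfz z hz _
    rw [_root_.commutator_def, commutator_le]
    intro a _ b _
    rw [← QuotientGroup.ker_mk' (zpowers d), MonoidHom.mem_ker, map_commutatorElement,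
      commutatorElement_eq_one_iff_commute]
    obtain ⟨m, hm, k, rfl⟩ := hgen a
    obtain ⟨m', hm', l, rfl⟩ := hgen b
    rw [map_mul]
    refine Commute.mul_left ?_ (hfM m hm _)
    rw [map_mul]
    refine Commute.mul_right ?_ (hfM m' hm' _).symm
    rw [map_zpow, map_zpow]
    exact Commute.zpow_zpow (Commute.refl _) k l
  exact isCyclic_of_injective (Subgroup.inclusion hsub) (Subgroup.inclusion_injective _)

theorem isCyclic_commutator_of_quotient {G : Type*} [Group G] [Finite G] (z : G) (hz : z ∈ center G)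
    [(zpowers z).Normal] (hm : Cfsg.IsMetacyclic (G ⧸ zpowers z)) : IsCyclic ↥(commutator G) :=
  isCyclic_commutator_of_central_quotient (zpowers z) (zpowers_le.mpr hz) hm

theorem isMulCommutative_of_card_le_sq [hp : Fact p.Prime] {G : Type*} [Group G] [Finite G]
    (hG : IsPGroup p G) (h : Nat.card G ≤ p ^ 2) : IsMulCommutative G := by
  obtain ⟨n, hn⟩ := IsPGroup.iff_card.mp hG
  have h2 : n ≤ 2 := by
    rw [hn] at h
    exact (Nat.pow_le_pow_iff_right hp.out.one_lt).mp h
  interval_cases n
  · haveI : Subsingleton G := (Nat.card_eq_one_iff_unique.mp (by simpa using hn)).1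
    exact ⟨⟨fun a b => Subsingleton.elim _ _⟩⟩
  · haveI := isCyclic_of_prime_card (p := p) (by simpa using hn)
    letI := IsCyclic.commGroup (α := G)
    exact ⟨⟨mul_comm⟩⟩
  · exact ⟨⟨IsPGroup.commutative_of_card_eq_prime_sq hn⟩⟩

/-- `G/℧₁(G)` of order at most `p²` forces a metacyclic group, `p` odd. -/
theorem metacyclic_of_index_aux [hp : Fact p.Prime] (hp2 : p ≠ 2) :
    ∀ (n : ℕ) (G : Type u) [Group G] [Finite G], Nat.card G ≤ n → IsPGroup p G →
      (powerClosure p 1 (⊤ : Subgroup G)).index ≤ p ^ 2 → Cfsg.IsMetacyclic G := by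
  intro n
  induction n with
  | zero =>
    intro G _ _ hn
    have := Nat.card_pos (α := G)
    omega
  | succ n ih =>
    intro G _ _ hn hG hU
    set U := powerClosure p 1 (⊤ : Subgroup G) with hUdef
    rcases subsingleton_or_nontrivial G with hs | hnt
    · exact ⟨⊥, inferInstance, inferInstance, isCyclic_of_subsingleton⟩
    have hcyc : IsCyclic ↥(commutator G) := by
      by_cases hbot : U = ⊥
      · rw [hbot, Subgroup.index_bot] at hU
        haveI := isMulCommutative_of_card_le_sq hG hU
        rw [(_root_.commutator_def G)]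
        have : ⁅(⊤ : Subgroup G), (⊤ : Subgroup G)⁆ = ⊥ := by
          rw [eq_bot_iff, commutator_le]
          intro a _ b _
          exact mem_bot.mpr (commutatorElement_eq_one_iff_commute.mpr (IsMulCommutative.is_comm.comm a b))
        rw [this]
        infer_instance
      obtain ⟨z, hzU, hzc, hz⟩ := exists_mem_center_orderOf_eq hG hbot
      haveI : (zpowers z).Normal := ⟨fun a ha g => by
        rw [mem_center_iff.mp (zpowers_le.mpr hzc ha) g, mul_inv_cancel_right]; exact ha⟩
      refine isCyclic_commutator_of_quotient z hzc (ih _ ?_ (hG.to_quotient _) ?_)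
      · have h1 := Subgroup.card_eq_card_quotient_mul_card_subgroup (zpowers z)
        rw [Nat.card_zpowers, hz] at h1
        have h2 : 0 < Nat.card (G ⧸ zpowers z) := Nat.card_pos
        have h3 := Nat.mul_le_mul_left (Nat.card (G ⧸ zpowers z)) hp.out.two_le
        omega
      · rw [← Subgroup.map_top_of_surjective _ (QuotientGroup.mk'_surjective (zpowers z)),
          ← map_powerClosure]
        exact (Nat.le_of_dvd (Nat.pos_of_ne_zero Subgroup.index_ne_zero_of_finite)
          (Subgroup.index_map_dvd _ (QuotientGroup.mk'_surjective _))).trans hU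
    have hgood := good hG (powLaw_of_isCyclic_commutator hp2 hG hcyc)
    have hUeq : U = powSubgroup hgood := powerClosure_one_eq hgood
    haveI hUn : U.Normal := inferInstance
    have hQcard : Nat.card (G ⧸ U) ≤ p ^ 2 := by rw [← Subgroup.index_eq_card]; exact hU
    have hcomm : commutator G ≤ U := by
      haveI := isMulCommutative_of_card_le_sq (hG.to_quotient U) hQcard
      rw [(_root_.commutator_def G), commutator_le]
      intro a _ b _
      rw [← QuotientGroup.ker_mk' U, MonoidHom.mem_ker, map_commutatorElement,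
        commutatorElement_eq_one_iff_commute]
      exact IsMulCommutative.is_comm.comm _ _
    have hpowU : ∀ a : G, a ^ p ∈ U := fun a => subset_closure ⟨a, mem_top a, by rw [pow_one]⟩
    have hfr : frattini G = U := by
      refine le_antisymm (Lib.PGroup.frattini_le_of_commutator_le_of_pow_mem hcomm hpowU) ?_
      refine (closure_le _).mpr ?_
      rintro _ ⟨a, -, rfl⟩
      rw [pow_one]
      exact Lib.PGroup.pow_mem_frattini hG a
    have hUne : U ≠ ⊤ := hfr ▸ Lib.PGroup.frattini_ne_top
    -- an element outside the Frattini subgroup whose powers contain the derived subgroup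
    have hroot : ∀ m : ℕ, ∀ y : G, Nat.card G ≤ orderOf y + m → y ≠ 1 →
        ∃ x, x ∉ U ∧ y ∈ zpowers x := by
      intro m
      induction m with
      | zero =>
        intro y hy hy1
        refine ⟨y, fun hyU => ?_, mem_zpowers y⟩
        have h1 : zpowers y = ⊤ := eq_top_of_card_eq _ (le_antisymm (Finite.card_subtype_le _)
          (by rw [Nat.card_zpowers]; omega))
        exact hUne (top_le_iff.mp (h1 ▸ zpowers_le.mpr hyU))
      | succ m ihm =>
        intro y hy hy1
        by_cases hyU : y ∈ U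
        swap
        · exact ⟨y, hyU, mem_zpowers y⟩
        rw [hUeq] at hyU
        obtain ⟨w, rfl⟩ := hyU
        have hw : p ∣ orderOf w := by
          obtain ⟨k, hk⟩ := IsPGroup.iff_orderOf.mp hG w
          rw [hk]
          refine dvd_pow_self p fun hk0 => hy1 ?_
          rw [hk0, pow_zero, orderOf_eq_one_iff] at hk
          rw [hk, one_pow]
        have hlt : orderOf (w ^ p) < orderOf w := by
          rw [orderOf_pow' w hp.out.ne_zero, Nat.gcd_eq_right hw]
          exact Nat.div_lt_self (orderOf_pos w) hp.out.one_lt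
        obtain ⟨x, hx, hwx⟩ := ihm w (by omega) (fun h => hy1 (by rw [h, one_pow]))
        exact ⟨x, hx, pow_mem hwx p⟩
    obtain ⟨⟨c, hc⟩, hgenc⟩ := hcyc.exists_generator
    obtain ⟨x, hxU, hcx⟩ : ∃ x, x ∉ U ∧ c ∈ zpowers x := by
      by_cases hc1 : c = 1
      · obtain ⟨x, hx⟩ : ∃ x, x ∉ U := by
          by_contra hall
          push Not at hall
          exact hUne (eq_top_iff.mpr fun a _ => hall a)
        exact ⟨x, hx, hc1 ▸ one_mem _⟩
      · exact hroot (Nat.card G) c (Nat.le_add_left _ _) hc1
    have hcN : commutator G ≤ zpowers x := fun a ha => by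
      obtain ⟨i, hi⟩ := mem_zpowers_iff.mp (hgenc ⟨a, ha⟩)
      have e : c ^ i = a := congrArg Subtype.val hi
      rw [← e]
      exact zpow_mem hcx i
    haveI hNn : (zpowers x).Normal := ⟨fun a ha g => by
      have e : g * a * g⁻¹ = ⁅g, a⁆ * a := by simp [commutatorElement_def, mul_assoc]
      rw [e]
      exact mul_mem (hcN (Subgroup.commutator_mem_commutator (mem_top g) (mem_top a))) ha⟩
    refine ⟨zpowers x, hNn, inferInstance, ?_⟩
    suffices hgex : ∃ g, zpowers g ⊔ zpowers x = ⊤ by
      obtain ⟨g, hg⟩ := hgex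
      refine ⟨QuotientGroup.mk' (zpowers x) g, fun q => ?_⟩
      obtain ⟨a, rfl⟩ := QuotientGroup.mk'_surjective (zpowers x) q
      obtain ⟨u, hu, v, hv, huv⟩ := (mem_sup_of_normal_right
        (s := zpowers g) (t := zpowers x)).mp (show a ∈ zpowers g ⊔ zpowers x from hg ▸ mem_top a)
      obtain ⟨i, rfl⟩ := mem_zpowers_iff.mp hu
      refine mem_zpowers_iff.mpr ⟨i, ?_⟩
      have hv1 : QuotientGroup.mk' (zpowers x) v = 1 := (QuotientGroup.eq_one_iff v).mpr hv
      rw [← huv, map_mul, map_zpow, hv1, mul_one]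
    have hlt : U < zpowers x ⊔ U :=
      lt_of_le_of_ne le_sup_right fun he => hxU (he ▸ mem_sup_left (mem_zpowers x))
    set V := zpowers x ⊔ U with hVdef
    obtain ⟨k, hk⟩ := hG.index V
    have hk1 : k ≤ 1 := by
      by_contra hk2
      have h1 := Subgroup.relIndex_mul_index hlt.le
      have h2 : U.relIndex V ≠ 1 := fun h => not_le_of_gt hlt (Subgroup.relIndex_eq_one.mp h)
      have h3 : U.relIndex V ≠ 0 := Subgroup.index_ne_zero_of_finite
      have h4 : p ^ 2 ≤ V.index := by rw [hk]; exact Nat.pow_le_pow_right hp.out.pos (by omega)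
      have h5 : 0 < p ^ 2 := pow_pos hp.out.pos 2
      have h6 : 2 * V.index ≤ U.index := by
        rw [← h1]; exact Nat.mul_le_mul_right _ (by omega)
      omega
    by_cases hVtop : V = ⊤
    · refine ⟨1, ?_⟩
      refine frattini_nongenerating ?_
      rw [hfr, sup_assoc]
      exact top_le_iff.mp (hVtop.ge.trans le_sup_right)
    · obtain ⟨g, hg⟩ : ∃ g, g ∉ V := by
        by_contra hall
        push Not at hall
        exact hVtop (eq_top_iff.mpr fun a _ => hall a)
      have hk1' : k = 1 := by
        rcases Nat.eq_zero_or_pos k with h | h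
        · exact absurd (Subgroup.index_eq_one.mp (by rw [hk, h, pow_zero])) hVtop
        · omega
      refine ⟨g, frattini_nongenerating ?_⟩
      rw [hfr, sup_assoc]
      by_contra hne
      have hlt2 : V < zpowers g ⊔ V :=
        lt_of_le_of_ne le_sup_right fun he => hg (he ▸ mem_sup_left (mem_zpowers g))
      have h1 := Subgroup.relIndex_mul_index hlt2.le
      have h2 : V.relIndex (zpowers g ⊔ V) ≠ 1 := fun h =>
        not_le_of_gt hlt2 (Subgroup.relIndex_eq_one.mp h)
      have h3 : (zpowers g ⊔ V).index ≠ 1 := fun h => hne (Subgroup.index_eq_one.mp h)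
      rw [hk, hk1', pow_one] at h1
      rcases hp.out.eq_one_or_self_of_dvd _ (Dvd.intro _ h1) with h | h
      · exact h2 h
      · rw [h] at h1
        exact h3 (Nat.eq_of_mul_eq_mul_left hp.out.pos (h1.trans (mul_one p).symm))

theorem isMetacyclic_map {G H : Type u} [Group G] [Group H] (f : G →* H)
    (hf : Function.Surjective f) (h : Cfsg.IsMetacyclic G) : Cfsg.IsMetacyclic H := by
  obtain ⟨N, hN, hNc, hQc⟩ := h
  haveI := hN.map f hf
  refine ⟨N.map f, inferInstance, ?_, ?_⟩
  · exact isCyclic_of_surjective (f.subgroupMap N) (f.subgroupMap_surjective N)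
  · refine isCyclic_of_surjective (QuotientGroup.map N (N.map f) f (le_comap_map f N)) ?_
    intro q
    obtain ⟨h', rfl⟩ := QuotientGroup.mk'_surjective _ q
    obtain ⟨g, rfl⟩ := hf h'
    exact ⟨QuotientGroup.mk g, rfl⟩

theorem isCyclic_commutator_of_metacyclic [hp : Fact p.Prime] {G : Type u} [Group G] [Finite G]
    (hG : IsPGroup p G) (h : Cfsg.IsMetacyclic G) : IsCyclic ↥(commutator G) := by
  rcases subsingleton_or_nontrivial G with hs | hnt
  · exact isCyclic_of_subsingleton
  obtain ⟨z, -, hzc, -⟩ := exists_mem_center_orderOf_eq hG (N := (⊤ : Subgroup G)) top_ne_bot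
  haveI : (zpowers z).Normal := ⟨fun a ha g => by
    rw [mem_center_iff.mp (zpowers_le.mpr hzc ha) g, mul_inv_cancel_right]; exact ha⟩
  exact isCyclic_commutator_of_quotient z hzc
    (isMetacyclic_map (QuotientGroup.mk' _) (QuotientGroup.mk'_surjective _) h)

/-- For a metacyclic group the subgroup generated by the elements killed by `p` is small. -/
theorem omegaOne_card_le_of_metacyclic [hp : Fact p.Prime] (hp2 : p ≠ 2) {G : Type*} [Group G]
    [Finite G] (hG : IsPGroup p G) (h : Cfsg.IsMetacyclic G) :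
    Nat.card ↥(Cfsg.omegaOne p (⊤ : Subgroup G)) ≤ p ^ 2 := by
  obtain ⟨E, hE, -, hEc⟩ := exists_omega_of_metacyclic hp2 hG h
  refine le_trans (Subgroup.card_le_of_le ?_) hEc
  exact (closure_le _).mpr fun x hx => (hE x).mpr hx.2

theorem rank_le_of_omega {G : Type*} [Group G] [Finite G]
    (hO : Nat.card ↥(Cfsg.omegaOne p (⊤ : Subgroup G)) ≤ p ^ 2) (E : Subgroup G)
    (hE : Cfsg.IsElementaryAbelian p E) : Nat.card E ≤ p ^ 2 :=
  (Subgroup.card_le_of_le fun x hx => subset_closure ⟨mem_top x, hE.2 x hx⟩ :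
    Nat.card E ≤ Nat.card ↥(Cfsg.omegaOne p (⊤ : Subgroup G))).trans hO

theorem index_powSubgroup [hp : Fact p.Prime] {G : Type u} [Group G] [Finite G] (h : Good p G) :
    (powSubgroup h).index = Nat.card ↥(omegaSubgroup h) := by
  let F : G ⧸ omegaSubgroup h → ↥(powSubgroup h) :=
    Quotient.lift (fun a => ⟨a ^ p, a, rfl⟩) fun a b hab => by
      have hab' : a⁻¹ * b ∈ omegaSubgroup h := QuotientGroup.leftRel_apply.mp hab
      refine Subtype.ext ((good_E h a b).mpr ?_)
      have h1 : (a⁻¹ * b)⁻¹ ^ p = 1 := by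
        rw [inv_pow, show (a⁻¹ * b) ^ p = 1 from hab', inv_one]
      have e : a * b⁻¹ = b * (a⁻¹ * b)⁻¹ * b⁻¹ := by group
      rw [e, conj_pow, h1, mul_one, mul_inv_cancel]
  have hF : Function.Bijective F := by
    refine ⟨fun q1 q2 he => ?_, fun ⟨_, a, rfl⟩ => ⟨QuotientGroup.mk a, rfl⟩⟩
    revert he
    refine Quotient.inductionOn₂ q1 q2 fun a b he => ?_
    have he' : a ^ p = b ^ p := congrArg Subtype.val he
    have h1 : (a * b⁻¹) ^ p = 1 := (good_E h a b).mp he'
    refine Quotient.sound (QuotientGroup.leftRel_apply.mpr ?_)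
    show (a⁻¹ * b) ^ p = 1
    have e : a⁻¹ * b = b⁻¹ * (a * b⁻¹)⁻¹ * b⁻¹⁻¹ := by group
    rw [e, conj_pow, inv_pow (a * b⁻¹), h1, inv_one, mul_one, mul_inv_cancel]
  have h1 : (omegaSubgroup h).index = Nat.card ↥(powSubgroup h) := by
    rw [Subgroup.index_eq_card]; exact Nat.card_eq_of_bijective F hF
  have h2 := Subgroup.card_mul_index (omegaSubgroup h)
  have h3 := Subgroup.card_mul_index (powSubgroup h)
  rw [h1, ← h3, mul_comm] at h2
  exact (Nat.eq_of_mul_eq_mul_left Nat.card_pos h2).symm

/-- Huppert's criterion. -/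
theorem metacyclic_of_omega_aux [hp : Fact p.Prime] (hp3 : 3 < p) :
    ∀ (n : ℕ) (G : Type u) [Group G] [Finite G], Nat.card G ≤ n → IsPGroup p G →
      Nat.card ↥(Cfsg.omegaOne p (⊤ : Subgroup G)) ≤ p ^ 2 → Cfsg.IsMetacyclic G := by
  have hp2 : p ≠ 2 := by omega
  intro n
  induction n with
  | zero =>
    intro G _ _ hn
    have := Nat.card_pos (α := G)
    omega
  | succ n ih =>
    intro G _ _ hn hG hO
    have sub : ∀ H : Subgroup G, H ≠ ⊤ → Cfsg.IsMetacyclic ↥H := by
      intro H hH
      have hlt : Nat.card H < Nat.card G :=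
        lt_of_le_of_ne (Finite.card_subtype_le _) fun he => hH ((card_eq_iff_eq_top H).mp he)
      refine ih H (by omega) (hG.to_subgroup H) (le_trans ?_ hO)
      rw [← Subgroup.card_map_of_injective (K := Cfsg.omegaOne p (⊤ : Subgroup H)) H.subtype_injective]
      refine Subgroup.card_le_of_le ?_
      rw [Cfsg.omegaOne, MonoidHom.map_closure, closure_le]
      rintro _ ⟨a, ha, rfl⟩
      exact subset_closure ⟨mem_top _, by simpa using congrArg Subtype.val ha.2⟩
    have hlaw : PowLaw p G := by
      intro a b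
      by_cases htop : closure ({a, b} : Set G) = ⊤
      swap
      · obtain ⟨c, hc, he⟩ := powLaw_of_isCyclic_commutator hp2 (hG.to_subgroup _)
          (isCyclic_commutator_of_metacyclic (hG.to_subgroup _) (sub _ htop))
          ⟨a, subset_closure (by simp)⟩ ⟨b, subset_closure (by simp)⟩
        refine ⟨c, ?_, by simpa using congrArg Subtype.val he⟩
        have hm := mem_map_of_mem (closure ({a, b} : Set G)).subtype hc
        rw [map_powerClosure, map_commutator, map_closure_pair] at hm
        exact hm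
      refine (?_ : PowLaw p G) a b
      rcases subsingleton_or_nontrivial G with hs | hnt
      · exact isRegular_of_card_le hp3 hG (by
          rw [Nat.card_of_subsingleton (1 : G)]; exact Nat.one_le_pow _ _ hp.out.pos)
      obtain ⟨z, -, hzc, hz⟩ := exists_mem_center_orderOf_eq hG (N := (⊤ : Subgroup G)) top_ne_bot
      haveI : (zpowers z).Normal := ⟨fun u hu g => by
        rw [mem_center_iff.mp (zpowers_le.mpr hzc hu) g, mul_inv_cancel_right]; exact hu⟩
      set π := QuotientGroup.mk' (zpowers z) with hπ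
      have hπs : Function.Surjective π := QuotientGroup.mk'_surjective _
      set S := (Cfsg.omegaOne p (⊤ : Subgroup (G ⧸ zpowers z))).comap π with hS
      have hcardQ : Nat.card G = Nat.card (G ⧸ zpowers z) * p := by
        rw [Subgroup.card_eq_card_quotient_mul_card_subgroup (zpowers z), Nat.card_zpowers, hz]
      -- proper subgroups of the quotient are metacyclic
      have subQ : ∀ T : Subgroup (G ⧸ zpowers z), T ≠ ⊤ → Cfsg.IsMetacyclic ↥T := by
        intro T hT
        have hne : T.comap π ≠ ⊤ := fun h => hT (by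
          rw [← map_comap_eq_self_of_surjective hπs T, h, map_top_of_surjective π hπs])
        refine isMetacyclic_map
          ((π.comp (T.comap π).subtype).codRestrict T fun x => x.2) ?_ (sub _ hne)
        rintro ⟨q, hq⟩
        obtain ⟨g, rfl⟩ := hπs q
        exact ⟨⟨g, hq⟩, rfl⟩
      by_cases hST : Cfsg.omegaOne p (⊤ : Subgroup (G ⧸ zpowers z)) = ⊤
      · -- the quotient is small
        have hQrk : ∀ E : Subgroup (G ⧸ zpowers z), Cfsg.IsElementaryAbelian p E → Nat.card E ≤ p ^ 2 := by
          intro E hE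
          by_cases hEt : E = ⊤
          · subst hEt
            rw [Subgroup.card_top]
            have hcomm : ∀ u v : G ⧸ zpowers z, u * v = v * u := fun u v =>
              congrArg Subtype.val (hE.1.is_comm.comm (⟨u, mem_top u⟩ : (⊤ : Subgroup _)) ⟨v, mem_top v⟩)
            haveI : (zpowers (π b)).Normal := ⟨fun u hu g => by
              rw [hcomm g u, mul_inv_cancel_right]; exact hu⟩
            have hgen2 : zpowers (π a) ⊔ zpowers (π b) = ⊤ := by
              rw [eq_top_iff, ← map_top_of_surjective π hπs, ← htop, map_closure_pair, closure_le]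
              rintro _ (rfl | rfl)
              · exact mem_sup_left (mem_zpowers _)
              · exact mem_sup_right (mem_zpowers _)
            have h1 := Cfsg.Lib.Core.card_sup_dvd_mul (zpowers (π a)) (zpowers (π b))
            rw [hgen2, Subgroup.card_top, Nat.card_zpowers, Nat.card_zpowers] at h1
            have ha' : orderOf (π a) ≤ p :=
              Nat.le_of_dvd hp.out.pos (orderOf_dvd_of_pow_eq_one (hE.2 _ (mem_top _)))
            have hb' : orderOf (π b) ≤ p :=
              Nat.le_of_dvd hp.out.pos (orderOf_dvd_of_pow_eq_one (hE.2 _ (mem_top _)))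
            exact (Nat.le_of_dvd (Nat.mul_pos (orderOf_pos _) (orderOf_pos _)) h1).trans
              ((Nat.mul_le_mul ha' hb').trans (sq p).ge)
          · have h := (rank_le_of_omega (omegaOne_card_le_of_metacyclic hp2
              ((hG.to_quotient _).to_subgroup E) (subQ E hEt)) ⊤ ⟨⟨⟨fun u v => Subtype.ext
                (Subtype.ext (congrArg Subtype.val (hE.1.is_comm.comm u.1 v.1)))⟩⟩,
                fun u _ => Subtype.ext (by simpa using hE.2 u.1 u.2)⟩)
            rwa [Subgroup.card_top] at h
        have hexp : ∀ u : G ⧸ zpowers z, u ^ p = 1 := by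
          intro u
          have hu : u ∈ Cfsg.omegaOne p (⊤ : Subgroup (G ⧸ zpowers z)) := by rw [hST]; exact mem_top u
          refine closure_induction (p := fun u _ => u ^ p = 1) (fun u hu => hu.2) (one_pow _)
            (fun u v _ _ hu hv => omega_closed hp3 (hG.to_quotient _) hQrk hu hv)
            (fun u _ hu => by rw [inv_pow, hu, inv_one]) hu
        refine isRegular_of_card_le hp3 hG ?_
        rw [hcardQ, pow_succ p 3]
        exact Nat.mul_le_mul_right p (card_le_of_exponent hexp hQrk)
      · refine powLaw_of_isCyclic_commutator hp2 hG (isCyclic_commutator_of_quotient z hzc ?_)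
        refine ih _ ?_ (hG.to_quotient _) ?_
        · have h2 : 0 < Nat.card (G ⧸ zpowers z) := Nat.card_pos
          have h3 := Nat.mul_le_mul_left (Nat.card (G ⧸ zpowers z)) hp.out.two_le
          omega
        · refine le_trans ?_ (omegaOne_card_le_of_metacyclic hp2
            ((hG.to_quotient _).to_subgroup _) (subQ _ hST))
          rw [← Subgroup.card_map_of_injective (K := Cfsg.omegaOne p
            (⊤ : Subgroup ↥(Cfsg.omegaOne p (⊤ : Subgroup (G ⧸ zpowers z)))))
            (Subgroup.subtype_injective _)]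
          refine Subgroup.card_le_of_le ((closure_le _).mpr fun u hu => ?_)
          exact ⟨⟨u, subset_closure hu⟩, subset_closure ⟨mem_top _, Subtype.ext (by simpa using hu.2)⟩, rfl⟩
    have hg := good hG hlaw
    refine metacyclic_of_index_aux hp2 _ G le_rfl hG ?_
    rw [powerClosure_one_eq hg, index_powSubgroup hg]
    refine le_trans (Subgroup.card_le_of_le ?_) hO
    exact fun x hx => subset_closure ⟨mem_top x, hx⟩

theorem metacyclic_of_omega [Fact p.Prime] (hp3 : 3 < p) {G : Type u} [Group G] [Finite G]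
    (hG : IsPGroup p G) (hO : Nat.card ↥(Cfsg.omegaOne p (⊤ : Subgroup G)) ≤ p ^ 2) :
    Cfsg.IsMetacyclic G :=
  metacyclic_of_omega_aux hp3 _ G le_rfl hG hO

/-- Powers of a product whose commutator is central. -/
theorem mul_pow_of_central_comm {G : Type*} [Group G] (x y : G) (h : ⁅y, x⁆ ∈ center G) :
    ∀ n : ℕ, (x * y) ^ n = x ^ n * y ^ n * ⁅y, x⁆ ^ n.choose 2 := by
  have hc : ∀ g : G, Commute ⁅y, x⁆ g := fun g => (mem_center_iff.mp h g).symm
  have hyx : ∀ n : ℕ, y ^ n * x = x * y ^ n * ⁅y, x⁆ ^ n := by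
    intro n
    induction n with
    | zero => simp
    | succ k ih =>
      have e : y * x = ⁅y, x⁆ * (x * y) := by simp [commutatorElement_def, mul_assoc]
      rw [pow_succ' y, mul_assoc, ih, ← mul_assoc, ← mul_assoc, e]
      rw [pow_succ' ⁅y, x⁆, (hc (x * y)).eq, mul_assoc x y, mul_assoc, mul_assoc, mul_assoc,
        mul_assoc, mul_assoc]
      congr 2
      rw [← mul_assoc, (hc (y ^ k)).eq, mul_assoc]
  intro n
  induction n with
  | zero => simp
  | succ k ih =>
    have e : (k + 1).choose 2 = k.choose 2 + k := by simp [Nat.choose_succ_succ, Nat.add_comm]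
    rw [pow_succ, ih, e, pow_add, pow_succ x, pow_succ y]
    have h1 : y ^ k * ⁅y, x⁆ ^ k.choose 2 * (x * y) = y ^ k * x * y * ⁅y, x⁆ ^ k.choose 2 := by
      rw [mul_assoc, ((hc (x * y)).pow_left _).eq, ← mul_assoc, ← mul_assoc]
    calc x ^ k * y ^ k * ⁅y, x⁆ ^ k.choose 2 * (x * y)
        = x ^ k * (y ^ k * x * y * ⁅y, x⁆ ^ k.choose 2) := by rw [← h1]; simp only [mul_assoc]
      _ = x ^ k * (x * y ^ k * (⁅y, x⁆ ^ k * y) * ⁅y, x⁆ ^ k.choose 2) := by
        rw [hyx k]; simp only [mul_assoc]
      _ = x ^ k * x * (y ^ k * y) * (⁅y, x⁆ ^ k.choose 2 * ⁅y, x⁆ ^ k) := by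
        rw [((hc y).pow_left k).eq, ← pow_add, Nat.add_comm, pow_add]; simp only [mul_assoc]
      _ = _ := by simp only [pow_zero, one_mul, pow_add]

/-- A group whose elements of order `p` are central and few is metacyclic, `p` odd. -/
theorem metacyclic_of_central_omega_aux [hp : Fact p.Prime] (hp2 : p ≠ 2) :
    ∀ (n : ℕ) (G : Type u) [Group G] [Finite G], Nat.card G ≤ n → IsPGroup p G →
      (∀ x : G, x ^ p = 1 → x ∈ center G) →
      Nat.card {x : G // x ^ p = 1} ≤ p ^ 2 → Cfsg.IsMetacyclic G := by
  intro n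
  induction n with
  | zero =>
    intro G _ _ hn
    have := Nat.card_pos (α := G)
    omega
  | succ n ih =>
    intro G _ _ hn hG hc hO
    rcases subsingleton_or_nontrivial G with hs | hnt
    · exact ⟨⊥, inferInstance, inferInstance, isCyclic_of_subsingleton⟩
    -- proper subgroups are regular
    have sub : ∀ H : Subgroup G, H ≠ ⊤ → Good p ↥H := by
      intro H hH
      have hlt : Nat.card H < Nat.card G :=
        lt_of_le_of_ne (Finite.card_subtype_le _) fun he => hH ((card_eq_iff_eq_top H).mp he)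
      refine good (hG.to_subgroup H) (powLaw_of_isCyclic_commutator hp2 (hG.to_subgroup H)
        (isCyclic_commutator_of_metacyclic (hG.to_subgroup H) (ih H (by omega) (hG.to_subgroup H) ?_ ?_)))
      · intro x hx
        refine mem_center_iff.mpr fun g => Subtype.ext ?_
        exact mem_center_iff.mp (hc (x : G) (by simpa using congrArg Subtype.val hx)) g
      · refine le_trans (Nat.card_le_card_of_injective
          (fun x : {x : H // x ^ p = 1} => (⟨(x.1 : G), by simpa using congrArg Subtype.val x.2⟩ :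
            {x : G // x ^ p = 1})) fun x y h => Subtype.ext (Subtype.ext (by simpa using congrArg Subtype.val h))) hO
    let Z : Subgroup G :=
      { carrier := {x | x ^ p = 1}
        one_mem' := one_pow p
        mul_mem' := fun {a b} (ha : a ^ p = 1) (hb : b ^ p = 1) => by
          show (a * b) ^ p = 1
          rw [(Commute.mul_pow ((mem_center_iff.mp (hc a ha) b).symm) p), ha, hb, one_mul]
        inv_mem' := fun {a} (ha : a ^ p = 1) => by
          show a⁻¹ ^ p = 1
          rw [inv_pow, ha, inv_one] }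
    have hZc : Z ≤ center G := fun x hx => hc x hx
    haveI : Z.Normal := ⟨fun a ha g => by
      rw [mem_center_iff.mp (hZc ha) g, mul_inv_cancel_right]; exact ha⟩
    have hkey : ∀ x y : G, x ^ p ∈ Z → ⁅x, y⁆ ∈ Z := by
      intro x y hx
      show ⁅x, y⁆ ^ p = 1
      by_cases hcomm : IsMulCommutative G
      · rw [commutatorElement_eq_one_iff_commute.mpr (hcomm.is_comm.comm x y), one_pow]
      have hH0 : closure ({x, ⁅y, x⁆} : Set G) ≠ ⊤ :=
        closure_pair_ne_top hG hcomm x (commutator_mem_commutator (mem_top y) (mem_top x))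
      have hx0 : x ∈ closure ({x, ⁅y, x⁆} : Set G) := subset_closure (by simp)
      have hy0 : y * x * y⁻¹ ∈ closure ({x, ⁅y, x⁆} : Set G) := by
        have e : y * x * y⁻¹ = ⁅y, x⁆ * x := by simp [commutatorElement_def, mul_assoc]
        rw [e]; exact mul_mem (subset_closure (by simp)) hx0
      have hconj : x ^ p = (y * x * y⁻¹) ^ p := by
        rw [conj_pow, mem_center_iff.mp (hZc hx) y, mul_inv_cancel_right]
      have := (good_E (sub _ hH0) ⟨x, hx0⟩ ⟨_, hy0⟩).mp (Subtype.ext (by simpa using hconj))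
      have e : ⁅x, y⁆ = x * (y * x * y⁻¹)⁻¹ := by simp [commutatorElement_def, mul_assoc]
      rw [e]; simpa using congrArg Subtype.val this
    set π := QuotientGroup.mk' Z with hπ
    have hQ : Cfsg.IsMetacyclic (G ⧸ Z) := by
      refine ih _ ?_ (hG.to_quotient Z) ?_ ?_
      · have h1 := Subgroup.card_eq_card_quotient_mul_card_subgroup Z
        have h2 : 2 ≤ Nat.card Z := by
          obtain ⟨z, -, -, hz⟩ := exists_mem_center_orderOf_eq hG (N := (⊤ : Subgroup G)) top_ne_bot
          have h3 : zpowers z ≤ Z := zpowers_le.mpr (show z ^ p = 1 by rw [← hz, pow_orderOf_eq_one])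
          have h4 := Subgroup.card_le_of_le h3
          rw [Nat.card_zpowers, hz] at h4
          exact hp.out.two_le.trans h4
        have h5 : 0 < Nat.card (G ⧸ Z) := Nat.card_pos
        have h6 := Nat.mul_le_mul_left (Nat.card (G ⧸ Z)) h2
        omega
      · intro q hq
        obtain ⟨x, rfl⟩ := QuotientGroup.mk'_surjective Z q
        rw [← map_pow] at hq
        refine mem_center_iff.mpr fun r => ?_
        obtain ⟨y, rfl⟩ := QuotientGroup.mk'_surjective Z r
        refine (Commute.symm ?_).eq
        rw [← commutatorElement_eq_one_iff_commute, ← map_commutatorElement]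
        exact (QuotientGroup.eq_one_iff _).mpr (hkey x y ((QuotientGroup.eq_one_iff _).mp hq))
      · refine le_trans (Nat.card_le_card_of_injective
          (fun q : {q : G ⧸ Z // q ^ p = 1} => (⟨q.1.out ^ p, ?_⟩ : {x : G // x ^ p = 1})) ?_) hO
        · have h : q.1.out ^ p ∈ Z := by
            rw [← QuotientGroup.eq_one_iff, QuotientGroup.mk_pow, QuotientGroup.out_eq']
            exact q.2
          exact h
        · intro q r h
          have h' : q.1.out ^ p = r.1.out ^ p := congrArg Subtype.val h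
          have hqZ : q.1.out ^ p ∈ Z := by
            rw [← QuotientGroup.eq_one_iff, QuotientGroup.mk_pow, QuotientGroup.out_eq']
            exact q.2
          refine Subtype.ext ?_
          rw [← q.1.out_eq', ← r.1.out_eq', QuotientGroup.eq]
          show (q.1.out⁻¹ * r.1.out) ^ p = 1
          set a := q.1.out
          set b := r.1.out
          -- `a⁻¹` and `b` commute modulo a central subgroup of exponent `p`
          have hcm : ⁅b, a⁻¹⁆ ∈ Z := hkey b a⁻¹ (h' ▸ hqZ)
          have hpow : (a⁻¹ * b) ^ p = a⁻¹ ^ p * b ^ p * ⁅b, a⁻¹⁆ ^ p.choose 2 :=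
            mul_pow_of_central_comm a⁻¹ b (hZc hcm) p
          obtain ⟨t, ht⟩ := hp.out.dvd_choose_self two_ne_zero
            (lt_of_le_of_ne hp.out.two_le (Ne.symm hp2))
          rw [hpow, ht, pow_mul, show ⁅b, a⁻¹⁆ ^ p = 1 from hcm, one_pow, mul_one, inv_pow, h',
            inv_mul_cancel]
    have hcyc := isCyclic_commutator_of_central_quotient Z hZc hQ
    have hg := good hG (powLaw_of_isCyclic_commutator hp2 hG hcyc)
    refine metacyclic_of_index_aux hp2 _ G le_rfl hG ?_
    rw [powerClosure_one_eq hg, index_powSubgroup hg]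
    exact hO

theorem metacyclic_of_central_omega [Fact p.Prime] (hp2 : p ≠ 2) {G : Type u} [Group G] [Finite G]
    (hG : IsPGroup p G) (hc : ∀ x : G, x ^ p = 1 → x ∈ center G)
    (hO : Nat.card {x : G // x ^ p = 1} ≤ p ^ 2) : Cfsg.IsMetacyclic G :=
  metacyclic_of_central_omega_aux hp2 _ G le_rfl hG hc hO

end Cfsg.Lib.PGroup.Huppert
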