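import Mathlib
import Cfsg.Agent.Lib.PGroup.Basic
import Cfsg.Agent.Lib.PGroup.Noncyclic
import Cfsg.Agent.Lib.TwoGroup.MaximalClass
import Cfsg.Agent.S0127

/-!
# Kulakoff's theorem on the number of subgroups of a given prime power order

For a `p`-group `G` of order `p ^ m` and `k < m` the number of subgroups of order `p ^ k` is congruent to `1` modulo
`p ^ 2` if `G` is cyclic, or if `p = 2`, `G` has maximal class and `k + 1 < m`; otherwise it is congruent to `1 + p`.
-/

set_option autoImplicit false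
set_option linter.style.haveILetI false

namespace Cfsg.Lib.PGroup.Kulakoff

open Subgroup
open scoped commutatorElement

universe u

variable {p : ℕ} [hp : Fact p.Prime]

/-- The subgroups of order `p ^ k` inside `M`. -/
noncomputable def cnt {G : Type u} [Group G] (p k : ℕ) (M : Subgroup G) : ℕ :=
  Nat.card {H : Subgroup G // H ≤ M ∧ Nat.card H = p ^ k}

/-- The maximal subgroups containing `K`. -/
noncomputable def mx {G : Type u} [Group G] (K : Subgroup G) : ℕ :=
  Nat.card {M : Subgroup G // IsCoatom M ∧ K ≤ M}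

lemma cnt_eq_top {G : Type u} [Group G] (p k : ℕ) (M : Subgroup G) : cnt p k M = cnt p k (⊤ : Subgroup M) := by
  refine Nat.card_congr
    { toFun := fun H => ⟨H.1.subgroupOf M, le_top, ?_⟩
      invFun := fun H => ⟨H.1.map M.subtype, map_subtype_le _, by
        rw [card_map_of_injective M.subtype_injective]; exact H.2.2⟩
      left_inv := fun H => Subtype.ext (map_subgroupOf_eq_of_le H.2.1)
      right_inv := fun H => Subtype.ext (comap_map_eq_self_of_injective M.subtype_injective _) }
  rw [Nat.card_congr (subgroupOfEquivOfLe H.2.1).toEquiv]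
  exact H.2.2

section basic

variable {G : Type u} [Group G] [Finite G]

lemma index_eq_sq_of_inf (hG : IsPGroup p G) {M M₀ : Subgroup G} (hM : IsCoatom M) (h₀ : IsCoatom M₀)
    (hne : M ≠ M₀) : (M ⊓ M₀).index = p ^ 2 := by
  haveI := Cfsg.Lib.PGroup.normal_of_isCoatom hG hM
  have htop : M ⊔ M₀ = ⊤ := hM.2 _ (left_lt_sup.2 fun h => hne (le_antisymm
    ((h₀.le_iff.1 (le_refl M₀)).elim (fun e => absurd e h₀.1) fun _ => by
      rcases h.eq_or_lt with e | e
      · exact e.ge
      · exact absurd (h₀.2 _ e) hM.1) h))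
  rw [← relIndex_mul_index (show M ⊓ M₀ ≤ M₀ from inf_le_right), inf_relIndex_right, ← relIndex_sup_right, sup_comm,
    htop, relIndex_top_right, Cfsg.Lib.PGroup.index_of_isCoatom hG hM, Cfsg.Lib.PGroup.index_of_isCoatom hG h₀, sq]

lemma isCoatom_of_index (M : Subgroup G) (h : M.index = p) : IsCoatom M := by
  refine ⟨fun ht => hp.out.ne_one (by rw [← h, ht, index_top]), fun K hK => ?_⟩
  rcases (Nat.dvd_prime hp.out).1 (h ▸ index_dvd_of_le hK.le) with h1 | h1
  · exact index_eq_one.1 h1
  · exfalso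
    refine hK.ne (eq_of_le_of_card_ge hK.le (le_of_eq ?_))
    have h2 := K.card_mul_index
    have h3 := M.card_mul_index
    rw [h1] at h2
    rw [h] at h3
    exact Nat.eq_of_mul_eq_mul_right hp.out.pos (h2.trans h3.symm)

/-- Each subgroup `N` of index `p ^ 2` above `Φ(G)` lies in exactly `p` maximal subgroups other than a given one. -/
lemma card_fibre (hG : IsPGroup p G) {M₀ N : Subgroup G} (h₀ : IsCoatom M₀) (hNM : N ≤ M₀)
    (hΦ : frattini G ≤ N) (hi : N.index = p ^ 2) :
    Nat.card {M : Subgroup G // IsCoatom M ∧ N ≤ M ∧ M ≠ M₀} = p := by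
  classical
  letI := Fintype.ofFinite G
  letI : Fintype {M : Subgroup G // IsCoatom M ∧ N ≤ M ∧ M ≠ M₀} := Fintype.ofFinite _
  haveI : N.Normal := Normal.of_commutator_le _ ((Cfsg.Lib.PGroup.commutator_le_frattini hG).trans hΦ)
  set S : Finset G := Finset.univ.filter (fun g => g ∉ M₀) with hS
  have hex : ∀ g ∈ S, IsCoatom (N ⊔ zpowers g) ∧ N ⊔ zpowers g ≠ M₀ := by
    intro g hg
    simp only [hS, Finset.mem_filter, Finset.mem_univ, true_and] at hg
    refine ⟨isCoatom_of_index (p := p) _ ?_, fun h => hg (h ▸ mem_sup_right (mem_zpowers g))⟩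
    have hdvd : (N ⊔ zpowers g).index ∣ p ^ 2 := hi ▸ index_dvd_of_le le_sup_left
    obtain ⟨j, hj, hjj⟩ := (Nat.dvd_prime_pow hp.out).1 hdvd
    have hle : N.relIndex (N ⊔ zpowers g) ≤ p := by
      rw [relIndex_sup_left]
      refine Nat.le_of_dvd hp.out.pos ?_
      have h1 : zpowers (g ^ p) ≤ N ⊓ zpowers g := le_inf
        (zpowers_le.2 (hΦ (Cfsg.Lib.PGroup.pow_mem_frattini hG g))) (zpowers_le.2 (pow_mem (mem_zpowers g) p))
      rw [← inf_relIndex_right]
      refine (relIndex_dvd_of_le_left _ h1).trans ?_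
      have h3 := relIndex_mul_relIndex ⊥ (zpowers (g ^ p)) (zpowers g) bot_le
        (zpowers_le.2 (pow_mem (mem_zpowers g) p))
      rw [relIndex_bot_left, relIndex_bot_left, Nat.card_zpowers, Nat.card_zpowers, orderOf_pow] at h3
      rcases (Nat.dvd_prime hp.out).1 (Nat.gcd_dvd_right (orderOf g) p) with h4 | h4
      · rw [h4, Nat.div_one] at h3
        rw [(mul_eq_left₀ (orderOf_pos g).ne').1 h3]
        exact one_dvd _
      · rw [h4] at h3
        have h5 := Nat.div_mul_cancel (h4 ▸ Nat.gcd_dvd_left (orderOf g) p : p ∣ orderOf g)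
        exact dvd_of_eq (Nat.eq_of_mul_eq_mul_left
          (Nat.div_pos (Nat.le_of_dvd (orderOf_pos g) (h4 ▸ Nat.gcd_dvd_left (orderOf g) p)) hp.out.pos) (h3.trans h5.symm))
    have hmul := relIndex_mul_index (show N ≤ N ⊔ zpowers g from le_sup_left)
    rw [hi, hjj] at hmul
    interval_cases j
    · exfalso
      rw [pow_zero, mul_one] at hmul
      rw [hmul, sq] at hle
      have := hp.out.two_le
      nlinarith
    · rw [hjj, pow_one]
    · exfalso
      have h1 : N.relIndex (N ⊔ zpowers g) = 1 := Nat.eq_of_mul_eq_mul_right (pow_pos hp.out.pos 2)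
        (by rw [hmul, one_mul])
      exact hg (hNM (relIndex_eq_one.1 h1 (mem_sup_right (mem_zpowers g))))
  have hsum := Finset.card_eq_sum_card_fiberwise (s := S) (t := (Finset.univ : Finset (Subgroup G)).filter
    (fun M => IsCoatom M ∧ N ≤ M ∧ M ≠ M₀)) (f := fun g => N ⊔ zpowers g) fun g hg => by
      simp only [Finset.coe_filter, Finset.mem_univ, true_and, Set.mem_setOf_eq]
      exact ⟨(hex g hg).1, le_sup_left, (hex g hg).2⟩
  have hfib : ∀ M ∈ (Finset.univ : Finset (Subgroup G)).filter (fun M => IsCoatom M ∧ N ≤ M ∧ M ≠ M₀),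
      (S.filter fun g => N ⊔ zpowers g = M).card = Nat.card M - Nat.card N := by
    intro M hM
    simp only [Finset.mem_filter, Finset.mem_univ, true_and] at hM
    have hNeq : M ⊓ M₀ = N := by
      refine (eq_of_le_of_card_ge (le_inf hM.2.1 hNM) (le_of_eq ?_)).symm
      have h1 := (M ⊓ M₀).card_mul_index
      have h2 := N.card_mul_index
      rw [index_eq_sq_of_inf hG hM.1 h₀ hM.2.2] at h1
      rw [hi] at h2
      exact Nat.eq_of_mul_eq_mul_right (pow_pos hp.out.pos 2) (h1.trans h2.symm)
    have : (S.filter fun g => N ⊔ zpowers g = M) =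
        (Finset.univ.filter fun g => g ∈ M) \ (Finset.univ.filter fun g => g ∈ N) := by
      ext g
      simp only [hS, Finset.mem_filter, Finset.mem_univ, true_and, Finset.mem_sdiff]
      constructor
      · rintro ⟨hg, rfl⟩
        exact ⟨mem_sup_right (mem_zpowers g), fun h => hg (hNM h)⟩
      · rintro ⟨hgM, hgN⟩
        have hg : g ∉ M₀ := fun h => hgN (hNeq ▸ ⟨hgM, h⟩)
        refine ⟨hg, ?_⟩
        have hle : N ⊔ zpowers g ≤ M := sup_le hM.2.1 (zpowers_le.2 hgM)
        rcases hle.eq_or_lt with h | h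
        · exact h
        · exact absurd ((hex g (by simp [hS, hg])).1.2 _ h) hM.1.1
    rw [this, Finset.card_sdiff_of_subset (fun g hg => by
      simp only [Finset.mem_filter, Finset.mem_univ, true_and] at hg ⊢
      exact hM.2.1 hg), ← Fintype.card_subtype, ← Fintype.card_subtype, ← Nat.card_eq_fintype_card,
      ← Nat.card_eq_fintype_card]
  have hcardM : ∀ M : Subgroup G, IsCoatom M → Nat.card M = p * Nat.card N := by
    intro M hM
    have h1 := M.card_mul_index
    have h2 := N.card_mul_index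
    rw [Cfsg.Lib.PGroup.index_of_isCoatom hG hM] at h1
    rw [hi, ← h1, sq, ← mul_assoc] at h2
    rw [mul_comm p]
    exact (Nat.eq_of_mul_eq_mul_right hp.out.pos h2).symm
  rw [Finset.sum_congr rfl hfib, Finset.sum_congr rfl
    (fun M hM => by rw [hcardM M (Finset.mem_filter.1 hM).2.1]), Finset.sum_const, smul_eq_mul] at hsum
  have hSc : S.card = p * (p * Nat.card N - Nat.card N) := by
    rw [hS, Finset.filter_not, Finset.card_sdiff_of_subset (Finset.filter_subset _ _), Finset.card_univ,
      ← Fintype.card_subtype, ← Nat.card_eq_fintype_card, ← Nat.card_eq_fintype_card, hcardM M₀ h₀,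
      ← N.card_mul_index, hi]
    rw [Nat.mul_sub, sq]
    congr 1
    ring
  rw [hSc] at hsum
  rw [Nat.card_eq_fintype_card, Fintype.card_subtype]
  have hpos : 0 < p * Nat.card N - Nat.card N := by
    have : 0 < Nat.card N := Nat.card_pos
    have := hp.out.two_le
    have : 2 * Nat.card N ≤ p * Nat.card N := Nat.mul_le_mul_right _ (by omega)
    omega
  exact (Nat.eq_of_mul_eq_mul_right hpos hsum).symm

/-- The number of maximal subgroups above `K` is `1 + p t`. -/
lemma mx_eq (hG : IsPGroup p G) (K : Subgroup G) {M₀ : Subgroup G} (h₀ : IsCoatom M₀) (hK : K ≤ M₀) :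
    mx K = 1 + p * Nat.card {N : Subgroup G // K ⊔ frattini G ≤ N ∧ N ≤ M₀ ∧ N.index = p ^ 2} := by
  classical
  letI := Fintype.ofFinite G
  rw [mx, Nat.card_eq_fintype_card, Fintype.card_subtype, Nat.card_eq_fintype_card, Fintype.card_subtype]
  set A := Finset.univ.filter fun M : Subgroup G => IsCoatom M ∧ K ≤ M
  set T := Finset.univ.filter fun N : Subgroup G => K ⊔ frattini G ≤ N ∧ N ≤ M₀ ∧ N.index = p ^ 2
  have hmem : M₀ ∈ A := by simp [A, h₀, hK]
  rw [← Finset.card_erase_add_one hmem, add_comm, Finset.card_eq_sum_card_fiberwise (t := T) (f := fun M => M ⊓ M₀)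
    fun M hM => by
      simp only [A, Finset.coe_erase, Finset.coe_filter, Finset.mem_univ, true_and, Set.mem_sdiff, Set.mem_setOf_eq,
        Set.mem_singleton_iff] at hM
      simp only [T, Finset.coe_filter, Finset.mem_univ, true_and, Set.mem_setOf_eq]
      exact ⟨sup_le (le_inf hM.1.2 hK) (le_inf (frattini_le_coatom hM.1.1) (frattini_le_coatom h₀)), inf_le_right,
        index_eq_sq_of_inf hG hM.1.1 h₀ hM.2⟩]
  congr 1
  rw [Finset.sum_congr rfl (g := fun _ => p) ?_, Finset.sum_const, smul_eq_mul, mul_comm]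
  intro N hN
  simp only [T, Finset.mem_filter, Finset.mem_univ, true_and] at hN
  rw [← card_fibre hG h₀ hN.2.1 (le_sup_right.trans hN.1) hN.2.2, Nat.card_eq_fintype_card, Fintype.card_subtype]
  congr 1
  ext M
  simp only [A, Finset.mem_filter, Finset.mem_erase, Finset.mem_univ, true_and]
  constructor
  · rintro ⟨⟨hne, hc, -⟩, rfl⟩
    exact ⟨hc, inf_le_left, hne⟩
  · rintro ⟨hc, hNM, hne⟩
    refine ⟨⟨hne, hc, (le_sup_left.trans hN.1).trans hNM⟩, ?_⟩
    refine (eq_of_le_of_card_ge (le_inf hNM hN.2.1) (le_of_eq ?_)).symm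
    have h1 := (M ⊓ M₀).card_mul_index
    have h2 := N.card_mul_index
    rw [index_eq_sq_of_inf hG hc h₀ hne] at h1
    rw [hN.2.2] at h2
    exact Nat.eq_of_mul_eq_mul_right (pow_pos hp.out.pos 2) (h1.trans h2.symm)

lemma mx_mod (hG : IsPGroup p G) {K : Subgroup G} (hK : K ≠ ⊤) : mx K ≡ 1 [MOD p] := by
  obtain ⟨M₀, h₀, hle⟩ := (eq_top_or_exists_le_coatom K).resolve_left hK
  rw [mx_eq hG K h₀ hle, Nat.ModEq, Nat.add_mul_mod_self_left]

lemma mx_of_isCoatom {K : Subgroup G} (hK : IsCoatom K) : mx K = 1 := by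
  rw [mx, Nat.card_eq_one_iff_unique]
  refine ⟨⟨fun a b => Subtype.ext ?_⟩, ⟨⟨K, hK, le_rfl⟩⟩⟩
  have h : ∀ M : Subgroup G, IsCoatom M → K ≤ M → M = K := fun M hM hle => by
    rcases hle.eq_or_lt with e | e
    · exact e.symm
    · exact absurd (hK.2 _ e) hM.1
  exact (h _ a.2.1 a.2.2).trans (h _ b.2.1 b.2.2).symm

/-- Subgroups of index `p ^ 2` below `M₀` and above `K` are the maximal subgroups of `M₀` above `K`. -/
lemma card_T_eq (hG : IsPGroup p G) (K : Subgroup G) {M₀ : Subgroup G} (h₀ : IsCoatom M₀) (hK : K ≤ M₀) :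
    Nat.card {N : Subgroup G // K ≤ N ∧ N ≤ M₀ ∧ N.index = p ^ 2} = mx (K.subgroupOf M₀) := by
  refine Nat.card_congr
    { toFun := fun N => ⟨N.1.subgroupOf M₀, isCoatom_of_index (p := p) _ ?_, fun x hx => N.2.1 hx⟩
      invFun := fun M => ⟨M.1.map M₀.subtype, ?_, map_subtype_le _, ?_⟩
      left_inv := fun N => Subtype.ext (map_subgroupOf_eq_of_le N.2.2.1)
      right_inv := fun M => Subtype.ext (comap_map_eq_self_of_injective M₀.subtype_injective _) }
  · have h1 := relIndex_mul_index N.2.2.1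
    rw [N.2.2.2, Cfsg.Lib.PGroup.index_of_isCoatom hG h₀] at h1
    exact Nat.eq_of_mul_eq_mul_right hp.out.pos (h1.trans (sq p))
  · intro x hx
    exact ⟨⟨x, hK hx⟩, M.2.2 hx, rfl⟩
  · rw [index_map_subtype, Cfsg.Lib.PGroup.index_of_isCoatom (hG.to_subgroup M₀) M.2.1,
      Cfsg.Lib.PGroup.index_of_isCoatom hG h₀, sq]

lemma mx_mod_sq (hG : IsPGroup p G) {K : Subgroup G} (hΦ : frattini G ≤ K) (hK : K ≠ ⊤) (hKc : ¬ IsCoatom K) :
    mx K ≡ 1 + p [MOD p ^ 2] := by
  obtain ⟨M₀, h₀, hle⟩ := (eq_top_or_exists_le_coatom K).resolve_left hK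
  rw [mx_eq hG K h₀ hle, sup_eq_left.2 hΦ, card_T_eq hG K h₀ hle]
  have hne : K.subgroupOf M₀ ≠ ⊤ := fun h => hKc (by
    rw [le_antisymm hle (subgroupOf_eq_top.1 h)]; exact h₀)
  have h := (mx_mod (hG.to_subgroup M₀) hne).mul_left' p
  rw [mul_one, ← sq] at h
  exact h.add_left 1

lemma mx_of_le (K : Subgroup G) {L : Subgroup G} (hL : L ≤ frattini G) : mx (K ⊔ L) = mx K := by
  refine Nat.card_congr (Equiv.subtypeEquivRight fun M => ?_)
  exact ⟨fun h => ⟨h.1, le_sup_left.trans h.2⟩, fun h => ⟨h.1, sup_le h.2 (hL.trans (frattini_le_coatom h.1))⟩⟩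

lemma mx_of_eq_top {K : Subgroup G} (hK : K = ⊤) : mx K = 0 := by
  subst hK
  haveI : IsEmpty {M : Subgroup G // IsCoatom M ∧ ⊤ ≤ M} := ⟨fun M => M.2.1.1 (top_le_iff.1 M.2.2)⟩
  exact Nat.card_of_isEmpty

/-- Double counting. -/
lemma sum_cnt {P : Subgroup G → Prop} (k : ℕ) (M₁ : Subgroup G) (hP : ∀ M, P M → M ≤ M₁) [DecidablePred P]
    [Fintype (Subgroup G)] [DecidablePred fun H : Subgroup G => H ≤ M₁ ∧ Nat.card H = p ^ k] :
    ∑ M ∈ Finset.univ.filter P, cnt p k M =
      ∑ H ∈ Finset.univ.filter (fun H : Subgroup G => H ≤ M₁ ∧ Nat.card H = p ^ k),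
        Nat.card {M : Subgroup G // P M ∧ H ≤ M} := by
  classical
  have h1 : ∀ M ∈ Finset.univ.filter P, cnt p k M =
      ((Finset.univ.filter (fun H : Subgroup G => H ≤ M₁ ∧ Nat.card H = p ^ k)).filter (fun H => H ≤ M)).card := by
    intro M hM
    rw [cnt, Nat.card_eq_fintype_card, Fintype.card_subtype, Finset.filter_filter]
    congr 1
    ext H
    simp only [Finset.mem_filter, Finset.mem_univ, true_and]
    exact ⟨fun h => ⟨⟨h.1.trans (hP M (Finset.mem_filter.1 hM).2), h.2⟩, h.1⟩, fun h => ⟨h.2, h.1.2⟩⟩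
  rw [Finset.sum_congr rfl h1]
  simp only [Finset.card_filter]
  rw [Finset.sum_comm]
  refine Finset.sum_congr rfl fun H _ => ?_
  rw [← Finset.card_filter, Nat.card_eq_fintype_card, Fintype.card_subtype, Finset.filter_filter]

lemma sum_modEq {ι : Type*} (s : Finset ι) {n : ℕ} {f g : ι → ℕ} (h : ∀ i ∈ s, f i ≡ g i [MOD n]) :
    ∑ i ∈ s, f i ≡ ∑ i ∈ s, g i [MOD n] := by
  classical
  induction s using Finset.induction_on with
  | empty => simp [Nat.ModEq]
  | insert a s ha ih =>
    rw [Finset.sum_insert ha, Finset.sum_insert ha]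
    exact (h a (Finset.mem_insert_self a s)).add (ih fun i hi => h i (Finset.mem_insert_of_mem hi))

end basic

/-- The number of subgroups of order `p ^ k` is `1` modulo `p`. -/
theorem cnt_mod : ∀ (n : ℕ) {G : Type u} [Group G] [Finite G] {m k : ℕ}, Nat.card G = n → Nat.card G = p ^ m →
    k ≤ m → cnt p k (⊤ : Subgroup G) ≡ 1 [MOD p] := by
  intro n
  induction n using Nat.strong_induction_on with
  | _ n IH =>
    intro G _ _ m k hn hG hkm
    classical
    letI := Fintype.ofFinite (Subgroup G)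
    have hGp : IsPGroup p G := IsPGroup.of_card hG
    rcases hkm.eq_or_lt with rfl | hlt
    · have : cnt p k (⊤ : Subgroup G) = 1 := by
        rw [cnt, Nat.card_eq_one_iff_unique]
        refine ⟨⟨fun a b => Subtype.ext ?_⟩, ⟨⟨⊤, le_rfl, by rw [card_top, hG]⟩⟩⟩
        rw [(card_eq_iff_eq_top _).1 (a.2.2.trans hG.symm), (card_eq_iff_eq_top _).1 (b.2.2.trans hG.symm)]
      rw [this]
    have hcount := sum_cnt (p := p) (P := fun M : Subgroup G => IsCoatom M) k ⊤ (fun M _ => le_top)
    have h1 : ∑ M ∈ Finset.univ.filter (fun M : Subgroup G => IsCoatom M), cnt p k M ≡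
        ∑ M ∈ Finset.univ.filter (fun M : Subgroup G => IsCoatom M), 1 [MOD p] := by
      refine sum_modEq _ fun M hM => ?_
      have hM' := (Finset.mem_filter.1 hM).2
      have hc : Nat.card M = p ^ (m - 1) := by
        have := M.card_mul_index
        rw [Cfsg.Lib.PGroup.index_of_isCoatom hGp hM', hG, show m = m - 1 + 1 by omega, pow_succ] at this
        exact Nat.eq_of_mul_eq_mul_right hp.out.pos this
      rw [cnt_eq_top]
      refine IH _ (hn ▸ ?_) rfl hc (by omega)
      rw [hc, hG]
      exact Nat.pow_lt_pow_right hp.out.one_lt (by omega)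
    have h2 : ∑ H ∈ Finset.univ.filter (fun H : Subgroup G => H ≤ ⊤ ∧ Nat.card H = p ^ k),
          Nat.card {M : Subgroup G // IsCoatom M ∧ H ≤ M} ≡
        ∑ H ∈ Finset.univ.filter (fun H : Subgroup G => H ≤ ⊤ ∧ Nat.card H = p ^ k), 1 [MOD p] := by
      refine sum_modEq _ fun H hH => ?_
      refine mx_mod hGp fun h => ?_
      have := (Finset.mem_filter.1 hH).2.2
      rw [h, card_top, hG] at this
      exact hlt.ne' (Nat.pow_right_injective hp.out.two_le this)
    have hall : mx (⊥ : Subgroup G) ≡ 1 [MOD p] := mx_mod hGp fun h => by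
      have h' : Nat.card (⊤ : Subgroup G) = 1 := by rw [← h, card_bot]
      rw [card_top, hG] at h'
      have := Nat.one_lt_pow (show m ≠ 0 by omega) hp.out.one_lt
      omega
    rw [Finset.sum_const, smul_eq_mul, mul_one] at h1 h2
    have e1 : cnt p k (⊤ : Subgroup G) =
        (Finset.univ.filter (fun H : Subgroup G => H ≤ ⊤ ∧ Nat.card H = p ^ k)).card := by
      rw [cnt, Nat.card_eq_fintype_card, Fintype.card_subtype]
    have e2 : mx (⊥ : Subgroup G) = (Finset.univ.filter (fun M : Subgroup G => IsCoatom M)).card := by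
      rw [mx, Nat.card_eq_fintype_card, Fintype.card_subtype]
      simp
    rw [e1]
    exact (h2.symm.trans ((hcount ▸ h1 : _))).trans (e2 ▸ hall)

section recursion

variable {G : Type u} [Group G] [Finite G]

lemma cnt_mod_sub (hG : IsPGroup p G) {k : ℕ} {M : Subgroup G} (h : p ^ k ≤ Nat.card M) :
    cnt p k M ≡ 1 [MOD p] := by
  obtain ⟨j, hj⟩ := IsPGroup.iff_card.1 (hG.to_subgroup M)
  rw [cnt_eq_top]
  exact cnt_mod _ rfl hj ((Nat.pow_le_pow_iff_right hp.out.one_lt).1 (hj ▸ h))

/-- Hall's recursion modulo `p ^ 2`. -/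
theorem sum_cnt_mod_sq {m k : ℕ} (hG : Nat.card G = p ^ m) (hk : k + 1 < m) (hnc : ¬ IsCyclic G) [Fintype (Subgroup G)]
    [DecidablePred fun M : Subgroup G => IsCoatom M] :
    ∑ M ∈ Finset.univ.filter (fun M : Subgroup G => IsCoatom M), cnt p k M ≡
      cnt p k (⊤ : Subgroup G) + p [MOD p ^ 2] := by
  classical
  have hGp : IsPGroup p G := IsPGroup.of_card hG
  rw [sum_cnt (p := p) (P := fun M : Subgroup G => IsCoatom M) k ⊤ (fun M _ => le_top)]
  set A := Finset.univ.filter (fun H : Subgroup G => H ≤ ⊤ ∧ Nat.card H = p ^ k) with hA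
  have hne : ∀ H ∈ A, H ⊔ frattini G ≠ ⊤ := fun H hH h => by
    have h1 := frattini_nongenerating h
    have h2 := (Finset.mem_filter.1 hH).2.2
    rw [h1, card_top, hG] at h2
    have := Nat.pow_right_injective hp.out.two_le h2
    omega
  have h1 : ∑ H ∈ A, Nat.card {M : Subgroup G // IsCoatom M ∧ H ≤ M} ≡
      ∑ H ∈ A, (1 + if IsCoatom (H ⊔ frattini G) then 0 else p) [MOD p ^ 2] := by
    refine sum_modEq _ fun H hH => ?_
    show mx H ≡ _ [MOD p ^ 2]
    rw [← mx_of_le H (le_refl (frattini G))]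
    split_ifs with hc
    · rw [mx_of_isCoatom hc]
    · exact mx_mod_sq hGp le_sup_right (hne H hH) hc
  refine h1.trans ?_
  have e1 : cnt p k (⊤ : Subgroup G) = A.card := by rw [cnt, Nat.card_eq_fintype_card, Fintype.card_subtype]
  rw [Finset.sum_add_distrib, Finset.sum_const, smul_eq_mul, mul_one, ← e1]
  refine Nat.ModEq.add_left _ ?_
  -- the subgroups `H` with `H Φ(G)` maximal are divisible by `p` in number
  suffices h : (A.filter fun H => ¬ IsCoatom (H ⊔ frattini G)).card ≡ 1 [MOD p] by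
    have hh := h.mul_left' p
    rw [mul_one, ← sq] at hh
    have e : ∑ H ∈ A, (if IsCoatom (H ⊔ frattini G) then 0 else p) =
        p * (A.filter fun H => ¬ IsCoatom (H ⊔ frattini G)).card := by
      rw [Finset.sum_ite, Finset.sum_const_zero, zero_add, Finset.sum_const, smul_eq_mul, mul_comm]
    rw [e]
    exact hh
  have hkey : ∀ M : Subgroup G, IsCoatom M →
      (A.filter fun H => H ⊔ frattini G = M).card ≡ 0 [MOD p] := by
    intro M hM
    have hcM : Nat.card M = p ^ (m - 1) := by
      have := M.card_mul_index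
      rw [Cfsg.Lib.PGroup.index_of_isCoatom hGp hM, hG, show m = m - 1 + 1 by omega, pow_succ] at this
      exact Nat.eq_of_mul_eq_mul_right hp.out.pos this
    have hMΦ : frattini G ≤ M := frattini_le_coatom hM
    have hMtop : (frattini G).subgroupOf M ≠ ⊤ := fun h => by
      have hle : M ≤ frattini G := subgroupOf_eq_top.1 h
      apply hnc
      have heq : frattini G = M := le_antisymm hMΦ hle
      obtain ⟨x, -, hx⟩ := SetLike.exists_of_lt (lt_top_iff_ne_top.2 hM.1)
      have htop : M ⊔ zpowers x = ⊤ := hM.2 _ (left_lt_sup.2 fun h => hx (h (mem_zpowers x)))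
      rw [← heq, sup_comm] at htop
      exact isCyclic_iff_exists_zpowers_eq_top.2 ⟨x, frattini_nongenerating htop⟩
    set P := fun N : Subgroup G => frattini G ≤ N ∧ N ≤ M ∧ N.index = p ^ 2 with hP
    have hS := sum_cnt (p := p) (P := P) k M (fun N hN => hN.2.1)
    have hT : (Finset.univ.filter P).card ≡ 1 [MOD p] := by
      rw [← Fintype.card_subtype, ← Nat.card_eq_fintype_card, card_T_eq hGp _ hM hMΦ]
      exact mx_mod (hGp.to_subgroup M) hMtop
    have hA' : ∀ H ∈ Finset.univ.filter (fun H : Subgroup G => H ≤ M ∧ Nat.card H = p ^ k),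
        Nat.card {N : Subgroup G // P N ∧ H ≤ N} ≡ (if H ⊔ frattini G = M then 0 else 1) [MOD p] := by
      intro H hH
      have hHM := (Finset.mem_filter.1 hH).2.1
      have e : Nat.card {N : Subgroup G // P N ∧ H ≤ N} = mx ((H ⊔ frattini G).subgroupOf M) := by
        rw [← card_T_eq hGp _ hM (sup_le hHM hMΦ)]
        refine Nat.card_congr (Equiv.subtypeEquivRight fun N => ?_)
        simp only [hP, sup_le_iff]
        tauto
      rw [e]
      split_ifs with hc
      · rw [mx_of_eq_top (by rw [hc, subgroupOf_self])]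
      · exact mx_mod (hGp.to_subgroup M) fun h => hc (le_antisymm (sup_le hHM hMΦ) (subgroupOf_eq_top.1 h))
    have hL : ∑ N ∈ Finset.univ.filter P, cnt p k N ≡ ∑ N ∈ Finset.univ.filter P, 1 [MOD p] := by
      refine sum_modEq _ fun N hN => ?_
      refine cnt_mod_sub hGp ?_
      have hi := (Finset.mem_filter.1 hN).2.2.2
      have h2 := N.card_mul_index
      rw [hi, hG, show m = m - 2 + 2 by omega, pow_add] at h2
      rw [Nat.eq_of_mul_eq_mul_right (pow_pos hp.out.pos 2) h2]
      exact Nat.pow_le_pow_right hp.out.pos (by omega)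
    rw [Finset.sum_const, smul_eq_mul, mul_one] at hL
    rw [hS] at hL
    have h3 := ((sum_modEq _ hA').symm.trans hL).trans hT
    rw [Finset.sum_ite, Finset.sum_const_zero, zero_add, Finset.sum_const, smul_eq_mul, mul_one] at h3
    have h4 : cnt p k M ≡ 1 [MOD p] := cnt_mod_sub hGp (hcM ▸ Nat.pow_le_pow_right hp.out.pos (by omega))
    rw [cnt, Nat.card_eq_fintype_card, Fintype.card_subtype,
      ← Finset.card_filter_add_card_filter_not (fun H => H ⊔ frattini G = M)] at h4
    have e : (A.filter fun H => H ⊔ frattini G = M) =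
        ((Finset.univ.filter fun H : Subgroup G => H ≤ M ∧ Nat.card H = p ^ k).filter fun H => H ⊔ frattini G = M) := by
      ext H
      simp only [hA, Finset.mem_filter, Finset.mem_univ, true_and, le_top]
      exact ⟨fun h => ⟨⟨h.2 ▸ le_sup_left, h.1⟩, h.2⟩, fun h => ⟨h.1.2, h.2⟩⟩
    rw [e]
    exact Nat.ModEq.add_right_cancel h3 (by rw [zero_add]; exact h4)
  have hco : (A.filter fun H => IsCoatom (H ⊔ frattini G)).card ≡ 0 [MOD p] := by
    rw [Finset.card_eq_sum_card_fiberwise (t := Finset.univ.filter (fun M : Subgroup G => IsCoatom M))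
      (f := fun H => H ⊔ frattini G) fun H hH => by
        simp only [Finset.coe_filter, Finset.mem_univ, true_and, Set.mem_setOf_eq] at hH ⊢
        exact hH.2]
    refine (sum_modEq (g := fun _ => 0) _ fun M hM => ?_).trans (by rw [Finset.sum_const_zero])
    have hM' := (Finset.mem_filter.1 hM).2
    rw [Finset.filter_filter]
    have e : (A.filter fun H => IsCoatom (H ⊔ frattini G) ∧ H ⊔ frattini G = M) =
        A.filter fun H => H ⊔ frattini G = M := by
      ext H
      simp only [Finset.mem_filter]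
      exact ⟨fun h => ⟨h.1, h.2.2⟩, fun h => ⟨h.1, h.2 ▸ hM', h.2⟩⟩
    rw [e]
    exact hkey M hM'
  have h4 : cnt p k (⊤ : Subgroup G) ≡ 1 [MOD p] :=
    cnt_mod_sub hGp (by rw [card_top, hG]; exact Nat.pow_le_pow_right hp.out.pos (by omega))
  rw [e1, ← Finset.card_filter_add_card_filter_not (fun H => IsCoatom (H ⊔ frattini G))] at h4
  exact Nat.ModEq.add_left_cancel hco (by rw [zero_add]; exact h4)

end recursion

/-- The exceptional groups, in which there are `1` modulo `p ^ 2` subgroups of order `p ^ k`. -/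
def Exc (p k : ℕ) (G : Type u) [Group G] : Prop :=
  IsCyclic G ∨ (p = 2 ∧ (commutator G).index = 4 ∧ p ^ (k + 1) < Nat.card G)

section exceptional

variable {G : Type u} [Group G] [Finite G]

lemma card_coatom {m : ℕ} (hG : Nat.card G = p ^ m) {M : Subgroup G} (hM : IsCoatom M) (hm : 1 ≤ m) :
    Nat.card M = p ^ (m - 1) := by
  have := M.card_mul_index
  rw [Cfsg.Lib.PGroup.index_of_isCoatom (IsPGroup.of_card hG) hM, hG, show m = m - 1 + 1 by omega, pow_succ] at this
  exact Nat.eq_of_mul_eq_mul_right hp.out.pos this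

lemma cyclic_sq_eq_one {M : Subgroup G} [IsCyclic M] {z w : G} (hz : z ∈ M) (hw : w ∈ M) (ho : orderOf z = p)
    (hwo : w ^ p = 1) : w ∈ zpowers z := by
  classical
  letI := Fintype.ofFinite M
  by_contra hne
  let z' : M := ⟨z, hz⟩
  have hz' : orderOf z' = p := by rw [← orderOf_coe]; exact ho
  have hsub : insert (⟨w, hw⟩ : M) ((Finset.range p).image fun i => z' ^ i) ⊆
      Finset.univ.filter fun x : M => x ^ p = 1 := by
    intro x hx
    simp only [Finset.mem_insert, Finset.mem_image, Finset.mem_range] at hx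
    simp only [Finset.mem_filter, Finset.mem_univ, true_and]
    rcases hx with rfl | ⟨i, -, rfl⟩
    · exact Subtype.ext hwo
    · rw [← pow_mul, mul_comm, pow_mul, ← hz', pow_orderOf_eq_one, one_pow]
  have h1 := (Finset.card_le_card hsub).trans (IsCyclic.card_pow_eq_one_le hp.out.pos)
  rw [Finset.card_insert_of_notMem, Finset.card_image_of_injOn, Finset.card_range] at h1
  · omega
  · intro i hi j hj hij
    refine pow_injOn_Iio_orderOf ?_ ?_ hij
    · rw [hz']; simpa using hi
    · rw [hz']; simpa using hj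
  · simp only [Finset.mem_image, Finset.mem_range, not_exists, not_and]
    exact fun i _ h => hne ⟨i, by simpa [z'] using congrArg Subtype.val h⟩

lemma exists_zpowers {M : Subgroup G} (h : IsCyclic M) : ∃ g, zpowers g = M :=
  (Subgroup.isCyclic_iff_exists_zpowers_eq_top M).1 h

/-- A noncyclic odd `p`-group has a number of cyclic maximal subgroups divisible by `p`. -/
lemma cyc_odd (h2 : p ≠ 2) (hG : IsPGroup p G) (hnc : ¬ IsCyclic G) (hbig : p ^ 2 < Nat.card G) :
    Nat.card {M : Subgroup G // IsCoatom M ∧ IsCyclic M} ≡ 0 [MOD p] := by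
  classical
  by_cases hex : ∃ M : Subgroup G, IsCoatom M ∧ IsCyclic M
  swap
  · haveI : IsEmpty {M : Subgroup G // IsCoatom M ∧ IsCyclic M} := ⟨fun M => hex ⟨M.1, M.2⟩⟩
    rw [Nat.card_of_isEmpty]
  obtain ⟨C, hC, hCc⟩ := hex
  obtain ⟨hel, hcard⟩ := Cfsg.Agent.S0127.result h2 hG hnc C hCc (Cfsg.Lib.PGroup.index_of_isCoatom hG hC)
  set Ω : Subgroup G := closure {x : G | x ^ p = 1} with hΩ
  letI := Fintype.ofFinite (Subgroup G)
  have hiff : ∀ M : Subgroup G, IsCoatom M → (¬ IsCyclic M ↔ Ω ≤ M) := by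
    intro M hM
    refine ⟨fun h => ?_, fun h hcy => ?_⟩
    · obtain ⟨E, hEM, hE, hE2⟩ := Cfsg.Lib.PGroup.Noncyclic.exists_elemAb_sq h2 hG M h
      have heq : E = Ω := eq_of_le_of_card_ge (fun e he => subset_closure (hE.2 e he))
        (by rw [hcard, hE2])
      exact heq ▸ hEM
    · haveI := hcy
      haveI : IsCyclic Ω := isCyclic_of_injective (inclusion h) (inclusion_injective h)
      obtain ⟨g, hg⟩ := exists_zpowers (M := Ω) inferInstance
      have h1 : orderOf g ∣ p := orderOf_dvd_iff_pow_eq_one.2 (hel.2 g (hg ▸ mem_zpowers g))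
      rw [← Nat.card_zpowers, hg, hcard] at h1
      have := Nat.le_of_dvd hp.out.pos h1
      have := hp.out.two_le
      nlinarith
  have htop : Ω ≠ ⊤ := fun h => by
    rw [h, card_top] at hcard
    exact hbig.ne' hcard
  have hsum : Nat.card {M : Subgroup G // IsCoatom M ∧ IsCyclic M} + mx Ω = mx (⊥ : Subgroup G) := by
    simp only [mx, Nat.card_eq_fintype_card, Fintype.card_subtype]
    rw [← Finset.card_union_of_disjoint]
    · congr 1
      ext M
      simp only [Finset.mem_union, Finset.mem_filter, Finset.mem_univ, true_and, bot_le, and_true]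
      refine ⟨fun h => h.elim (·.1) (·.1), fun h => ?_⟩
      by_cases hc : IsCyclic M
      · exact Or.inl ⟨h, hc⟩
      · exact Or.inr ⟨h, (hiff M h).1 hc⟩
    · rw [Finset.disjoint_filter]
      exact fun M _ h1 h2 => (hiff M h1.1).2 h2.2 h1.2
  have hbot : (⊥ : Subgroup G) ≠ ⊤ := fun h => by
    have : Nat.card (⊤ : Subgroup G) = 1 := by rw [← h, card_bot]
    rw [card_top] at this
    have := Nat.one_le_pow 2 p hp.out.pos
    omega
  have h3 : Nat.card {M : Subgroup G // IsCoatom M ∧ IsCyclic M} + mx Ω ≡ 1 [MOD p] := hsum ▸ mx_mod hG hbot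
  exact Nat.ModEq.add_right_cancel (mx_mod hG htop) (by rw [zero_add]; exact h3)


omit hp in
lemma comm_index_eq_card_of_comm {M : Subgroup G} (h : IsMulCommutative M) : (commutator M).index = Nat.card M := by
  rw [(Subgroup.commutator_eq_bot_iff_le_centralizer (H₁ := (⊤ : Subgroup M)) (H₂ := ⊤)).2
    (fun x _ => mem_centralizer_iff.2 fun y _ => h.is_comm.comm y x) |> (_root_.commutator_def M).trans, index_bot]

/-- For `2`-groups: a non-abelian group has abelianization of order at least four. -/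
lemma four_le_comm_index (hG : IsPGroup 2 G) (hnc : ¬ IsCyclic G) : 4 ≤ (commutator G).index := by
  haveI : Fact (Nat.Prime 2) := ⟨Nat.prime_two⟩
  obtain ⟨j, hj⟩ := hG.index (commutator G)
  rw [hj]
  rcases j with _ | _ | j
  · exfalso
    rcases subsingleton_or_nontrivial G with h | h
    · exact hnc isCyclic_of_subsingleton
    · refine Cfsg.Lib.PGroup.frattini_ne_top (G := G) (top_le_iff.1 ?_)
      rw [← index_eq_one.1 (hj.trans (pow_zero 2))]
      exact Cfsg.Lib.PGroup.commutator_le_frattini hG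
  · exfalso
    obtain ⟨x, -, hx⟩ := SetLike.exists_of_lt (lt_top_iff_ne_top.2 (fun h => by
      rw [h, index_top] at hj; omega : commutator G ≠ ⊤))
    have h2 := Cfsg.Lib.PGroup.sup_zpowers_eq_top_of_index (p := 2) (by simpa using hj) hx
    refine hnc (isCyclic_iff_exists_zpowers_eq_top.2 ⟨x, frattini_nongenerating (top_le_iff.1 ?_)⟩)
    rw [← h2, sup_comm]
    exact sup_le_sup_left (Cfsg.Lib.PGroup.commutator_le_frattini hG) _
  · calc 4 = 2 ^ 2 := by norm_num
      _ ≤ _ := Nat.pow_le_pow_right two_pos (by omega)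


omit hp in
lemma zpowers_of_orderOf {M : Subgroup G} {g : G} (hg : g ∈ M) (ho : Nat.card M ≤ orderOf g) : IsCyclic M := by
  have : zpowers g = M := eq_of_le_of_card_ge (zpowers_le.2 hg) (by rwa [Nat.card_zpowers])
  exact this ▸ inferInstance

omit hp in
lemma card_index_two (M : Subgroup G) {n : ℕ} (hG : Nat.card G = 2 ^ n) (hn : 1 ≤ n) (hM : M.index = 2) :
    Nat.card M = 2 ^ (n - 1) := by
  have := M.card_mul_index
  rw [hM, hG, show n = n - 1 + 1 by omega, pow_succ] at this
  exact Nat.eq_of_mul_eq_mul_right two_pos this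

/-- A noncyclic `2`-group not of maximal class has an even number of cyclic maximal subgroups. -/
lemma cyc_two (hG : IsPGroup 2 G) (hnc : ¬ IsCyclic G) (h8 : 4 < Nat.card G) (h4 : (commutator G).index ≠ 4) :
    Nat.card {M : Subgroup G // IsCoatom M ∧ IsCyclic M} ≡ 0 [MOD 2] := by
  classical
  haveI : Fact (Nat.Prime 2) := ⟨Nat.prime_two⟩
  by_cases hex : ∃ M : Subgroup G, IsCoatom M ∧ IsCyclic M
  swap
  · haveI : IsEmpty {M : Subgroup G // IsCoatom M ∧ IsCyclic M} := ⟨fun M => hex ⟨M.1, M.2⟩⟩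
    rw [Nat.card_of_isEmpty]
  obtain ⟨C, hC, hCc⟩ := hex
  obtain ⟨n, hn⟩ := IsPGroup.iff_card.1 hG
  have hn3 : 3 ≤ n := by
    by_contra h
    have := Nat.pow_le_pow_right two_pos (show n ≤ 2 by omega)
    omega
  obtain ⟨w, rfl⟩ : ∃ w, n = w + 3 := ⟨n - 3, by omega⟩
  have hcardM : ∀ M : Subgroup G, IsCoatom M → Nat.card M = 2 ^ (w + 2) := fun M hM =>
    card_index_two M hn (by omega) (Cfsg.Lib.PGroup.index_of_isCoatom hG hM)
  -- an involution `b` outside `C = ⟨a⟩` with `b` and `a ^ 2` commuting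
  obtain ⟨a, b, ha, hb, hb2, hcomm⟩ : ∃ a b : G, orderOf a = 2 ^ (w + 2) ∧ b ∉ zpowers a ∧ b ^ 2 = 1 ∧
      b * a ^ 2 * b⁻¹ = a ^ 2 := by
    by_cases hab : IsMulCommutative G
    · obtain ⟨a, rfl⟩ := exists_zpowers hCc
      have ha : orderOf a = 2 ^ (w + 2) := by rw [← Nat.card_zpowers, hcardM _ hC]
      obtain ⟨b₀, -, hb₀⟩ := SetLike.exists_of_lt (lt_top_iff_ne_top.2 hC.1)
      have hb2 : b₀ ^ 2 ∈ zpowers a := Cfsg.Lib.PGroup.pow_mem_of_isCoatom hG hC b₀
      obtain ⟨i, hi⟩ := hb2
      have hi' : a ^ i = b₀ ^ 2 := hi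
      obtain ⟨j, hj⟩ : ∃ j, i = 2 * j := by
        rcases Int.even_or_odd i with ⟨j, hj⟩ | hodd
        · exact ⟨j, by omega⟩
        · exfalso
          apply hnc
          refine (isCyclic_iff_exists_zpowers_eq_top).2 ⟨b₀, hC.2 _ ?_⟩
          have hgen : a ∈ zpowers b₀ := by
            obtain ⟨j, rfl⟩ := hodd
            have hcop : IsCoprime (2 * j + 1) ((2 : ℤ) ^ (w + 2)) :=
              IsCoprime.pow_right ⟨1, -j, by ring⟩
            obtain ⟨u, v, huv⟩ := hcop
            have h1 : a = (b₀ ^ 2) ^ u := by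
              rw [← hi', ← zpow_mul]
              conv_lhs => rw [← zpow_one a, ← huv]
              rw [zpow_add, mul_comm v, zpow_mul a ((2 : ℤ) ^ (w + 2)) v]
              rw [show a ^ ((2 : ℤ) ^ (w + 2)) = 1 by
                rw [show ((2 : ℤ) ^ (w + 2)) = ((2 ^ (w + 2) : ℕ) : ℤ) by push_cast; rfl, zpow_natCast, ← ha,
                  pow_orderOf_eq_one]]
              rw [one_zpow, mul_one, mul_comm]
            rw [h1]
            exact zpow_mem (pow_mem (mem_zpowers b₀) 2) u
          exact lt_of_le_of_ne (zpowers_le.2 hgen) fun h => hb₀ (h ▸ mem_zpowers b₀)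
      subst hj
      have hc : ∀ x y : G, x * y = y * x := fun x y => hab.is_comm.comm x y
      refine ⟨a, b₀ * a ^ (-j), ha, fun h => hb₀ ?_, ?_, mul_inv_eq_iff_eq_mul.2 (hc _ _)⟩
      · have := mul_mem h (zpow_mem (mem_zpowers a) j)
        simpa [mul_assoc, ← zpow_add] using this
      · rw [(show Commute b₀ (a ^ (-j)) from hc _ _).mul_pow, ← hi', ← zpow_natCast, ← zpow_mul, ← zpow_add]
        rw [show (2 * j + -j * ((2 : ℕ) : ℤ)) = 0 by push_cast; ring, zpow_zero]
    · obtain ⟨a, b, ha, hb, hrel⟩ := Cfsg.Lib.TwoGroup.MaximalClass.exists_generators (by omega) hn C hCc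
        (Cfsg.Lib.PGroup.index_of_isCoatom hG hC) hab
      rw [show w + 3 - 1 = w + 2 from rfl] at ha
      have hai : (zpowers a).index = 2 := by
        refine Nat.eq_of_mul_eq_mul_left (Nat.card_pos (α := zpowers a)) ?_
        rw [card_mul_index, hn, Nat.card_zpowers, ha, ← pow_succ]
      -- `a ^ 2 ∈ G'` forces maximal class
      have hbad : a ^ 2 ∈ commutator G → False := by
        intro hmem
        refine h4 (le_antisymm ?_ (four_le_comm_index hG hnc))
        refine (index_antitone (zpowers_le.2 hmem)).trans ?_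
        have h1 := (zpowers (a ^ 2)).card_mul_index
        have h2 : orderOf (a ^ 2) = 2 ^ (w + 1) := by
          rw [orderOf_pow, ha, Nat.gcd_eq_right (dvd_pow_self 2 (by omega)), pow_succ, Nat.mul_div_cancel _ two_pos]
        rw [Nat.card_zpowers, h2, hn] at h1
        refine le_of_eq (Nat.eq_of_mul_eq_mul_left (pow_pos two_pos (w + 1)) (h1.trans ?_))
        ring
      have hinv : b * a * b⁻¹ = a⁻¹ → False := by
        intro h
        apply hbad
        have : ⁅a, b⁆ = a ^ 2 := by
          rw [commutatorElement_def, show a * b * a⁻¹ * b⁻¹ = a * (b * a * b⁻¹)⁻¹ by group, h, inv_inv, sq]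
        rw [← this]
        exact commutator_mem_commutator (mem_top a) (mem_top b)
      rcases hrel with ⟨-, h⟩ | ⟨-, h⟩ | ⟨hw, hb2, h⟩ | ⟨hw, -, h⟩
      · exact (hinv h).elim
      · exact (hinv h).elim
      · refine ⟨a, b, ha, hb, hb2, ?_⟩
        rw [← conj_pow, h, ← pow_mul, show w + 3 - 2 = w + 1 from rfl, add_mul, one_mul, ← pow_succ, pow_add,
          show (w + 1 + 1) = w + 2 from rfl, ← ha, pow_orderOf_eq_one, mul_one]
      · exfalso
        apply hbad
        -- `⁅b, a⁆ = a ^ (2 * odd)`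
        obtain ⟨w, rfl⟩ : ∃ v, w = v + 1 := ⟨w - 1, by omega⟩
        have h' : b * a * b⁻¹ = a ^ (2 ^ (w + 2) - 1) := h
        have hm : a ^ (2 ^ (w + 2) - 2) ∈ commutator G := by
          have e : a ^ (2 ^ (w + 2) - 2) = ⁅b, a⁆ := by
            rw [commutatorElement_def, h', eq_mul_inv_iff_mul_eq, ← pow_succ]
            congr 1
            have := Nat.pow_le_pow_right two_pos (show 1 ≤ w + 2 by omega)
            omega
          rw [e]
          exact commutator_mem_commutator (mem_top b) (mem_top a)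
        have hpw : (2 : ℕ) ^ (w + 2) - 2 = 2 * (2 ^ (w + 1) - 1) := by
          rw [Nat.mul_sub, mul_one, ← pow_succ']
        rw [hpw, pow_mul] at hm
        have hcop : (orderOf (a ^ 2)).Coprime (2 ^ (w + 1) - 1) := by
          refine Nat.Coprime.coprime_dvd_left (orderOf_pow_dvd 2) ?_
          rw [ha]
          refine Nat.Coprime.pow_left _ ((Nat.prime_two.coprime_iff_not_dvd).2 ?_)
          have : 2 ∣ 2 ^ (w + 1) := dvd_pow_self 2 (by omega)
          have := Nat.one_le_two_pow (n := w + 1)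
          omega
        obtain ⟨v, hv⟩ := exists_pow_eq_self_of_coprime hcop.symm
        rw [← hv]
        exact pow_mem hm v
  -- the noncyclic maximal subgroups are those containing `b`
  set z := a ^ 2 ^ (w + 1) with hz
  have hzo : orderOf z = 2 := by
    rw [hz, orderOf_pow, ha, Nat.gcd_eq_right (pow_dvd_pow 2 (by omega)), Nat.pow_div (by omega) two_pos,
      show w + 2 - (w + 1) = 1 by omega, pow_one]
  have hA : IsCoatom (zpowers a) := isCoatom_of_index (p := 2) _ (by
    refine Nat.eq_of_mul_eq_mul_left (Nat.card_pos (α := zpowers a)) ?_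
    rw [card_mul_index, hn, Nat.card_zpowers, ha, ← pow_succ])
  have hiff : ∀ M : Subgroup G, IsCoatom M → (¬ IsCyclic M ↔ zpowers b ≤ M) := by
    intro M hM
    refine ⟨fun h => ?_, fun h hcy => ?_⟩
    · rw [zpowers_le]
      by_contra hbM
      apply h
      by_cases haM : a ∈ M
      · exact zpowers_of_orderOf haM (by rw [hcardM M hM, ha])
      · have habM : a * b ∈ M := (mul_mem_iff_of_index_two (Cfsg.Lib.PGroup.index_of_isCoatom hG hM)).2 (iff_of_false haM hbM)
        refine zpowers_of_orderOf habM (le_of_eq ?_)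
        rw [hcardM M hM]
        have hna : a * b ∉ zpowers a := fun hh => hb (by
          have := mul_mem (inv_mem (mem_zpowers a)) hh
          rwa [inv_mul_cancel_left] at this)
        -- `(a b) ^ 2` generates `⟨a ^ 2⟩`
        have hsq : (a * b) ^ 2 ∈ zpowers a := Cfsg.Lib.PGroup.pow_mem_of_isCoatom hG hA (a * b)
        obtain ⟨i, hi⟩ := hsq
        have hi' : a ^ i = (a * b) ^ 2 := hi
        have hbab : b * a * b⁻¹ ∈ zpowers a :=
          (Cfsg.Lib.PGroup.normal_of_isCoatom hG hA).conj_mem a (mem_zpowers a) b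
        obtain ⟨r, hr⟩ := hbab
        have hr' : a ^ r = b * a * b⁻¹ := hr
        have hr2 : (2 : ℤ) ^ (w + 2) ∣ 2 * r - 2 := by
          have h1 : a ^ (2 * r) = a ^ (2 : ℤ) := by
            rw [mul_comm 2 r, zpow_mul, hr', zpow_ofNat, conj_pow, hcomm]; exact (zpow_ofNat a 2).symm
          have h2 := orderOf_dvd_iff_zpow_eq_one.2 (show a ^ (2 * r - 2) = 1 by rw [zpow_sub, h1, mul_inv_cancel])
          rw [ha] at h2
          exact_mod_cast h2
        obtain ⟨c, hc⟩ := hr2
        have hrc : r = 1 + (2 : ℤ) ^ (w + 1) * c := by rw [pow_succ] at hc; linarith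
        have h3 : (a * b) ^ 2 = a ^ (2 + (2 : ℤ) ^ (w + 1) * c) := by
          calc (a * b) ^ 2 = a * (b * a * b⁻¹) * b ^ 2 := by rw [sq, sq]; group
            _ = a ^ (2 + (2 : ℤ) ^ (w + 1) * c) := by
              rw [hb2, mul_one, ← hr', ← zpow_one_add, hrc]; ring_nf
        obtain ⟨d, hd⟩ := IsPGroup.iff_orderOf.1 hG (a * b)
        have hle : d ≤ w + 2 := by
          by_contra hlt
          apply hnc
          refine isCyclic_of_orderOf_eq_card (a * b) (Nat.le_antisymm (Nat.le_of_dvd Nat.card_pos (orderOf_dvd_natCard _)) ?_)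
          rw [hn, hd]
          exact Nat.pow_le_pow_right two_pos (by omega)
        by_contra hne
        have hdvd : orderOf (a * b) ∣ 2 * 2 ^ w := by
          rw [hd, ← pow_succ']
          refine pow_dvd_pow 2 ?_
          by_contra hh
          exact hne (by rw [hd, show d = w + 2 by omega])
        have hfour : a ^ ((2 + (2 : ℤ) ^ (w + 1) * c) * (2 ^ w : ℕ)) = 1 := by
          rw [zpow_mul, ← h3, zpow_natCast, ← pow_mul]
          exact orderOf_dvd_iff_pow_eq_one.1 hdvd
        have h5 := orderOf_dvd_iff_zpow_eq_one.2 hfour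
        rw [ha] at h5
        push_cast at h5
        have e : (2 + (2 : ℤ) ^ (w + 1) * c) * 2 ^ w = 2 ^ (w + 1) * (1 + 2 ^ w * c) := by ring
        rw [e, pow_succ _ (w + 1)] at h5
        have h6 := (mul_dvd_mul_iff_left (show (2 : ℤ) ^ (w + 1) ≠ 0 by positivity)).1 h5
        rcases w with _ | w
        · -- `|G| = 8`: then `r = 1`
          simp only [zero_add, pow_one, pow_zero, one_mul] at h6 hrc
          have hce : Even c := by
            rcases Int.even_or_odd c with hce | ⟨v, rfl⟩
            · exact hce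
            · exfalso
              have h7 : b * a * b⁻¹ = a⁻¹ := by
                rw [← hr', hrc, show (1 + 2 * (2 * v + 1) : ℤ) = -1 + 4 * (v + 1) by ring, zpow_add, zpow_mul,
                  show a ^ (4 : ℤ) = 1 by rw [zpow_ofNat]; exact orderOf_dvd_iff_pow_eq_one.1 (dvd_of_eq ha), one_zpow,
                  mul_one, zpow_neg_one]
              apply h4
              refine le_antisymm ?_ (four_le_comm_index hG hnc)
              have hmem : a ^ 2 ∈ commutator G := by
                have : ⁅a, b⁆ = a ^ 2 := by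
                  rw [commutatorElement_def, show a * b * a⁻¹ * b⁻¹ = a * (b * a * b⁻¹)⁻¹ by group, h7, inv_inv, sq]
                rw [← this]
                exact commutator_mem_commutator (mem_top a) (mem_top b)
              have h8 := (zpowers (a ^ 2)).card_mul_index
              have h9 : orderOf (a ^ 2) = 2 := by
                rw [orderOf_pow, ha]; rfl
              rw [Nat.card_zpowers, h9, hn] at h8
              exact (index_antitone (zpowers_le.2 hmem)).trans (by omega)
          obtain ⟨v, rfl⟩ := hce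
          omega
        · rw [pow_succ] at h6
          obtain ⟨u, hu⟩ := h6
          have : (2 : ℤ) ∣ 1 := ⟨u - 2 ^ w * c, by linarith⟩
          omega
    · haveI := hcy
      have hbm : b ∈ M := zpowers_le.1 h
      have ha2 : a ^ 2 ∈ M := Cfsg.Lib.PGroup.pow_mem_of_isCoatom hG hM a
      have hzM : z ∈ M := by
        rw [hz, pow_succ', pow_mul]
        exact pow_mem ha2 _
      obtain ⟨i, hi⟩ := cyclic_sq_eq_one (p := 2) hzM hbm hzo hb2
      exact hb (hi ▸ zpow_mem (pow_mem (mem_zpowers a) _) i)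
  letI := Fintype.ofFinite (Subgroup G)
  have htop : zpowers b ≠ ⊤ := fun h => by
    have := Nat.card_zpowers b
    rw [h, card_top] at this
    have h2 := Nat.le_of_dvd two_pos (orderOf_dvd_iff_pow_eq_one.2 hb2)
    omega
  have hsum : Nat.card {M : Subgroup G // IsCoatom M ∧ IsCyclic M} + mx (zpowers b) = mx (⊥ : Subgroup G) := by
    simp only [mx, Nat.card_eq_fintype_card, Fintype.card_subtype]
    rw [← Finset.card_union_of_disjoint]
    · congr 1
      ext M
      simp only [Finset.mem_union, Finset.mem_filter, Finset.mem_univ, true_and, bot_le, and_true]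
      refine ⟨fun h => h.elim (·.1) (·.1), fun h => ?_⟩
      by_cases hc : IsCyclic M
      · exact Or.inl ⟨h, hc⟩
      · exact Or.inr ⟨h, (hiff M h).1 hc⟩
    · rw [Finset.disjoint_filter]
      exact fun M _ h1 h2 => (hiff M h1.1).2 h2.2 h1.2
  have hbot : (⊥ : Subgroup G) ≠ ⊤ := fun h => by
    have : Nat.card (⊤ : Subgroup G) = 1 := by rw [← h, card_bot]
    rw [card_top] at this
    omega
  have h3 : Nat.card {M : Subgroup G // IsCoatom M ∧ IsCyclic M} + mx (zpowers b) ≡ 1 [MOD 2] :=
    hsum ▸ mx_mod hG hbot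
  exact Nat.ModEq.add_right_cancel (mx_mod hG htop) (by rw [zero_add]; exact h3)

omit hp in
lemma comm_index_of_cyclic {M : Subgroup G} (h : IsCyclic M) : (commutator M).index = Nat.card M :=
  comm_index_eq_card_of_comm ⟨⟨fun a b => IsCyclic.commGroup.mul_comm a b⟩⟩

omit hp in
lemma comm_le (M : Subgroup G) : (commutator M).map M.subtype ≤ commutator G := by
  rw [map_subtype_commutator, _root_.commutator_def]
  exact commutator_mono le_top le_top

/-- A `2`-group not of maximal class has an even number of maximal subgroups of maximal class. -/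
lemma mc_two (hG : IsPGroup 2 G) (h16 : 8 < Nat.card G) (h4 : (commutator G).index ≠ 4) :
    Nat.card {M : Subgroup G // IsCoatom M ∧ (commutator M).index = 4} ≡ 0 [MOD 2] := by
  classical
  haveI : Fact (Nat.Prime 2) := ⟨Nat.prime_two⟩
  by_cases hex : ∃ M : Subgroup G, IsCoatom M ∧ (commutator M).index = 4
  swap
  · haveI : IsEmpty {M : Subgroup G // IsCoatom M ∧ (commutator M).index = 4} := ⟨fun M => hex ⟨M.1, M.2⟩⟩
    rw [Nat.card_of_isEmpty]
  obtain ⟨M₀, h₀, h₀4⟩ := hex
  obtain ⟨n, hn⟩ := IsPGroup.iff_card.1 hG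
  have hn4 : 4 ≤ n := by
    by_contra h
    have := Nat.pow_le_pow_right two_pos (show n ≤ 3 by omega)
    omega
  have hnc : ¬ IsCyclic G := fun h => by
    haveI := h
    have h1 := comm_index_of_cyclic (M := M₀) inferInstance
    rw [h₀4, card_index_two M₀ hn (by omega) (Cfsg.Lib.PGroup.index_of_isCoatom hG h₀)] at h1
    have := Nat.pow_le_pow_right two_pos (show 3 ≤ n - 1 by omega)
    omega
  set G' := commutator G with hG'
  have hidxM : ∀ M : Subgroup G, IsCoatom M → ((commutator M).map M.subtype).index = 2 * (commutator M).index := by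
    intro M hM
    rw [index_map_subtype, Cfsg.Lib.PGroup.index_of_isCoatom hG hM, mul_comm]
  -- `G' = M₀'` has index `8`
  have hG'8 : G'.index = 8 ∧ (commutator M₀).map M₀.subtype = G' := by
    have hd := index_dvd_of_le (comm_le M₀)
    rw [hidxM M₀ h₀, h₀4] at hd
    have hle := four_le_comm_index hG hnc
    have h8 : G'.index = 8 := by
      have := Nat.le_of_dvd (by norm_num) hd
      obtain ⟨j, hj⟩ := hG.index (commutator G)
      rw [hG'] at *
      rcases (show j ≤ 3 by
        by_contra h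
        have := Nat.pow_le_pow_right two_pos (show 4 ≤ j by omega)
        omega).eq_or_lt with h | h
      · rw [hj, h]; rfl
      · exfalso
        have : j = 2 := by
          by_contra h'
          have := Nat.pow_le_pow_right two_pos (show j ≤ 1 by omega)
          omega
        exact h4 (by rw [hj, this]; rfl)
    refine ⟨h8, eq_of_le_of_card_ge (comm_le M₀) (le_of_eq ?_)⟩
    have h1 := G'.card_mul_index
    have h2 := ((commutator M₀).map M₀.subtype).card_mul_index
    rw [h8] at h1
    rw [hidxM M₀ h₀, h₀4] at h2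
    exact Nat.eq_of_mul_eq_mul_right (show 0 < 8 by norm_num) (h1.trans h2.symm)
  -- `G'` is cyclic
  have hM₀n : Nat.card M₀ = 2 ^ (n - 1) := card_index_two M₀ hn (by omega) (Cfsg.Lib.PGroup.index_of_isCoatom hG h₀)
  obtain ⟨C₀, hC₀, hC₀i⟩ := Cfsg.Lib.TwoGroup.MaximalClass.exists_cyclic_index_two (n - 1) (by omega) M₀ hM₀n
    (Cfsg.Lib.TwoGroup.MaximalClass.class_of_index_four (n - 1) (by omega) M₀ hM₀n h₀4)
  have hcyc : IsCyclic G' := by
    haveI := hC₀
    have hle : commutator M₀ ≤ C₀ :=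
      Cfsg.Lib.PGroup.commutator_le_of_isCoatom (p := 2) (hG.to_subgroup M₀) (isCoatom_of_index (p := 2) _ hC₀i)
    haveI : IsCyclic (commutator M₀) := isCyclic_of_injective (inclusion hle) (inclusion_injective hle)
    rw [← hG'8.2]
    exact isCyclic_of_surjective _ ((commutator M₀).equivMapOfInjective _ M₀.subtype_injective).surjective
  obtain ⟨g₀, hg₀⟩ := exists_zpowers hcyc
  set L := zpowers (g₀ ^ 2) with hL
  have hLG : L ≤ G' := zpowers_le.2 (hg₀ ▸ pow_mem (mem_zpowers g₀) 2)
  have hg₀L : g₀ ∉ L := by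
    rintro ⟨i, hi⟩
    have h1 : g₀ ^ (2 * i - 1) = 1 := by
      rw [zpow_sub, zpow_one, zpow_mul, show (g₀ ^ (2 : ℤ)) ^ i = g₀ by rw [zpow_ofNat]; exact hi, mul_inv_cancel]
    have h2 := orderOf_dvd_iff_zpow_eq_one.2 h1
    obtain ⟨k, hk⟩ := IsPGroup.iff_orderOf.1 hG g₀
    rcases k with _ | k
    · have h3 := G'.card_mul_index
      rw [← hg₀, Nat.card_zpowers, hk, hg₀, hG'8.1, hn] at h3
      have := Nat.pow_le_pow_right two_pos hn4
      omega
    · rw [hk, pow_succ] at h2
      push_cast at h2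
      have h3 : (2 : ℤ) ∣ 2 * i - 1 := (dvd_mul_left 2 _).trans h2
      omega
  have hG'L : ∀ c ∈ G', c ∈ L ∨ c * g₀⁻¹ ∈ L := by
    intro c hc
    obtain ⟨i, rfl⟩ := hg₀.symm ▸ hc
    rcases Int.even_or_odd i with ⟨j, rfl⟩ | ⟨j, rfl⟩
    · exact Or.inl ⟨j, by
        show (g₀ ^ 2) ^ j = g₀ ^ (j + j)
        rw [← zpow_natCast g₀ 2, ← zpow_mul]; ring_nf⟩
    · exact Or.inr ⟨j, by
        show (g₀ ^ 2) ^ j = g₀ ^ (2 * j + 1) * g₀⁻¹
        rw [zpow_add_one, mul_inv_cancel_right, ← zpow_natCast g₀ 2, ← zpow_mul]; rfl⟩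
  haveI hLn : L.Normal := ⟨fun l hl g => by
    obtain ⟨i, rfl⟩ := hl
    obtain ⟨j, hj⟩ := hg₀.symm ▸ (inferInstance : G'.Normal).conj_mem g₀ (hg₀ ▸ mem_zpowers g₀) g
    have hj' : g₀ ^ j = g * g₀ * g⁻¹ := hj
    refine ⟨j * i, ?_⟩
    show (g₀ ^ 2) ^ (j * i) = g * (g₀ ^ 2) ^ i * g⁻¹
    rw [← conj_zpow, ← conj_pow, ← hj', zpow_mul]
    congr 1
    rw [← zpow_natCast, ← zpow_natCast, ← zpow_mul, ← zpow_mul, mul_comm]⟩
  set π := QuotientGroup.mk' L
  have hπc : ∀ g h : G, π g * π h = π h * π g ↔ ⁅g, h⁆ ∈ L := fun g h => by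
    rw [← commutatorElement_eq_one_iff_mul_comm, ← map_commutatorElement]
    exact QuotientGroup.eq_one_iff _
  have hcen : ∀ c ∈ G', ∀ g, π c * π g = π g * π c := by
    intro c hc g
    rw [eq_comm, hπc]
    have hg0 : ∀ g : G, ⁅g, g₀⁆ ∈ L := by
      intro g
      rcases hG'L _ (show ⁅g, g₀⁆ ∈ G' from commutator_mem_commutator (mem_top g) (mem_top g₀)) with h | h
      · exact h
      · exfalso
        apply hg₀L
        have h1 : g * g₀ * g⁻¹ * g₀⁻¹ * g₀⁻¹ ∈ L := by rwa [commutatorElement_def] at h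
        have h2 : g * g₀ * g⁻¹ ∈ L := by
          have := mul_mem h1 (mem_zpowers (g₀ ^ 2))
          simpa [sq, mul_assoc] using this
        have := hLn.conj_mem _ h2 g⁻¹
        simpa [mul_assoc] using this
    obtain ⟨i, rfl⟩ := hg₀.symm ▸ hc
    rw [← hπc, map_zpow]
    exact ((show Commute (π g) (π g₀) from (hπc g g₀).2 (hg0 g)).zpow_right i).eq
  have hπG : ∀ g h k : G, ⁅g * h, k⁆ ∈ L ↔ (⁅g, k⁆ * ⁅h, k⁆) ∈ L := by
    intro g h k
    have hc : ⁅h, k⁆ ∈ G' := commutator_mem_commutator (mem_top h) (mem_top k)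
    have hc1 := hcen _ hc g
    have e : π ⁅g * h, k⁆ = π (⁅g, k⁆ * ⁅h, k⁆) := by
      calc π ⁅g * h, k⁆ = π g * π ⁅h, k⁆ * (π g)⁻¹ * π ⁅g, k⁆ := by
            simp only [commutatorElement_def, map_mul, map_inv]; group
        _ = π ⁅h, k⁆ * π ⁅g, k⁆ := by rw [← hc1]; group
        _ = π (⁅g, k⁆ * ⁅h, k⁆) := by rw [hcen _ hc, map_mul]
    have e1 : ∀ y : G, y ∈ L ↔ π y = 1 := fun y => (QuotientGroup.eq_one_iff y).symm
    rw [e1, e1, e]
  -- a noncentral pair modulo `L`
  obtain ⟨x, y, hxy⟩ : ∃ x y : G, ⁅x, y⁆ ∉ L := by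
    by_contra h
    push Not at h
    exact hg₀L ((commutator_le.2 fun g _ k _ => h g k : G' ≤ L) (hg₀.le (mem_zpowers g₀)))
  let C : G → Subgroup G := fun k => (centralizer ({π k} : Set (G ⧸ L))).comap π
  have hCmem : ∀ g k, g ∈ C k ↔ ⁅g, k⁆ ∈ L := fun g k => by
    rw [mem_comap, mem_centralizer_singleton_iff, hπc]
  have hC2 : ∀ g k, g ∉ C k → (C k).index = 2 := by
    intro g k hgk
    rw [hCmem] at hgk
    refine index_eq_two_iff.2 ⟨g, fun h => ?_⟩
    rw [hCmem, hCmem, hπG]
    rcases hG'L _ (commutator_mem_commutator (mem_top h) (mem_top k)) with hh | hh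
    · exact Or.inr ⟨hh, fun hc => hgk ((mul_mem_cancel_left hh).1 hc)⟩
    · refine Or.inl ⟨?_, fun hc => ?_⟩
      · rcases hG'L _ (commutator_mem_commutator (mem_top g) (mem_top k)) with hg | hg
        · exact absurd hg hgk
        · have h2 : π ⁅h, k⁆ = π g₀ := mul_inv_eq_one.1 (by rw [← map_inv, ← map_mul]; exact (QuotientGroup.eq_one_iff _).2 hh)
          have h3 : π ⁅g, k⁆ = π g₀ := mul_inv_eq_one.1 (by rw [← map_inv, ← map_mul]; exact (QuotientGroup.eq_one_iff _).2 hg)
          refine (QuotientGroup.eq_one_iff _).1 ?_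
          show π (⁅h, k⁆ * ⁅g, k⁆) = 1
          rw [map_mul, h2, h3, ← map_mul]
          exact (QuotientGroup.eq_one_iff _).2 (by rw [← sq]; exact mem_zpowers _)
      · apply hg₀L
        have := mul_mem (inv_mem hh) hc
        rwa [mul_inv_rev, inv_inv, inv_mul_cancel_right] at this
  have hxy' : x ∉ C y := fun h => hxy ((hCmem x y).1 h)
  have hyx : y ∉ C x := fun h => hxy (by
    have := inv_mem ((hCmem y x).1 h)
    rwa [commutatorElement_inv] at this)
  set D := C x ⊓ C y with hD
  have hxC : x ∈ C x := (hCmem x x).2 (by rw [commutatorElement_self]; exact one_mem L)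
  have hyC : y ∈ C y := (hCmem y y).2 (by rw [commutatorElement_self]; exact one_mem L)
  haveI hDn : D.Normal := Normal.of_commutator_le _ fun c hc =>
    ⟨(hCmem c x).2 ((hπc c x).1 (hcen c hc x)), (hCmem c y).2 ((hπc c y).1 (hcen c hc y))⟩
  have hG'D : G' ≤ D := fun c hc =>
    ⟨(hCmem c x).2 ((hπc c x).1 (hcen c hc x)), (hCmem c y).2 ((hπc c y).1 (hcen c hc y))⟩
  have hD4 : D.index = 4 := by
    have h1 := hC2 y x hyx
    have h2 := hC2 x y hxy'
    have hne : C x ≠ C y := fun h => hxy' (h ▸ hxC)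
    rw [hD, index_eq_sq_of_inf (p := 2) hG (isCoatom_of_index (p := 2) _ h1) (isCoatom_of_index (p := 2) _ h2) hne]
    rfl
  have hG'D2 : G'.relIndex D = 2 := by
    have := relIndex_mul_index hG'D
    rw [hG'8.1, hD4] at this
    omega
  have hDab : ∀ d ∈ D, ∀ e ∈ D, π d * π e = π e * π d := by
    obtain ⟨d₀, hd₀, hd₀'⟩ := SetLike.exists_of_lt (show G' < D from lt_of_le_of_ne hG'D fun h => by
      rw [h, relIndex_self] at hG'D2; omega)
    intro d hd e he
    have key : ∀ d ∈ D, d ∈ G' ∨ d₀⁻¹ * d ∈ G' := by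
      intro d hd
      by_cases h : d ∈ G'
      · exact Or.inl h
      · refine Or.inr ?_
        have h2 := (mul_mem_iff_of_index_two (show (G'.subgroupOf D).index = 2 from hG'D2)
          (a := (⟨d₀, hd₀⟩ : D)⁻¹) (b := ⟨d, hd⟩)).2 (iff_of_false (by rw [inv_mem_iff]; exact hd₀') h)
        exact h2
    have hD0 : ∀ d ∈ D, π d * π d₀ = π d₀ * π d := by
      intro d hd
      rcases key d hd with h | h
      · exact hcen d h d₀
      · have h2 := hcen _ h d₀
        rw [map_mul, map_inv] at h2
        calc π d * π d₀ = π d₀ * ((π d₀)⁻¹ * π d * π d₀) := by group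
          _ = π d₀ * π d := by rw [h2, mul_inv_cancel_left]
    rcases key e he with h | h
    · exact (hcen e h d).symm
    · have h2 := hcen _ h d
      rw [map_mul, map_inv] at h2
      calc π d * π e = π d * π d₀ * ((π d₀)⁻¹ * π e) := by group
        _ = π d₀ * (π d * ((π d₀)⁻¹ * π e)) := by rw [hD0 d hd]; group
        _ = π e * π d := by rw [← h2]; group
  -- criterion
  have hiff : ∀ M : Subgroup G, IsCoatom M → (¬ (commutator M).index = 4 ↔ D ≤ M) := by
    intro M hM
    have hMab : (commutator M).index = 4 ↔ ¬ (∀ g ∈ M, ∀ h ∈ M, ⁅g, h⁆ ∈ L) := by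
      constructor
      · intro h hall
        apply hg₀L
        have he : (commutator M).map M.subtype = G' := by
          refine eq_of_le_of_card_ge (comm_le M) (le_of_eq ?_)
          have h1 := G'.card_mul_index
          have h2 := ((commutator M).map M.subtype).card_mul_index
          rw [hG'8.1] at h1
          rw [hidxM M hM, h] at h2
          exact Nat.eq_of_mul_eq_mul_right (show 0 < 8 by norm_num) (h1.trans h2.symm)
        have hle : (commutator M).map M.subtype ≤ L := by
          rw [map_subtype_commutator, commutator_le]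
          exact hall
        exact hle (he ▸ hg₀ ▸ mem_zpowers g₀)
      · intro h
        push Not at h
        obtain ⟨g, hg, k, hk, hgk⟩ := h
        have hmem : ⁅g, k⁆ ∈ (commutator M).map M.subtype := by
          rw [map_subtype_commutator]; exact commutator_mem_commutator hg hk
        have hle : G' ≤ (commutator M).map M.subtype := by
          rw [← hg₀, zpowers_le]
          obtain ⟨i, hi⟩ := hg₀.ge (comm_le M hmem)
          have hi' : g₀ ^ i = ⁅g, k⁆ := hi
          obtain ⟨j, hj⟩ : Odd i := by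
            rcases Int.even_or_odd i with ⟨j, rfl⟩ | h'
            · exact absurd (⟨j, by rw [← hi']; show (g₀ ^ 2) ^ j = _; rw [← zpow_natCast g₀ 2, ← zpow_mul]; ring_nf⟩) hgk
            · exact h'
          obtain ⟨t, ht⟩ := IsPGroup.iff_orderOf.1 hG g₀
          have hcop : IsCoprime i ((2 : ℤ) ^ t) := IsCoprime.pow_right ⟨1, -j, by rw [hj]; ring⟩
          obtain ⟨u, v, huv⟩ := hcop
          have h1 : g₀ = ⁅g, k⁆ ^ u := by
            rw [← hi', ← zpow_mul]
            conv_lhs => rw [← zpow_one g₀, ← huv]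
            rw [zpow_add, mul_comm v, zpow_mul g₀ ((2 : ℤ) ^ t) v]
            rw [show g₀ ^ ((2 : ℤ) ^ t) = 1 by
              rw [show ((2 : ℤ) ^ t) = ((2 ^ t : ℕ) : ℤ) by push_cast; rfl, zpow_natCast, ← ht, pow_orderOf_eq_one]]
            rw [one_zpow, mul_one, mul_comm]
          rw [h1]
          exact zpow_mem hmem u
        have he : (commutator M).map M.subtype = G' := le_antisymm (comm_le M) hle
        have := hidxM M hM
        rw [he, hG'8.1] at this
        omega
    rw [hMab, not_not]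
    refine ⟨fun hall => ?_, fun hDM => ?_⟩
    · by_contra hDM
      apply hxy
      have htop : M ⊔ D = ⊤ := hM.2 _ (left_lt_sup.2 hDM)
      have hmem : ∀ z : G, ∃ m ∈ M, ∃ d ∈ D, m * d = z := fun z =>
        mem_sup_of_normal_right.1 (htop.symm ▸ mem_top z)
      obtain ⟨m, hm, d, hd, rfl⟩ := hmem x
      obtain ⟨m', hm', d', hd', rfl⟩ := hmem y
      -- `d`, `d'` commute with `x` and `y` modulo `L`
      have h1 : π d * π (m * d) = π (m * d) * π d := (hπc _ _).2 ((hCmem _ _).1 hd.1)
      have h2 : π d * π (m' * d') = π (m' * d') * π d := (hπc _ _).2 ((hCmem _ _).1 hd.2)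
      have h3 : π d' * π (m * d) = π (m * d) * π d' := (hπc _ _).2 ((hCmem _ _).1 hd'.1)
      have h4 : π d * π d' = π d' * π d := hDab d hd d' hd'
      have h5 : π m * π m' = π m' * π m := (hπc _ _).2 (hall m hm m' hm')
      rw [map_mul] at h1 h2 h3
      have a1 : Commute (π d) (π m) := by
        have := (show Commute (π d) (π m * π d) from h1).mul_right ((Commute.refl (π d)).inv_right)
        simpa using this
      have a2 : Commute (π d) (π m') := by
        have := (show Commute (π d) (π m' * π d') from h2).mul_right ((show Commute (π d) (π d') from h4).inv_right)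
        simpa using this
      have a3 : Commute (π d') (π m) := by
        have := (show Commute (π d') (π m * π d) from h3).mul_right ((show Commute (π d) (π d') from h4).symm.inv_right)
        simpa using this
      rw [← hπc, map_mul, map_mul]
      exact ((show Commute (π m) (π m') from h5).mul_right a3.symm).mul_left (a2.mul_right h4)
    · intro g hg h hh
      have hrel : D.relIndex M = 2 := by
        have := relIndex_mul_index hDM
        rw [hD4, Cfsg.Lib.PGroup.index_of_isCoatom hG hM] at this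
        omega
      obtain ⟨m₁, hm₁, hm₁'⟩ := SetLike.exists_of_lt (show D < M from lt_of_le_of_ne hDM fun h => by
        rw [h, relIndex_self] at hrel; omega)
      have key : ∀ g ∈ M, g ∈ D ∨ m₁⁻¹ * g ∈ D := fun g hg => by
        by_cases h : g ∈ D
        · exact Or.inl h
        · exact Or.inr ((mul_mem_iff_of_index_two (show (D.subgroupOf M).index = 2 from hrel)
            (a := (⟨m₁, hm₁⟩ : M)⁻¹) (b := ⟨g, hg⟩)).2 (iff_of_false (by rw [inv_mem_iff]; exact hm₁') h))
      rw [← hπc]
      -- `D` is central modulo `L`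
      have hDcen : ∀ d ∈ D, ∀ z, Commute (π d) (π z) := by
        intro d hd z
        have hK : C x ⊓ C y ≤ Subgroup.comap π (centralizer ({π d} : Set (G ⧸ L))) := fun e he => by
          rw [mem_comap, mem_centralizer_singleton_iff]; exact hDab e he d hd
        have hx' : x ∈ (centralizer ({π d} : Set (G ⧸ L))).comap π := by
          rw [mem_comap, mem_centralizer_singleton_iff]; exact ((hπc _ _).2 ((hCmem _ _).1 hd.1)).symm
        have hy' : y ∈ (centralizer ({π d} : Set (G ⧸ L))).comap π := by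
          rw [mem_comap, mem_centralizer_singleton_iff]; exact ((hπc _ _).2 ((hCmem _ _).1 hd.2)).symm
        have htop : (centralizer ({π d} : Set (G ⧸ L))).comap π = ⊤ := by
          set K := (centralizer ({π d} : Set (G ⧸ L))).comap π
          have h1 : C x ≤ K := by
            have hlt : D < D ⊔ zpowers x := left_lt_sup.2 fun h => hxy' ((h (mem_zpowers x)).2)
            have hle : D ⊔ zpowers x ≤ C x := sup_le inf_le_left (zpowers_le.2 hxC)
            have : D ⊔ zpowers x = C x := by
              by_contra hne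
              have hlt2 : D ⊔ zpowers x < C x := lt_of_le_of_ne hle hne
              have e1 := Cfsg.Lib.Fusion.card_lt_card_of_lt hlt
              have e2 := Cfsg.Lib.Fusion.card_lt_card_of_lt hlt2
              have c1 := D.card_mul_index
              have c2 := (C x).card_mul_index
              rw [hD4] at c1
              rw [hC2 y x hyx] at c2
              have := card_dvd_of_le hlt.le
              obtain ⟨t, ht⟩ := this
              have : 2 ≤ t := by
                by_contra h
                interval_cases t <;> omega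
              nlinarith
            rw [← this]
            exact sup_le hK (zpowers_le.2 hx')
          exact (isCoatom_of_index (p := 2) _ (hC2 y x hyx)).2 _ (lt_of_le_of_ne h1 fun h => hyx (h ▸ hy'))
        exact ((mem_centralizer_singleton_iff.1 (mem_comap.1 (htop ▸ mem_top z))).symm : _)
      rcases key g hg with h1 | h1
      · exact (hDcen g h1 h).eq
      · rcases key h hh with h2 | h2
        · exact (hDcen h h2 g).symm.eq
        · have a1 := hDcen _ h1 (m₁⁻¹ * h)
          have a2 := hDcen _ h1 m₁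
          have a3 := hDcen _ h2 m₁
          have e1 : π g = π m₁ * π (m₁⁻¹ * g) := by rw [← map_mul, mul_inv_cancel_left]
          have e2 : π h = π m₁ * π (m₁⁻¹ * h) := by rw [← map_mul, mul_inv_cancel_left]
          rw [e1, e2]
          exact ((Commute.refl _).mul_right a3.symm).mul_left (a2.mul_right a1)
  letI := Fintype.ofFinite (Subgroup G)
  have htop : D ≠ ⊤ := fun h => by rw [h, index_top] at hD4; omega
  have hsum : Nat.card {M : Subgroup G // IsCoatom M ∧ (commutator M).index = 4} + mx D = mx (⊥ : Subgroup G) := by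
    simp only [mx, Nat.card_eq_fintype_card, Fintype.card_subtype]
    rw [← Finset.card_union_of_disjoint]
    · congr 1
      ext M
      simp only [Finset.mem_union, Finset.mem_filter, Finset.mem_univ, true_and, bot_le, and_true]
      refine ⟨fun h => h.elim (·.1) (·.1), fun h => ?_⟩
      by_cases hc : (commutator M).index = 4
      · exact Or.inl ⟨h, hc⟩
      · exact Or.inr ⟨h, (hiff M h).1 hc⟩
    · rw [Finset.disjoint_filter]
      exact fun M _ h1 h2 => (hiff M h1.1).2 h2.2 h1.2
  have hbot : (⊥ : Subgroup G) ≠ ⊤ := fun h => by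
    have : Nat.card (⊤ : Subgroup G) = 1 := by rw [← h, card_bot]
    rw [card_top] at this
    omega
  have h3 : Nat.card {M : Subgroup G // IsCoatom M ∧ (commutator M).index = 4} + mx D ≡ 1 [MOD 2] :=
    hsum ▸ mx_mod hG hbot
  exact Nat.ModEq.add_right_cancel (mx_mod hG htop) (by rw [zero_add]; exact h3)

/-- In a `2`-group of maximal class the number of exceptional maximal subgroups is odd. -/
lemma exc_maxclass {w : ℕ} (hG : Nat.card G = 2 ^ (w + 3)) (h4 : (commutator G).index = 4) {k : ℕ} (hk1 : 1 ≤ k) (hk : k + 1 < w + 3) :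
    Nat.card {M : Subgroup G // IsCoatom M ∧ (IsCyclic M ∨ (k + 2 < w + 3 ∧ (commutator M).index = 4))} ≡ 1 [MOD 2] := by
  classical
  haveI : Fact (Nat.Prime 2) := ⟨Nat.prime_two⟩
  have hGp : IsPGroup 2 G := IsPGroup.of_card hG
  have hc := Cfsg.Lib.TwoGroup.MaximalClass.class_of_index_four (w + 3) (by omega) G hG h4
  obtain ⟨a, b, ha, hb, -, hrel⟩ := Cfsg.Lib.TwoGroup.MaximalClass.exists_generators_of_class (by omega) hG hc
  rw [show w + 3 - 1 = w + 2 from rfl] at ha
  have hA : IsCoatom (zpowers a) := isCoatom_of_index (p := 2) _ (by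
    refine Nat.eq_of_mul_eq_mul_left (Nat.card_pos (α := zpowers a)) ?_
    rw [card_mul_index, hG, Nat.card_zpowers, ha, ← pow_succ])
  have hcardM : ∀ M : Subgroup G, IsCoatom M → Nat.card M = 2 ^ (w + 2) := fun M hM =>
    card_index_two M hG (by omega) (Cfsg.Lib.PGroup.index_of_isCoatom hGp hM)
  have hAn := Cfsg.Lib.PGroup.normal_of_isCoatom hGp hA
  have hpow : a ^ 2 ^ (w + 2) = 1 := ha ▸ pow_orderOf_eq_one a
  have hasq : ∀ M : Subgroup G, IsCoatom M → a ^ 2 ∈ M := fun M hM => Cfsg.Lib.PGroup.pow_mem_of_isCoatom hGp hM a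
  -- squares of elements outside `⟨a⟩`
  have hsq : ∀ g : G, g ∉ zpowers a → ((g ^ 2) ^ 2 = 1) ∧ (b ^ 2 = 1 → w = 0 → g ^ 2 = 1) ∧
      (b ^ 2 ≠ 1 → w = 0 → g ^ 2 ≠ 1) ∧ g * a ^ 2 * g⁻¹ = (a ^ 2)⁻¹ := by
    intro g hg
    obtain ⟨i, hi⟩ : g * b⁻¹ ∈ zpowers a :=
      (mul_mem_iff_of_index_two (Cfsg.Lib.PGroup.index_of_isCoatom hGp hA)).2
        (iff_of_false hg fun h => hb (by simpa using h))
    have hi' : a ^ i = g * b⁻¹ := hi
    have hg' : g = a ^ i * b := by rw [hi', inv_mul_cancel_right]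
    subst hg'
    rcases hrel with ⟨hb2, h⟩ | ⟨hb2, h⟩ | ⟨hw, hb2, h⟩
    · have e : (a ^ i * b) ^ 2 = 1 := by
        calc (a ^ i * b) ^ 2 = a ^ i * (b * a ^ i * b⁻¹) * b ^ 2 := by rw [sq, sq]; group
          _ = 1 := by rw [hb2, ← conj_zpow, h, inv_zpow, mul_inv_cancel, one_mul]
      refine ⟨by rw [e, one_pow], fun _ _ => e, fun h' => absurd hb2 h', ?_⟩
      rw [show a ^ i * b * a ^ 2 * (a ^ i * b)⁻¹ = a ^ i * (b * a ^ 2 * b⁻¹) * (a ^ i)⁻¹ by group, ← conj_pow, h]
      group
    · have e : (a ^ i * b) ^ 2 = b ^ 2 := by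
        calc (a ^ i * b) ^ 2 = a ^ i * (b * a ^ i * b⁻¹) * b ^ 2 := by rw [sq, sq]; group
          _ = b ^ 2 := by rw [← conj_zpow, h, inv_zpow, mul_inv_cancel, one_mul]
      refine ⟨?_, fun h' _ => e.trans h', fun h' _ => by rwa [e], ?_⟩
      · rw [e, hb2, show w + 3 - 2 = w + 1 from rfl, ← pow_mul, ← pow_succ, hpow]
      · rw [show a ^ i * b * a ^ 2 * (a ^ i * b)⁻¹ = a ^ i * (b * a ^ 2 * b⁻¹) * (a ^ i)⁻¹ by group, ← conj_pow, h]
        group
    · obtain ⟨v, rfl⟩ : ∃ v, w = v + 1 := ⟨w - 1, by omega⟩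
      have h' : b * a * b⁻¹ = a ^ (2 ^ (v + 2) - 1) := h
      have hm : a ^ (2 ^ (v + 2) - 1) = a ^ 2 ^ (v + 2) * a⁻¹ := by
        rw [pow_sub _ (Nat.one_le_two_pow), pow_one]
      have hz2 : (a ^ 2 ^ (v + 2)) ^ 2 = 1 := by rw [← pow_mul, ← pow_succ]; exact hpow
      have hcom : Commute (a ^ 2 ^ (v + 2)) a⁻¹ := ((Commute.refl a).pow_left _).inv_right
      have e : (a ^ i * b) ^ 2 = (a ^ 2 ^ (v + 2)) ^ i := by
        calc (a ^ i * b) ^ 2 = a ^ i * (b * a ^ i * b⁻¹) * b ^ 2 := by rw [sq, sq]; group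
          _ = a ^ i * ((a ^ 2 ^ (v + 2)) ^ i * (a ^ i)⁻¹) := by
            rw [hb2, mul_one, ← conj_zpow, h', hm, hcom.mul_zpow, inv_zpow]
          _ = (a ^ 2 ^ (v + 2)) ^ i := by
            rw [← mul_assoc, (((Commute.refl a).pow_left _).zpow_zpow i i).symm.eq, mul_inv_cancel_right]
      refine ⟨?_, fun _ h0 => absurd h0 (Nat.succ_ne_zero v), fun _ h0 => absurd h0 (Nat.succ_ne_zero v), ?_⟩
      · rw [e, ← zpow_natCast, ← zpow_mul, mul_comm, zpow_mul, zpow_natCast, hz2, one_zpow]
      · rw [show a ^ i * b * a ^ 2 * (a ^ i * b)⁻¹ = a ^ i * (b * a ^ 2 * b⁻¹) * (a ^ i)⁻¹ by group, ← conj_pow, h',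
          hm, hcom.mul_pow, hz2, one_mul, inv_pow]
        group
  have hout : ∀ M : Subgroup G, IsCoatom M → M ≠ zpowers a → ∃ g ∈ M, g ∉ zpowers a := by
    intro M hM hne
    by_contra h
    push Not at h
    rcases (show M ≤ zpowers a from h).eq_or_lt with e | e
    · exact hne e
    · exact hA.1 (hM.2 _ e)
  letI := Fintype.ofFinite (Subgroup G)
  have hall : mx (⊥ : Subgroup G) ≡ 1 [MOD 2] := mx_mod hGp fun h => by
    have h' : Nat.card (⊤ : Subgroup G) = 1 := by rw [← h, card_bot]
    rw [card_top, hG] at h'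
    have := Nat.one_lt_two_pow (show w + 3 ≠ 0 by omega)
    omega
  have honly : (∀ M : Subgroup G, IsCoatom M → M ≠ zpowers a → ¬ IsCyclic M) →
      Nat.card {M : Subgroup G // IsCoatom M ∧ IsCyclic M} = 1 := fun h => by
    rw [Nat.card_eq_one_iff_unique]
    refine ⟨⟨fun M N => Subtype.ext ?_⟩, ⟨⟨zpowers a, hA, inferInstance⟩⟩⟩
    rw [not_imp_comm.1 (h M.1 M.2.1) (not_not.2 M.2.2), not_imp_comm.1 (h N.1 N.2.1) (not_not.2 N.2.2)]
  have hcycgen : ∀ M : Subgroup G, IsCoatom M → IsCyclic M → ∃ g, zpowers g = M ∧ orderOf g = 2 ^ (w + 2) := by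
    intro M hM hcy
    obtain ⟨g, hg⟩ := exists_zpowers hcy
    exact ⟨g, hg, by rw [← Nat.card_zpowers, hg, hcardM M hM]⟩
  have hnotA : ∀ M : Subgroup G, IsCoatom M → M ≠ zpowers a → ∀ g, zpowers g = M → g ∉ zpowers a := by
    intro M hM hne g hg hga
    rcases (hg ▸ zpowers_le.2 hga : M ≤ zpowers a).eq_or_lt with e | e
    · exact hne e
    · exact hA.1 (hM.2 _ e)
  rcases Nat.eq_zero_or_pos w with rfl | hw
  · -- order eight
    have e : Nat.card {M : Subgroup G // IsCoatom M ∧ (IsCyclic M ∨ (k + 2 < 0 + 3 ∧ (commutator M).index = 4))} =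
        Nat.card {M : Subgroup G // IsCoatom M ∧ IsCyclic M} := by
      refine Nat.card_congr (Equiv.subtypeEquivRight fun M => ⟨fun h => ⟨h.1, h.2.elim id fun h2 => ?_⟩,
        fun h => ⟨h.1, Or.inl h.2⟩⟩)
      omega
    rw [e]
    by_cases hb2 : b ^ 2 = 1
    · rw [honly fun M hM hne hcy => ?_]
      haveI := hcy
      obtain ⟨g, hgM, hg⟩ := hout M hM hne
      have hz : orderOf (a ^ 2) = 2 := by rw [orderOf_pow, ha]; rfl
      obtain ⟨i, hi⟩ := cyclic_sq_eq_one (p := 2) (hasq M hM) hgM hz ((hsq g hg).2.1 hb2 rfl)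
      exact hg (hi ▸ zpow_mem (pow_mem (mem_zpowers a) 2) i)
    · refine Nat.ModEq.trans ?_ hall
      refine Eq.congr_right ?_ |>.mp rfl
      have : Nat.card {M : Subgroup G // IsCoatom M ∧ IsCyclic M} = mx (⊥ : Subgroup G) := by
        refine Nat.card_congr (Equiv.subtypeEquivRight fun M => ⟨fun h => ⟨h.1, bot_le⟩, fun h => ⟨h.1, ?_⟩⟩)
        by_cases hne : M = zpowers a
        · subst hne; infer_instance
        · obtain ⟨g, hgM, hg⟩ := hout M h.1 hne
          refine zpowers_of_orderOf hgM (le_of_eq ?_)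
          rw [hcardM M h.1]
          exact ((orderOf_eq_prime_pow (p := 2) (n := 1) (x := g) (by rw [pow_one]; exact (hsq g hg).2.2.1 hb2 rfl)
            (by rw [show (2 : ℕ) ^ (1 + 1) = 2 * 2 from rfl, pow_mul]; exact (hsq g hg).1))).symm
      rw [this]
  · have hne' : ∀ M : Subgroup G, IsCoatom M → M ≠ zpowers a → ¬ IsCyclic M := by
      intro M hM hne hcy
      obtain ⟨g, hg, hgo⟩ := hcycgen M hM hcy
      have h1 := (hsq g (hnotA M hM hne g hg)).1
      rw [← pow_mul, ← orderOf_dvd_iff_pow_eq_one, hgo] at h1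
      have := Nat.le_of_dvd (by norm_num) h1
      have := Nat.pow_le_pow_right two_pos (show 3 ≤ w + 2 by omega)
      omega
    by_cases hk2 : k + 2 < w + 3
    · have : Nat.card {M : Subgroup G // IsCoatom M ∧ (IsCyclic M ∨ (k + 2 < w + 3 ∧ (commutator M).index = 4))} =
          mx (⊥ : Subgroup G) := by
        refine Nat.card_congr (Equiv.subtypeEquivRight fun M => ⟨fun h => ⟨h.1, bot_le⟩, fun h => ⟨h.1, ?_⟩⟩)
        by_cases hne : M = zpowers a
        · subst hne; exact Or.inl inferInstance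
        refine Or.inr ⟨hk2, le_antisymm ?_ (four_le_comm_index (hGp.to_subgroup M) (hne' M h.1 hne))⟩
        obtain ⟨g, hgM, hg⟩ := hout M h.1 hne
        have hmem : a ^ 4 ∈ (commutator M).map M.subtype := by
          rw [map_subtype_commutator]
          have h1 := inv_mem (commutator_mem_commutator hgM (hasq M h.1))
          rw [commutatorElement_def, (hsq g hg).2.2.2] at h1
          simpa [← pow_two, ← pow_mul, ← pow_add, mul_inv_rev] using h1
        have h2 := index_antitone (zpowers_le.2 hmem)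
        rw [index_map_subtype, Cfsg.Lib.PGroup.index_of_isCoatom hGp h.1] at h2
        have h3 := (zpowers (a ^ 4)).card_mul_index
        have h4 : orderOf (a ^ 4) = 2 ^ w := by
          rw [orderOf_pow, ha, Nat.gcd_eq_right (show 4 ∣ 2 ^ (w + 2) from ⟨2 ^ w, by rw [pow_add]; ring⟩),
            pow_add, show (2 : ℕ) ^ 2 = 4 from rfl, Nat.mul_div_cancel _ (by norm_num : 0 < 4)]
        rw [Nat.card_zpowers, h4, hG, pow_add] at h3
        have h5 : (zpowers (a ^ 4)).index = 8 := Nat.eq_of_mul_eq_mul_left (pow_pos two_pos w) (h3.trans (by norm_num))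
        omega
      rw [this]
      exact hall
    · have : Nat.card {M : Subgroup G // IsCoatom M ∧ (IsCyclic M ∨ (k + 2 < w + 3 ∧ (commutator M).index = 4))} =
          Nat.card {M : Subgroup G // IsCoatom M ∧ IsCyclic M} := by
        refine Nat.card_congr (Equiv.subtypeEquivRight fun M => ⟨fun h => ⟨h.1, h.2.elim id fun h2 => absurd h2.1 hk2⟩,
          fun h => ⟨h.1, Or.inl h.2⟩⟩)
      rw [this, honly hne']

/-- The congruence for the exceptional maximal subgroups. -/
lemma exc_count {m k : ℕ} (hG : Nat.card G = p ^ m) (hk1 : 1 ≤ k) (hk : k + 1 < m) (hnc : ¬ IsCyclic G)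
    [Decidable (Exc p k G)] :
    Nat.card {M : Subgroup G // IsCoatom M ∧ Exc p k M} ≡ (if Exc p k G then 1 else 0) [MOD p] := by
  classical
  have hGp : IsPGroup p G := IsPGroup.of_card hG
  by_cases hp2 : p = 2
  swap
  · rw [if_neg (fun h => h.elim hnc fun h' => hp2 h'.1)]
    have e : Nat.card {M : Subgroup G // IsCoatom M ∧ Exc p k M} =
        Nat.card {M : Subgroup G // IsCoatom M ∧ IsCyclic M} :=
      Nat.card_congr (Equiv.subtypeEquivRight fun M => ⟨fun h => ⟨h.1, h.2.elim id fun h' => absurd h'.1 hp2⟩,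
        fun h => ⟨h.1, Or.inl h.2⟩⟩)
    rw [e]
    refine cyc_odd hp2 hGp hnc ?_
    rw [hG]
    exact Nat.pow_lt_pow_right hp.out.one_lt (by omega)
  subst hp2
  obtain ⟨w, rfl⟩ : ∃ w, m = w + 3 := ⟨m - 3, by omega⟩
  have e : Nat.card {M : Subgroup G // IsCoatom M ∧ Exc 2 k M} =
      Nat.card {M : Subgroup G // IsCoatom M ∧ (IsCyclic M ∨ (k + 2 < w + 3 ∧ (commutator M).index = 4))} := by
    refine Nat.card_congr (Equiv.subtypeEquivRight fun M => and_congr_right fun hM => or_congr Iff.rfl ?_)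
    rw [card_index_two M hG (by omega) (Cfsg.Lib.PGroup.index_of_isCoatom hGp hM),
      Nat.pow_lt_pow_iff_right one_lt_two]
    constructor
    · exact fun h => ⟨by omega, h.2.1⟩
    · exact fun h => ⟨rfl, h.2, by omega⟩
  rw [e]
  by_cases h4 : (commutator G).index = 4
  · have hx : Exc 2 k G := Or.inr ⟨rfl, h4, by rw [hG]; exact Nat.pow_lt_pow_right one_lt_two (by omega)⟩
    rw [if_pos hx]
    exact exc_maxclass hG h4 hk1 hk
  have hx : ¬ Exc 2 k G := fun h => h.elim hnc fun h' => h4 h'.2.1
  rw [if_neg hx]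
  have h8 : 4 < Nat.card G := by
    rw [hG]
    have := Nat.pow_le_pow_right two_pos (show 3 ≤ w + 3 by omega)
    omega
  by_cases hk2 : k + 2 < w + 3
  swap
  · have e2 : Nat.card {M : Subgroup G // IsCoatom M ∧ (IsCyclic M ∨ (k + 2 < w + 3 ∧ (commutator M).index = 4))} =
        Nat.card {M : Subgroup G // IsCoatom M ∧ IsCyclic M} :=
      Nat.card_congr (Equiv.subtypeEquivRight fun M => ⟨fun h => ⟨h.1, h.2.elim id fun h2 => absurd h2.1 hk2⟩,
        fun h => ⟨h.1, Or.inl h.2⟩⟩)
    rw [e2]
    exact cyc_two hGp hnc h8 h4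
  have h16 : 8 < Nat.card G := by
    rw [hG]
    have := Nat.pow_le_pow_right two_pos (show 4 ≤ w + 3 by omega)
    omega
  have e2 : Nat.card {M : Subgroup G // IsCoatom M ∧ (IsCyclic M ∨ (k + 2 < w + 3 ∧ (commutator M).index = 4))} =
      Nat.card {M : Subgroup G // IsCoatom M ∧ IsCyclic M} +
        Nat.card {M : Subgroup G // IsCoatom M ∧ (commutator M).index = 4} := by
    letI := Fintype.ofFinite (Subgroup G)
    simp only [Nat.card_eq_fintype_card, Fintype.card_subtype]
    rw [← Finset.card_union_of_disjoint]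
    · congr 1
      ext M
      simp only [Finset.mem_union, Finset.mem_filter, Finset.mem_univ, true_and]
      tauto
    · rw [Finset.disjoint_filter]
      intro M _ h1 h2
      have h3 := comm_index_of_cyclic h1.2
      rw [h2.2, card_index_two M hG (by omega) (Cfsg.Lib.PGroup.index_of_isCoatom hGp h1.1)] at h3
      have := Nat.pow_le_pow_right two_pos (show 3 ≤ w + 3 - 1 by omega)
      omega
  rw [e2]
  exact (cyc_two hGp hnc h8 h4).add (mc_two hGp h16 h4)

end exceptional

open Classical in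
/-- **Kulakoff's theorem**. -/
theorem cnt_mod_sq : ∀ (n : ℕ) {G : Type u} [Group G] [Finite G] {m k : ℕ}, Nat.card G = n → Nat.card G = p ^ m →
    1 ≤ k → k < m → cnt p k (⊤ : Subgroup G) ≡ (if Exc p k G then 1 else 1 + p) [MOD p ^ 2] := by
  intro n
  induction n using Nat.strong_induction_on with
  | _ n IH =>
    intro G _ _ m k hn hG hk1 hkm
    letI := Fintype.ofFinite (Subgroup G)
    have hGp : IsPGroup p G := IsPGroup.of_card hG
    by_cases hcy : IsCyclic G
    · have hx : Exc p k G := Or.inl hcy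
      rw [if_pos hx]
      obtain ⟨H, hH⟩ := Sylow.exists_subgroup_card_pow_prime (G := G) p (hG ▸ pow_dvd_pow p hkm.le)
      have h1 : cnt p k (⊤ : Subgroup G) = 1 := by
        rw [cnt, Nat.card_eq_one_iff_unique]
        refine ⟨⟨fun A B => Subtype.ext ?_⟩, ⟨⟨H, le_top, hH⟩⟩⟩
        letI := Fintype.ofFinite G
        have key : ∀ A : Subgroup G, Nat.card A = p ^ k →
            Finset.univ.filter (fun x : G => x ∈ A) = Finset.univ.filter (fun x : G => x ^ p ^ k = 1) := by
          intro A hA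
          refine Finset.eq_of_subset_of_card_le (fun x hx => ?_) ?_
          · simp only [Finset.mem_filter, Finset.mem_univ, true_and] at hx ⊢
            have := congrArg Subtype.val (pow_card_eq_one' (x := (⟨x, hx⟩ : A)))
            rw [hA] at this
            exact this
          · rw [← Fintype.card_subtype, ← Fintype.card_subtype, ← Nat.card_eq_fintype_card (α := {x // x ∈ A}), hA,
              Fintype.card_subtype]
            exact IsCyclic.card_pow_eq_one_le (pow_pos hp.out.pos k)
        ext x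
        have := congrArg (fun S : Finset G => x ∈ S) ((key A.1 A.2.2).trans (key B.1 B.2.2).symm)
        simpa using this
      rw [h1]
    rcases (show k + 1 = m ∨ k + 1 < m by omega) with hk | hk
    · have hx : ¬ Exc p k G := fun h => h.elim hcy fun h' => by
        have := h'.2.2
        rw [hG, hk] at this
        exact lt_irrefl _ this
      rw [if_neg hx]
      have e : cnt p k (⊤ : Subgroup G) = mx (⊥ : Subgroup G) := by
        refine Nat.card_congr (Equiv.subtypeEquivRight fun M => ⟨fun h => ⟨isCoatom_of_index (p := p) M ?_, bot_le⟩,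
          fun h => ⟨le_top, ?_⟩⟩)
        · have h2 := M.card_mul_index
          rw [h.2, hG, ← hk, pow_succ] at h2
          exact Nat.eq_of_mul_eq_mul_left (pow_pos hp.out.pos k) h2
        · rw [card_coatom hG h.1 (by omega), ← hk, Nat.add_sub_cancel]
      rw [e, ← mx_of_le (⊥ : Subgroup G) (le_refl (frattini G)), bot_sup_eq]
      haveI : Nontrivial G := by
        by_contra h
        rw [not_nontrivial_iff_subsingleton] at h
        exact hcy isCyclic_of_subsingleton
      refine mx_mod_sq hGp le_rfl Cfsg.Lib.PGroup.frattini_ne_top fun hc => hcy ?_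
      obtain ⟨x, -, hx⟩ := SetLike.exists_of_lt (lt_top_iff_ne_top.2 hc.1)
      have htop : frattini G ⊔ zpowers x = ⊤ := hc.2 _ (left_lt_sup.2 fun h => hx (h (mem_zpowers x)))
      rw [sup_comm] at htop
      exact isCyclic_iff_exists_zpowers_eq_top.2 ⟨x, frattini_nongenerating htop⟩
    · have hsum := sum_cnt_mod_sq hG hk hcy
      have hbot : (⊥ : Subgroup G) ≠ ⊤ := fun h => by
        have h' : Nat.card (⊤ : Subgroup G) = 1 := by rw [← h, card_bot]
        rw [card_top, hG] at h'
        have := Nat.one_lt_pow (show m ≠ 0 by omega) hp.out.one_lt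
        omega
      haveI : Nontrivial G := by
        by_contra h
        rw [not_nontrivial_iff_subsingleton] at h
        exact hcy isCyclic_of_subsingleton
      set A := Finset.univ.filter (fun M : Subgroup G => IsCoatom M)
      have hM : ∀ M ∈ A, cnt p k M + (if Exc p k M then p else 0) ≡ 1 + p [MOD p ^ 2] := by
        intro M hM
        have hM' := (Finset.mem_filter.1 hM).2
        have hc : Nat.card M = p ^ (m - 1) := card_coatom hG hM' (by omega)
        have h := IH _ (hn ▸ by rw [hc, hG]; exact Nat.pow_lt_pow_right hp.out.one_lt (by omega)) (G := M) rfl hc hk1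
          (by omega)
        rw [cnt_eq_top]
        by_cases he : Exc p k M
        · rw [if_pos he] at h ⊢
          exact h.add_right p
        · rw [if_neg he] at h ⊢
          exact h
      have h1 := sum_modEq A hM
      rw [Finset.sum_add_distrib, Finset.sum_const, smul_eq_mul, Finset.sum_ite, Finset.sum_const_zero, add_zero,
        Finset.sum_const, smul_eq_mul] at h1
      have hc2 : A.card ≡ 1 + p [MOD p ^ 2] := by
        have := mx_mod_sq hGp (le_refl (frattini G)) Cfsg.Lib.PGroup.frattini_ne_top fun hc => hcy (by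
          obtain ⟨x, -, hx⟩ := SetLike.exists_of_lt (lt_top_iff_ne_top.2 hc.1)
          have htop : frattini G ⊔ zpowers x = ⊤ := hc.2 _ (left_lt_sup.2 fun h => hx (h (mem_zpowers x)))
          rw [sup_comm] at htop
          exact isCyclic_iff_exists_zpowers_eq_top.2 ⟨x, frattini_nongenerating htop⟩)
        have e : A.card = mx (⊥ : Subgroup G) := by
          rw [mx, Nat.card_eq_fintype_card, Fintype.card_subtype]
          simp [A]
        rw [e, ← mx_of_le (⊥ : Subgroup G) (le_refl (frattini G)), bot_sup_eq]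
        exact this
      have he : (A.filter fun M : Subgroup G => Exc p k M).card ≡ (if Exc p k G then 1 else 0) [MOD p] := by
        have e : (A.filter fun M : Subgroup G => Exc p k M).card =
            Nat.card {M : Subgroup G // IsCoatom M ∧ Exc p k M} := by
          rw [Nat.card_eq_fintype_card, Fintype.card_subtype]
          simp [A, Finset.filter_filter]
        rw [e]
        exact exc_count hG hk1 hk hcy
      have he' := he.mul_left' p
      rw [← sq] at he'
      have h2 : cnt p k (⊤ : Subgroup G) + p + p * (if Exc p k G then 1 else 0) ≡ 1 + p + p [MOD p ^ 2] := by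
        refine ((hsum.symm.add he'.symm).trans (Nat.ModEq.trans ?_ (h1.trans ?_)))
        · rw [mul_comm p]
        · refine (hc2.mul_right (1 + p)).trans ?_
          rw [show (1 + p) * (1 + p) = 1 + p + p + p ^ 2 * 1 by ring]
          rw [Nat.ModEq, Nat.add_mul_mod_self_left]
      split_ifs with hexc
      · rw [if_pos hexc, mul_one] at h2
        exact Nat.ModEq.add_right_cancel' p (Nat.ModEq.add_right_cancel' p h2)
      · rw [if_neg hexc, mul_zero, add_zero] at h2
        exact Nat.ModEq.add_right_cancel' p h2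

open Classical in
theorem cnt_mod_sq' {G : Type u} [Group G] [Finite G] {m k : ℕ} (hG : Nat.card G = p ^ m) (hk1 : 1 ≤ k) (hk : k < m) :
    cnt p k (⊤ : Subgroup G) ≡ (if Exc p k G then 1 else 1 + p) [MOD p ^ 2] :=
  cnt_mod_sq _ rfl hG hk1 hk

end Cfsg.Lib.PGroup.Kulakoff
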