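import Cfsg.Prelude.Def_OddOrderLocal
import Cfsg.Agent.Lib.PGroup.FrattiniStab

/-!
# Self-centralizing subgroups of metacyclic 2-groups

In a metacyclic 2-group without a self-centralizing subgroup of order four, an element normalizing a
self-centralizing subgroup `Q` acts trivially on `Q/Φ(Q)` unless `Aut Q` is a 2-group.
-/

set_option autoImplicit false

namespace Cfsg.Lib.PGroup

open Subgroup

/-- In a cyclic 2-group an element outside `⟨z⟩` has `z` in the subgroup of its even powers. -/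
theorem exists_even_zpow {X : Type*} [Group X] {m a n : X} {k : ℕ} (hm : m ^ (2 ^ k) = 1)
    (ha : a ∈ zpowers m) (hn : n ∈ zpowers m) (hna : n ∉ zpowers a) :
    ∃ j : ℤ, a = (n ^ 2) ^ j := by
  obtain ⟨i, rfl⟩ := mem_zpowers_iff.mp hn
  obtain ⟨l, rfl⟩ := mem_zpowers_iff.mp ha
  have hodd : ∀ {e : ℕ} {o : ℤ}, Odd o → m ^ ((2 : ℤ) ^ e) ∈ zpowers (m ^ ((2 : ℤ) ^ e * o)) := by
    intro e o ho
    refine Cfsg.Lib.TwoGroup.mem_of_odd_zpow_mem (m := k) (a := o) ?_ ho ?_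
    · rw [← zpow_natCast, ← zpow_mul, mul_comm, zpow_mul, zpow_natCast, hm, one_zpow]
    · rw [← zpow_mul]; exact mem_zpowers _
  rcases eq_or_ne l 0 with rfl | hl
  · exact ⟨0, by simp⟩
  rcases eq_or_ne i 0 with rfl | hi
  · exact absurd (by simp) hna
  obtain ⟨e, o, ho, hlo⟩ : ∃ (e : ℕ) (o : ℤ), Odd o ∧ l = 2 ^ e * o := by
    obtain ⟨e, o, ho, h⟩ := Nat.exists_eq_two_pow_mul_odd (Int.natAbs_ne_zero.mpr hl)
    rcases Int.natAbs_eq l with h' | h'
    · exact ⟨e, o, by exact_mod_cast ho, by rw [h', h]; push_cast; ring⟩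
    · exact ⟨e, -o, by exact_mod_cast (Int.odd_coe_nat o).mpr ho |>.neg, by rw [h', h]; push_cast; ring⟩
  obtain ⟨f, q, hq, hiq⟩ : ∃ (f : ℕ) (q : ℤ), Odd q ∧ i = 2 ^ f * q := by
    obtain ⟨e, o, ho, h⟩ := Nat.exists_eq_two_pow_mul_odd (Int.natAbs_ne_zero.mpr hi)
    rcases Int.natAbs_eq i with h' | h'
    · exact ⟨e, o, by exact_mod_cast ho, by rw [h', h]; push_cast; ring⟩
    · exact ⟨e, -o, by exact_mod_cast (Int.odd_coe_nat o).mpr ho |>.neg, by rw [h', h]; push_cast; ring⟩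
  subst hlo hiq
  rcases Nat.lt_or_ge f e with hlt | hge
  · obtain ⟨d, rfl⟩ : ∃ d, e = f + 1 + d := ⟨e - f - 1, by omega⟩
    obtain ⟨v, hv⟩ := mem_zpowers_iff.mp (hodd (e := f) hq)
    refine ⟨v * (2 ^ d * o), ?_⟩
    rw [← zpow_natCast, ← zpow_mul (m ^ (2 ^ f * q))]
    conv_rhs => rw [show ((2 : ℕ) : ℤ) * (v * (2 ^ d * o)) = v * (2 * 2 ^ d * o) by push_cast; ring,
      zpow_mul, hv, ← zpow_mul]
    congr 1
    rw [pow_add, pow_succ]; ring
  · obtain ⟨d, rfl⟩ : ∃ d, f = e + d := ⟨f - e, by omega⟩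
    refine absurd ?_ hna
    obtain ⟨v, hv⟩ := mem_zpowers_iff.mp (hodd (e := e) ho)
    refine mem_zpowers_iff.mpr ⟨v * (2 ^ d * q), ?_⟩
    rw [zpow_mul, hv, ← zpow_mul]
    congr 1
    rw [pow_add]; ring

variable {Ω : Type*} [Group Ω]

theorem conj_mem_zpowers_of {m y : Ω} (hy : y * m * y⁻¹ ∈ zpowers m) {z : Ω} (hz : z ∈ zpowers m) :
    y * z * y⁻¹ ∈ zpowers m := by
  obtain ⟨i, rfl⟩ := mem_zpowers_iff.mp hz
  rw [← conj_zpow]
  exact zpow_mem hy i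

/-- The action on the Frattini quotient. -/
abbrev TrivOn (Q : Subgroup Ω) (x : Ω) : Prop :=
  ∀ q : Q, ∃ f ∈ frattini Q, x * (q : Ω) * x⁻¹ = (q : Ω) * (f : Ω)

section

variable {P Q : Subgroup Ω} [Finite P]

/-- Main dichotomy. -/
theorem metacyclic_two_dichotomy (hP : IsPGroup 2 P) (hm : Cfsg.IsMetacyclic P)
    (hA4 : ∀ A : Subgroup Ω, A ≤ P → Nat.card A = 4 → P ⊓ centralizer (A : Set Ω) ≤ A → A = P)
    (hQP : Q ≤ P) (hC : P ⊓ centralizer (Q : Set Ω) ≤ Q)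
    {N : Subgroup Ω} (hQN : Q < N) (hNP : N ≤ P) (hNn : N ≤ normalizer (Q : Set Ω)) :
    (∀ g : MulAut Q, Odd (orderOf g) → g = 1) ∨ ∃ y ∈ N, y ∉ Q ∧ TrivOn Q y := by
  classical
  haveI : Fact (Nat.Prime 2) := ⟨Nat.prime_two⟩
  haveI : Finite Q := Finite.of_injective _ (Subgroup.inclusion_injective hQP)
  have hQp : IsPGroup 2 Q := hP.to_le hQP
  -- cyclic normal subgroup and generator of the quotient
  obtain ⟨m, hmP, hmn, g, hgP, hgen⟩ : ∃ m ∈ P, (∀ y ∈ P, y * m * y⁻¹ ∈ zpowers m) ∧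
      ∃ g ∈ P, ∀ y ∈ P, ∃ k : ℤ, y * g ^ k ∈ zpowers m := by
    obtain ⟨M, hMn, hMc, hQc⟩ := hm
    haveI := hMn
    obtain ⟨m₀, hm₀⟩ := IsCyclic.exists_generator (α := M)
    obtain ⟨g₀, hg₀⟩ := IsCyclic.exists_generator (α := P ⧸ M)
    induction g₀ using QuotientGroup.induction_on with
    | H g₀ =>
    have hmem : ∀ w : P, w ∈ M → (w : Ω) ∈ zpowers (((m₀ : M) : P) : Ω) := by
      intro w hw
      obtain ⟨i, hi⟩ := mem_zpowers_iff.mp (hm₀ ⟨w, hw⟩)
      exact mem_zpowers_iff.mpr ⟨i, by simpa using congrArg (fun z : M => ((z : P) : Ω)) hi⟩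
    refine ⟨((m₀ : P) : Ω), (m₀ : P).2, fun y hy => ?_, (g₀ : Ω), g₀.2, fun y hy => ?_⟩
    · exact hmem _ (hMn.conj_mem _ m₀.2 ⟨y, hy⟩)
    · obtain ⟨k, hk⟩ := mem_zpowers_iff.mp (hg₀ ((⟨y, hy⟩ : P) : P ⧸ M))
      refine ⟨-k, ?_⟩
      have h1 : (⟨y, hy⟩ : P) * g₀ ^ (-k) ∈ M := by
        rw [← QuotientGroup.eq_one_iff, QuotientGroup.mk_mul, QuotientGroup.mk_zpow, ← hk,
          ← zpow_add, add_neg_cancel, zpow_zero]
      simpa using hmem _ h1
  obtain ⟨e, he⟩ : ∃ e, Nat.card P = 2 ^ e := IsPGroup.iff_card.mp hP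
  have hexp : ∀ y ∈ P, y ^ (2 ^ e) = 1 := fun y hy => by
    have := congrArg Subtype.val (pow_card_eq_one' (G := P) (x := ⟨y, hy⟩))
    rw [he] at this
    simpa using this
  have hmle : zpowers m ≤ P := zpowers_le.mpr hmP
  -- conjugation preserves any element of the cyclic normal subgroup up to an odd power
  have hconj : ∀ y ∈ P, ∀ z ∈ zpowers m, ∃ u : ℤ, Odd u ∧ y * z * y⁻¹ = z ^ u := by
    intro y hy z hz
    obtain ⟨s, hs⟩ := mem_zpowers_iff.mp (hmn y hy)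
    obtain ⟨i, rfl⟩ := mem_zpowers_iff.mp hz
    have h1 : y * m ^ i * y⁻¹ = (m ^ i) ^ s := by
      rw [← conj_zpow, ← hs, ← zpow_mul, ← zpow_mul, mul_comm]
    rcases Int.even_or_odd s with hse | hso
    · -- then `m = 1`
      obtain ⟨t, ht⟩ := mem_zpowers_iff.mp (hmn y⁻¹ (inv_mem hy))
      have h2 : m ^ (t * s) = m := by
        rw [mul_comm, zpow_mul, hs, conj_zpow, ht]
        group
      have h3 : m ∈ (⊥ : Subgroup Ω) := Cfsg.Lib.TwoGroup.mem_of_odd_zpow_mem (hexp m hmP)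
        (a := t * s - 1) ((hse.mul_left t).sub_odd odd_one) (by
          rw [zpow_sub, zpow_one, h2, mul_inv_cancel]; exact one_mem _)
      rw [mem_bot] at h3
      exact ⟨1, odd_one, by simp [h3]⟩
    · exact ⟨s, hso, h1⟩
  -- generators of `Q`
  obtain ⟨a, haQ, ham, haQ'⟩ : ∃ a ∈ Q, a ∈ zpowers m ∧ ∀ q ∈ Q, q ∈ zpowers m → q ∈ zpowers a := by
    haveI : IsCyclic (Q ⊓ zpowers m : Subgroup Ω) :=
      isCyclic_of_le (inf_le_right : Q ⊓ zpowers m ≤ zpowers m)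
    obtain ⟨a₀, ha₀⟩ := IsCyclic.exists_generator (α := (Q ⊓ zpowers m : Subgroup Ω))
    refine ⟨a₀, a₀.2.1, a₀.2.2, fun q hq hqm => ?_⟩
    obtain ⟨i, hi⟩ := mem_zpowers_iff.mp (ha₀ ⟨q, hq, hqm⟩)
    exact mem_zpowers_iff.mpr ⟨i, by simpa using congrArg Subtype.val hi⟩
  let D : AddSubgroup ℤ :=
    { carrier := {k | ∃ z ∈ zpowers m, z * g ^ k ∈ Q}
      zero_mem' := ⟨1, one_mem _, by simp⟩
      add_mem' := by
        rintro i j ⟨z, hz, hzQ⟩ ⟨w, hw, hwQ⟩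
        refine ⟨z * (g ^ i * w * (g ^ i)⁻¹), mul_mem hz ?_, ?_⟩
        · exact conj_mem_zpowers_of (hmn _ (zpow_mem hgP i)) hw
        · have := mul_mem hzQ hwQ
          convert this using 1
          rw [zpow_add]; group
      neg_mem' := by
        rintro i ⟨z, hz, hzQ⟩
        refine ⟨(g ^ i)⁻¹ * z⁻¹ * ((g ^ i)⁻¹)⁻¹,
          conj_mem_zpowers_of (hmn _ (inv_mem (zpow_mem hgP i))) (inv_mem hz), ?_⟩
        have := inv_mem hzQ
        convert this using 1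
        rw [zpow_neg]; group }
  obtain ⟨δ, hδ⟩ := Int.subgroup_cyclic D
  obtain ⟨z₀, hz₀, hbQ⟩ : δ ∈ D := by rw [hδ]; exact AddSubgroup.subset_closure rfl
  obtain ⟨b, hb⟩ : ∃ b, b = z₀ * g ^ δ := ⟨_, rfl⟩
  rw [← hb] at hbQ
  have hbP : b ∈ P := hQP hbQ
  -- powers of `b` modulo the cyclic normal subgroup
  have hbpow : ∀ t : ℤ, b ^ t * (g ^ (δ * t))⁻¹ ∈ zpowers m := by
    intro t
    have hsucc : ∀ t : ℤ, b ^ t * (g ^ (δ * t))⁻¹ ∈ zpowers m →
        ∀ s : ℤ, b ^ s * (g ^ (δ * s))⁻¹ ∈ zpowers m →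
        b ^ (t + s) * (g ^ (δ * (t + s)))⁻¹ ∈ zpowers m := by
      intro t ht s hs
      have h1 : b ^ (t + s) * (g ^ (δ * (t + s)))⁻¹ =
          (b ^ t * (g ^ (δ * t))⁻¹) * (g ^ (δ * t) * (b ^ s * (g ^ (δ * s))⁻¹) * (g ^ (δ * t))⁻¹) := by
        rw [zpow_add, mul_add, zpow_add]; group
      rw [h1]
      exact mul_mem ht (conj_mem_zpowers_of (hmn _ (zpow_mem hgP _)) hs)
    have hone : b ^ (1 : ℤ) * (g ^ (δ * 1))⁻¹ ∈ zpowers m := by
      rw [zpow_one, mul_one, hb, mul_inv_cancel_right]; exact hz₀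
    have hneg : b ^ (-1 : ℤ) * (g ^ (δ * -1))⁻¹ ∈ zpowers m := by
      have h1 : b ^ (-1 : ℤ) * (g ^ (δ * -1))⁻¹ = b⁻¹ * z₀⁻¹ * b⁻¹⁻¹ := by
        rw [hb]; group
      rw [h1]
      exact conj_mem_zpowers_of (hmn _ (inv_mem hbP)) (inv_mem hz₀)
    induction t using Int.induction_on with
    | zero => simp
    | succ i hi => exact hsucc _ hi _ hone
    | pred i hi => exact hsucc _ hi _ hneg
  have hQgen : ∀ q ∈ Q, ∃ i j : ℤ, q = a ^ i * b ^ j := by
    intro q hq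
    obtain ⟨k, hk⟩ := hgen q (hQP hq)
    have hkD : -k ∈ D := ⟨q * g ^ k, hk, by rw [mul_assoc, zpow_neg, mul_inv_cancel, mul_one]; exact hq⟩
    rw [hδ, AddSubgroup.mem_closure_singleton] at hkD
    obtain ⟨t, ht⟩ := hkD
    rw [smul_eq_mul] at ht
    have hmem : q * (b ^ t)⁻¹ ∈ zpowers m := by
      have h2 := hbpow t
      rw [show δ * t = -k by rw [← ht, mul_comm]] at h2
      have h3 : q * (b ^ t)⁻¹ = (q * g ^ k) * (b ^ t * (g ^ (-k))⁻¹)⁻¹ := by group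
      rw [h3]
      exact mul_mem hk (inv_mem h2)
    obtain ⟨i, hi⟩ := mem_zpowers_iff.mp (haQ' _ (mul_mem hq (inv_mem (zpow_mem hbQ t))) hmem)
    exact ⟨i, t, by rw [hi]; group⟩
  set Φ : Subgroup Ω := (frattini Q).map Q.subtype with hΦdef
  have hΦQ : Φ ≤ Q := map_subtype_le _
  have hΦmem : ∀ {z : Ω}, z ∈ Φ → ∃ f ∈ frattini Q, (f : Ω) = z := fun hz => mem_map.mp hz
  have hsq : ∀ q ∈ Q, ∀ i : ℤ, q ^ (2 * i) ∈ Φ := fun q hq i => by
    rw [zpow_mul]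
    refine zpow_mem ?_ i
    exact ⟨(⟨q, hq⟩ : Q) ^ 2, pow_mem_frattini hQp _, by simp [zpow_two, sq]⟩
  have hcom : ∀ q ∈ Q, ∀ r ∈ Q, q * r * q⁻¹ * r⁻¹ ∈ Φ := fun q hq r hr =>
    ⟨(⟨q, hq⟩ : Q) * ⟨r, hr⟩ * (⟨q, hq⟩ : Q)⁻¹ * (⟨r, hr⟩ : Q)⁻¹,
      commutator_le_frattini hQp
        (Subgroup.commutator_mem_commutator (Subgroup.mem_top _) (Subgroup.mem_top _)), by simp⟩
  have hΦn : ∀ q ∈ Q, ∀ z ∈ Φ, q * z * q⁻¹ ∈ Φ := fun q hq z hz => by
    have h1 := mul_mem (hcom q hq z (hΦQ hz)) hz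
    simpa using h1
  -- triviality modulo `Φ` need only be checked on the generators
  have htriv : ∀ y : Ω, y ∈ P → y ∈ normalizer (Q : Set Ω) → y * a * y⁻¹ * a⁻¹ ∈ Φ →
      y * b * y⁻¹ * b⁻¹ ∈ Φ → TrivOn Q y := by
    intro y hyP hy ha hb q
    let T : Subgroup Ω :=
      { carrier := {w | w ∈ Q ∧ w⁻¹ * (y * w * y⁻¹) ∈ Φ}
        one_mem' := ⟨one_mem _, by simp⟩
        mul_mem' := fun {v w} hv hw => ⟨mul_mem hv.1 hw.1, by
          have h1 : (v * w)⁻¹ * (y * (v * w) * y⁻¹) =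
              (w⁻¹ * (v⁻¹ * (y * v * y⁻¹)) * w⁻¹⁻¹) * (w⁻¹ * (y * w * y⁻¹)) := by group
          rw [h1]
          exact mul_mem (hΦn _ (inv_mem hw.1) _ hv.2) hw.2⟩
        inv_mem' := fun {v} hv => ⟨inv_mem hv.1, by
          have h1 : v⁻¹⁻¹ * (y * v⁻¹ * y⁻¹) = v * (v⁻¹ * (y * v * y⁻¹))⁻¹ * v⁻¹ := by group
          rw [h1]
          exact hΦn _ hv.1 _ (inv_mem hv.2)⟩ }
    have hin : ∀ w ∈ Q, y * w * y⁻¹ * w⁻¹ ∈ Φ → w ∈ T := fun w hw h => ⟨hw, by
      have h1 : w⁻¹ * (y * w * y⁻¹) = w⁻¹ * (y * w * y⁻¹ * w⁻¹) * w⁻¹⁻¹ := by group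
      rw [h1]
      exact hΦn _ (inv_mem hw) _ h⟩
    obtain ⟨i, j, hij⟩ := hQgen _ q.2
    have hqT : (q : Ω) ∈ T := hij ▸ mul_mem (zpow_mem (hin a haQ ha) i) (zpow_mem (hin b hbQ hb) j)
    obtain ⟨f, hf, hfe⟩ := hΦmem hqT.2
    exact ⟨f, hf, by rw [hfe]; group⟩
  have hodd_conj : ∀ {w y : Ω}, w ∈ Q → ∀ {u : ℤ}, Odd u → y * w * y⁻¹ = w ^ u →
      y * w * y⁻¹ * w⁻¹ ∈ Φ := by
    intro w y hw u hu h
    obtain ⟨t, rfl⟩ := hu
    rw [h, ← zpow_sub_one, add_sub_cancel_right]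
    exact hsq w hw t
  have htriva : ∀ y ∈ P, y * a * y⁻¹ * a⁻¹ ∈ Φ := fun y hy => by
    obtain ⟨u, hu, h⟩ := hconj y hy a ham
    exact hodd_conj haQ hu h
  -- an element of `N \ Q` with square in `Q`
  have hN2 : ∀ y ∈ N, y ∉ Q → ∃ l : ℕ, y ^ (2 ^ l) ∉ Q ∧ y ^ (2 ^ l) * y ^ (2 ^ l) ∈ Q := by
    intro y hy hyQ
    have hex : ∃ l, y ^ (2 ^ l) ∈ Q := ⟨e, by rw [hexp y (hNP hy)]; exact one_mem _⟩
    obtain ⟨l, hl⟩ : ∃ l, Nat.find hex = l + 1 := by
      refine ⟨Nat.find hex - 1, ?_⟩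
      rcases Nat.eq_zero_or_pos (Nat.find hex) with h | h
      · have := Nat.find_spec hex
        rw [h] at this
        exact absurd (by simpa using this) hyQ
      · omega
    refine ⟨l, Nat.find_min hex (by omega), ?_⟩
    have := Nat.find_spec hex
    rw [hl, pow_succ, mul_two, pow_add] at this
    exact this
  obtain ⟨x₀, hx₀N, hx₀Q⟩ := SetLike.exists_of_lt hQN
  obtain ⟨l₀, hxQ, hx2⟩ := hN2 x₀ hx₀N hx₀Q
  obtain ⟨x, hxdef⟩ : ∃ x, x = x₀ ^ (2 ^ l₀) := ⟨_, rfl⟩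
  rw [← hxdef] at hxQ hx2
  have hxN : x ∈ N := hxdef ▸ pow_mem hx₀N _
  have hxP : x ∈ P := hNP hxN
  by_cases hex2 : ∃ y ∈ N, y ∉ Q ∧ TrivOn Q y
  · exact Or.inr hex2
  left
  -- not cyclic
  have hnot : ∀ y ∈ N, y ∉ Q → y * b * y⁻¹ * b⁻¹ ∉ Φ := fun y hy hyQ h =>
    hex2 ⟨y, hy, hyQ, htriv y (hNP hy) (hNn hy) (htriva y (hNP hy)) h⟩
  obtain ⟨kx, hkx⟩ := hgen x hxP
  have hkD : -(kx + kx) ∈ D := by
    refine ⟨(x * g ^ kx) * (g ^ (-kx) * (x * g ^ kx) * (g ^ (-kx))⁻¹),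
      mul_mem hkx (conj_mem_zpowers_of (hmn _ (zpow_mem hgP _)) hkx), ?_⟩
    convert hx2 using 1
    group
  rw [hδ, AddSubgroup.mem_closure_singleton] at hkD
  obtain ⟨t, ht⟩ := hkD
  rw [smul_eq_mul] at ht
  rcases Int.even_or_odd t with hte | hto
  swap
  · -- `b` is a square modulo `⟨m⟩`: contradiction
    exfalso
    obtain ⟨v, hv⟩ := hto
    have hmem : b ^ t * (x * x)⁻¹ ∈ zpowers m := by
      have h2 := hbpow t
      rw [show δ * t = -(kx + kx) by rw [← ht, mul_comm]] at h2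
      have h3 : x * x * g ^ (kx + kx) ∈ zpowers m := by
        have : x * x * g ^ (kx + kx) =
            (x * g ^ kx) * (g ^ (-kx) * (x * g ^ kx) * (g ^ (-kx))⁻¹) := by group
        rw [this]
        exact mul_mem hkx (conj_mem_zpowers_of (hmn _ (zpow_mem hgP _)) hkx)
      have h4 : b ^ t * (x * x)⁻¹ = (b ^ t * (g ^ (-(kx + kx)))⁻¹) * (x * x * g ^ (kx + kx))⁻¹ := by
        group
      rw [h4]
      exact mul_mem h2 (inv_mem h3)
    obtain ⟨i, hi⟩ := mem_zpowers_iff.mp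
      (haQ' _ (mul_mem (zpow_mem hbQ t) (inv_mem hx2)) hmem)
    have hw : b ^ t = a ^ i * (x * x) := by rw [hi]; group
    refine hnot x hxN hxQ ?_
    obtain ⟨s, hs, hsa⟩ := hconj x hxP a ham
    have h5 : x * b ^ t * x⁻¹ * (b ^ t)⁻¹ = a ^ (s * i - i) := by
      rw [hw, show x * (a ^ i * (x * x)) * x⁻¹ = (x * a * x⁻¹) ^ i * (x * x) by
        rw [conj_zpow]; group, hsa, ← zpow_mul, zpow_sub]
      group
    obtain ⟨s', hs'⟩ := hs
    have h6 : x * b ^ t * x⁻¹ * (b ^ t)⁻¹ ∈ Φ := by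
      rw [h5, show s * i - i = 2 * (s' * i) by subst hs'; ring]
      exact hsq a haQ _
    have hxb : x * b * x⁻¹ ∈ Q := (Subgroup.mem_normalizer_iff.mp (hNn hxN) b).mp hbQ
    obtain ⟨w, hwd⟩ : ∃ w, w = x * b * x⁻¹ := ⟨_, rfl⟩
    have h7 : w ^ t * (b ^ t)⁻¹ ∈ Φ := by
      have : w ^ t = x * b ^ t * x⁻¹ := by rw [hwd, conj_zpow]
      rwa [this]
    have hwQ : w ∈ Q := hwd ▸ hxb
    have h8 : w * b⁻¹ = (w ^ (2 * v))⁻¹ * (w ^ t * (b ^ t)⁻¹) * b ^ (2 * v) := by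
      rw [hv, zpow_add, zpow_add, zpow_one, zpow_one]; group
    rw [show x * b * x⁻¹ * b⁻¹ = w * b⁻¹ by rw [hwd], h8]
    exact mul_mem (mul_mem (inv_mem (hsq w hwQ v)) h7) (hsq b hbQ v)
  -- `x` lies in `⟨m⟩ Q`
  obtain ⟨v, hv⟩ := hte
  have hxb : x * (b ^ v)⁻¹ ∈ zpowers m := by
    have h2 := hbpow v
    have hk' : δ * v = -kx := by subst hv; linarith
    rw [hk'] at h2
    have h3 : x * (b ^ v)⁻¹ = (x * g ^ kx) * (b ^ v * (g ^ (-kx))⁻¹)⁻¹ := by group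
    rw [h3]
    exact mul_mem hkx (inv_mem h2)
  obtain ⟨l, hnQ, hn2⟩ := hN2 (x * (b ^ v)⁻¹)
    (mul_mem hxN (inv_mem (zpow_mem (hQN.le hbQ) v)))
    (fun h => hxQ (by simpa using mul_mem h (zpow_mem hbQ v)))
  obtain ⟨n, hndef⟩ : ∃ n, n = (x * (b ^ v)⁻¹) ^ (2 ^ l) := ⟨_, rfl⟩
  rw [← hndef] at hnQ hn2
  have hnm : n ∈ zpowers m := hndef ▸ pow_mem hxb _
  have hnN : n ∈ N := hndef ▸ pow_mem (mul_mem hxN (inv_mem (zpow_mem (hQN.le hbQ) v))) _
  have hnP : n ∈ P := hNP hnN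
  have hnna : n ∉ zpowers a := fun h => hnQ (zpowers_le.mpr haQ h)
  obtain ⟨j₀, hj₀⟩ := exists_even_zpow (hexp m hmP) ham hnm hnna
  obtain ⟨a', ha'def⟩ : ∃ a', a' = n ^ 2 := ⟨_, rfl⟩
  have ha'Q : a' ∈ Q := by rw [ha'def, sq]; exact hn2
  have ha'm : a' ∈ zpowers m := ha'def ▸ pow_mem hnm 2
  have hgen' : ∀ q ∈ Q, ∃ i j : ℤ, q = a' ^ i * b ^ j := fun q hq => by
    obtain ⟨i, j, rfl⟩ := hQgen q hq
    exact ⟨j₀ * i, j, by rw [zpow_mul, ha'def, ← hj₀]⟩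
  have hzQ' : ∀ q ∈ Q, q ∈ zpowers m → q ∈ zpowers a' := fun q hq hqm => by
    obtain ⟨i, hi⟩ := mem_zpowers_iff.mp (haQ' q hq hqm)
    exact mem_zpowers_iff.mpr ⟨j₀ * i, by rw [zpow_mul, ha'def, ← hj₀, hi]⟩
  -- the action of `b` on `n`
  obtain ⟨u, hu, hbn⟩ := hconj b hbP n hnm
  obtain ⟨w, hw⟩ := hu
  have hwodd : Odd w := by
    by_contra hwe
    rw [Int.not_odd_iff_even] at hwe
    obtain ⟨w', hw'⟩ := hwe
    refine hnot n hnN hnQ ?_
    have h1 : n * b * n⁻¹ * b⁻¹ = n * (b * n * b⁻¹)⁻¹ := by group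
    have h2 : n ^ (2 * (2 * w')) = a' ^ (2 * w') := by
      rw [ha'def, ← zpow_natCast n 2, ← zpow_mul]; norm_num
    rw [h1, hbn, hw, hw', show 2 * (w' + w') + 1 = 2 * (2 * w') + 1 by ring, zpow_add, zpow_one,
      mul_inv_rev, mul_inv_cancel_left, h2]
    exact inv_mem (hsq a' ha'Q w')
  have hba : b * a' * b⁻¹ = a' ^ u := by
    rw [ha'def, ← conj_pow, hbn, ← zpow_natCast, ← zpow_natCast, ← zpow_mul, ← zpow_mul, mul_comm]
  have hba2 : ∀ i : ℤ, b * a' ^ i * b⁻¹ = a' ^ (u * i) := fun i => by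
    rw [← conj_zpow, hba, zpow_mul]
  have hexpa : a' ^ (2 ^ e) = 1 := hexp a' (hQP ha'Q)
  -- `⟨a' ^ 2⟩` contains the commutator subgroup
  have hdiv : ∀ i j : ℤ, ∃ s : ℤ, b ^ j * a' ^ i * (b ^ j)⁻¹ = a' ^ i * a' ^ (2 * s) := by
    intro i j
    obtain ⟨c, hc, hce⟩ := hconj (b ^ j) (hQP (zpow_mem hbQ j)) _ ha'm
    obtain ⟨c', rfl⟩ := hc
    exact ⟨c' * i, by rw [← conj_zpow, hce, ← zpow_mul, ← zpow_add]; ring_nf⟩
  have hmulab : ∀ i j k l : ℤ, ∃ s : ℤ,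
      a' ^ i * b ^ j * (a' ^ k * b ^ l) = a' ^ (i + k + 2 * s) * b ^ (j + l) := by
    intro i j k l
    obtain ⟨s, hs⟩ := hdiv k j
    refine ⟨s, ?_⟩
    rw [zpow_add b, zpow_add a', zpow_add a', show a' ^ i * b ^ j * (a' ^ k * b ^ l) =
      a' ^ i * (b ^ j * a' ^ k * (b ^ j)⁻¹) * (b ^ j * b ^ l) by group, hs]
    simp only [mul_assoc]
  have hpowab : ∀ (i j : ℤ) (r : ℕ), ∃ s : ℤ,
      (a' ^ i * b ^ j) ^ r = a' ^ (r * i + 2 * s) * b ^ ((r : ℤ) * j) := by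
    intro i j r
    induction r with
    | zero => exact ⟨0, by simp⟩
    | succ r ih =>
      obtain ⟨s, hs⟩ := ih
      obtain ⟨s', hs'⟩ := hmulab (r * i + 2 * s) (r * j) i j
      refine ⟨s + s', ?_⟩
      rw [pow_succ, hs, hs']
      push_cast
      ring_nf
  have hcomm2 : ∀ q ∈ Q, ∀ r ∈ Q, q * r * q⁻¹ * r⁻¹ ∈ zpowers (a' ^ 2) := by
    intro q hq r hr
    obtain ⟨i, j, rfl⟩ := hgen' q hq
    obtain ⟨k, l, rfl⟩ := hgen' r hr
    obtain ⟨s₁, h₁⟩ := hmulab i j k l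
    obtain ⟨s₂, h₂⟩ := hmulab k l i j
    refine mem_zpowers_iff.mpr ⟨s₁ - s₂, ?_⟩
    rw [show a' ^ i * b ^ j * (a' ^ k * b ^ l) * (a' ^ i * b ^ j)⁻¹ * (a' ^ k * b ^ l)⁻¹ =
      a' ^ i * b ^ j * (a' ^ k * b ^ l) * (a' ^ k * b ^ l * (a' ^ i * b ^ j))⁻¹ by group, h₁, h₂,
      add_comm l j, mul_inv_rev, mul_assoc, mul_inv_cancel_left, ← zpow_neg, ← zpow_add,
      ← zpow_natCast, ← zpow_mul]
    push_cast
    ring_nf
  intro γ hγ
  have hγ2 : ∀ γ' : MulAut Q, ∀ z ∈ zpowers (a' ^ 2), ∀ hz : z ∈ Q, ((γ' ⟨z, hz⟩ : Q) : Ω) ∈ zpowers (a' ^ 2) := by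
    intro γ' z hz hzQ
    have hgenerated : a' ^ 2 ∈ zpowers (b * a' * b⁻¹ * a'⁻¹) := by
      rw [hba, ← zpow_sub_one, hw, add_sub_cancel_right, zpow_mul, zpow_two, ← sq]
      refine Cfsg.Lib.TwoGroup.mem_of_odd_zpow_mem (m := e) ?_ hwodd (mem_zpowers _)
      rw [← pow_mul, mul_comm, pow_mul, hexpa, one_pow]
    obtain ⟨i, hi⟩ := mem_zpowers_iff.mp hz
    obtain ⟨j, hj⟩ := mem_zpowers_iff.mp hgenerated
    have hzc : (⟨z, hzQ⟩ : Q) =
        ((⟨b, hbQ⟩ : Q) * ⟨a', ha'Q⟩ * (⟨b, hbQ⟩ : Q)⁻¹ * (⟨a', ha'Q⟩ : Q)⁻¹) ^ (j * i) :=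
      Subtype.ext (by simp [zpow_mul, hj, ← hi])
    rw [hzc, map_zpow, SubgroupClass.coe_zpow]
    refine zpow_mem ?_ _
    simp only [map_mul, map_inv, Subgroup.coe_mul, Subgroup.coe_inv]
    exact hcomm2 _ (γ' _).2 _ (γ' _).2
  haveI : Finite (MulAut Q) := Finite.of_injective (fun a : MulAut Q => (a : Q → Q))
    DFunLike.coe_injective
  -- `Q` is not cyclic modulo its Frattini subgroup
  have hanΦ : ∀ j : ℤ, a' * b ^ j ∉ Φ := by
    intro j hj
    refine hnot n hnN hnQ ?_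
    have htop : zpowers (⟨b, hbQ⟩ : Q) ⊔ frattini Q = ⊤ := by
      obtain ⟨f, hf, hfe⟩ := hΦmem hj
      have haT : (⟨a', ha'Q⟩ : Q) ∈ zpowers (⟨b, hbQ⟩ : Q) ⊔ frattini Q := by
        have : (⟨a', ha'Q⟩ : Q) = f * ((⟨b, hbQ⟩ : Q) ^ j)⁻¹ := Subtype.ext (by simp [hfe])
        rw [this]
        exact mul_mem (Subgroup.mem_sup_right hf) (inv_mem (Subgroup.mem_sup_left (zpow_mem (mem_zpowers _) _)))
      refine eq_top_iff.mpr fun q _ => ?_
      obtain ⟨i, k, hik⟩ := hgen' _ q.2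
      have : q = (⟨a', ha'Q⟩ : Q) ^ i * (⟨b, hbQ⟩ : Q) ^ k := Subtype.ext (by simpa using hik)
      rw [this]
      exact mul_mem (zpow_mem haT i) (Subgroup.mem_sup_left (zpow_mem (mem_zpowers _) k))
    have hcyc : zpowers (⟨b, hbQ⟩ : Q) = ⊤ := frattini_nongenerating htop
    have hq : ∀ q ∈ Q, ∃ i : ℤ, q = b ^ i := fun q hq => by
      obtain ⟨i, hi⟩ := mem_zpowers_iff.mp (hcyc ▸ Subgroup.mem_top (⟨q, hq⟩ : Q))
      exact ⟨i, by simpa using (congrArg Subtype.val hi).symm⟩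
    obtain ⟨i, hi⟩ := hq _ ((Subgroup.mem_normalizer_iff.mp (hNn hnN) b).mp hbQ)
    rcases Int.even_or_odd i with ⟨i', hi'⟩ | hio
    · have hb1 : b ∈ (⊥ : Subgroup Ω) := by
        obtain ⟨k, hk⟩ := hq _ ((Subgroup.mem_normalizer_iff.mp (hNn (inv_mem hnN)) b).mp hbQ)
        have h2 : b ^ (k * i) = b := by
          rw [zpow_mul, ← hk, conj_zpow, ← hi]; group
        refine Cfsg.Lib.TwoGroup.mem_of_odd_zpow_mem (m := e) (hexp b hbP) (a := k * i - 1)
          (Even.sub_odd (Even.mul_left ⟨i', hi'⟩ k) odd_one) ?_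
        rw [zpow_sub, zpow_one, h2, mul_inv_cancel]; exact one_mem _
      rw [mem_bot] at hb1
      simp [hb1]
    · exact hodd_conj hbQ hio hi
  have hmodpar : ∀ {i j : ℤ}, a' ^ i * b ^ j ∈ Φ → Even i := by
    intro i j h
    by_contra hio
    rw [Int.not_even_iff_odd] at hio
    obtain ⟨i', rfl⟩ := hio
    refine hanΦ j ?_
    have h1 : a' * b ^ j = a' ^ (2 * -i') * (a' ^ (2 * i' + 1) * b ^ j) := by
      rw [← mul_assoc, ← zpow_add, show 2 * -i' + (2 * i' + 1) = 1 by ring, zpow_one]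
    rw [h1]
    exact mul_mem (hsq a' ha'Q _) h
  -- the image of `a'` is fixed modulo `Φ`
  obtain ⟨i₁, j₁, hγa⟩ := hgen' _ (γ ⟨a', ha'Q⟩).2
  have hj₁ : Even j₁ ∨ (a' ^ 4 = 1 ∧ b * b ∈ zpowers a') := by
    by_cases hbb : b * b ∈ zpowers a'
    · rcases Int.even_or_odd j₁ with hj | ⟨j', hj⟩
      · exact Or.inl hj
      right
      refine ⟨?_, hbb⟩
      obtain ⟨k, hk⟩ := mem_zpowers_iff.mp hbb
      have hk2 : a' ^ (2 * k) = 1 := by
        have h1 : a' ^ (u * k) = a' ^ k := by rw [← hba2, hk]; group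
        have h2 : a' ^ (2 * k) ∈ (⊥ : Subgroup Ω) := Cfsg.Lib.TwoGroup.mem_of_odd_zpow_mem (m := e)
          (by rw [← zpow_natCast, ← zpow_mul, mul_comm, zpow_mul, zpow_natCast, hexpa, one_zpow])
          hwodd (mem_bot.mpr (by
            rw [← zpow_mul, show 2 * k * w = u * k - k by subst hw; ring, zpow_sub, h1, mul_inv_cancel]))
        rwa [mem_bot] at h2
      have hu1 : a' ^ (2 * (u + 1)) = 1 := by
        have h1 : a' ^ (u * u) = a' := by
          have : b * b * a' * (b * b)⁻¹ = a' := by rw [← hk]; group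
          conv_rhs => rw [← this, mul_inv_rev, show b * b * a' * (b⁻¹ * b⁻¹) = b * (b * a' * b⁻¹) * b⁻¹ by group,
            hba, hba2]
        have h2 : a' ^ (2 * (u + 1)) ∈ (⊥ : Subgroup Ω) :=
          Cfsg.Lib.TwoGroup.mem_of_odd_zpow_mem (m := e)
          (by rw [← zpow_natCast, ← zpow_mul, mul_comm, zpow_mul, zpow_natCast, hexpa, one_zpow])
          hwodd (mem_bot.mpr (by
            rw [← zpow_mul, show 2 * (u + 1) * w = u * u - 1 by subst hw; ring, zpow_sub, h1, zpow_one,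
              mul_inv_cancel]))
        rwa [mem_bot] at h2
      -- the fourth power of `γ a'`
      have hsq2 : (a' ^ i₁ * b ^ j₁) * (a' ^ i₁ * b ^ j₁) = a' ^ (i₁ * (1 + u) + k * j₁) := by
        have hbj : b ^ j₁ = a' ^ (k * j') * b := by
          rw [zpow_mul, hk, hj, zpow_add, zpow_one, zpow_mul, zpow_two]
        rw [hbj, show a' ^ i₁ * (a' ^ (k * j') * b) = a' ^ (i₁ + k * j') * b by
          rw [zpow_add, mul_assoc], show a' ^ (i₁ + k * j') * b * (a' ^ (i₁ + k * j') * b) =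
          a' ^ (i₁ + k * j') * (b * a' ^ (i₁ + k * j') * b⁻¹) * (b * b) by group, hba2, ← hk,
          ← zpow_add, ← zpow_add]
        have hku : a' ^ ((u - 1) * (k * j')) = 1 := by
          rw [show (u - 1) * (k * j') = 2 * k * (w * j') by subst hw; ring, zpow_mul, hk2, one_zpow]
        calc a' ^ (i₁ + k * j' + u * (i₁ + k * j') + k)
            = a' ^ (i₁ * (1 + u) + k * j₁) * a' ^ ((u - 1) * (k * j')) := by
              rw [← zpow_add]; congr 1; subst hj; ring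
          _ = _ := by rw [hku, mul_one]
      have h4 : ((γ ⟨a', ha'Q⟩ : Q) : Ω) ^ 4 = 1 := by
        rw [hγa, show (4 : ℕ) = 2 * 2 from rfl, pow_mul, sq, sq, hsq2, ← zpow_add,
          show i₁ * (1 + u) + k * j₁ + (i₁ * (1 + u) + k * j₁) =
            2 * (u + 1) * i₁ + 2 * k * j₁ by ring, zpow_add, zpow_mul, hu1, one_zpow, one_mul,
          zpow_mul, hk2, one_zpow]
      have h5 : γ ((⟨a', ha'Q⟩ : Q) ^ 4) = γ 1 := by
        rw [map_one, map_pow]; exact Subtype.ext (by simpa using h4)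
      simpa using congrArg Subtype.val (γ.injective h5)
    · left
      have hex : ∃ r, b ^ (2 ^ r) ∈ zpowers a' := ⟨e, by rw [hexp b hbP]; exact one_mem _⟩
      have hr2 : 2 ≤ Nat.find hex := by
        by_contra hlt
        have h1 : b ^ (2 : ℕ) ∈ zpowers a' := by
          have h3 := Nat.find_spec hex
          rcases (show Nat.find hex = 0 ∨ Nat.find hex = 1 by omega) with h | h <;> rw [h] at h3
          · rw [pow_zero, pow_one] at h3; exact pow_mem h3 2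
          · rwa [pow_one] at h3
        exact hbb (by rwa [sq] at h1)
      obtain ⟨r, hr⟩ : ∃ r, Nat.find hex = r + 2 := ⟨Nat.find hex - 2, by omega⟩
      have hN : a' ^ (2 ^ (r + 1)) ∈ zpowers (a' ^ 2) :=
        mem_zpowers_iff.mpr ⟨((2 ^ r : ℕ) : ℤ), by rw [zpow_natCast, ← pow_mul, ← pow_succ']⟩
      have h1 := hγ2 γ _ hN (pow_mem ha'Q _)
      have h2 : γ ⟨a' ^ (2 ^ (r + 1)), pow_mem ha'Q _⟩ = (γ ⟨a', ha'Q⟩) ^ (2 ^ (r + 1)) := by
        rw [← map_pow]; exact congrArg γ (Subtype.ext (by simp))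
      rw [h2, SubgroupClass.coe_pow, hγa] at h1
      obtain ⟨s, hs⟩ := hpowab i₁ j₁ (2 ^ (r + 1))
      rw [hs] at h1
      have h3 : b ^ (((2 ^ (r + 1) : ℕ) : ℤ) * j₁) ∈ zpowers a' := by
        have h4 : zpowers (a' ^ 2) ≤ zpowers a' := zpowers_le.mpr (pow_mem (mem_zpowers _) 2)
        exact (Subgroup.mul_mem_cancel_left _ (zpow_mem (mem_zpowers _) _)).mp (h4 h1)
      by_contra hjo
      rw [Int.not_even_iff_odd] at hjo
      rw [zpow_mul, zpow_natCast] at h3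
      exact Nat.find_min hex (show r + 1 < Nat.find hex by omega)
        (Cfsg.Lib.TwoGroup.mem_of_odd_zpow_mem (m := e)
          (by rw [← pow_mul, mul_comm, pow_mul, hexp b hbP, one_pow]) hjo h3)
  rcases hj₁ with hj | ⟨h4, hbb⟩
  · -- `γ` fixes `a'` modulo `Φ`
    obtain ⟨j', hj'⟩ := hj
    have hi₁ : Odd i₁ := by
      rw [← Int.not_even_iff_odd]
      rintro ⟨i', hi'⟩
      have hin : ((γ ⟨a', ha'Q⟩ : Q) : Ω) ∈ Φ := by
        rw [hγa, hi', hj', ← two_mul, ← two_mul]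
        exact mul_mem (hsq a' ha'Q i') (hsq b hbQ j')
      obtain ⟨f, hf, hfe⟩ := hΦmem hin
      have h5 := apply_mem_frattini γ.symm hf
      rw [Subtype.ext hfe, MulEquiv.symm_apply_apply] at h5
      exact hanΦ 0 (by simpa using (show a' ∈ Φ from ⟨_, h5, rfl⟩))
    obtain ⟨i₂, j₂, hγb⟩ := hgen' _ (γ ⟨b, hbQ⟩).2
    have hA : (⟨a', ha'Q⟩ : Q)⁻¹ * γ ⟨a', ha'Q⟩ ∈ frattini Q := by
      have h1 : a'⁻¹ * ((γ ⟨a', ha'Q⟩ : Q) : Ω) ∈ Φ := by
        obtain ⟨i', hi'⟩ := hi₁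
        rw [hγa, hi', hj', ← two_mul, ← mul_assoc, ← zpow_neg_one, ← zpow_add,
          show -1 + (2 * i' + 1) = 2 * i' by ring]
        exact mul_mem (hsq a' ha'Q i') (hsq b hbQ j')
      obtain ⟨f, hf, hfe⟩ := hΦmem h1
      have : (⟨a', ha'Q⟩ : Q)⁻¹ * γ ⟨a', ha'Q⟩ = f := Subtype.ext (by simp [hfe])
      rw [this]; exact hf
    -- `γ ^ 2` is trivial on the Frattini quotient
    let π : Q →* Q ⧸ frattini Q := QuotientGroup.mk' _
    have hab : ∀ v w : Q ⧸ frattini Q, v * w = w * v := by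
      intro v w
      induction v using QuotientGroup.induction_on with
      | H v =>
      induction w using QuotientGroup.induction_on with
      | H w =>
      rw [← QuotientGroup.mk_mul, ← QuotientGroup.mk_mul, QuotientGroup.eq]
      refine commutator_le_frattini hQp ?_
      have : (v * w)⁻¹ * (w * v) = w⁻¹ * v⁻¹ * w⁻¹⁻¹ * v⁻¹⁻¹ := by group
      rw [this]
      exact Subgroup.commutator_mem_commutator (Subgroup.mem_top _) (Subgroup.mem_top _)
    have hsq1 : ∀ v : Q, π v * π v = 1 := fun v => by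
      rw [← map_mul, ← sq]
      exact (QuotientGroup.eq_one_iff _).mpr (pow_mem_frattini hQp v)
    set A : Q := ⟨a', ha'Q⟩
    set B : Q := ⟨b, hbQ⟩
    have hfix : ∀ v : Q, π v = π A → π (γ v) = π A := by
      intro v hv
      have h1 : A⁻¹ * v ∈ frattini Q := QuotientGroup.eq.mp hv.symm
      refine (QuotientGroup.eq.mpr ?_).symm
      have : A⁻¹ * γ v = (A⁻¹ * γ A) * γ (A⁻¹ * v) := by simp
      rw [this]
      exact mul_mem hA (apply_mem_frattini γ h1)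
    have hγA : π (γ A) = π A := hfix A rfl
    have hev : ∀ (v : Q) (i : ℤ), Even i → π v ^ i = 1 := by
      rintro v i ⟨i', rfl⟩
      rw [zpow_add, ← (show Commute (π v) (π v) from rfl).mul_zpow, hsq1, one_zpow]
    have hod : ∀ (v : Q) (i : ℤ), Odd i → π v ^ i = π v := by
      rintro v i ⟨i', rfl⟩
      rw [zpow_add, zpow_one, zpow_mul, zpow_two, hsq1, one_zpow, one_mul]
    have hBe : γ B = A ^ i₂ * B ^ j₂ := Subtype.ext (by simpa [A, B] using hγb)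
    have hBB : π (γ (γ B)) = π B := by
      rcases Int.even_or_odd j₂ with hj2 | hj2
      · -- then `γ A` and `γ B` generate a proper subgroup
        exfalso
        have hB : π (γ B) = π A ^ i₂ := by
          rw [hBe, map_mul, map_zpow, map_zpow, hev B j₂ hj2, mul_one]
        rcases Int.even_or_odd i₂ with hi2 | hi2
        · rw [hev A i₂ hi2] at hB
          have h4 := apply_mem_frattini γ.symm ((QuotientGroup.eq_one_iff _).mp hB)
          rw [MulEquiv.symm_apply_apply] at h4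
          refine hnot n hnN hnQ ?_
          have h5 : b ∈ Φ := ⟨B, h4, rfl⟩
          have h6 : n * b * n⁻¹ ∈ Φ := by
            obtain ⟨f, hf, hfe⟩ := hΦmem h5
            refine ⟨_, apply_mem_frattini ((normalizerMonoidHom Q) ⟨n, hNn hnN⟩) hf, ?_⟩
            rw [← hfe]; rfl
          exact mul_mem h6 (inv_mem h5)
        · rw [hod A i₂ hi2] at hB
          have h4 : γ (A⁻¹ * B) ∈ frattini Q := by
            refine (QuotientGroup.eq_one_iff _).mp ?_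
            show π (γ (A⁻¹ * B)) = 1
            rw [map_mul, map_inv, map_mul, map_inv, hγA, hB, inv_mul_cancel]
          have h5 := apply_mem_frattini γ.symm h4
          rw [MulEquiv.symm_apply_apply] at h5
          have h6 : a'⁻¹ * b ∈ Φ := ⟨_, h5, by simp [A, B]⟩
          refine hanΦ (-1) ?_
          have h7 := inv_mem h6
          have h8 : a' * b ^ (-1 : ℤ) = a' * (b⁻¹ * a') * a'⁻¹ := by group
          rw [h8]
          exact hΦn a' ha'Q _ (by simpa using h7)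
      · conv_lhs => rw [hBe]
        rw [map_mul, map_zpow, map_zpow, map_mul, map_zpow, map_zpow, hγA, hod _ j₂ hj2, hBe,
          map_mul, map_zpow, map_zpow, hod B j₂ hj2, ← mul_assoc,
          ← (show Commute (π A) (π A) from rfl).mul_zpow, hsq1, one_zpow, one_mul]
    have hW : γ ^ 2 ∈ frattiniStab Q := by
      intro q
      refine QuotientGroup.eq.mp ?_
      show π q = π ((γ ^ 2) q)
      obtain ⟨i, j, hij⟩ := hgen' _ q.2
      have hq : q = A ^ i * B ^ j := Subtype.ext (by simpa [A, B] using hij)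
      rw [sq, MulAut.mul_apply, hq]
      simp only [map_mul, map_zpow]
      rw [hBB, hfix _ hγA]
    obtain ⟨r, hr⟩ := isPGroup_frattiniStab hQp ⟨γ ^ 2, hW⟩
    have hr' : γ ^ (2 * 2 ^ r) = 1 := by
      rw [pow_mul]; simpa using congrArg Subtype.val hr
    refine orderOf_eq_one_iff.mp (Nat.eq_one_of_dvd_coprimes ?_ dvd_rfl (orderOf_dvd_of_pow_eq_one hr'))
    rw [← pow_succ']
    exact (Nat.coprime_two_right.mpr hγ).pow_right _
  · -- a self-centralizing subgroup of order four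
    exfalso
    have hbmem : ∀ i : ℤ, b ∉ zpowers a' := by
      intro _ hb'
      obtain ⟨i, hi⟩ := mem_zpowers_iff.mp hb'
      refine hnot n hnN hnQ ?_
      obtain ⟨s, hs, hsa⟩ := hconj n hnP a' ha'm
      refine hodd_conj hbQ hs ?_
      rw [← hi, ← conj_zpow, hsa, ← zpow_mul, ← zpow_mul, mul_comm]
    obtain ⟨z, hzdef, hz2⟩ : ∃ z, (z = a' ∨ z = a' * a') ∧ orderOf z = 2 := by
      have ha1 : a' ≠ 1 := fun h => hanΦ 0 (by rw [h]; simp)
      have h4' : orderOf a' ∣ 2 ^ 2 := orderOf_dvd_of_pow_eq_one h4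
      obtain ⟨r, hr, hre⟩ := (Nat.dvd_prime_pow Nat.prime_two).mp h4'
      interval_cases r
      · exact absurd (orderOf_eq_one_iff.mp hre) ha1
      · exact ⟨a', Or.inl rfl, hre⟩
      · refine ⟨a' * a', Or.inr rfl, ?_⟩
        rw [← sq, orderOf_pow' _ two_ne_zero, hre]; rfl
    have hzz : z * z = 1 := by rw [← sq, ← hz2, pow_orderOf_eq_one]
    have hzQ : z ∈ Q := by rcases hzdef with rfl | rfl; exacts [ha'Q, mul_mem ha'Q ha'Q]
    have hsmall : ∀ i : ℤ, a' ^ (2 * i) ∈ zpowers z := fun i => by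
      rw [zpow_mul, zpow_two]
      refine zpow_mem ?_ i
      rcases hzdef with rfl | rfl
      · exact mul_mem (mem_zpowers _) (mem_zpowers _)
      · exact mem_zpowers _
    have hzc : ∀ q ∈ Q, q * z = z * q := by
      intro q hq
      have hzm : z ∈ zpowers m := by rcases hzdef with rfl | rfl; exacts [ha'm, mul_mem ha'm ha'm]
      obtain ⟨s, ⟨s', hs'⟩, hsz⟩ := hconj q (hQP hq) z hzm
      rw [hs', zpow_add, zpow_mul, zpow_two, hzz, one_zpow, one_mul, zpow_one] at hsz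
      exact mul_inv_eq_iff_eq_mul.mp hsz
    have hb4 : b * b ∈ zpowers z := by
      obtain ⟨k, hk⟩ := mem_zpowers_iff.mp hbb
      rcases Int.even_or_odd k with ⟨k', hk'⟩ | ⟨k', hk'⟩
      · rw [← hk, hk', ← two_mul]; exact hsmall k'
      · -- then `a'` is an involution
        have h1 : a' ^ (2 * k) = 1 := by
          have h2 : a' ^ (u * k) = a' ^ k := by rw [← hba2, hk]; group
          have h3 : a' ^ (2 * k) ∈ (⊥ : Subgroup Ω) := Cfsg.Lib.TwoGroup.mem_of_odd_zpow_mem (m := e)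
            (by rw [← zpow_natCast, ← zpow_mul, mul_comm, zpow_mul, zpow_natCast, hexpa, one_zpow])
            hwodd (mem_bot.mpr (by
              rw [← zpow_mul, show 2 * k * w = u * k - k by subst hw; ring, zpow_sub, h2, mul_inv_cancel]))
          rwa [mem_bot] at h3
        have h5 : a' * a' = 1 := by
          have h6 : a' ^ (2 : ℤ) ∈ (⊥ : Subgroup Ω) := Cfsg.Lib.TwoGroup.mem_of_odd_zpow_mem (m := e)
            (by rw [← zpow_natCast, ← zpow_mul, mul_comm, zpow_mul, zpow_natCast, hexpa, one_zpow])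
            ⟨k', hk'⟩ (mem_bot.mpr (by rw [← zpow_mul]; exact h1))
          rwa [mem_bot, zpow_two] at h6
        rcases hzdef with rfl | rfl
        · rw [← hk]; exact zpow_mem (mem_zpowers _) k
        · rw [h5, orderOf_one] at hz2; exact absurd hz2 (by norm_num)
    obtain ⟨A, hA⟩ : ∃ A : Subgroup Ω, A = zpowers z ⊔ zpowers b := ⟨_, rfl⟩
    have hzA : z ∈ A := hA ▸ Subgroup.mem_sup_left (mem_zpowers _)
    have hbA : b ∈ A := hA ▸ Subgroup.mem_sup_right (mem_zpowers _)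
    have hAQ : A ≤ Q := hA ▸ sup_le (zpowers_le.mpr hzQ) (zpowers_le.mpr hbQ)
    have hzb : zpowers b ≤ normalizer (zpowers z : Set Ω) := zpowers_le.mpr <|
      (Subgroup.centralizer_le_normalizer _) (Subgroup.mem_centralizer_iff.mpr fun v hv => by
        obtain ⟨i, rfl⟩ := mem_zpowers_iff.mp hv
        exact ((show Commute z b from (hzc b hbQ).symm).zpow_left i).eq)
    have hbz : b ∉ zpowers z := fun hb' => hbmem 0 (by
      rcases hzdef with rfl | rfl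
      · exact hb'
      · exact zpowers_le.mpr (mul_mem (mem_zpowers _) (mem_zpowers _)) hb')
    have hcard : Nat.card A = 4 := by
      haveI : Finite A := Finite.of_injective _ (Subgroup.inclusion_injective (hAQ.trans hQP))
      haveI : ((zpowers z).subgroupOf A).Normal :=
        Subgroup.normal_subgroupOf_of_le_normalizer (hA ▸ sup_le Subgroup.le_normalizer hzb)
      have hidx : ((zpowers z).subgroupOf A).index = 2 := by
        rw [Subgroup.index_eq_two_iff_exists_notMem_and]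
        refine ⟨⟨b, hbA⟩, fun h => hbz h, fun v => ?_⟩
        obtain ⟨w', hw', b', hb', hv⟩ : ∃ w' ∈ zpowers z, ∃ b' ∈ zpowers b, (v : Ω) = w' * b' := by
          have h1 : (v : Ω) ∈ ((zpowers z ⊔ zpowers b : Subgroup Ω) : Set Ω) := by
            rw [← hA]; exact v.2
          rw [Subgroup.coe_mul_of_right_le_normalizer_left _ _ hzb] at h1
          obtain ⟨w', hw', b', hb', h⟩ := h1
          exact ⟨w', hw', b', hb', h.symm⟩
        obtain ⟨i, rfl⟩ := mem_zpowers_iff.mp hb'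
        rcases Int.even_or_odd i with ⟨r, rfl⟩ | ⟨r, rfl⟩
        · right
          show (v : Ω) ∈ zpowers z
          rw [hv, ← two_mul, zpow_mul, zpow_two]
          exact mul_mem hw' (zpow_mem hb4 r)
        · left
          show (v : Ω) * b ∈ zpowers z
          rw [hv, mul_assoc, ← zpow_add_one, show 2 * r + 1 + 1 = 2 * (r + 1) by ring, zpow_mul,
            zpow_two]
          exact mul_mem hw' (zpow_mem hb4 _)
      have hzc2 : Nat.card ((zpowers z).subgroupOf A) = 2 := by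
        rw [Nat.card_congr (Subgroup.subgroupOfEquivOfLe (hA ▸ le_sup_left : zpowers z ≤ A)).toEquiv,
          Nat.card_zpowers, hz2]
      rw [← Subgroup.card_mul_index ((zpowers z).subgroupOf A), hidx, hzc2]
    have hAP : A ≠ P := fun h => hnQ (hAQ (h ▸ hnP))
    refine hAP (hA4 A (hAQ.trans hQP) hcard ?_)
    rintro y ⟨hyP, hyC⟩
    have hyb : b * y = y * b := Subgroup.mem_centralizer_iff.mp hyC b hbA
    obtain ⟨c, ⟨c', hc'⟩, hca⟩ := hconj y hyP a' ha'm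
    -- multiply by a power of `b` to centralize `Q`
    have hcen : ∀ y' ∈ P, y' * a' * y'⁻¹ = a' → b * y' = y' * b → y' ∈ Q := by
      intro y' hy' h1 h2
      refine hC ⟨hy', Subgroup.mem_centralizer_iff.mpr fun q hq => ?_⟩
      obtain ⟨i, j, rfl⟩ := hgen' q hq
      exact (((show Commute y' a' from mul_inv_eq_iff_eq_mul.mp h1).zpow_right i).mul_right
        ((show Commute y' b from h2.symm).zpow_right j)).symm.eq
    have hyQ : y ∈ Q := by
      rcases Int.even_or_odd c' with ⟨d, hd⟩ | ⟨d, hd⟩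
      · refine hcen y hyP ?_ hyb
        rw [hca, hc', hd, show 2 * (d + d) + 1 = ((4 : ℕ) : ℤ) * d + 1 by push_cast; ring, zpow_add,
          zpow_mul, zpow_natCast, h4, one_zpow, one_mul, zpow_one]
      · have hwd := hwodd
        obtain ⟨w', hw'⟩ := hwd
        have h6 : b * y ∈ Q := by
          refine hcen (b * y) (mul_mem hbP hyP) ?_ (by rw [mul_assoc, ← hyb])
          rw [show b * y * a' * (b * y)⁻¹ = b * (y * a' * y⁻¹) * b⁻¹ by group, hca, hba2, hc', hd, hw,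
            hw', show (2 * (2 * w' + 1) + 1) * (2 * (2 * d + 1) + 1) =
              ((4 : ℕ) : ℤ) * (4 * w' * d + 3 * w' + 3 * d + 2) + 1 by push_cast; ring, zpow_add,
            zpow_mul, zpow_natCast, h4, one_zpow, one_mul, zpow_one]
        simpa using mul_mem (inv_mem hbQ) h6
    obtain ⟨i, j, rfl⟩ := hgen' y hyQ
    refine mul_mem ?_ (zpow_mem hbA j)
    have h1 : b * a' ^ i * b⁻¹ = a' ^ i := by
      have : b * (a' ^ i * b ^ j) * b⁻¹ = b * a' ^ i * b⁻¹ * b ^ j := by group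
      have h2 : b * (a' ^ i * b ^ j) * b⁻¹ = a' ^ i * b ^ j := by rw [hyb, mul_inv_cancel_right]
      exact mul_right_cancel (this ▸ h2)
    rw [hba2] at h1
    have h2 : a' ^ (2 * i) = 1 := by
      have h3 : a' ^ (2 * i) ∈ (⊥ : Subgroup Ω) := Cfsg.Lib.TwoGroup.mem_of_odd_zpow_mem (m := e)
        (by rw [← zpow_natCast, ← zpow_mul, mul_comm, zpow_mul, zpow_natCast, hexpa, one_zpow])
        hwodd (mem_bot.mpr (by
          rw [← zpow_mul, show 2 * i * w = u * i - i by subst hw; ring, zpow_sub, h1, mul_inv_cancel]))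
      rwa [mem_bot] at h3
    rcases hzdef with rfl | rfl
    · exact zpow_mem hzA i
    · rcases Int.even_or_odd i with ⟨r, rfl⟩ | ⟨r, rfl⟩
      · rw [← two_mul, zpow_mul, zpow_two]; exact zpow_mem hzA r
      · exfalso
        have h5 : a' ^ (2 : ℤ) ∈ (⊥ : Subgroup Ω) := Cfsg.Lib.TwoGroup.mem_of_odd_zpow_mem (m := e)
          (by rw [← zpow_natCast, ← zpow_mul, mul_comm, zpow_mul, zpow_natCast, hexpa, one_zpow])
          ⟨r, rfl⟩ (mem_bot.mpr (by rw [← zpow_mul]; exact h2))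
        rw [mem_bot, zpow_two] at h5
        rw [h5, orderOf_one] at hz2; exact absurd hz2 (by norm_num)

end

end Cfsg.Lib.PGroup
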