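import Cfsg.Agent.S0016
import Cfsg.Agent.Lib.PGroup.Basic
import Cfsg.Agent.Lib.Invol.Quaternion
import Mathlib.GroupTheory.SpecificGroups.Quaternion

/-!
# p-groups in which subgroups of equal order are similar
-/

set_option autoImplicit false

open scoped Pointwise

namespace Cfsg.Lib.PGroup.SameOrder

variable {T : Type*} [Group T] [Finite T] {p : ℕ} [Fact p.Prime]

theorem mem_zpowers_self_pow {x : T} (hx : orderOf x = p) {K : Subgroup T} (hK : x ∉ K) :
    K ⊓ Subgroup.zpowers x = ⊥ := by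
  have hp : p.Prime := Fact.out
  have hc : Nat.card ↥(Subgroup.zpowers x) = p := by rw [Nat.card_zpowers, hx]
  rcases (Nat.dvd_prime hp).1 (hc ▸ Subgroup.card_dvd_of_le (inf_le_right : K ⊓ Subgroup.zpowers x ≤ _)) with h | h
  · exact Subgroup.card_eq_one.1 h
  · have := Subgroup.eq_of_le_of_card_ge (inf_le_right : K ⊓ Subgroup.zpowers x ≤ _) (by rw [h, hc])
    exact absurd ((this.symm.le (Subgroup.mem_zpowers x)).1) hK

theorem card_sup_zpowers {x : T} (hx : orderOf x = p) {K : Subgroup T} (hK : x ∉ K)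
    (hn : x ∈ Subgroup.normalizer (K : Set T)) :
    Nat.card ↥(K ⊔ Subgroup.zpowers x) = Nat.card ↥K * p := by
  have hle : Subgroup.zpowers x ≤ Subgroup.normalizer (K : Set T) := Subgroup.zpowers_le.2 hn
  have hset : ((K ⊔ Subgroup.zpowers x : Subgroup T) : Set T) = (K : Set T) * (Subgroup.zpowers x : Set T) :=
    Subgroup.coe_mul_of_right_le_normalizer_left K (Subgroup.zpowers x) hle
  have e : Nat.card ↥K * Nat.card ↥(Subgroup.zpowers x) = Nat.card ↥(K ⊔ Subgroup.zpowers x) := by
    rw [← Nat.card_prod]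
    refine Nat.card_eq_of_bijective
      (fun a : ↥K × ↥(Subgroup.zpowers x) => (⟨(a.1 : T) * a.2, mul_mem (le_sup_left (α := Subgroup T) a.1.2)
        (le_sup_right (α := Subgroup T) a.2.2)⟩ : ↥(K ⊔ Subgroup.zpowers x))) ⟨?_, ?_⟩
    · exact fun a b h => Subgroup.mul_injective_of_disjoint
        (disjoint_iff.2 (mem_zpowers_self_pow hx hK)) (congrArg Subtype.val h)
    · rintro ⟨t, ht⟩
      rw [← SetLike.mem_coe, hset] at ht
      obtain ⟨a, ha, b, hb, rfl⟩ := ht
      exact ⟨(⟨a, ha⟩, ⟨b, hb⟩), rfl⟩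
  rw [← e, Nat.card_zpowers, hx]

theorem isMulCommutative_sup_zpowers {x : T} {K : Subgroup T} (hK : IsMulCommutative ↥K)
    (hc : ∀ k ∈ K, Commute k x) : IsMulCommutative ↥(K ⊔ Subgroup.zpowers x) := by
  have h : K ⊔ Subgroup.zpowers x ≤ Subgroup.centralizer ((K ⊔ Subgroup.zpowers x : Subgroup T) : Set T) := by
    rw [sup_le_iff]
    refine ⟨fun a ha => ?_, Subgroup.zpowers_le.2 ?_⟩
    · rw [Subgroup.mem_centralizer_iff]
      intro b hb
      have : K ⊔ Subgroup.zpowers x ≤ Subgroup.centralizer ({a} : Set T) := by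
        rw [sup_le_iff]
        refine ⟨fun k hk => Subgroup.mem_centralizer_singleton_iff.2
          (congrArg Subtype.val (hK.is_comm.comm (⟨k, hk⟩ : ↥K) ⟨a, ha⟩)), Subgroup.zpowers_le.2 ?_⟩
        exact Subgroup.mem_centralizer_singleton_iff.2 (hc a ha).eq.symm
      exact Subgroup.mem_centralizer_singleton_iff.1 (this hb)
    · rw [Subgroup.mem_centralizer_iff]
      intro b hb
      have : K ⊔ Subgroup.zpowers x ≤ Subgroup.centralizer ({x} : Set T) := by
        rw [sup_le_iff]
        exact ⟨fun k hk => Subgroup.mem_centralizer_singleton_iff.2 (hc k hk).eq,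
          Subgroup.zpowers_le.2 (Subgroup.mem_centralizer_singleton_iff.2 rfl)⟩
      exact Subgroup.mem_centralizer_singleton_iff.1 (this hb)
  exact ⟨⟨fun a b => Subtype.ext ((Subgroup.mem_centralizer_iff.1 (h b.2)) a a.2)⟩⟩

/-- Abelian subgroups of equal order are simultaneously cyclic. -/
theorem cyclic_or_quaternion_or_exponent (hT : IsPGroup p T)
    (hiso : ∀ A B : Subgroup T, IsMulCommutative ↥A → IsMulCommutative ↥B → Nat.card ↥A = Nat.card ↥B →
      IsCyclic ↥A → IsCyclic ↥B) :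
    IsCyclic T ∨ (p = 2 ∧ ∃ k : ℕ, Nonempty (T ≃* QuaternionGroup (2 ^ k))) ∨ ∀ x : T, x ^ p = 1 := by
  have hp : p.Prime := Fact.out
  by_cases huniq : ∀ H K : Subgroup T, Nat.card H = p → Nat.card K = p → H = K
  · rcases Cfsg.Agent.S0016.result p hT huniq with h | h
    · exact Or.inl h
    · exact Or.inr (Or.inl h)
  right; right
  push Not at huniq
  obtain ⟨H, K, hH, hK, hHK⟩ := huniq
  have hnt : Nontrivial T := Finite.one_lt_card_iff_nontrivial.1
    (lt_of_lt_of_le (hH ▸ hp.one_lt) H.card_le_card_group)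
  have := hT.center_nontrivial
  obtain ⟨z, hz⟩ := exists_prime_orderOf_dvd_card' p (G := Subgroup.center T) (by
    obtain ⟨n, hn, hc⟩ := (hT.to_subgroup (Subgroup.center T)).nontrivial_iff_card.1 inferInstance
    rw [hc]; exact dvd_pow_self p hn.ne')
  have hzo : orderOf (z : T) = p := by rw [Subgroup.orderOf_coe, hz]
  obtain ⟨L, hL, hLz⟩ : ∃ L : Subgroup T, Nat.card ↥L = p ∧ L ≠ Subgroup.zpowers (z : T) := by
    by_cases h : H = Subgroup.zpowers (z : T)
    · exact ⟨K, hK, fun h' => hHK (h.trans h'.symm)⟩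
    · exact ⟨H, hH, h⟩
  obtain ⟨x, hx⟩ := exists_prime_orderOf_dvd_card' p (G := ↥L) (by rw [hL])
  have hxo : orderOf (x : T) = p := by rw [Subgroup.orderOf_coe, hx]
  have hxz : (x : T) ∉ Subgroup.zpowers (z : T) := by
    intro h
    apply hLz
    have h1 : Subgroup.zpowers (x : T) = L :=
      Subgroup.eq_of_le_of_card_ge (Subgroup.zpowers_le.2 x.2) (by rw [Nat.card_zpowers, hxo, hL])
    have h2 : Subgroup.zpowers (x : T) = Subgroup.zpowers (z : T) :=
      Subgroup.eq_of_le_of_card_ge (Subgroup.zpowers_le.2 h) (by rw [Nat.card_zpowers, Nat.card_zpowers, hxo, hzo])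
    exact h1.symm.trans h2
  have hcomm : ∀ k ∈ Subgroup.zpowers (z : T), Commute k (x : T) := by
    intro k hk
    obtain ⟨i, rfl⟩ := Subgroup.mem_zpowers_iff.1 hk
    exact (show Commute (z : T) (x : T) from (Subgroup.mem_center_iff.1 z.2 (x : T)).symm).zpow_left i
  set E := Subgroup.zpowers (z : T) ⊔ Subgroup.zpowers (x : T)
  have hEc : IsMulCommutative ↥E := isMulCommutative_sup_zpowers inferInstance hcomm
  have hnorm : (x : T) ∈ Subgroup.normalizer ((Subgroup.zpowers (z : T) : Subgroup T) : Set T) := by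
    rw [Subgroup.mem_normalizer_iff]
    intro k
    constructor
    · intro hk; rw [← (hcomm k hk).eq, mul_inv_cancel_right]; exact hk
    · intro hk
      have h1 := (hcomm _ hk).eq
      have h2 : k = (x : T) * k * (x : T)⁻¹ := by
        have h3 := congrArg (fun t => (x : T)⁻¹ * t) h1
        simpa [mul_assoc] using h3
      rwa [← h2] at hk
  have hEcard : Nat.card ↥E = p ^ 2 := by
    rw [card_sup_zpowers hxo hxz hnorm, Nat.card_zpowers, hzo, sq]
  have hEnc : ¬ IsCyclic ↥E := by
    intro hc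
    have hxE : (x : T) ∈ E := le_sup_right (α := Subgroup T) (Subgroup.mem_zpowers _)
    have hzE : (z : T) ∈ E := le_sup_left (α := Subgroup T) (Subgroup.mem_zpowers _)
    have h1 : Subgroup.zpowers (⟨(x : T), hxE⟩ : ↥E) = Subgroup.zpowers (⟨(z : T), hzE⟩ : ↥E) :=
      Cfsg.Lib.Invol.zpowers_eq_of_cyclic (by rw [Subgroup.orderOf_mk, Subgroup.orderOf_mk, hxo, hzo])
    obtain ⟨i, hi⟩ := Subgroup.mem_zpowers_iff.1 (h1 ▸ Subgroup.mem_zpowers (⟨(x : T), hxE⟩ : ↥E))
    exact hxz (Subgroup.mem_zpowers_iff.2 ⟨i, congrArg Subtype.val hi⟩)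
  intro y
  by_contra hy
  obtain ⟨j, hj⟩ := IsPGroup.iff_orderOf.1 hT y
  have hj2 : 2 ≤ j := by
    by_contra hlt
    exact hy (orderOf_dvd_iff_pow_eq_one.1 (hj ▸ (pow_dvd_pow p (by omega : j ≤ 1)).trans (by rw [pow_one])))
  set w := y ^ p ^ (j - 2)
  have hw : orderOf w = p ^ 2 := by
    rw [orderOf_pow' y (pow_ne_zero _ hp.ne_zero), hj, Nat.gcd_eq_right (pow_dvd_pow p (by omega)),
      Nat.pow_div (by omega) hp.pos, show j - (j - 2) = 2 by omega]
  exact hEnc (hiso (Subgroup.zpowers w) E inferInstance hEc (by rw [Nat.card_zpowers, hw, hEcard]) inferInstance)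

/-- Subgroups of equal order simultaneously abelian, exponent `p`, nonabelian: order `p ^ 3`. -/
theorem card_eq_cube (hT : IsPGroup p T) (hexp : ∀ x : T, x ^ p = 1) (hna : ¬ IsMulCommutative T)
    (hiso : ∀ A B : Subgroup T, Nat.card ↥A = Nat.card ↥B → IsMulCommutative ↥A → IsMulCommutative ↥B) :
    Nat.card T = p ^ 3 := by
  have hp : p.Prime := Fact.out
  have hord : ∀ x : T, x ≠ 1 → orderOf x = p := fun x hx => orderOf_eq_prime (hexp x) hx
  obtain ⟨m, hm⟩ := IsPGroup.iff_card.1 hT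
  have hnt : Nontrivial T := by
    by_contra h
    rw [not_nontrivial_iff_subsingleton] at h
    exact hna ⟨⟨fun a b => Subsingleton.elim _ _⟩⟩
  have hm3 : 3 ≤ m := by
    by_contra hlt
    apply hna
    interval_cases m
    · have := (Nat.card_eq_one_iff_unique.1 (by rw [hm, pow_zero] : Nat.card T = 1)).1
      exact ⟨⟨fun a b => Subsingleton.elim _ _⟩⟩
    · have : IsCyclic T := isCyclic_of_prime_card (p := p) (by rw [hm, pow_one])
      infer_instance
    · exact IsPGroup.isMulCommutative_of_card_eq_prime_sq hm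
  by_contra hne
  have hm4 : 4 ≤ m := by
    by_contra hlt
    exact hne (by rw [hm, show m = 3 by omega])
  -- an element of the second centre
  have hZt : Subgroup.center T ≠ ⊤ := fun h => hna ⟨⟨fun a b =>
    (Subgroup.mem_center_iff.1 (h.symm ▸ Subgroup.mem_top b : b ∈ Subgroup.center T) a)⟩⟩
  have hq : IsPGroup p (T ⧸ Subgroup.center T) := hT.to_quotient _
  have : Nontrivial (T ⧸ Subgroup.center T) := (QuotientGroup.nontrivial_iff).2 hZt
  have := hq.center_nontrivial
  obtain ⟨c, hc⟩ := exists_ne (1 : Subgroup.center (T ⧸ Subgroup.center T))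
  obtain ⟨x, hx⟩ := QuotientGroup.mk'_surjective (Subgroup.center T) (c : T ⧸ Subgroup.center T)
  have hxZ : x ∉ Subgroup.center T := fun h => hc (Subtype.ext (by
    rw [← hx]; exact (QuotientGroup.eq_one_iff x).2 h))
  have hcomm : ∀ g : T, x * g * x⁻¹ * g⁻¹ ∈ Subgroup.center T := by
    intro g
    rw [← QuotientGroup.eq_one_iff]
    have h1 := Subgroup.mem_center_iff.1 c.2 (QuotientGroup.mk' _ g)
    rw [← hx] at h1
    show (QuotientGroup.mk' (Subgroup.center T)) (x * g * x⁻¹ * g⁻¹) = 1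
    rw [map_mul, map_mul, map_mul, map_inv, map_inv, ← h1]
    group
  have hx1 : x ≠ 1 := fun h => hxZ (h ▸ one_mem _)
  have hxo := hord x hx1
  obtain ⟨y, hy⟩ : ∃ y, x * y ≠ y * x := by
    by_contra h
    push Not at h
    exact hxZ (Subgroup.mem_center_iff.2 fun g => (h g).symm)
  set e := x * y * x⁻¹ * y⁻¹ with he
  have he1 : e ≠ 1 := by
    intro h
    apply hy
    rw [he, mul_inv_eq_one, mul_inv_eq_iff_eq_mul] at h
    exact h
  have heo := hord e he1
  have heZ : e ∈ Subgroup.center T := hcomm y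
  have hzle : Subgroup.zpowers e ≤ Subgroup.center T := Subgroup.zpowers_le.2 heZ
  have hxe : x ∉ Subgroup.zpowers e := fun h => hxZ (hzle h)
  have hnorm : ∀ (g : T) (K : Subgroup T), K ≤ Subgroup.center T → g ∈ Subgroup.normalizer (K : Set T) := by
    intro g K hK
    rw [Subgroup.mem_normalizer_iff]
    intro a
    constructor
    · intro ha; rw [Subgroup.mem_center_iff.1 (hK ha) g, mul_inv_cancel_right]; exact ha
    · intro ha
      have h := Subgroup.mem_center_iff.1 (hK ha) g⁻¹
      have h' : a = g * a * g⁻¹ := by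
        calc a = g⁻¹ * (g * a * g⁻¹) * g := by group
          _ = (g * a * g⁻¹) * g⁻¹ * g := by rw [h]
          _ = g * a * g⁻¹ := by group
      rwa [← h'] at ha
  set U := Subgroup.zpowers e ⊔ Subgroup.zpowers x
  have hUc : IsMulCommutative ↥U := isMulCommutative_sup_zpowers inferInstance
    fun k hk => (Subgroup.mem_center_iff.1 (hzle hk) x).symm
  have hUcard : Nat.card ↥U = p ^ 2 := by
    rw [card_sup_zpowers hxo hxe (hnorm x _ hzle), Nat.card_zpowers, heo, sq]
  have hxU : x ∈ U := le_sup_right (α := Subgroup T) (Subgroup.mem_zpowers x)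
  have heU : e ∈ U := le_sup_left (α := Subgroup T) (Subgroup.mem_zpowers e)
  have hycon : ∀ u ∈ U, y * u * y⁻¹ ∈ U := by
    intro u hu
    have : U ≤ U.comap (MulAut.conj y).toMonoidHom := by
      rw [sup_le_iff, Subgroup.zpowers_le, Subgroup.zpowers_le]
      refine ⟨?_, ?_⟩
      · show y * e * y⁻¹ ∈ U
        rw [Subgroup.mem_center_iff.1 heZ y, mul_inv_cancel_right]; exact heU
      · show y * x * y⁻¹ ∈ U
        have : y * x * y⁻¹ = e⁻¹ * x := by rw [he]; group
        rw [this]; exact U.mul_mem (U.inv_mem heU) hxU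
    exact this hu
  have hynU : y ∈ Subgroup.normalizer (U : Set T) := by
    rw [Subgroup.mem_normalizer_iff_map_conj_eq]
    refine Subgroup.eq_of_le_of_card_ge ?_ (le_of_eq (Nat.card_congr
      (U.equivMapOfInjective _ (MulAut.conj y).injective).toEquiv))
    rintro _ ⟨u, hu, rfl⟩
    exact hycon u hu
  have hyU : y ∉ U := fun h => hy (congrArg Subtype.val (hUc.is_comm.comm (⟨x, hxU⟩ : ↥U) ⟨y, h⟩))
  have hy1 : y ≠ 1 := fun h => hy (by rw [h, mul_one, one_mul])
  set W := U ⊔ Subgroup.zpowers y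
  have hWcard : Nat.card ↥W = p ^ 3 := by
    rw [card_sup_zpowers (hord y hy1) hyU hynU, hUcard, ← pow_succ]
  have hWna : ¬ IsMulCommutative ↥W := fun h => hy (congrArg Subtype.val (h.is_comm.comm
    (⟨x, le_sup_left (α := Subgroup T) hxU⟩ : ↥W) ⟨y, le_sup_right (α := Subgroup T) (Subgroup.mem_zpowers y)⟩))
  obtain ⟨A, hAc, hAcard⟩ : ∃ A : Subgroup T, IsMulCommutative ↥A ∧ Nat.card ↥A = p ^ 3 := by
    obtain ⟨j, hj⟩ := IsPGroup.iff_card.1 (hT.to_subgroup (Subgroup.center T))
    by_cases hj2 : 2 ≤ j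
    · obtain ⟨Z2, hZ2⟩ := Sylow.exists_subgroup_card_pow_prime (G := Subgroup.center T) p (n := 2)
        (hj ▸ pow_dvd_pow p hj2)
      let K := Z2.map (Subgroup.center T).subtype
      have hKZ : K ≤ Subgroup.center T := Subgroup.map_subtype_le _
      have hKc : IsMulCommutative ↥K := ⟨⟨fun a b => Subtype.ext (Subgroup.mem_center_iff.1 (hKZ b.2) a)⟩⟩
      refine ⟨K ⊔ Subgroup.zpowers x,
        isMulCommutative_sup_zpowers hKc fun k hk => (Subgroup.mem_center_iff.1 (hKZ hk) x).symm, ?_⟩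
      rw [card_sup_zpowers hxo (fun h => hxZ (hKZ h)) (hnorm x _ hKZ), Subgroup.card_subtype, hZ2, ← pow_succ]
    · let f : T →* Subgroup.center T :=
        MonoidHom.mk' (fun g => ⟨x * g * x⁻¹ * g⁻¹, hcomm g⟩) (by
          intro a b
          refine Subtype.ext ?_
          show x * (a * b) * x⁻¹ * (a * b)⁻¹ = (x * a * x⁻¹ * a⁻¹) * (x * b * x⁻¹ * b⁻¹)
          calc x * (a * b) * x⁻¹ * (a * b)⁻¹
              = x * a * x⁻¹ * ((x * b * x⁻¹ * b⁻¹) * a⁻¹) := by group
            _ = x * a * x⁻¹ * (a⁻¹ * (x * b * x⁻¹ * b⁻¹)) := by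
              rw [Subgroup.mem_center_iff.1 (hcomm b) a⁻¹]
            _ = _ := by group)
      have hker : p ^ 3 ≤ Nat.card ↥f.ker := by
        have h1 := f.ker.card_mul_index
        rw [Subgroup.index_ker, hm] at h1
        have h2 : Nat.card ↥f.range ≤ p := by
          refine le_trans (Subgroup.card_le_card_group _) ?_
          rw [hj]
          calc p ^ j ≤ p ^ 1 := Nat.pow_le_pow_right hp.pos (by omega)
            _ = p := pow_one p
        have h3 : p ^ 4 ≤ p ^ m := Nat.pow_le_pow_right hp.pos hm4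
        have h4 : p ^ 3 * p ≤ Nat.card ↥f.ker * p := by
          calc p ^ 3 * p = p ^ 4 := by ring
            _ ≤ p ^ m := h3
            _ = Nat.card ↥f.ker * Nat.card ↥f.range := h1.symm
            _ ≤ Nat.card ↥f.ker * p := Nat.mul_le_mul_left _ h2
        exact Nat.le_of_mul_le_mul_right h4 hp.pos
      obtain ⟨w, hw, hwU⟩ : ∃ w ∈ f.ker, w ∉ U := by
        by_contra h
        push Not at h
        have h1 := hker.trans (Subgroup.card_le_of_le h)
        rw [hUcard] at h1
        exact absurd h1 (not_le.2 (Nat.pow_lt_pow_right hp.one_lt (by norm_num)))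
      have hwx : Commute x w := by
        have h1 : x * w * x⁻¹ * w⁻¹ = 1 := congrArg Subtype.val hw
        rw [mul_inv_eq_one, mul_inv_eq_iff_eq_mul] at h1
        exact h1
      have hcw : ∀ u ∈ U, Commute u w := by
        intro u hu
        have : U ≤ Subgroup.centralizer ({w} : Set T) := by
          rw [sup_le_iff, Subgroup.zpowers_le, Subgroup.zpowers_le]
          exact ⟨Subgroup.mem_centralizer_singleton_iff.2 (Subgroup.mem_center_iff.1 heZ w).symm,
            Subgroup.mem_centralizer_singleton_iff.2 hwx.eq⟩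
        exact Subgroup.mem_centralizer_singleton_iff.1 (this hu)
      refine ⟨U ⊔ Subgroup.zpowers w, isMulCommutative_sup_zpowers hUc hcw, ?_⟩
      have hw1 : w ≠ 1 := fun h => hwU (h ▸ one_mem _)
      rw [card_sup_zpowers (hord w hw1) hwU ?_, hUcard, ← pow_succ]
      rw [Subgroup.mem_normalizer_iff_map_conj_eq]
      refine Subgroup.eq_of_le_of_card_ge ?_ (le_of_eq (Nat.card_congr
        (U.equivMapOfInjective _ (MulAut.conj w).injective).toEquiv))
      rintro _ ⟨u, hu, rfl⟩
      show w * u * w⁻¹ ∈ U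
      rw [← (hcw u hu).eq, mul_inv_cancel_right]; exact hu
  exact hWna (hiso A W (hAcard.trans hWcard.symm) hAc)

theorem quaternion_card_four_cyclic : IsCyclic (QuaternionGroup (2 ^ 0)) := by
  refine isCyclic_of_orderOf_eq_card (QuaternionGroup.xa 0) ?_
  rw [QuaternionGroup.orderOf_xa, Nat.card_eq_fintype_card, QuaternionGroup.card, pow_zero, mul_one]

/-- In `Q_{4n}`, `n` even, `n ≥ 4`, some subgroup of order `2n` is not abelian. -/
theorem quaternion_subgroups (k : ℕ) :
    ∃ A B : Subgroup (QuaternionGroup (2 ^ (k + 2))), Nat.card ↥A = Nat.card ↥B ∧ IsMulCommutative ↥A ∧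
      ¬ IsMulCommutative ↥B := by
  set n := 2 ^ (k + 2) with hn
  have : NeZero n := ⟨pow_ne_zero _ (by norm_num)⟩
  have h2 : (2 : ℕ) ∣ 2 * n := dvd_mul_right 2 n
  let ψ : ZMod (2 * n) →+* ZMod 2 := ZMod.castHom h2 (ZMod 2)
  have hψn : ψ (n : ZMod (2 * n)) = 0 := by
    rw [map_natCast, ZMod.natCast_eq_zero_iff]
    exact dvd_pow_self 2 (by omega)
  have hneg : ∀ a : ZMod 2, -a = a := by decide
  let f : QuaternionGroup n →* Multiplicative (ZMod 2) :=
    MonoidHom.mk' (fun g => match g with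
      | .a i => Multiplicative.ofAdd (ψ i)
      | .xa i => Multiplicative.ofAdd (ψ i)) (by
      rintro (i | i) (j | j) <;>
        simp only [QuaternionGroup.a_mul_a, QuaternionGroup.a_mul_xa, QuaternionGroup.xa_mul_a,
          QuaternionGroup.xa_mul_xa, ← ofAdd_add, map_add, map_sub, hψn, zero_add, sub_eq_add_neg, hneg] <;>
        simp [add_comm, hψn])
  have hf : Function.Surjective f := by
    intro b
    exact ⟨.a ((Multiplicative.toAdd b).val : ZMod (2 * n)), by
      show Multiplicative.ofAdd (ψ _) = b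
      rw [map_natCast, ZMod.natCast_val, ZMod.cast_id', id_eq, ofAdd_toAdd]⟩
  refine ⟨Subgroup.zpowers (QuaternionGroup.a 1), f.ker, ?_, inferInstance, ?_⟩
  · have h1 := f.ker.card_mul_index
    rw [Subgroup.index_ker, MonoidHom.range_eq_top.2 hf, Subgroup.card_top,
      show Nat.card (Multiplicative (ZMod 2)) = 2 by simp, Nat.card_eq_fintype_card (α := QuaternionGroup n),
      QuaternionGroup.card] at h1
    rw [Nat.card_zpowers, QuaternionGroup.orderOf_a_one]
    omega
  · intro h
    have ha : QuaternionGroup.a 2 ∈ f.ker := by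
      show Multiplicative.ofAdd (ψ 2) = 1
      rw [map_ofNat]; rfl
    have hx : QuaternionGroup.xa 0 ∈ f.ker := by
      show Multiplicative.ofAdd (ψ 0) = 1
      rw [map_zero]; rfl
    have h1 := congrArg Subtype.val (h.is_comm.comm (⟨_, ha⟩ : ↥f.ker) ⟨_, hx⟩)
    have h2' : QuaternionGroup.a (2 : ZMod (2 * n)) * QuaternionGroup.xa 0 =
        QuaternionGroup.xa 0 * QuaternionGroup.a 2 := h1
    rw [QuaternionGroup.a_mul_xa, QuaternionGroup.xa_mul_a] at h2'
    have h3 : (0 : ZMod (2 * n)) - 2 = 0 + 2 := by simpa using h2'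
    have h4 : ((4 : ℕ) : ZMod (2 * n)) = 0 := by
      push_cast
      linear_combination -h3
    rw [ZMod.natCast_eq_zero_iff] at h4
    have h5 := Nat.le_of_dvd (by norm_num) h4
    have h6 : 2 ^ 2 ≤ n := Nat.pow_le_pow_right (by norm_num) (by omega)
    omega

end Cfsg.Lib.PGroup.SameOrder
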