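import Cfsg.Prelude.Def_Transfer
import Cfsg.Agent.Lib.PGroup.ClassTwo
import Cfsg.Agent.Lib.PGroup.Basic

/-!
# Classification of extraspecial groups by symplectic bases
-/

set_option autoImplicit false

namespace Cfsg.Lib.Extraspecial

open scoped commutatorElement
open Cfsg.Lib.PGroup

variable {P : Type*} [Group P] {p : ℕ}

/-- The commutator pairing takes values in the group generated by `z`, central of order `p`. -/
structure Setting (p : ℕ) (z : P) : Prop where
  central : z ∈ Subgroup.center P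
  ord : orderOf z = p
  comm : ∀ a b : P, ⁅a, b⁆ ∈ Subgroup.zpowers z
  pow : ∀ a : P, a ^ p ∈ Subgroup.zpowers z

variable {z : P}

theorem Setting.le_center (h : Setting p z) : commutator P ≤ Subgroup.center P := by
  rw [commutator_def, Subgroup.commutator_le]
  exact fun a _ b _ => Subgroup.zpowers_le.mpr h.central (h.comm a b)

theorem Setting.pow_z (h : Setting p z) : z ^ p = 1 := h.ord ▸ pow_orderOf_eq_one z

theorem Setting.commute_z (h : Setting p z) (a : P) {w : P} (hw : w ∈ Subgroup.zpowers z) :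
    Commute a w := Subgroup.mem_center_iff.mp (Subgroup.zpowers_le.mpr h.central hw) a

theorem Setting.exists_pow (h : Setting p z) [hp : Fact p.Prime] {w : P}
    (hw : w ∈ Subgroup.zpowers z) : ∃ k, k < p ∧ z ^ k = w := by
  have hf : IsOfFinOrder z := orderOf_pos_iff.mp (h.ord ▸ hp.out.pos)
  obtain ⟨k, rfl⟩ := hf.mem_powers_iff_mem_zpowers.mpr hw
  refine ⟨k % p, Nat.mod_lt _ hp.out.pos, ?_⟩
  show z ^ (k % p) = z ^ k
  rw [← h.ord, pow_mod_orderOf]

/-- The part of `R` commuting with a pair. -/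
def perp (R : Subgroup P) (x y : P) : Subgroup P := R ⊓ Subgroup.centralizer {x, y}

theorem mem_perp {R : Subgroup P} {x y r : P} :
    r ∈ perp R x y ↔ r ∈ R ∧ Commute r x ∧ Commute r y := by
  simp only [perp, Subgroup.mem_inf, Subgroup.mem_centralizer_iff, Set.mem_insert_iff,
    Set.mem_singleton_iff, forall_eq_or_imp, forall_eq]
  exact ⟨fun h => ⟨h.1, h.2.1.symm, h.2.2.symm⟩, fun h => ⟨h.1, h.2.1.symm, h.2.2.symm⟩⟩

/-- A symplectic basis of a subgroup. -/
inductive SympList (z : P) : Subgroup P → List (P × P) → Prop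
  | nil : SympList z (Subgroup.zpowers z) []
  | cons {R : Subgroup P} {x y : P} {L : List (P × P)} : x ∈ R → y ∈ R → ⁅x, y⁆ = z →
      SympList z (perp R x y) L → SympList z R ((x, y) :: L)

theorem SympList.z_mem {R : Subgroup P} {L : List (P × P)} (h : SympList z R L) : z ∈ R := by
  induction h with
  | nil => exact Subgroup.mem_zpowers z
  | cons _ _ _ _ ih => exact (mem_perp.mp ih).1

theorem SympList.inv_cons {R : Subgroup P} {t : P × P} {L : List (P × P)}
    (h : SympList z R (t :: L)) :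
    t.1 ∈ R ∧ t.2 ∈ R ∧ ⁅t.1, t.2⁆ = z ∧ SympList z (perp R t.1 t.2) L := by
  cases h with
  | cons h1 h2 h3 h4 => exact ⟨h1, h2, h3, h4⟩

theorem SympList.inv_nil {R : Subgroup P} (h : SympList z R []) : R = Subgroup.zpowers z := by
  cases h; rfl

/-- Decomposition along a pair. -/
theorem decomp (h : Setting p z) [hp : Fact p.Prime] {R : Subgroup P} {x y : P} (hx : x ∈ R)
    (hy : y ∈ R) (hxy : ⁅x, y⁆ = z) {q : P} (hq : q ∈ R) :
    ∃ a b : ℕ, a < p ∧ b < p ∧ ∃ m ∈ perp R x y, q = x ^ a * y ^ b * m := by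
  obtain ⟨a, ha, hza⟩ := h.exists_pow (h.comm q y)
  obtain ⟨b, hb, hzb⟩ := h.exists_pow (h.comm x q)
  refine ⟨a, b, ha, hb, (x ^ a * y ^ b)⁻¹ * q, ?_, by group⟩
  set u := x ^ a * y ^ b with hu
  have h1 : ⁅u, y⁆ = ⁅q, y⁆ := by
    rw [hu, commutatorElement_mul_left h.le_center, commutatorElement_pow_left h.le_center,
      commutatorElement_pow_left h.le_center, hxy, commutatorElement_self, one_pow, mul_one, hza]
  have h2 : ⁅x, u⁆ = ⁅x, q⁆ := by
    rw [hu, commutatorElement_mul_right h.le_center, commutatorElement_pow_right h.le_center,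
      commutatorElement_pow_right h.le_center, hxy, commutatorElement_self, one_pow, one_mul, hzb]
  refine mem_perp.mpr ⟨mul_mem (inv_mem (mul_mem (pow_mem hx _) (pow_mem hy _))) hq, ?_, ?_⟩
  · refine (Commute.symm ?_)
    rw [← commutatorElement_eq_one_iff_commute]
    have h3 := commutatorElement_mul_right h.le_center x u (u⁻¹ * q)
    rw [mul_inv_cancel_left, h2] at h3
    exact left_eq_mul.mp h3
  · rw [← commutatorElement_eq_one_iff_commute]
    have h3 := commutatorElement_mul_left h.le_center u (u⁻¹ * q) y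
    rw [mul_inv_cancel_left, h1] at h3
    exact left_eq_mul.mp h3

theorem comm_coords (h : Setting p z) {R : Subgroup P} {x y : P} (hxy : ⁅x, y⁆ = z) {a b : ℕ}
    {m : P} (hm : m ∈ perp R x y) :
    ⁅x, x ^ a * y ^ b * m⁆ = z ^ b ∧ ⁅x ^ a * y ^ b * m, y⁆ = z ^ a := by
  obtain ⟨-, hmx, hmy⟩ := mem_perp.mp hm
  constructor
  · rw [commutatorElement_mul_right h.le_center, commutatorElement_mul_right h.le_center,
      commutatorElement_pow_right h.le_center, commutatorElement_pow_right h.le_center, hxy,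
      commutatorElement_self, one_pow, one_mul, commutatorElement_eq_one_iff_commute.mpr hmx.symm,
      mul_one]
  · rw [commutatorElement_mul_left h.le_center, commutatorElement_mul_left h.le_center,
      commutatorElement_pow_left h.le_center, commutatorElement_pow_left h.le_center, hxy,
      commutatorElement_self, one_pow, mul_one, commutatorElement_eq_one_iff_commute.mpr hmy,
      mul_one]

/-- Coordinates along a pair. -/
theorem exists_equiv (h : Setting p z) [hp : Fact p.Prime] {R : Subgroup P} {x y : P} (hx : x ∈ R)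
    (hy : y ∈ R) (hxy : ⁅x, y⁆ = z) :
    ∃ e : Fin p × Fin p × ↥(perp R x y) ≃ ↥R,
      ∀ t, ((e t : P)) = x ^ (t.1 : ℕ) * y ^ (t.2.1 : ℕ) * (t.2.2 : P) := by
  let f : Fin p × Fin p × ↥(perp R x y) → ↥R := fun t =>
    ⟨x ^ (t.1 : ℕ) * y ^ (t.2.1 : ℕ) * (t.2.2 : P),
      mul_mem (mul_mem (pow_mem hx _) (pow_mem hy _)) (mem_perp.mp t.2.2.2).1⟩
  refine ⟨Equiv.ofBijective f ⟨?_, ?_⟩, fun t => rfl⟩
  · rintro ⟨a, b, m⟩ ⟨a', b', m'⟩ he
    have he' : x ^ (a : ℕ) * y ^ (b : ℕ) * (m : P) = x ^ (a' : ℕ) * y ^ (b' : ℕ) * (m' : P) :=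
      congrArg Subtype.val he
    have h1 := comm_coords h hxy (a := a) (b := b) m.2
    have h2 := comm_coords h hxy (a := a') (b := b') m'.2
    have hb : (b : ℕ) = b' := pow_injOn_Iio_orderOf (by rw [Set.mem_Iio, h.ord]; exact b.2)
      (by rw [Set.mem_Iio, h.ord]; exact b'.2) (show z ^ (b : ℕ) = z ^ (b' : ℕ) by rw [← h1.1, he', h2.1])
    have ha : (a : ℕ) = a' := pow_injOn_Iio_orderOf (by rw [Set.mem_Iio, h.ord]; exact a.2)
      (by rw [Set.mem_Iio, h.ord]; exact a'.2) (show z ^ (a : ℕ) = z ^ (a' : ℕ) by rw [← h1.2, he', h2.2])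
    rw [ha, hb] at he'
    exact Prod.ext (Fin.ext ha) (Prod.ext (Fin.ext hb) (Subtype.ext (mul_left_cancel he')))
  · rintro ⟨q, hq⟩
    obtain ⟨a, b, ha, hb, m, hm, rfl⟩ := decomp h hx hy hxy hq
    exact ⟨(⟨a, ha⟩, ⟨b, hb⟩, ⟨m, hm⟩), rfl⟩

theorem card_eq (h : Setting p z) [hp : Fact p.Prime] {R : Subgroup P} {L : List (P × P)}
    (hL : SympList z R L) : Nat.card R = p ^ (2 * L.length + 1) := by
  induction hL with
  | nil => simp [Nat.card_zpowers, h.ord]
  | cons hx hy hxy _ ih =>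
    obtain ⟨e, -⟩ := exists_equiv h hx hy hxy
    rw [← Nat.card_congr e, Nat.card_prod, Nat.card_prod, Nat.card_fin, ih, List.length_cons]
    ring

/-! ### Existence of bases -/

/-- Nondegeneracy of a subgroup. -/
def Nondeg (z : P) (R : Subgroup P) : Prop :=
  z ∈ R ∧ ∀ r ∈ R, (∀ q ∈ R, Commute r q) → r ∈ Subgroup.zpowers z

theorem nondeg_perp (h : Setting p z) [hp : Fact p.Prime] {R : Subgroup P} {x y : P} (hx : x ∈ R)
    (hy : y ∈ R) (hxy : ⁅x, y⁆ = z) (hR : Nondeg z R) : Nondeg z (perp R x y) := by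
  refine ⟨mem_perp.mpr ⟨hR.1, (h.commute_z x (Subgroup.mem_zpowers z)).symm,
    (h.commute_z y (Subgroup.mem_zpowers z)).symm⟩, fun r hr hc => ?_⟩
  obtain ⟨hrR, hrx, hry⟩ := mem_perp.mp hr
  refine hR.2 r hrR fun q hq => ?_
  obtain ⟨a, b, -, -, m, hm, rfl⟩ := decomp h hx hy hxy hq
  exact ((hrx.pow_right a).mul_right (hry.pow_right b)).mul_right (hc m hm)

theorem exists_pair (h : Setting p z) [hp : Fact p.Prime] {R : Subgroup P} (hR : Nondeg z R)
    (hne : R ≠ Subgroup.zpowers z) : ∃ x ∈ R, ∃ y ∈ R, ⁅x, y⁆ = z := by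
  obtain ⟨x, hx, hxz⟩ := SetLike.exists_of_lt
    (lt_of_le_of_ne (Subgroup.zpowers_le.mpr hR.1) (Ne.symm hne))
  obtain ⟨y, hy, hxy⟩ : ∃ y ∈ R, ¬ Commute x y := by
    by_contra! hc
    exact hxz (hR.2 x hx hc)
  obtain ⟨k, hk, hzk⟩ := h.exists_pow (h.comm x y)
  have hk0 : k ≠ 0 := fun h0 => hxy (commutatorElement_eq_one_iff_commute.mp
    (by rw [← hzk, h0, pow_zero]))
  have hco : Nat.Coprime k p := Nat.Coprime.symm
    (hp.out.coprime_iff_not_dvd.mpr (Nat.not_dvd_of_pos_of_lt (Nat.pos_of_ne_zero hk0) hk))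
  obtain ⟨j, -, hj⟩ := Nat.exists_mul_mod_eq_one_of_coprime hco hp.out.one_lt
  refine ⟨x, hx, y ^ j, pow_mem hy j, ?_⟩
  rw [commutatorElement_pow_right h.le_center, ← hzk, ← pow_mul, ← pow_mod_orderOf, h.ord, hj,
    pow_one]

theorem exists_list (h : Setting p z) [hp : Fact p.Prime] [Finite P] (R : Subgroup P)
    (hR : Nondeg z R) : ∃ L, SympList z R L := by
  induction R using WellFoundedLT.induction with
  | _ R ih =>
  by_cases hne : R = Subgroup.zpowers z
  · exact ⟨[], hne ▸ SympList.nil⟩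
  obtain ⟨x, hx, y, hy, hxy⟩ := exists_pair h hR hne
  have hlt : perp R x y < R := lt_of_le_of_ne inf_le_left fun he => by
    have hc := (mem_perp.mp (he.ge hy)).2.1
    have : z = 1 := hxy ▸ commutatorElement_eq_one_iff_commute.mpr hc.symm
    have ho := h.ord
    rw [this, orderOf_one] at ho
    exact hp.out.one_lt.ne ho
  obtain ⟨L, hL⟩ := ih _ hlt (nondeg_perp h hx hy hxy hR)
  exact ⟨(x, y) :: L, SympList.cons hx hy hxy hL⟩

/-! ### Isomorphisms -/

variable {P' : Type*} [Group P'] {z' : P'}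

theorem card_sup_zpowers_le [hp : Fact p.Prime] {G : Type*} [Group G] [Finite G] {K : Subgroup G}
    {g : G} (hg : g ∈ Subgroup.normalizer (K : Set G)) (hgp : g ^ p ∈ K) :
    Nat.card ↥(Subgroup.zpowers g ⊔ K) ≤ p * Nat.card K := by
  rw [← Nat.card_fin p, ← Nat.card_prod]
  refine Nat.card_le_card_of_surjective (fun t : Fin p × K =>
    (⟨g ^ (t.1 : ℕ) * (t.2 : G), mul_mem (Subgroup.mem_sup_left (Subgroup.npow_mem_zpowers g _))
      (Subgroup.mem_sup_right t.2.2)⟩ : ↥(Subgroup.zpowers g ⊔ K))) ?_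
  rintro ⟨v, hv⟩
  rw [← SetLike.mem_coe, Subgroup.coe_mul_of_left_le_normalizer_right _ _
    (Subgroup.zpowers_le.mpr hg), Set.mem_mul] at hv
  obtain ⟨u, hu, k, hk, rfl⟩ := hv
  obtain ⟨n, rfl⟩ := (isOfFinOrder_of_finite g).mem_powers_iff_mem_zpowers.mpr hu
  refine ⟨(⟨n % p, Nat.mod_lt _ hp.out.pos⟩, ⟨(g ^ p) ^ (n / p) * k, mul_mem (pow_mem hgp _) hk⟩),
    Subtype.ext ?_⟩
  show g ^ (n % p) * ((g ^ p) ^ (n / p) * k) = g ^ n * k
  rw [← pow_mul, ← mul_assoc, ← pow_add, Nat.mod_add_div]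

theorem exists_graph (h : Setting p z) (h' : Setting p z') [hp : Fact p.Prime] [Finite P] [Finite P']
    {R : Subgroup P} {L : List (P × P)} (hL : SympList z R L) :
    ∀ {R' : Subgroup P'} {L' : List (P' × P')}, SympList z' R' L' →
      List.Forall₂ (fun t t' => ∃ i j : ℕ, t.1 ^ p = z ^ i ∧ t'.1 ^ p = z' ^ i ∧
        t.2 ^ p = z ^ j ∧ t'.2 ^ p = z' ^ j) L L' →
      ∃ H : Subgroup (P × P'), (z, z') ∈ H ∧ Nat.card H ≤ p ^ (2 * L.length + 1) ∧
        H.map (MonoidHom.fst P P') = R ∧ H.map (MonoidHom.snd P P') = R' := by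
  induction hL with
  | nil =>
    intro R' L' hL' hall
    cases hall
    cases hL'
    refine ⟨Subgroup.zpowers (z, z'), Subgroup.mem_zpowers _, ?_, ?_, ?_⟩
    · rw [Nat.card_zpowers, Prod.orderOf_mk, h.ord, h'.ord, Nat.lcm_self]; simp
    · rw [MonoidHom.map_zpowers]; rfl
    · rw [MonoidHom.map_zpowers]; rfl
  | @cons R x y L hx hy hxy hL ih =>
    intro R' L' hL' hall
    cases hall with
    | @cons _ t' _ L'' hrel hall =>
    cases hL' with
    | @cons _ x' y' _ hx' hy' hxy' hL'' =>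
    obtain ⟨H, hzH, hcard, hfst, hsnd⟩ := ih hL'' hall
    obtain ⟨i, j, hxp, hxp', hyp, hyp'⟩ := hrel
    dsimp only at hxp hxp' hyp hyp'
    have hcomm : ∀ t ∈ H, Commute t (x, x') ∧ Commute t (y, y') := by
      intro t ht
      have h1 := mem_perp.mp (hfst.le ⟨t, ht, rfl⟩ : t.1 ∈ perp R x y)
      have h2 := mem_perp.mp (hsnd.le ⟨t, ht, rfl⟩ : t.2 ∈ perp R' x' y')
      exact ⟨Prod.ext h1.2.1 h2.2.1, Prod.ext h1.2.2 h2.2.2⟩
    set K := Subgroup.zpowers (y, y') ⊔ H with hK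
    have hYn : (y, y') ∈ Subgroup.normalizer (H : Set (P × P')) :=
      Subgroup.centralizer_le_normalizer _ (Subgroup.mem_centralizer_iff.mpr
        fun t ht => (hcomm t ht).2.eq)
    have hXn : (x, x') ∈ Subgroup.normalizer (K : Set (P × P')) := by
      rw [Subgroup.mem_normalizer_iff_map_conj_eq, hK, Subgroup.map_sup, MonoidHom.map_zpowers]
      have hH : H.map (MulAut.conj (x, x')).toMonoidHom = H := by
        ext t
        constructor
        · rintro ⟨s, hs, rfl⟩
          rw [MulEquiv.coe_toMonoidHom, MulAut.conj_apply, ← (hcomm s hs).1.eq, mul_inv_cancel_right]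
          exact hs
        · intro ht
          refine ⟨t, ht, ?_⟩
          rw [MulEquiv.coe_toMonoidHom, MulAut.conj_apply, ← (hcomm t ht).1.eq, mul_inv_cancel_right]
      have hY : (MulAut.conj (x, x')).toMonoidHom (y, y') = (z, z') * (y, y') := by
        rw [MulEquiv.coe_toMonoidHom, MulAut.conj_apply, ← hxy, ← hxy', commutatorElement_def,
          commutatorElement_def]
        simp [Prod.ext_iff, mul_assoc]
      rw [MulEquiv.coe_toMonoidHom] at hY
      erw [hY, hH]
      refine le_antisymm (sup_le (Subgroup.zpowers_le.mpr ?_) le_sup_right)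
        (sup_le (Subgroup.zpowers_le.mpr ?_) le_sup_right)
      · exact mul_mem (Subgroup.mem_sup_right hzH) (Subgroup.mem_sup_left (Subgroup.mem_zpowers _))
      · have := mul_mem (Subgroup.mem_sup_right (inv_mem hzH))
          (Subgroup.mem_sup_left (Subgroup.mem_zpowers ((z, z') * (y, y'))) :
            (z, z') * (y, y') ∈ Subgroup.zpowers ((z, z') * (y, y')) ⊔ H)
        rwa [inv_mul_cancel_left] at this
    have hYp : (y, y') ^ p ∈ H := by
      rw [show (y, y') ^ p = (z, z') ^ j by rw [Prod.pow_def, hyp, hyp']; rfl]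
      exact pow_mem hzH j
    have hXp : (x, x') ^ p ∈ K := by
      rw [show (x, x') ^ p = (z, z') ^ i by rw [Prod.pow_def, hxp, hxp']; rfl]
      exact Subgroup.mem_sup_right (pow_mem hzH i)
    refine ⟨Subgroup.zpowers (x, x') ⊔ K, Subgroup.mem_sup_right (Subgroup.mem_sup_right hzH),
      ?_, ?_, ?_⟩
    · refine (card_sup_zpowers_le hXn hXp).trans ?_
      refine (Nat.mul_le_mul_left p ((card_sup_zpowers_le hYn hYp).trans
        (Nat.mul_le_mul_left p hcard))).trans (le_of_eq ?_)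
      rw [List.length_cons]; ring
    · rw [Subgroup.map_sup, hK, Subgroup.map_sup, MonoidHom.map_zpowers, MonoidHom.map_zpowers,
        hfst]
      refine le_antisymm (sup_le (Subgroup.zpowers_le.mpr hx)
        (sup_le (Subgroup.zpowers_le.mpr hy) inf_le_left)) fun q hq => ?_
      obtain ⟨a, b, -, -, m, hm, rfl⟩ := decomp h hx hy hxy hq
      exact mul_mem (mul_mem (Subgroup.mem_sup_left (Subgroup.npow_mem_zpowers _ _))
        (Subgroup.mem_sup_right (Subgroup.mem_sup_left (Subgroup.npow_mem_zpowers _ _))))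
        (Subgroup.mem_sup_right (Subgroup.mem_sup_right hm))
    · rw [Subgroup.map_sup, hK, Subgroup.map_sup, MonoidHom.map_zpowers, MonoidHom.map_zpowers,
        hsnd]
      refine le_antisymm (sup_le (Subgroup.zpowers_le.mpr hx')
        (sup_le (Subgroup.zpowers_le.mpr hy') inf_le_left)) fun q hq => ?_
      obtain ⟨a, b, -, -, m, hm, rfl⟩ := decomp h' hx' hy' hxy' hq
      exact mul_mem (mul_mem (Subgroup.mem_sup_left (Subgroup.npow_mem_zpowers _ _))
        (Subgroup.mem_sup_right (Subgroup.mem_sup_left (Subgroup.npow_mem_zpowers _ _))))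
        (Subgroup.mem_sup_right (Subgroup.mem_sup_right hm))

theorem nonempty_equiv (h : Setting p z) (h' : Setting p z') [hp : Fact p.Prime] [Finite P]
    [Finite P'] {L : List (P × P)} {L' : List (P' × P')} (hL : SympList z ⊤ L)
    (hL' : SympList z' ⊤ L')
    (hrel : List.Forall₂ (fun t t' => ∃ i j : ℕ, t.1 ^ p = z ^ i ∧ t'.1 ^ p = z' ^ i ∧
      t.2 ^ p = z ^ j ∧ t'.2 ^ p = z' ^ j) L L') : Nonempty (P ≃* P') := by
  obtain ⟨H, -, hcard, h1, h2⟩ := exists_graph h h' hL hL' hrel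
  have c1 := card_eq h hL
  have c2 := card_eq h' hL'
  rw [Subgroup.card_top] at c1 c2
  rw [← hrel.length_eq, ← c1] at c2
  rw [← c1] at hcard
  have s1 : Function.Surjective ((MonoidHom.fst P P').comp H.subtype) := fun a => by
    obtain ⟨t, ht, rfl⟩ := h1.ge (Subgroup.mem_top a)
    exact ⟨⟨t, ht⟩, rfl⟩
  have s2 : Function.Surjective ((MonoidHom.snd P P').comp H.subtype) := fun a => by
    obtain ⟨t, ht, rfl⟩ := h2.ge (Subgroup.mem_top a)
    exact ⟨⟨t, ht⟩, rfl⟩
  exact ⟨(MulEquiv.ofBijective _ (s1.bijective_of_nat_card_le hcard)).symm.trans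
    (MulEquiv.ofBijective _ (s2.bijective_of_nat_card_le (hcard.trans c2.ge)))⟩

/-! ### Extraspecial groups -/

theorem exists_setting [hp : Fact p.Prime] [Finite P] (h : Cfsg.IsExtraspecial p P) :
    ∃ z : P, Setting p z ∧ Nondeg z ⊤ := by
  obtain ⟨⟨hP, hF, hG⟩, hZ⟩ := h
  haveI : IsCyclic ↥(Subgroup.center P) := isCyclic_of_prime_card hZ
  obtain ⟨g, hg⟩ := IsCyclic.exists_generator (α := ↥(Subgroup.center P))
  have hzp : Subgroup.zpowers (g : P) = Subgroup.center P := by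
    refine le_antisymm (Subgroup.zpowers_le.mpr g.2) fun w hw => ?_
    obtain ⟨k, hk⟩ := Subgroup.mem_zpowers_iff.mp (hg ⟨w, hw⟩)
    exact Subgroup.mem_zpowers_iff.mpr ⟨k, by simpa using congrArg Subtype.val hk⟩
  refine ⟨g, ⟨g.2, ?_, fun a b => ?_, fun a => ?_⟩, Subgroup.mem_top _, fun r _ hr => ?_⟩
  · rw [← Nat.card_zpowers, hzp, hZ]
  · rw [hzp, ← hG]
    exact Subgroup.commutator_mem_commutator (Subgroup.mem_top a) (Subgroup.mem_top b)
  · rw [hzp, ← hF]
    exact pow_mem_frattini hP a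
  · rw [hzp, Subgroup.mem_center_iff]
    exact fun w => (hr w (Subgroup.mem_top w)).symm

/-- Extraspecial groups of exponent `p` are determined by their order. -/
theorem equiv_of_exponent [hp : Fact p.Prime] [Finite P] [Finite P'] (h₁ : Cfsg.IsExtraspecial p P)
    (h₂ : Cfsg.IsExtraspecial p P') (e₁ : ∀ a : P, a ^ p = 1) (e₂ : ∀ a : P', a ^ p = 1)
    (hc : Nat.card P = Nat.card P') : Nonempty (P ≃* P') := by
  obtain ⟨z, hz, hn⟩ := exists_setting h₁
  obtain ⟨z', hz', hn'⟩ := exists_setting h₂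
  obtain ⟨L, hL⟩ := exists_list hz ⊤ hn
  obtain ⟨L', hL'⟩ := exists_list hz' ⊤ hn'
  refine nonempty_equiv hz hz' hL hL' ?_
  have c1 := card_eq hz hL
  have c2 := card_eq hz' hL'
  rw [Subgroup.card_top] at c1 c2
  have hlen : L.length = L'.length := by
    have := Nat.pow_right_injective hp.out.two_le (c1.symm.trans (hc.trans c2))
    omega
  clear hL hL' c1 c2
  induction L generalizing L' with
  | nil => cases L' <;> simp_all
  | cons t L ih =>
    cases L' with
    | nil => simp at hlen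
    | cons t' L' =>
      exact List.Forall₂.cons ⟨0, 0, by simp [e₁], by simp [e₂], by simp [e₁], by simp [e₂]⟩
        (ih L' (by simpa using hlen))

/-! ### The prime two -/

/-- A pair generating a dihedral group of order eight. -/
def IsD (t : P × P) : Prop := t.1 ^ 2 = 1 ∧ t.2 ^ 2 = 1

/-- A pair generating a quaternion group of order eight. -/
def IsQ (z : P) (t : P × P) : Prop := t.1 ^ 2 = z ∧ t.2 ^ 2 = z

theorem Setting.pow_two_cases (h : Setting 2 z) (a : P) : a ^ 2 = 1 ∨ a ^ 2 = z := by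
  haveI : Fact (Nat.Prime 2) := ⟨Nat.prime_two⟩
  obtain ⟨k, hk, hzk⟩ := h.exists_pow (h.pow a)
  interval_cases k
  · exact Or.inl (by rw [← hzk, pow_zero])
  · exact Or.inr (by rw [← hzk, pow_one])

theorem Setting.sq_z (h : Setting 2 z) : z * z = 1 := by rw [← sq, h.pow_z]

theorem Setting.ne_one [hp : Fact p.Prime] (h : Setting p z) : z ≠ 1 := fun he => by
  have ho := h.ord
  rw [he, orderOf_one] at ho
  exact hp.out.one_lt.ne ho

theorem Setting.mul_sq (h : Setting 2 z) (a b : P) : (a * b) ^ 2 = a ^ 2 * b ^ 2 * ⁅b, a⁆ := by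
  rw [mul_pow_of_class_two h.le_center, Nat.choose_self, pow_one]

theorem Setting.symm (h : Setting 2 z) {a b : P} (hab : ⁅a, b⁆ = z) : ⁅b, a⁆ = z := by
  rw [← commutatorElement_inv, hab, inv_eq_of_mul_eq_one_right h.sq_z]

theorem adjust (h : Setting 2 z) {R : Subgroup P} {x y : P} {L : List (P × P)}
    (hL : SympList z R ((x, y) :: L)) :
    ∃ t, (IsD t ∨ IsQ z t) ∧ perp R t.1 t.2 = perp R x y ∧ t.1 ∈ R ∧ t.2 ∈ R ∧ ⁅t.1, t.2⁆ = z := by
  cases hL with
  | cons hx hy hxy hL =>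
  rcases h.pow_two_cases x with hx2 | hx2 <;> rcases h.pow_two_cases y with hy2 | hy2
  · exact ⟨(x, y), Or.inl ⟨hx2, hy2⟩, rfl, hx, hy, hxy⟩
  · refine ⟨(x, x * y), Or.inl ⟨hx2, ?_⟩, ?_, hx, mul_mem hx hy, ?_⟩
    · show (x * y) ^ 2 = 1
      rw [h.mul_sq, hx2, hy2, one_mul, h.symm hxy, h.sq_z]
    · ext r
      simp only [mem_perp]
      refine ⟨fun hr => ⟨hr.1, hr.2.1, ?_⟩, fun hr => ⟨hr.1, hr.2.1, hr.2.1.mul_right hr.2.2⟩⟩
      have := (hr.2.1.inv_right).mul_right hr.2.2
      rwa [inv_mul_cancel_left] at this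
    · show ⁅x, x * y⁆ = z
      rw [commutatorElement_mul_right h.le_center, commutatorElement_self, one_mul, hxy]
  · refine ⟨(x * y, y), Or.inl ⟨?_, hy2⟩, ?_, mul_mem hx hy, hy, ?_⟩
    · show (x * y) ^ 2 = 1
      rw [h.mul_sq, hx2, hy2, mul_one, h.symm hxy, h.sq_z]
    · ext r
      simp only [mem_perp]
      refine ⟨fun hr => ⟨hr.1, ?_, hr.2.2⟩, fun hr => ⟨hr.1, hr.2.1.mul_right hr.2.2, hr.2.2⟩⟩
      have := hr.2.1.mul_right hr.2.2.inv_right
      rwa [mul_inv_cancel_right] at this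
    · show ⁅x * y, y⁆ = z
      rw [commutatorElement_mul_left h.le_center, commutatorElement_self, mul_one, hxy]
  · exact ⟨(x, y), Or.inr ⟨hx2, hy2⟩, rfl, hx, hy, hxy⟩

theorem perp_comm (R : Subgroup P) (a b c d : P) : perp (perp R a b) c d = perp (perp R c d) a b := by
  simp only [perp, inf_assoc, inf_comm (Subgroup.centralizer ({a, b} : Set P))]

theorem swap {R : Subgroup P} {a b c d : P} {L : List (P × P)}
    (hL : SympList z R ((a, b) :: (c, d) :: L)) : SympList z R ((c, d) :: (a, b) :: L) := by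
  obtain ⟨ha, hb, hab, hL⟩ := hL.inv_cons
  dsimp only at ha hb hab hL
  obtain ⟨hc, hd, hcd, hL⟩ := hL.inv_cons
  dsimp only at hc hd hcd hL
  obtain ⟨hcR, hca, hcb⟩ := mem_perp.mp hc
  obtain ⟨hdR, hda, hdb⟩ := mem_perp.mp hd
  refine SympList.cons hcR hdR hcd (SympList.cons (mem_perp.mpr ⟨ha, hca.symm, hda.symm⟩)
    (mem_perp.mpr ⟨hb, hcb.symm, hdb.symm⟩) hab ?_)
  rwa [perp_comm]

/-- Two quaternion pairs can be traded for two dihedral pairs. -/
theorem trade (h : Setting 2 z) {R : Subgroup P} {a b c d : P} {L : List (P × P)}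
    (hL : SympList z R ((a, b) :: (c, d) :: L)) (h1 : IsQ z (a, b)) (h2 : IsQ z (c, d)) :
    ∃ s t, IsD s ∧ IsD t ∧ SympList z R (s :: t :: L) := by
  obtain ⟨ha, hb, hab, hL⟩ := hL.inv_cons
  dsimp only at ha hb hab hL
  obtain ⟨hc, hd, hcd, hL⟩ := hL.inv_cons
  dsimp only at hc hd hcd hL
  obtain ⟨hcR, hca, hcb⟩ := mem_perp.mp hc
  obtain ⟨hdR, hda, hdb⟩ := mem_perp.mp hd
  obtain ⟨ha2, hb2⟩ := h1
  obtain ⟨hc2, hd2⟩ := h2
  dsimp only at ha2 hb2 hc2 hd2
  have hcl := h.le_center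
  have hba := h.symm hab
  have hdc := h.symm hcd
  have e1 : ∀ {u v : P}, Commute u v → ⁅u, v⁆ = 1 := fun huv =>
    commutatorElement_eq_one_iff_commute.mpr huv
  set X := a * c with hX
  set Y := b * c with hY
  set D := a * b * d with hD
  set C := c * D with hC
  have hX2 : X ^ 2 = 1 := by rw [hX, h.mul_sq, ha2, hc2, e1 hca, mul_one, h.sq_z]
  have hY2 : Y ^ 2 = 1 := by rw [hY, h.mul_sq, hb2, hc2, e1 hcb, mul_one, h.sq_z]
  have hXY : ⁅X, Y⁆ = z := by
    rw [hX, hY, commutatorElement_mul_left hcl, commutatorElement_mul_right hcl,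
      commutatorElement_mul_right hcl, hab, e1 hca.symm, e1 hcb, commutatorElement_self,
      mul_one, mul_one, mul_one]
  have hD2 : D ^ 2 = 1 := by
    rw [hD, h.mul_sq, h.mul_sq, ha2, hb2, hd2, hba, h.sq_z, one_mul, h.sq_z, one_mul,
      commutatorElement_mul_right hcl, e1 hda, e1 hdb, mul_one]
  have hcD : ⁅c, D⁆ = z := by
    rw [hD, commutatorElement_mul_right hcl, commutatorElement_mul_right hcl, e1 hca, e1 hcb, hcd,
      one_mul, one_mul]
  have hC2 : C ^ 2 = 1 := by rw [hC, h.mul_sq, hc2, hD2, mul_one, h.symm hcD, h.sq_z]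
  have hCD : ⁅C, D⁆ = z := by
    rw [hC, commutatorElement_mul_left hcl, commutatorElement_self, mul_one, hcD]
  have hcX : ⁅c, X⁆ = 1 := by
    rw [hX, commutatorElement_mul_right hcl, e1 hca, commutatorElement_self, mul_one]
  have hcY : ⁅c, Y⁆ = 1 := by
    rw [hY, commutatorElement_mul_right hcl, e1 hcb, commutatorElement_self, mul_one]
  have hDX : ⁅D, X⁆ = 1 := by
    rw [hD, hX, commutatorElement_mul_left hcl, commutatorElement_mul_left hcl,
      commutatorElement_mul_right hcl, commutatorElement_mul_right hcl,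
      commutatorElement_mul_right hcl, commutatorElement_self, e1 hca.symm, hba, e1 hcb.symm,
      e1 hda, hdc, one_mul, one_mul, mul_one, one_mul, h.sq_z]
  have hDY : ⁅D, Y⁆ = 1 := by
    rw [hD, hY, commutatorElement_mul_left hcl, commutatorElement_mul_left hcl,
      commutatorElement_mul_right hcl, commutatorElement_mul_right hcl,
      commutatorElement_mul_right hcl, commutatorElement_self, e1 hca.symm, hab, e1 hcb.symm,
      e1 hdb, hdc, mul_one, mul_one, one_mul, mul_one, h.sq_z]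
  have hCX : Commute C X := by
    rw [← commutatorElement_eq_one_iff_commute, hC, commutatorElement_mul_left hcl, hcX, hDX,
      one_mul]
  have hCY : Commute C Y := by
    rw [← commutatorElement_eq_one_iff_commute, hC, commutatorElement_mul_left hcl, hcY, hDY,
      one_mul]
  have hDR : D ∈ R := mul_mem (mul_mem ha hb) hdR
  refine ⟨(X, Y), (C, D), ⟨hX2, hY2⟩, ⟨hC2, hD2⟩, SympList.cons (mul_mem ha hcR) (mul_mem hb hcR) hXY
    (SympList.cons (mem_perp.mpr ⟨mul_mem hcR hDR, hCX, hCY⟩) (mem_perp.mpr ⟨hDR,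
      commutatorElement_eq_one_iff_commute.mp hDX, commutatorElement_eq_one_iff_commute.mp hDY⟩)
      hCD ?_)⟩
  have he : perp (perp R X Y) C D = perp (perp R a b) c d := by
    ext r
    simp only [mem_perp]
    constructor
    · rintro ⟨⟨hr, h1, h2⟩, h3, h4⟩
      have hrc : Commute r c := by
        have := h3.mul_right h4.inv_right
        rwa [hC, mul_inv_cancel_right] at this
      have hra : Commute r a := by
        have := h1.mul_right hrc.inv_right
        rwa [hX, mul_inv_cancel_right] at this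
      have hrb : Commute r b := by
        have := h2.mul_right hrc.inv_right
        rwa [hY, mul_inv_cancel_right] at this
      have hrd : Commute r d := by
        have := (hra.mul_right hrb).inv_right.mul_right h4
        rwa [hD, inv_mul_cancel_left] at this
      exact ⟨⟨hr, hra, hrb⟩, hrc, hrd⟩
    · rintro ⟨⟨hr, hra, hrb⟩, hrc, hrd⟩
      have hrD : Commute r D := (hra.mul_right hrb).mul_right hrd
      exact ⟨⟨hr, hra.mul_right hrc, hrb.mul_right hrc⟩, hrc.mul_right hrD, hrD⟩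
  rwa [he]

/-- Normal form: all pairs dihedral, or all but the first one. -/
theorem normal_form (h : Setting 2 z) {R : Subgroup P} {L : List (P × P)} (hL : SympList z R L) :
    ∃ L', SympList z R L' ∧ L'.length = L.length ∧
      ((∀ t ∈ L', IsD t) ∨ ∃ q L'', L' = q :: L'' ∧ IsQ z q ∧ ∀ t ∈ L'', IsD t) := by
  induction hL with
  | nil => exact ⟨[], SympList.nil, rfl, Or.inl (by simp)⟩
  | @cons R x y L hx hy hxy hL ih =>
    obtain ⟨L', hL', hlen, hcase⟩ := ih
    obtain ⟨⟨u, v⟩, ht, hperp, hu, hv, huv⟩ := adjust h (SympList.cons hx hy hxy hL)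
    have hnew : SympList z R ((u, v) :: L') := SympList.cons hu hv huv (hperp ▸ hL')
    rcases hcase with hD | ⟨⟨a, b⟩, L'', rfl, hQ, hD⟩
    · rcases ht with ht | ht
      · exact ⟨_, hnew, by simp [hlen], Or.inl (List.forall_mem_cons.mpr ⟨ht, hD⟩)⟩
      · exact ⟨_, hnew, by simp [hlen], Or.inr ⟨_, _, rfl, ht, hD⟩⟩
    · rcases ht with ht | ht
      · exact ⟨_, swap hnew, by simpa using hlen,
          Or.inr ⟨_, _, rfl, hQ, List.forall_mem_cons.mpr ⟨ht, hD⟩⟩⟩
      · obtain ⟨s, t, hs, ht', hst⟩ := trade h hnew ht hQ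
        exact ⟨_, hst, by simpa using hlen,
          Or.inl (List.forall_mem_cons.mpr ⟨hs, List.forall_mem_cons.mpr ⟨ht', hD⟩⟩)⟩

/-- Number of solutions of `r ^ 2 = 1`. -/
noncomputable def invCount (R : Subgroup P) : ℕ := Nat.card {r : ↥R // r ^ 2 = 1}

theorem invCount_zpowers (h : Setting 2 z) : invCount (Subgroup.zpowers z) = 2 := by
  rw [invCount, Nat.card_congr (Equiv.subtypeUnivEquiv ?_), Nat.card_zpowers, h.ord]
  rintro ⟨r, k, rfl⟩
  apply Subtype.ext
  show (z ^ k) ^ 2 = 1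
  rw [← zpow_natCast, ← zpow_mul, mul_comm k, zpow_mul, zpow_natCast, h.pow_z, one_zpow]

theorem invCount_step [Finite P] (h : Setting 2 z) {R : Subgroup P} {x y : P} (hx : x ∈ R)
    (hy : y ∈ R) (hxy : ⁅x, y⁆ = z) :
    (IsD (x, y) → invCount R = 2 * invCount (perp R x y) + Nat.card (perp R x y)) ∧
    (IsQ z (x, y) → invCount R + 2 * invCount (perp R x y) = 3 * Nat.card (perp R x y)) := by
  classical
  haveI : Fact (Nat.Prime 2) := ⟨Nat.prime_two⟩
  obtain ⟨e, he⟩ := exists_equiv h hx hy hxy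
  haveI : Fintype ↥(perp R x y) := Fintype.ofFinite _
  have hcount : invCount R = ∑ a : Fin 2, ∑ b : Fin 2,
      Nat.card {m : ↥(perp R x y) // (x ^ (a : ℕ) * y ^ (b : ℕ)) ^ 2 * (m : P) ^ 2 = 1} := by
    have hsq : ∀ t : Fin 2 × Fin 2 × ↥(perp R x y), (e t : P) ^ 2 =
        (x ^ (t.1 : ℕ) * y ^ (t.2.1 : ℕ)) ^ 2 * (t.2.2 : P) ^ 2 := fun t => by
      obtain ⟨-, h1, h2⟩ := mem_perp.mp t.2.2.2
      rw [he]
      exact Commute.mul_pow ((h1.symm.pow_left _).mul_left (h2.symm.pow_left _)) 2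
    rw [invCount, Nat.card_congr ((e.subtypeEquiv (p := fun t =>
      (x ^ (t.1 : ℕ) * y ^ (t.2.1 : ℕ)) ^ 2 * (t.2.2 : P) ^ 2 = 1) fun t => by
        rw [← hsq, ← Subgroup.coe_pow, OneMemClass.coe_eq_one]).symm),
      Nat.card_congr (Equiv.subtypeProdEquivSigmaSubtype fun (a : Fin 2) (s : Fin 2 × ↥(perp R x y)) =>
        (x ^ (a : ℕ) * y ^ (s.1 : ℕ)) ^ 2 * (s.2 : P) ^ 2 = 1), Nat.card_sigma]
    refine Finset.sum_congr rfl fun a _ => ?_
    rw [Nat.card_congr (Equiv.subtypeProdEquivSigmaSubtype fun (b : Fin 2) (m : ↥(perp R x y)) =>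
      (x ^ (a : ℕ) * y ^ (b : ℕ)) ^ 2 * (m : P) ^ 2 = 1), Nat.card_sigma]
  have h1 : ∀ w : P, w = 1 → Nat.card {m : ↥(perp R x y) // w * (m : P) ^ 2 = 1} = invCount (perp R x y) := by
    rintro w rfl
    exact Nat.card_congr (Equiv.subtypeEquivRight fun m => by
      rw [one_mul, ← Subgroup.coe_pow, OneMemClass.coe_eq_one])
  have hz : ∀ w : P, w = z →
      Nat.card {m : ↥(perp R x y) // w * (m : P) ^ 2 = 1} + invCount (perp R x y) = Nat.card ↥(perp R x y) := by
    rintro w rfl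
    have hiff : ∀ m : ↥(perp R x y), w * (m : P) ^ 2 = 1 ↔ ¬ m ^ 2 = 1 := by
      intro m
      rw [← OneMemClass.coe_eq_one, Subgroup.coe_pow]
      rcases h.pow_two_cases (m : P) with hm | hm
      · rw [hm, mul_one]
        exact ⟨fun he => absurd he h.ne_one, fun he => absurd rfl he⟩
      · rw [hm, h.sq_z]
        exact ⟨fun _ => h.ne_one, fun _ => rfl⟩
    rw [Nat.card_congr (Equiv.subtypeEquivRight hiff), invCount, Nat.card_eq_fintype_card,
      Nat.card_eq_fintype_card, Nat.card_eq_fintype_card, add_comm, Fintype.card_subtype_compl]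
    have := Fintype.card_subtype_le (fun m : ↥(perp R x y) => m ^ 2 = 1)
    omega
  rw [hcount, Fin.sum_univ_two, Fin.sum_univ_two, Fin.sum_univ_two]
  simp only [Fin.val_zero, Fin.val_one, pow_zero, pow_one, one_mul, mul_one]
  constructor
  · rintro ⟨hx2, hy2⟩
    dsimp only at hx2 hy2
    have a := h1 _ (one_pow 2)
    have b := h1 _ hy2
    have c := h1 _ hx2
    have d := hz _ (show (x * y) ^ 2 = z by rw [h.mul_sq, hx2, hy2, h.symm hxy, one_mul, one_mul])
    simp only [one_pow, one_mul] at a ⊢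
    omega
  · rintro ⟨hx2, hy2⟩
    dsimp only at hx2 hy2
    have a := h1 _ (one_pow 2)
    have b := hz _ hy2
    have c := hz _ hx2
    have d := hz _ (show (x * y) ^ 2 = z by rw [h.mul_sq, hx2, hy2, h.symm hxy, h.sq_z, one_mul])
    simp only [one_pow, one_mul] at a ⊢
    omega

theorem invCount_dihedral [Finite P] (h : Setting 2 z) {R : Subgroup P} {L : List (P × P)}
    (hL : SympList z R L) (hD : ∀ t ∈ L, IsD t) :
    invCount R = 2 ^ (2 * L.length) + 2 ^ L.length := by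
  haveI : Fact (Nat.Prime 2) := ⟨Nat.prime_two⟩
  induction hL with
  | nil => rw [invCount_zpowers h]; simp
  | cons hx hy hxy hL ih =>
    obtain ⟨hd, hD'⟩ := List.forall_mem_cons.mp hD
    rw [(invCount_step h hx hy hxy).1 hd, ih hD', card_eq h hL, List.length_cons]
    ring

theorem invCount_quaternion [Finite P] (h : Setting 2 z) {R : Subgroup P} {q : P × P}
    {L : List (P × P)} (hL : SympList z R (q :: L)) (hQ : IsQ z q) (hD : ∀ t ∈ L, IsD t) :
    invCount R + 2 ^ (L.length + 1) = 2 ^ (2 * (L.length + 1)) := by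
  haveI : Fact (Nat.Prime 2) := ⟨Nat.prime_two⟩
  cases hL with
  | cons hx hy hxy hL =>
    have h1 := (invCount_step h hx hy hxy).2 hQ
    rw [invCount_dihedral h hL hD, card_eq h hL] at h1
    have e1 : 2 ^ (2 * (L.length + 1)) = 4 * 2 ^ (2 * L.length) := by ring
    have e2 : 2 ^ (2 * L.length + 1) = 2 * 2 ^ (2 * L.length) := by ring
    have e3 : 2 ^ (L.length + 1) = 2 * 2 ^ L.length := by ring
    omega

theorem forall₂_sq {L : List (P × P)} : ∀ {L' : List (P' × P')}, L.length = L'.length →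
    (∀ t ∈ L, IsD t) → (∀ t ∈ L', IsD t) →
    List.Forall₂ (fun t t' => ∃ i j : ℕ, t.1 ^ 2 = z ^ i ∧ t'.1 ^ 2 = z' ^ i ∧
      t.2 ^ 2 = z ^ j ∧ t'.2 ^ 2 = z' ^ j) L L' := by
  induction L with
  | nil => intro L' hlen _ _; cases L' <;> simp_all
  | cons t L ih =>
    intro L' hlen h1 h2
    cases L' with
    | nil => simp at hlen
    | cons t' L' =>
      obtain ⟨a, a'⟩ := List.forall_mem_cons.mp h1
      obtain ⟨b, b'⟩ := List.forall_mem_cons.mp h2
      exact List.Forall₂.cons ⟨0, 0, by simp [a.1], by simp [b.1], by simp [a.2], by simp [b.2]⟩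
        (ih (by simpa using hlen) a' b')

/-- The two kinds of extraspecial `2`-groups. -/
theorem two_kinds [Finite P] (h : Cfsg.IsExtraspecial 2 P) :
    ∃ (z : P) (L : List (P × P)), Setting 2 z ∧ SympList z ⊤ L ∧ 1 ≤ L.length ∧
      Nat.card P = 2 ^ (2 * L.length + 1) ∧
      (((∀ t ∈ L, IsD t) ∧
          Nat.card {x : P // x ^ 2 = 1} = 2 ^ (2 * L.length) + 2 ^ L.length) ∨
        ((∃ q L', L = q :: L' ∧ IsQ z q ∧ ∀ t ∈ L', IsD t) ∧
          Nat.card {x : P // x ^ 2 = 1} = 2 ^ (2 * L.length) - 2 ^ L.length)) := by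
  haveI : Fact (Nat.Prime 2) := ⟨Nat.prime_two⟩
  obtain ⟨z, hz, hn⟩ := exists_setting h
  obtain ⟨L₀, hL₀⟩ := exists_list hz ⊤ hn
  obtain ⟨L, hL, -, hcase⟩ := normal_form hz hL₀
  have hcard := card_eq hz hL
  rw [Subgroup.card_top] at hcard
  have hinv : Nat.card {x : P // x ^ 2 = 1} = invCount (⊤ : Subgroup P) :=
    Nat.card_congr (Subgroup.topEquiv.symm.toEquiv.subtypeEquiv fun a => by
      rw [MulEquiv.toEquiv_eq_coe, MulEquiv.coe_toEquiv, ← map_pow,
        MulEquiv.map_eq_one_iff])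
  refine ⟨z, L, hz, hL, ?_, hcard, ?_⟩
  · rcases L with _ | ⟨t, L⟩
    · exfalso
      have htop := hL.inv_nil
      have hcomm : Subgroup.center P = ⊥ := by
        rw [← h.1.2.2, commutator_def, eq_bot_iff, Subgroup.commutator_le]
        intro a _ b _
        rw [Subgroup.mem_bot, commutatorElement_eq_one_iff_commute]
        exact hz.commute_z a (htop ▸ Subgroup.mem_top b)
      have h2 := h.2
      rw [hcomm, Subgroup.card_bot] at h2
      omega
    · simp
  · rcases hcase with hD | ⟨q, L', rfl, hQ, hD⟩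
    · exact Or.inl ⟨hD, hinv.trans (invCount_dihedral hz hL hD)⟩
    · refine Or.inr ⟨⟨q, L', rfl, hQ, hD⟩, ?_⟩
      have := invCount_quaternion hz hL hQ hD
      rw [hinv, List.length_cons]
      omega

theorem equiv_DD [Finite P] [Finite P'] (h : Setting 2 z) (h' : Setting 2 z') {L : List (P × P)}
    {L' : List (P' × P')} (hL : SympList z ⊤ L) (hL' : SympList z' ⊤ L')
    (hlen : L.length = L'.length) (hD : ∀ t ∈ L, IsD t) (hD' : ∀ t ∈ L', IsD t) :
    Nonempty (P ≃* P') := by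
  haveI : Fact (Nat.Prime 2) := ⟨Nat.prime_two⟩
  exact nonempty_equiv h h' hL hL' (forall₂_sq hlen hD hD')

theorem equiv_QQ [Finite P] [Finite P'] (h : Setting 2 z) (h' : Setting 2 z') {L : List (P × P)}
    {L' : List (P' × P')} (hL : SympList z ⊤ L) (hL' : SympList z' ⊤ L')
    (hlen : L.length = L'.length) (hQ : ∃ q L₀, L = q :: L₀ ∧ IsQ z q ∧ ∀ t ∈ L₀, IsD t)
    (hQ' : ∃ q L₀, L' = q :: L₀ ∧ IsQ z' q ∧ ∀ t ∈ L₀, IsD t) :
    Nonempty (P ≃* P') := by
  haveI : Fact (Nat.Prime 2) := ⟨Nat.prime_two⟩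
  obtain ⟨q, L₀, rfl, hq, hD⟩ := hQ
  obtain ⟨q', L₀', rfl, hq', hD'⟩ := hQ'
  exact nonempty_equiv h h' hL hL' (List.Forall₂.cons
    ⟨1, 1, by simp [hq.1], by simp [hq'.1], by simp [hq.2], by simp [hq'.2]⟩
    (forall₂_sq (by simpa using hlen) hD hD'))

end Cfsg.Lib.Extraspecial
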