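import Mathlib

/-!
# Groups in which every element commutes with its conjugates

Levi's theorem: in such a group `⁅⁅x, y⁆, z⁆ ^ 3 = 1`; without elements of order three the class is at most two.
-/

set_option autoImplicit false

namespace Cfsg.Lib.PGroup.TwoEngel

open scoped commutatorElement

variable {G : Type*} [Group G]

/-- Every element commutes with all its conjugates. -/
def ConjCommute (G : Type*) [Group G] : Prop := ∀ x g : G, Commute x (g * x * g⁻¹)

theorem commute_comm (hG : ConjCommute G) (x y : G) : Commute x ⁅x, y⁆ ∧ Commute y ⁅x, y⁆ := by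
  constructor
  · rw [commutatorElement_def, mul_assoc x y, mul_assoc x]
    exact (Commute.refl x).mul_right (by
      have := (hG x y).inv_right
      simpa [mul_assoc] using this)
  · rw [commutatorElement_def]
    exact ((hG y x).mul_right (Commute.refl y).inv_right)

/-- The normal closure of `x` is commutative. -/
theorem commute_closure (hG : ConjCommute G) (x : G) :
    ∀ a ∈ Subgroup.normalClosure ({x} : Set G), ∀ b ∈ Subgroup.normalClosure ({x} : Set G), Commute a b := by
  have hgen : ∀ a ∈ Group.conjugatesOfSet ({x} : Set G), ∀ b ∈ Group.conjugatesOfSet ({x} : Set G), Commute a b := by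
    intro a ha b hb
    obtain ⟨x', hx', hca⟩ := Group.mem_conjugatesOfSet_iff.mp ha
    obtain ⟨y', hy', hcb⟩ := Group.mem_conjugatesOfSet_iff.mp hb
    rw [Set.mem_singleton_iff] at hx' hy'
    subst hx'; subst hy'
    obtain ⟨g, rfl⟩ := isConj_iff.mp hca
    obtain ⟨k, rfl⟩ := isConj_iff.mp hcb
    have h := hG (g * y' * g⁻¹) (k * g⁻¹)
    have e : k * g⁻¹ * (g * y' * g⁻¹) * (k * g⁻¹)⁻¹ = k * y' * k⁻¹ := by group
    rwa [e] at h
  intro a ha b hb
  unfold Subgroup.normalClosure at ha hb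
  exact congrArg Subtype.val
    ((Subgroup.isMulCommutative_closure hgen).is_comm.comm ⟨a, ha⟩ ⟨b, hb⟩)

variable (hG : ConjCommute G) (x : G)

/-- The commutative normal closure of `x`. -/
abbrev nc (x : G) : Subgroup G := Subgroup.normalClosure ({x} : Set G)

/-- Commutation by `g` on the normal closure, as a function. -/
def dFun (g : G) (a : nc x) : nc x :=
  ⟨⁅(a : G), g⁆, by
    rw [commutatorElement_def, mul_assoc (a : G), mul_assoc (a : G)]
    exact mul_mem a.2 ((Subgroup.normalClosure_normal (s := ({x} : Set G))).conj_mem _ (inv_mem a.2) g)⟩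

theorem left_mul {x : G} (hG : ConjCommute G) (a b : G) (ha : a ∈ nc x) (hb : b ∈ nc x) (g : G) :
    ⁅a * b, g⁆ = ⁅a, g⁆ * ⁅b, g⁆ := by
  have hbg : ⁅b, g⁆ ∈ nc x := (dFun x g ⟨b, hb⟩).2
  have hag : ⁅a, g⁆ ∈ nc x := (dFun x g ⟨a, ha⟩).2
  rw [commutatorElement_mul_left_eq_conj_mul, (commute_closure hG x a ha _ hbg).eq, mul_inv_cancel_right]
  exact (commute_closure hG x _ hbg _ hag).eq

/-- Commutation by `g` as an endomorphism of the normal closure. -/
def dHom (hG : ConjCommute G) (x g : G) : AddMonoid.End (Additive (nc x)) where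
  toFun a := Additive.ofMul (dFun x g a.toMul)
  map_zero' := Additive.toMul.injective (Subtype.ext (by simp [dFun]))
  map_add' a b := Additive.toMul.injective (Subtype.ext (left_mul hG _ _ a.toMul.2 b.toMul.2 g))

theorem dHom_apply (g : G) (a : Additive (nc x)) :
    (((dHom hG x g a).toMul : nc x) : G) = ⁅((a.toMul : nc x) : G), g⁆ := rfl

theorem anticomm_of_sq {R : Type*} [Ring R] (a b : R) (ha : a * a = 0) (hb : b * b = 0)
    (hab : (a + b - a * b) * (a + b - a * b) = 0) : a * b = -(b * a) := by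
  have e : a * b + b * a - b * a * b - a * b * a + a * b * a * b = 0 := by
    have : (a + b - a * b) * (a + b - a * b) =
        a * a + b * b + (a * b + b * a) - (a * a) * b - a * (b * b) - b * a * b - a * b * a + a * b * a * b := by noncomm_ring
    rw [this, ha, hb, zero_mul, mul_zero] at hab
    simpa using hab
  have l2 : a * b * a = a * b * a * b := by
    have h := congrArg (a * ·) e
    simp only [mul_add, mul_sub, mul_zero, ← mul_assoc, ha, zero_mul, zero_add, add_zero, sub_zero] at h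
    rwa [sub_eq_zero] at h
  have l3 : a * b * a * b = 0 := by
    have h := congrArg (· * b) l2
    simp only [mul_assoc, hb, mul_zero] at h
    simpa only [mul_assoc] using h
  have r2 : b * a * b = 0 := by
    have h := congrArg (· * b) e
    simp only [add_mul, sub_mul, zero_mul, mul_assoc, hb, mul_zero, zero_add, add_zero, sub_zero] at h
    simp only [mul_assoc] at l3 ⊢
    simpa [l3] using h
  rw [l3, r2, sub_zero, add_zero, l2, l3, sub_zero] at e
  exact eq_neg_of_add_eq_zero_left e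

include hG in
theorem swap_last (y z : G) : ⁅⁅x, z⁆, y⁆ = ⁅⁅x, y⁆, z⁆⁻¹ := by
  letI : CommGroup (nc x) := { (inferInstance : Group (nc x)) with
    mul_comm := fun a b => Subtype.ext (commute_closure hG x a a.2 b b.2).eq }
  set D : G → AddMonoid.End (Additive (nc x)) := dHom hG x with hD
  have hmul : ∀ g h : G, D (g * h) = D g + D h - D g * D h := by
    intro g h
    refine DFunLike.ext _ _ fun a => ?_
    apply Additive.toMul.injective
    apply Subtype.ext
    show ⁅((a.toMul : nc x) : G), g * h⁆ = _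
    set b : G := ((a.toMul : nc x) : G)
    show ⁅b, g * h⁆ = ⁅b, g⁆ * ⁅b, h⁆ / ⁅⁅b, h⁆, g⁆
    rw [commutatorElement_mul_right_eq_mul_conj, div_eq_mul_inv]
    have hbh : ⁅b, h⁆ ∈ nc x := (dFun x h a.toMul).2
    have hbhg : ⁅⁅b, h⁆, g⁆ ∈ nc x := (dFun x g ⟨_, hbh⟩).2
    have e : g * ⁅b, h⁆ * g⁻¹ = ⁅b, h⁆ * ⁅⁅b, h⁆, g⁆⁻¹ := by
      rw [(commute_closure hG x _ hbh _ (inv_mem hbhg)).eq, commutatorElement_def ⁅b, h⁆ g]
      group
    simp only [mul_assoc] at e ⊢
    rw [e]
  have hsq : ∀ g : G, D g * D g = 0 := by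
    intro g
    refine DFunLike.ext _ _ fun a => ?_
    apply Additive.toMul.injective
    apply Subtype.ext
    show ⁅⁅((a.toMul : nc x) : G), g⁆, g⁆ = 1
    exact commutatorElement_eq_one_iff_mul_comm.mpr ((commute_comm hG _ g).2.symm).eq
  have anti : D y * D z = -(D z * D y) :=
    anticomm_of_sq (D y) (D z) (hsq y) (hsq z) (by rw [← hmul]; exact hsq _)
  have h := congrArg (fun f : AddMonoid.End (Additive (nc x)) =>
    (((f (Additive.ofMul (⟨x, Subgroup.subset_normalClosure rfl⟩ : nc x))).toMul : nc x) : G)) anti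
  exact h

include hG in
/-- Levi: triple commutators have order dividing three. -/
theorem triple_pow_three (y z : G) : ⁅⁅x, y⁆, z⁆ ^ 3 = 1 := by
  have hx : x ∈ nc x := Subgroup.subset_normalClosure rfl
  set F := ⁅⁅x, y⁆, z⁆ with hF
  have swap23 : ⁅⁅x, z⁆, y⁆ = F⁻¹ := swap_last hG x y z
  have inv_left : ∀ (w c g : G), c ∈ nc w → ⁅c⁻¹, g⁆ = ⁅c, g⁆⁻¹ := by
    intro w c g hc
    have h := left_mul hG c c⁻¹ hc (inv_mem hc) g
    rw [mul_inv_cancel, commutatorElement_one_left] at h
    exact eq_inv_of_mul_eq_one_right h.symm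
  have mem_nc : ∀ a b : G, ⁅a, b⁆ ∈ nc a := fun a b => (dFun a b ⟨a, Subgroup.subset_normalClosure rfl⟩).2
  have swap12 : ∀ a b c : G, ⁅⁅b, a⁆, c⁆ = ⁅⁅a, b⁆, c⁆⁻¹ := by
    intro a b c
    rw [← commutatorElement_inv a b]
    exact inv_left a _ c (mem_nc a b)
  -- `F` commutes with `x`, `y`, `z`
  have cz : Commute z F := (commute_comm hG ⁅x, y⁆ z).2
  have cy : Commute y F := by
    have h := (commute_comm hG ⁅x, z⁆ y).2
    rw [swap23] at h
    simpa using h.inv_right
  have cx : Commute x F := commute_closure hG x x hx F (dFun x z ⟨_, mem_nc x y⟩).2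
  -- the three cyclic values
  have Fzxy : ⁅⁅z, x⁆, y⁆ = F := by rw [swap12 x z y, swap23, inv_inv]
  have Fyzx : ⁅⁅y, z⁆, x⁆ = F := by rw [swap_last hG y x z, swap12 x y z, inv_inv]
  -- the Hall-Witt identity
  have hw : (y * ⁅x, ⁅y⁻¹, z⁆⁆ * y⁻¹) * (z * ⁅y, ⁅z⁻¹, x⁆⁆ * z⁻¹) * (x * ⁅z, ⁅x⁻¹, y⁆⁆ * x⁻¹) = 1 := by
    simp only [commutatorElement_def]; group
  have term : ∀ a b c : G, Commute b ⁅⁅b, c⁆, a⁆ → ⁅⁅b, c⁆, a⁆ = F → b * ⁅a, ⁅b⁻¹, c⁆⁆ * b⁻¹ = F := by
    intro a b c hb hf
    have e1 : ⁅b⁻¹, c⁆ = ⁅b, c⁆⁻¹ := inv_left b b c (Subgroup.subset_normalClosure rfl)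
    have e2 : ⁅a, ⁅b⁻¹, c⁆⁆ = ⁅⁅b, c⁆, a⁆ := by
      rw [e1, ← commutatorElement_inv, inv_left b _ a (mem_nc b c), inv_inv]
    rw [e2, hf]
    rw [hf] at hb
    rw [hb.eq, mul_inv_cancel_right]
  rw [term x y z (by rw [Fyzx]; exact cy) Fyzx, term y z x (by rw [Fzxy]; exact cz) Fzxy,
    term z x y (by rw [← hF]; exact cx) rfl] at hw
  rw [pow_succ, pow_two]
  exact hw

include hG in
/-- Class at most two when there are no elements of order three. -/
theorem commutator_le_center (h3 : ∀ g : G, g ^ 3 = 1 → g = 1) : commutator G ≤ Subgroup.center G := by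
  rw [commutator_def, Subgroup.commutator_le]
  intro a _ b _
  rw [Subgroup.mem_center_iff]
  intro c
  exact (commutatorElement_eq_one_iff_mul_comm.mp (h3 _ (triple_pow_three hG a b c))).symm

end Cfsg.Lib.PGroup.TwoEngel
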