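import Cfsg.Agent.Lib.PGroup.Elements

/-! Tools to show that a group has no minimal cover by nilpotent subgroups. -/

set_option autoImplicit false

namespace Cfsg.Lib.PGroup

open Subgroup

variable {G : Type*} [Group G]

/-- A nilpotent subgroup through `u` lies in `B` once only elements of `B` conjugate `u` into `B`. -/
theorem nilpotent_le_of_mem {A B : Subgroup G} (hA : Group.IsNilpotent A) {u : G} (huA : u ∈ A)
    (huB : u ∈ B) (h : ∀ g ∈ A, g * u * g⁻¹ ∈ B → g ∈ B) : A ≤ B := by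
  have := hA
  rw [← subgroupOf_eq_top]
  by_contra hne
  obtain ⟨y, hy, hyB⟩ := SetLike.exists_of_lt
    (Group.normalizerCondition_of_isNilpotent (B.subgroupOf A) (lt_top_iff_ne_top.2 hne))
  exact hyB (h y y.2 ((mem_normalizer_iff.1 hy ⟨u, huA⟩).1 huB))

/-- A member of a nilpotent cover through a conjugate of `u` lies in that conjugate of `B`. -/
theorem nilpotent_le_conj {A B : Subgroup G} (hA : Group.IsNilpotent A) {u : G} (huB : u ∈ B)
    (h : ∀ g : G, g * u * g⁻¹ ∈ B → g ∈ B) {g : G} (huA : g * u * g⁻¹ ∈ A) {x : G} (hx : x ∈ A) :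
    g⁻¹ * x * g ∈ B := by
  have := hA
  have hA' : Group.IsNilpotent (A.map (MulAut.conj g⁻¹).toMonoidHom) :=
    (Group.isNilpotent_congr (A.equivMapOfInjective (MulAut.conj g⁻¹).toMonoidHom (MulAut.conj g⁻¹).injective)).1 hA
  refine nilpotent_le_of_mem hA' ⟨_, huA, ?_⟩ huB (fun k _ => h k) ⟨x, hx, ?_⟩
  · simp [mul_assoc]
  · simp [mul_assoc]

/-- Replacing part of a minimal cover by fewer proper subgroups. -/
theorem false_of_replace (𝓐 : Finset (Subgroup G)) (hcov : ∀ g : G, ∃ A ∈ 𝓐, g ∈ A)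
    (hprop : ∀ A ∈ 𝓐, A ≠ ⊤)
    (hmin : ∀ 𝓑 : Finset (Subgroup G), (∀ A ∈ 𝓑, A ≠ ⊤) ∧ (∀ g : G, ∃ A ∈ 𝓑, g ∈ A) → 𝓐.card ≤ 𝓑.card)
    (R : Finset (Subgroup G)) (hR : R ⊆ 𝓐) (ℬ : Finset (Subgroup G)) (hℬ : ∀ B ∈ ℬ, B ≠ ⊤)
    (hlt : ℬ.card < R.card)
    (hx : ∀ A ∈ R, ∀ x ∈ A, (∃ B ∈ ℬ, x ∈ B) ∨ ∃ C ∈ 𝓐, C ∉ R ∧ x ∈ C) : False := by
  classical
  have h := hmin (ℬ ∪ (𝓐 \ R)) ⟨fun A hA => by
      rcases Finset.mem_union.1 hA with hA | hA
      · exact hℬ A hA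
      · exact hprop A (Finset.mem_sdiff.1 hA).1,
    fun g => by
      obtain ⟨A, hA, hgA⟩ := hcov g
      by_cases hAR : A ∈ R
      · rcases hx A hAR g hgA with ⟨B, hB, hgB⟩ | ⟨C, hC, hCR, hgC⟩
        · exact ⟨B, Finset.mem_union_left _ hB, hgB⟩
        · exact ⟨C, Finset.mem_union_right _ (Finset.mem_sdiff.2 ⟨hC, hCR⟩), hgC⟩
      · exact ⟨A, Finset.mem_union_right _ (Finset.mem_sdiff.2 ⟨hA, hAR⟩), hgA⟩⟩
  have h2 := Finset.card_union_le ℬ (𝓐 \ R)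
  have h3 := Finset.card_sdiff_add_card_eq_card hR
  omega

/-- The conjugates of a subgroup, as a finite set. -/
noncomputable def conjSet [Finite G] (P : Subgroup G) : Finset (Subgroup G) := by
  classical
  letI := Fintype.ofFinite (G ⧸ P)
  exact Finset.univ.image fun c : G ⧸ P => P.map (MulAut.conj c.out).toMonoidHom

variable [Finite G]

theorem card_conjSet_le (P : Subgroup G) : (conjSet P).card ≤ P.index := by
  classical
  letI := Fintype.ofFinite (G ⧸ P)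
  refine Finset.card_image_le.trans ?_
  rw [Finset.card_univ, Subgroup.index, Nat.card_eq_fintype_card]

theorem ne_top_of_mem_conjSet {P : Subgroup G} (hP : P ≠ ⊤) {Q : Subgroup G} (hQ : Q ∈ conjSet P) :
    Q ≠ ⊤ := by
  classical
  letI := Fintype.ofFinite (G ⧸ P)
  obtain ⟨c, -, rfl⟩ := Finset.mem_image.1 hQ
  exact fun h => hP (Subgroup.map_injective (f := (MulAut.conj c.out).toMonoidHom) (MulAut.conj c.out).injective
    (h.trans (Subgroup.map_top_of_surjective (MulAut.conj c.out).toMonoidHom (MulAut.conj c.out).surjective).symm))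

theorem exists_mem_conjSet {P : Subgroup G} {g x : G} (h : g⁻¹ * x * g ∈ P) :
    ∃ Q ∈ conjSet P, x ∈ Q := by
  classical
  letI := Fintype.ofFinite (G ⧸ P)
  obtain ⟨k, hk⟩ := QuotientGroup.mk_out_eq_mul P g
  refine ⟨_, Finset.mem_image.2 ⟨(g : G ⧸ P), Finset.mem_univ _, rfl⟩, ?_⟩
  refine ⟨(g * k)⁻¹ * x * (g * k), ?_, ?_⟩
  · have : (g * k)⁻¹ * x * (g * k) = (k : G)⁻¹ * (g⁻¹ * x * g) * k := by group
    rw [SetLike.mem_coe, this]
    exact mul_mem (mul_mem (inv_mem k.2) h) k.2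
  · rw [hk]
    simp [mul_assoc]

/-- The members of a cover through the conjugates of `u`: at least one for each coset of `B`. -/
theorem exists_members (𝓐 : Finset (Subgroup G)) (hcov : ∀ g : G, ∃ A ∈ 𝓐, g ∈ A)
    (hnil : ∀ A ∈ 𝓐, Group.IsNilpotent A) {B : Subgroup G} {u : G} (huB : u ∈ B)
    (h : ∀ g : G, g * u * g⁻¹ ∈ B → g ∈ B) :
    ∃ R : Finset (Subgroup G), R ⊆ 𝓐 ∧ R.card = B.index ∧ ∀ A ∈ R, ∃ g : G, g * u * g⁻¹ ∈ A := by
  classical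
  letI := Fintype.ofFinite (G ⧸ B)
  choose A hA hAu using fun c : G ⧸ B => hcov (c.out * u * c.out⁻¹)
  refine ⟨Finset.univ.image A, ?_, ?_, ?_⟩
  · intro C hC
    obtain ⟨c, -, rfl⟩ := Finset.mem_image.1 hC
    exact hA c
  · rw [Finset.card_image_of_injective _ fun c d hcd => ?_, Finset.card_univ, Subgroup.index,
      Nat.card_eq_fintype_card]
    have h1 : d.out⁻¹ * (c.out * u * c.out⁻¹) * d.out ∈ B :=
      nilpotent_le_conj (hnil _ (hA d)) huB h (hAu d) (hcd ▸ hAu c)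
    have h2 : d.out⁻¹ * c.out ∈ B := h _ (by
      rwa [show d.out⁻¹ * c.out * u * (d.out⁻¹ * c.out)⁻¹ = d.out⁻¹ * (c.out * u * c.out⁻¹) * d.out by group])
    rw [← QuotientGroup.out_eq' c, ← QuotientGroup.out_eq' d]
    exact (QuotientGroup.eq.2 h2).symm
  · intro C hC
    obtain ⟨c, -, rfl⟩ := Finset.mem_image.1 hC
    exact ⟨c.out, hAu c⟩

/-- No minimal nilpotent cover: the members through conjugates of `u` are more than the conjugates of `P`. -/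
theorem false_of_lt {B P : Subgroup G} (hBP : B < P) (hP : P ≠ ⊤) {u : G} (huB : u ∈ B)
    (h : ∀ g : G, g * u * g⁻¹ ∈ B → g ∈ B)
    (𝓐 : Finset (Subgroup G)) (hcov : ∀ g : G, ∃ A ∈ 𝓐, g ∈ A) (hprop : ∀ A ∈ 𝓐, A ≠ ⊤)
    (hmin : ∀ 𝓑 : Finset (Subgroup G), (∀ A ∈ 𝓑, A ≠ ⊤) ∧ (∀ g : G, ∃ A ∈ 𝓑, g ∈ A) → 𝓐.card ≤ 𝓑.card)
    (hnil : ∀ A ∈ 𝓐, Group.IsNilpotent A) : False := by
  obtain ⟨R, hR, hRc, hRu⟩ := exists_members 𝓐 hcov hnil huB h
  refine false_of_replace 𝓐 hcov hprop hmin R hR (conjSet P) (fun Q hQ => ne_top_of_mem_conjSet hP hQ) ?_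
    fun A hA x hx => Or.inl ?_
  · rw [hRc]
    refine (card_conjSet_le P).trans_lt ?_
    exact Subgroup.index_strictAnti hBP
  · obtain ⟨g, hg⟩ := hRu A hA
    exact exists_mem_conjSet (hBP.le (nilpotent_le_conj (hnil A (hR hA)) huB h hg hx))

/-- No minimal nilpotent cover: one further member, through `z`. -/
theorem false_of_extra {B : Subgroup G} (hB : B ≠ ⊤) {u : G} (huB : u ∈ B)
    (h : ∀ g : G, g * u * g⁻¹ ∈ B → g ∈ B) (z : G)
    (hzu : ∀ A : Subgroup G, Group.IsNilpotent A → z ∈ A → ∀ g : G, g * u * g⁻¹ ∉ A)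
    (hzA : ∀ A : Subgroup G, Group.IsNilpotent A → z ∈ A → ∀ x ∈ A, ∃ g : G, g⁻¹ * x * g ∈ B)
    (𝓐 : Finset (Subgroup G)) (hcov : ∀ g : G, ∃ A ∈ 𝓐, g ∈ A) (hprop : ∀ A ∈ 𝓐, A ≠ ⊤)
    (hmin : ∀ 𝓑 : Finset (Subgroup G), (∀ A ∈ 𝓑, A ≠ ⊤) ∧ (∀ g : G, ∃ A ∈ 𝓑, g ∈ A) → 𝓐.card ≤ 𝓑.card)
    (hnil : ∀ A ∈ 𝓐, Group.IsNilpotent A) : False := by
  classical
  obtain ⟨R, hR, hRc, hRu⟩ := exists_members 𝓐 hcov hnil huB h
  obtain ⟨Z, hZ, hzZ⟩ := hcov z
  have hZR : Z ∉ R := fun hm => by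
    obtain ⟨g, hg⟩ := hRu Z hm
    exact hzu Z (hnil Z hZ) hzZ g hg
  refine false_of_replace 𝓐 hcov hprop hmin (insert Z R) (Finset.insert_subset hZ hR) (conjSet B)
    (fun Q hQ => ne_top_of_mem_conjSet hB hQ) ?_ fun A hA x hx => Or.inl ?_
  · rw [Finset.card_insert_of_notMem hZR, hRc]
    exact Nat.lt_succ_of_le (card_conjSet_le B)
  · rcases Finset.mem_insert.1 hA with rfl | hA
    · obtain ⟨g, hg⟩ := hzA A (hnil A hZ) hzZ x hx
      exact exists_mem_conjSet hg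
    · obtain ⟨g, hg⟩ := hRu A hA
      exact exists_mem_conjSet (nilpotent_le_conj (hnil A (hR hA)) huB h hg hx)

end Cfsg.Lib.PGroup
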