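import Cfsg.Agent.Lib.PGroup.Basic
import Cfsg.Agent.Lib.Core.Cores
import Cfsg.Agent.Lib.Thompson.Basic
import Cfsg.Agent.Lib.Coprime.PGroupAction
import Mathlib.GroupTheory.SpecificGroups.Cyclic

/-!
# `p`-groups without a normal elementary abelian subgroup of order `p²`

Such a group is cyclic, or `p = 2` and it has a cyclic normal subgroup on which some element induces a power
map `k ≡ 3 (mod 4)` of order two.
-/

set_option autoImplicit false
set_option linter.style.haveILetI false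

namespace Cfsg.Lib.PGroup.NormalSq

open Subgroup

variable {R : Type*} [Group R] [Finite R] {p : ℕ} [hp : Fact p.Prime]

/-- A normal elementary abelian subgroup of order above `p` contains a normal one of order `p²`. -/
theorem exists_le_card_sq (hR : IsPGroup p R) (Ω : Subgroup R) [hΩn : Ω.Normal]
    (hΩ : Cfsg.IsElementaryAbelian p Ω) (hc : p < Nat.card Ω) :
    ∃ E : Subgroup R, E ≤ Ω ∧ E.Normal ∧ Cfsg.IsElementaryAbelian p E ∧ Nat.card E = p ^ 2 := by
  have hne : Ω ≠ ⊥ := fun h => by rw [h, card_bot] at hc; exact absurd hc (not_lt.2 hp.out.one_le)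
  obtain ⟨z, hzΩ, hzc, hzo⟩ := exists_mem_center_orderOf_eq hR hne
  set Z := zpowers z with hZ
  haveI : Z.Normal := ⟨fun x hx g => by
    have : x ∈ center R := (zpowers_le.2 hzc) hx
    rwa [mem_center_iff.1 this g, mul_inv_cancel_right]⟩
  set π := QuotientGroup.mk' Z with hπ
  have hsurj := QuotientGroup.mk'_surjective Z
  haveI : (Ω.map π).Normal := hΩn.map π hsurj
  have hne' : Ω.map π ≠ ⊥ := by
    intro h
    rw [Subgroup.map_eq_bot_iff, hπ, QuotientGroup.ker_mk'] at h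
    have := Subgroup.card_le_of_le h
    rw [hZ, Nat.card_zpowers, hzo] at this
    omega
  obtain ⟨w, hwΩ, hwc, hwo⟩ := exists_mem_center_orderOf_eq (hR.to_quotient Z) hne'
  refine ⟨(zpowers w).comap π, ?_, ?_, ?_, ?_⟩
  · intro x hx
    have h1 : π x ∈ Ω.map π := (zpowers_le.2 hwΩ) hx
    have h2 : x ∈ (Ω.map π).comap π := h1
    rwa [comap_map_eq, QuotientGroup.ker_mk', sup_eq_left.2 (zpowers_le.2 hzΩ)] at h2
  · haveI : (zpowers w).Normal := ⟨fun x hx g => by
      have : x ∈ center (R ⧸ Z) := (zpowers_le.2 hwc) hx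
      rwa [mem_center_iff.1 this g, mul_inv_cancel_right]⟩
    infer_instance
  · refine isElementaryAbelian_of_le hΩ fun x hx => ?_
    have h1 : π x ∈ Ω.map π := (zpowers_le.2 hwΩ) hx
    have h2 : x ∈ (Ω.map π).comap π := h1
    rwa [comap_map_eq, QuotientGroup.ker_mk', sup_eq_left.2 (zpowers_le.2 hzΩ)] at h2
  · set E := (zpowers w).comap π with hE
    have h1 := Core.card_mul_relIndex (show Z ≤ E from fun x hx => by
      rw [hE, mem_comap, show π x = 1 from (QuotientGroup.eq_one_iff x).2 hx]; exact one_mem _)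
    have h3 : Z.relIndex E = Nat.card (E.map π) := by
      rw [← relIndex_ker, hπ, QuotientGroup.ker_mk']
    have hZc : Nat.card Z = p := (Nat.card_zpowers z).trans hzo
    rw [h3, hE, map_comap_eq_self_of_surjective hsurj, hZc, Nat.card_zpowers, hwo] at h1
    rw [← h1, sq]

/-- A noncyclic normal abelian subgroup contains a normal elementary abelian subgroup of order `p²`. -/
theorem exists_of_noncyclic (hR : IsPGroup p R) (A : Subgroup R) [hAn : A.Normal] [hAc : IsMulCommutative A]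
    (hA : ¬ IsCyclic A) :
    ∃ E : Subgroup R, E.Normal ∧ Cfsg.IsElementaryAbelian p E ∧ Nat.card E = p ^ 2 := by
  classical
  have cA : ∀ {a b : R}, a ∈ A → b ∈ A → Commute a b := fun ha hb =>
    congrArg Subtype.val (hAc.is_comm.comm ⟨_, ha⟩ ⟨_, hb⟩)
  let Ω : ℕ → Subgroup R := fun j =>
    { carrier := {a | a ∈ A ∧ a ^ p ^ j = 1}
      one_mem' := ⟨A.one_mem, one_pow _⟩
      mul_mem' := fun ha hb => ⟨A.mul_mem ha.1 hb.1, by
        rw [(cA ha.1 hb.1).mul_pow, ha.2, hb.2, one_mul]⟩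
      inv_mem' := fun ha => ⟨A.inv_mem ha.1, by rw [inv_pow, ha.2, inv_one]⟩ }
  haveI hΩn : ∀ j, (Ω j).Normal := fun j => ⟨fun a ha g => ⟨hAn.conj_mem a ha.1 g, by
    rw [conj_pow, ha.2, mul_one, mul_inv_cancel]⟩⟩
  have hea : Cfsg.IsElementaryAbelian p (Ω 1) :=
    ⟨⟨⟨fun a b => Subtype.ext (cA a.2.1 b.2.1).eq⟩⟩, fun a ha => by simpa using ha.2⟩
  rcases Nat.lt_or_ge p (Nat.card (Ω 1)) with h | h
  · obtain ⟨E, -, hE⟩ := exists_le_card_sq hR (Ω 1) hea h
    exact ⟨E, hE⟩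
  exfalso
  apply hA
  have hle : ∀ j, Nat.card (Ω j) ≤ p ^ j := by
    intro j
    induction j with
    | zero =>
      rw [pow_zero]
      refine le_of_eq (card_eq_one.2 ((eq_bot_iff).2 fun a ha => ?_))
      exact mem_bot.2 (by simpa using ha.2)
    | succ j ih =>
      let f : Ω (j + 1) →* R := MonoidHom.mk' (fun a => (a : R) ^ p) fun a b => by
        simp [(cA a.2.1 b.2.1).mul_pow]
      have h1 : f.range ≤ Ω j := by
        rintro _ ⟨a, rfl⟩
        exact ⟨A.pow_mem a.2.1 _, by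
          show ((a : R) ^ p) ^ p ^ j = 1
          rw [← pow_mul, ← pow_succ']; exact a.2.2⟩
      have h2 : Nat.card f.ker ≤ Nat.card (Ω 1) := Nat.card_le_card_of_injective
        (fun a => (⟨(a.1 : R), a.1.2.1, by rw [pow_one]; exact a.2⟩ : Ω 1))
        (fun a b hab => Subtype.ext (Subtype.ext (congrArg (fun z : Ω 1 => (z : R)) hab)))
      rw [← f.ker.card_mul_index, index_ker, pow_succ']
      exact Nat.mul_le_mul (h2.trans h) ((Subgroup.card_le_of_le h1).trans ih)
  haveI : Fintype A := Fintype.ofFinite A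
  refine isCyclic_of_card_pow_eq_one_le fun n hn => ?_
  obtain ⟨e, he⟩ := IsPGroup.iff_card.1 (hR.to_subgroup A)
  obtain ⟨j, -, hj⟩ := (Nat.dvd_prime_pow hp.out).1 ((Nat.gcd_dvd_right n (Nat.card A)).trans he.dvd)
  have hjn : p ^ j ≤ n := Nat.le_of_dvd hn (hj ▸ Nat.gcd_dvd_left n (Nat.card A))
  refine le_trans ?_ ((hle j).trans hjn)
  rw [← Fintype.card_subtype, ← Nat.card_eq_fintype_card]
  refine Nat.card_le_card_of_injective (fun a => (⟨(a.1 : R), a.1.2, ?_⟩ : Ω j))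
    fun a b hab => Subtype.ext (Subtype.ext (congrArg (fun z : Ω j => (z : R)) hab))
  have h1 : orderOf a.1 ∣ p ^ j := hj ▸ Nat.dvd_gcd (orderOf_dvd_of_pow_eq_one a.2) (orderOf_dvd_natCard a.1)
  exact congrArg Subtype.val (orderOf_dvd_iff_pow_eq_one.1 h1)

theorem sum_pow_congr {k : ℤ} {n : ℤ} (hk : n ∣ k - 1) (i : ℕ) : n ∣ k ^ i - 1 := by
  have h := sub_dvd_pow_sub_pow k 1 i
  rw [one_pow] at h
  exact hk.trans h

/-- The geometric sum of length `p` at `k ≡ 1` is `p` times a unit. -/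
theorem exists_sum_eq {k : ℤ} (hk : (p : ℤ) ∣ k - 1) (hk4 : p = 2 → (4 : ℤ) ∣ k - 1) :
    ∃ u : ℤ, (∑ i ∈ Finset.range p, k ^ i) = p * u ∧ ¬ (p : ℤ) ∣ u := by
  by_cases h2 : p = 2
  · obtain ⟨t, ht⟩ := hk4 h2
    refine ⟨1 + 2 * t, ?_, ?_⟩
    · subst h2
      simp only [Finset.sum_range_succ, Finset.sum_range_zero, pow_zero, pow_one, Nat.cast_ofNat]
      linarith
    · subst h2
      omega
  obtain ⟨t, ht⟩ := hk
  have hmod : ∀ i : ℕ, ((p : ℤ) ^ 2) ∣ k ^ i - (1 + i * (p * t)) := by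
    intro i
    induction i with
    | zero => simp
    | succ i ih =>
      obtain ⟨w, hw⟩ := ih
      refine ⟨w * k + i * t * t, ?_⟩
      rw [pow_succ, show k ^ i = (p : ℤ) ^ 2 * w + (1 + i * (p * t)) by rw [← hw]; ring,
        show k = 1 + p * t by rw [← ht]; ring]
      push_cast
      ring
  have hs : ((p : ℤ) ^ 2) ∣ (∑ i ∈ Finset.range p, k ^ i) - ∑ i ∈ Finset.range p, ((1 : ℤ) + i * (p * t)) := by
    rw [← Finset.sum_sub_distrib]
    exact Finset.dvd_sum fun i _ => hmod i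
  rw [Finset.sum_add_distrib, Finset.sum_const, Finset.card_range, nsmul_eq_mul, mul_one, ← Finset.sum_mul,
    ← Nat.cast_sum] at hs
  obtain ⟨c, hc⟩ : p ∣ ∑ i ∈ Finset.range p, i := by
    refine (Nat.Coprime.dvd_of_dvd_mul_right ((Nat.coprime_primes hp.out Nat.prime_two).2 h2) ?_)
    rw [Finset.sum_range_id_mul_two]
    exact dvd_mul_right p _
  rw [hc] at hs
  obtain ⟨w, hw⟩ := hs
  push_cast at hw
  refine ⟨1 + p * (c * t + w), by linarith [hw], fun hd => ?_⟩
  have h1 : (p : ℤ) ∣ 1 := by simpa using hd.sub (dvd_mul_right (p : ℤ) (c * t + w))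
  have := Int.le_of_dvd one_pos h1
  have := hp.out.two_le
  omega

theorem geom_conj {a x : R} {k : ℤ} (hx : x * a * x⁻¹ = a ^ k) (j : ℤ) :
    ∀ n : ℕ, (a ^ j * x) ^ n = a ^ (j * ∑ i ∈ Finset.range n, k ^ i) * x ^ n := by
  have hcon : ∀ m : ℤ, x * a ^ m = a ^ (k * m) * x := fun m => by
    rw [← mul_inv_eq_iff_eq_mul, ← conj_zpow, hx, ← zpow_mul]
  intro n
  induction n with
  | zero => simp
  | succ n ih =>
    rw [pow_succ', ih, mul_assoc, ← mul_assoc x, hcon, mul_assoc, ← pow_succ' x n, ← mul_assoc, ← zpow_add]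
    congr 2
    rw [Finset.sum_range_succ', Finset.sum_congr rfl fun i _ => pow_succ' k i, ← Finset.mul_sum]
    ring

/-- A self-centralizing cyclic normal subgroup with a congruence power map gives a normal elementary
abelian subgroup of order `p²`. -/
theorem exists_of_power_map (a : R) (hAn : (zpowers a).Normal) (hCA : centralizer ({a} : Set R) ≤ zpowers a)
    {m : ℕ} (hm : orderOf a = p ^ m) {x : R} {k : ℤ} (hx : x * a * x⁻¹ = a ^ k)
    (hxp : Commute (x ^ p) a) (hne : a ^ k ≠ a) (hk : (p : ℤ) ∣ k - 1) (hk4 : p = 2 → (4 : ℤ) ∣ k - 1) :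
    ∃ E : Subgroup R, E.Normal ∧ Cfsg.IsElementaryAbelian p E ∧ Nat.card E = p ^ 2 := by
  obtain ⟨u, hu, hpu⟩ := exists_sum_eq (p := p) hk hk4
  have hord : ∀ i : ℤ, a ^ i = 1 ↔ ((p : ℤ) ^ m) ∣ i := fun i => by
    rw [← orderOf_dvd_iff_zpow_eq_one, hm]; push_cast; rfl
  have hk1 : ¬ ((p : ℤ) ^ m) ∣ k - 1 := fun h => hne (by
    rw [← hord, zpow_sub, zpow_one, mul_inv_eq_one] at h; exact h)
  have hm1 : 1 ≤ m := by
    rcases Nat.eq_zero_or_pos m with rfl | h
    · simp at hk1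
    · exact h
  have hconn : ∀ n : ℕ, x ^ n * a * (x ^ n)⁻¹ = a ^ (k ^ n) := by
    intro n
    induction n with
    | zero => simp
    | succ n ih =>
      calc x ^ (n + 1) * a * (x ^ (n + 1))⁻¹ = x * (x ^ n * a * (x ^ n)⁻¹) * x⁻¹ := by rw [pow_succ']; group
        _ = _ := by rw [ih, ← conj_zpow, hx, ← zpow_mul, pow_succ']
  have hkp : ((p : ℤ) ^ m) ∣ k ^ p - 1 := by
    rw [← hord, zpow_sub, zpow_one, mul_inv_eq_one, ← hconn, hxp.eq, mul_inv_cancel_right]
  have hpz : (p : ℤ) ≠ 0 := Int.natCast_ne_zero.2 hp.out.ne_zero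
  have hpu' : IsCoprime ((p : ℤ) ^ (m - 1)) u :=
    ((Nat.prime_iff_prime_int.1 hp.out).coprime_iff_not_dvd.2 hpu).pow_left
  have hpm : (p : ℤ) ^ m = p * (p : ℤ) ^ (m - 1) := by rw [← pow_succ', Nat.sub_add_cancel hm1]
  have hkm : ((p : ℤ) ^ (m - 1)) ∣ k - 1 := by
    rw [← geom_sum_mul, hu, hpm, mul_assoc, mul_dvd_mul_iff_left hpz] at hkp
    exact hpu'.dvd_of_dvd_mul_left hkp
  -- an element of order `p` inducing the map
  obtain ⟨i, hi⟩ := mem_zpowers_iff.1 (hCA (mem_centralizer_singleton_iff.2 hxp.eq) : x ^ p ∈ zpowers a)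
  have hik : ((p : ℤ) ^ m) ∣ i * (k - 1) := by
    rw [← hord, mul_comm, zpow_mul]
    have h1 : x * a ^ i * x⁻¹ = a ^ i := by rw [hi]; group
    rw [← conj_zpow, hx, ← zpow_mul] at h1
    rw [← zpow_mul, sub_mul, one_mul, zpow_sub, h1, mul_inv_cancel]
  obtain ⟨i', hi'⟩ : (p : ℤ) ∣ i := by
    by_contra hpi
    refine hk1 ((((Nat.prime_iff_prime_int.1 hp.out).coprime_iff_not_dvd.2 hpi).pow_left).dvd_of_dvd_mul_left hik)
  obtain ⟨s, r, hsr⟩ := hpu'
  set y := a ^ (-(i' * r)) * x with hy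
  have hyp : y ^ p = 1 := by
    rw [hy, geom_conj hx, hu, ← hi, ← zpow_add, hord, hi', hpm]
    refine ⟨i' * s, ?_⟩
    linear_combination -((p : ℤ) * i') * hsr
  have hya : y * a * y⁻¹ = a ^ k := by
    have e : y * a * y⁻¹ = a ^ (-(i' * r)) * (x * a * x⁻¹) * (a ^ (-(i' * r)))⁻¹ := by rw [hy]; group
    rw [e, hx, (Commute.zpow_zpow (Commute.refl a) _ k).eq, mul_inv_cancel_right]
  have hyA : y ∉ zpowers a := by
    rintro ⟨n, hn⟩
    refine hne ?_
    rw [← hya, ← hn]
    group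
  set z := a ^ ((p : ℤ) ^ (m - 1)) with hz
  have hzp : z ^ p = 1 := by
    rw [hz, ← zpow_natCast, ← zpow_mul, hord, hpm, mul_comm]
  have hz1 : z ≠ 1 := by
    rw [hz, ne_eq, hord, hpm]
    intro h
    have hd : (p : ℤ) * (p : ℤ) ^ (m - 1) ∣ 1 * (p : ℤ) ^ (m - 1) := by rwa [one_mul]
    have := Int.le_of_dvd one_pos ((mul_dvd_mul_iff_right (pow_ne_zero _ hpz)).1 hd)
    have := hp.out.two_le
    omega
  have hyz : y * z = z * y := by
    rw [← mul_inv_eq_iff_eq_mul, hz, ← conj_zpow, hya, ← zpow_mul, ← mul_inv_eq_one, ← zpow_neg, ← zpow_add,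
      hord, hpm]
    obtain ⟨c, hc⟩ := hk
    refine ⟨c, ?_⟩
    linear_combination ((p : ℤ) ^ (m - 1)) * hc
  have hzord : Nat.card (zpowers z) = p := by rw [Nat.card_zpowers, orderOf_eq_prime hzp hz1]
  set E := zpowers z ⊔ zpowers y with hE
  have hEe : Cfsg.IsElementaryAbelian p E := by
    rw [hE, zpowers_eq_closure, zpowers_eq_closure, ← Subgroup.closure_union]
    refine Thompson.isEA_closure ?_ ?_
    · rintro u (rfl | rfl) v (rfl | rfl)
      · exact Commute.refl _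
      · exact hyz.symm
      · exact hyz
      · exact Commute.refl _
    · rintro u (rfl | rfl) <;> assumption
  refine ⟨E, ⟨fun g hg n => ?_⟩, hEe, ?_⟩
  · have hzmem : ∀ n : R, n * z * n⁻¹ ∈ E := by
      intro n
      obtain ⟨l, hl⟩ := mem_zpowers_iff.1 (hAn.conj_mem a (mem_zpowers a) n)
      refine mem_sup_left ⟨l, ?_⟩
      show z ^ l = _
      rw [hz, ← conj_zpow, ← hl, ← zpow_mul, ← zpow_mul, mul_comm]
    have hymem : n * y * n⁻¹ ∈ E := by
      obtain ⟨l, hl⟩ := mem_zpowers_iff.1 (hAn.conj_mem a (mem_zpowers a) n⁻¹)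
      have h1 : (n * y * n⁻¹) * a * (n * y * n⁻¹)⁻¹ = a ^ k := by
        rw [inv_inv] at hl
        have e : (n * y * n⁻¹) * a * (n * y * n⁻¹)⁻¹ = n * (y * (n⁻¹ * a * n) * y⁻¹) * n⁻¹ := by group
        have e2 : n * a ^ l * n⁻¹ = a := by rw [hl]; group
        rw [e, ← hl, ← conj_zpow (a := y), hya, ← zpow_mul, mul_comm k l, zpow_mul, ← conj_zpow, e2]
      have h2 : (n * y * n⁻¹) * y⁻¹ ∈ zpowers a := by
        refine hCA (mem_centralizer_singleton_iff.2 ?_)
        have h3 : y⁻¹ * (a ^ k) * y = a := by rw [← hya]; group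
        have h4 : (n * y * n⁻¹ * y⁻¹) * (a ^ k) * (n * y * n⁻¹ * y⁻¹)⁻¹ = a ^ k := by
          calc _ = (n * y * n⁻¹) * (y⁻¹ * (a ^ k) * y) * (n * y * n⁻¹)⁻¹ := by group
            _ = a ^ k := by rw [h3, h1]
        set w := n * y * n⁻¹ * y⁻¹
        have h5 : w * a * w⁻¹ = a := by
          obtain ⟨k', hk'⟩ : ∃ k' : ℤ, (a ^ k) ^ k' = a := by
            have hco : IsCoprime k ((p : ℤ) ^ m) := by
              refine (IsCoprime.pow_right ?_)
              obtain ⟨c, hc⟩ := hk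
              exact ⟨1, -c, by linear_combination hc⟩
            obtain ⟨k', l, hkl⟩ := hco
            refine ⟨k', ?_⟩
            rw [← zpow_mul, ← mul_inv_eq_one, ← zpow_neg_one, ← zpow_add, hord]
            exact ⟨-l, by linear_combination hkl⟩
          rw [← hk', ← conj_zpow, h4]
        exact mul_inv_eq_iff_eq_mul.1 h5
      obtain ⟨r', hr'⟩ := mem_zpowers_iff.1 h2
      have h6 : n * y * n⁻¹ = a ^ r' * y := by rw [hr', inv_mul_cancel_right]
      have h7 : (a ^ r' * y) ^ p = 1 := by rw [← h6, conj_pow, hyp, mul_one, mul_inv_cancel]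
      rw [geom_conj hya, hyp, mul_one, hu, hord, hpm] at h7
      have h8 : ((p : ℤ) ^ (m - 1)) ∣ r' := by
        rw [← mul_assoc, mul_comm r', mul_assoc, mul_dvd_mul_iff_left hpz] at h7
        exact (show IsCoprime ((p : ℤ) ^ (m - 1)) u from ⟨s, r, hsr⟩).dvd_of_dvd_mul_right h7
      obtain ⟨c, hc⟩ := h8
      rw [h6]
      exact mul_mem (mem_sup_left ⟨c, by show z ^ c = _; rw [hz, ← zpow_mul, hc]⟩) (mem_sup_right (mem_zpowers y))
    have h := mem_map_of_mem (MulAut.conj n).toMonoidHom hg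
    have hle : E.map (MulAut.conj n).toMonoidHom ≤ E := by
      rw [hE, Subgroup.map_sup, MonoidHom.map_zpowers, MonoidHom.map_zpowers, sup_le_iff, zpowers_le, zpowers_le]
      exact ⟨hzmem n, hymem⟩
    exact hle h
  · have hy1 : y ≠ 1 := fun h => hyA (h ▸ one_mem _)
    have hyc : Nat.card (zpowers y) = p := by rw [Nat.card_zpowers, orderOf_eq_prime hyp hy1]
    have hnn : zpowers y ≤ normalizer ((zpowers z : Subgroup R) : Set R) := fun w hw =>
      centralizer_le_normalizer _ (mem_centralizer_iff.2 fun v hv =>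
        congrArg Subtype.val (hEe.1.is_comm.comm ⟨v, mem_sup_left hv⟩ ⟨w, mem_sup_right hw⟩))
    have hdisj : Disjoint (zpowers z) (zpowers y) := by
      rw [disjoint_iff]
      haveI : Fact (Nat.card (zpowers y)).Prime := ⟨hyc.symm ▸ hp.out⟩
      rcases Subgroup.eq_bot_or_eq_top_of_prime_card ((zpowers z).subgroupOf (zpowers y)) with h | h
      · exact disjoint_iff.1 (subgroupOf_eq_bot.1 h)
      · exact absurd ((zpowers_le.2 (zpow_mem (mem_zpowers a) _) : zpowers z ≤ _) (subgroupOf_eq_top.1 h (mem_zpowers y))) hyA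
    rw [hE, Coprime.card_sup_of_disjoint hnn hdisj, hzord, hyc, sq]

/-- A `p`-group without a normal elementary abelian subgroup of order `p²` is cyclic, or `p = 2` and some
element induces on a cyclic normal subgroup of index two a power map `k ≡ 3 (mod 4)` of order two. -/
theorem cyclic_or_three_mod_four (hR : IsPGroup p R)
    (hno : ¬ ∃ E : Subgroup R, E.Normal ∧ Cfsg.IsElementaryAbelian p E ∧ Nat.card E = p ^ 2) :
    ∃ a : R, (zpowers a).Normal ∧ (zpowers a = ⊤ ∨
      (p = 2 ∧ ∃ (x : R) (k : ℤ), x * a * x⁻¹ = a ^ k ∧ (4 : ℤ) ∣ k - 3 ∧ Commute (x * x) a ∧ 4 ∣ orderOf a ∧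
        (zpowers a).index = 2)) := by
  classical
  haveI : Finite (Subgroup R) := Finite.of_injective ((↑) : Subgroup R → Set R) SetLike.coe_injective
  obtain ⟨A, ⟨hAn, hAc⟩, hmax⟩ := (Set.toFinite {A : Subgroup R | A.Normal ∧ IsMulCommutative A}).exists_maximal
    ⟨⊥, inferInstance, ⟨⟨fun a b => Subsingleton.elim _ _⟩⟩⟩
  have hcyc : IsCyclic A := by
    by_contra h
    exact hno (exists_of_noncyclic hR A h)
  obtain ⟨a, rfl⟩ := (Subgroup.isCyclic_iff_exists_zpowers_eq_top A).1 hcyc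
  refine ⟨a, hAn, ?_⟩
  set C := centralizer ((zpowers a : Subgroup R) : Set R) with hC
  have haC : zpowers a ≤ C := fun u hu => mem_centralizer_iff.2 fun v hv =>
    congrArg Subtype.val (hAc.is_comm.comm ⟨v, hv⟩ ⟨u, hu⟩)
  have hCA : C ≤ zpowers a := by
    by_contra hne
    set π := QuotientGroup.mk' (zpowers a) with hπ
    have hsurj := QuotientGroup.mk'_surjective (zpowers a)
    haveI : (C.map π).Normal := (inferInstance : C.Normal).map π hsurj
    obtain ⟨w, hwC, hwc, hwo⟩ := exists_mem_center_orderOf_eq (hR.to_quotient (zpowers a)) (N := C.map π)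
      fun h => hne (by rwa [Subgroup.map_eq_bot_iff, hπ, QuotientGroup.ker_mk'] at h)
    haveI : (zpowers w).Normal := ⟨fun x hx g => by
      have : x ∈ center (R ⧸ zpowers a) := (zpowers_le.2 hwc) hx
      rwa [mem_center_iff.1 this g, mul_inv_cancel_right]⟩
    obtain ⟨y, hyC, rfl⟩ := hwC
    set B := (zpowers (π y)).comap π with hB
    have hBsup : B = zpowers y ⊔ zpowers a := by
      rw [hB, ← MonoidHom.map_zpowers, comap_map_eq, hπ, QuotientGroup.ker_mk']
    have hBc : IsMulCommutative B := by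
      rw [hBsup, zpowers_eq_closure, zpowers_eq_closure, ← Subgroup.closure_union]
      refine Subgroup.isMulCommutative_closure ?_
      have hay : a * y = y * a := mem_centralizer_iff.1 hyC a (mem_zpowers a)
      rintro u (rfl | rfl) v (rfl | rfl)
      · rfl
      · exact hay.symm
      · exact hay
      · rfl
    have h1 : y ∈ B := mem_zpowers (π y)
    have h2 : y ∈ zpowers a := hmax ⟨inferInstance, hBc⟩ (hBsup ▸ le_sup_right) h1
    rw [show π y = 1 from (QuotientGroup.eq_one_iff y).2 h2, orderOf_one] at hwo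
    exact hp.out.one_lt.ne hwo
  have hCs : centralizer ({a} : Set R) ≤ zpowers a := by
    refine le_trans (fun u hu => mem_centralizer_iff.2 ?_) hCA
    rintro _ ⟨n, rfl⟩
    exact (Commute.zpow_left (mem_centralizer_singleton_iff.1 hu).symm n).eq
  obtain ⟨m, hm⟩ := IsPGroup.iff_orderOf.1 hR a
  by_cases htop : zpowers a = ⊤
  · exact Or.inl htop
  obtain ⟨x, hxA⟩ : ∃ x, x ∉ zpowers a := by
    by_contra hcon
    push Not at hcon
    exact htop ((eq_top_iff' _).2 hcon)
  obtain ⟨k, hk⟩ := mem_zpowers_iff.1 (hAn.conj_mem a (mem_zpowers a) x)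
  have hpow : ∀ (y : R) (l : ℤ), y * a * y⁻¹ = a ^ l → ∀ n : ℕ, y ^ n * a * (y ^ n)⁻¹ = a ^ (l ^ n) := by
    intro y l hl n
    induction n with
    | zero => simp
    | succ n ih =>
      calc y ^ (n + 1) * a * (y ^ (n + 1))⁻¹ = y * (y ^ n * a * (y ^ n)⁻¹) * y⁻¹ := by rw [pow_succ']; group
        _ = _ := by rw [ih, ← conj_zpow, hl, ← zpow_mul, pow_succ']
  have hord : ∀ i : ℤ, a ^ i = 1 ↔ ((p : ℤ) ^ m) ∣ i := fun i => by
    rw [← orderOf_dvd_iff_zpow_eq_one, hm]; push_cast; rfl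
  -- a congruence power map is trivial
  have htriv : ∀ (y : R) (l : ℤ), y * a * y⁻¹ = a ^ l → (p : ℤ) ∣ l - 1 → (p = 2 → (4 : ℤ) ∣ l - 1) →
      a ^ l = a := by
    intro y l hl hl1 hl4
    by_contra hne
    obtain ⟨e, he⟩ := IsPGroup.iff_orderOf.1 hR y
    have hex : ∃ j, Commute (y ^ p ^ j) a := ⟨e, by rw [← he, pow_orderOf_eq_one]; exact Commute.one_left a⟩
    obtain ⟨j, hj⟩ : ∃ j, Nat.find hex = j + 1 := by
      refine Nat.exists_eq_succ_of_ne_zero fun h0 => hne ?_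
      have h1 := Nat.find_spec hex
      rw [h0, pow_zero, pow_one] at h1
      rw [← hl, h1.eq, mul_inv_cancel_right]
    refine hno (exists_of_power_map a hAn hCs hm (x := y ^ p ^ j) (k := l ^ p ^ j) (hpow y l hl _) ?_ ?_
      (sum_pow_congr hl1 _) fun h2 => sum_pow_congr (hl4 h2) _)
    · rw [← pow_mul, ← pow_succ, ← hj]
      exact Nat.find_spec hex
    · intro h
      refine Nat.find_min hex (by omega : j < Nat.find hex) ?_
      exact (mul_inv_eq_iff_eq_mul.1 ((hpow y l hl (p ^ j)).trans h) : y ^ p ^ j * a = a * y ^ p ^ j)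
  have hk' : x * a * x⁻¹ = a ^ k := hk.symm
  have hne : a ^ k ≠ a := fun h => hxA (hCs (mem_centralizer_singleton_iff.2 (mul_inv_eq_iff_eq_mul.1 (hk'.trans h))))
  have hm1 : 1 ≤ m := by
    rcases Nat.eq_zero_or_pos m with rfl | h
    · rw [pow_zero, orderOf_eq_one_iff] at hm
      exact absurd (by rw [hm, one_zpow]) hne
    · exact h
  obtain ⟨e, he⟩ := IsPGroup.iff_orderOf.1 hR x
  have hke : (p : ℤ) ∣ k ^ p ^ e - 1 := by
    refine (dvd_pow_self (p : ℤ) (by omega : m ≠ 0)).trans ((hord _).1 ?_)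
    rw [zpow_sub, zpow_one, mul_inv_eq_one, ← hpow x k hk', ← he, pow_orderOf_eq_one]
    group
  have hk1 : (p : ℤ) ∣ k - 1 := by
    have hfer : ∀ j : ℕ, ((k : ZMod p)) ^ p ^ j = k := fun j => by
      induction j with
      | zero => simp
      | succ j ih => rw [pow_succ, pow_mul, ih, ZMod.pow_card]
    rw [← ZMod.intCast_zmod_eq_zero_iff_dvd] at hke ⊢
    push_cast at hke ⊢
    rwa [hfer] at hke
  by_cases h2 : p = 2
  · refine Or.inr ⟨h2, x, k, hk', ?_⟩
    subst h2
    have hk4 : ¬ (4 : ℤ) ∣ k - 1 := fun h => hne (htriv x k hk' hk1 fun _ => h)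
    refine ⟨by omega, ?_, ?_, ?_⟩
    · have h3 := htriv (x ^ 2) (k ^ 2) (hpow x k hk' 2) (sum_pow_congr hk1 2) fun _ => by
        obtain ⟨c, hc⟩ := hk1
        push_cast at hc
        refine ⟨c * (c + 1), ?_⟩
        rw [show k = 2 * c + 1 by linarith]; ring
      rw [← sq]
      exact mul_inv_eq_iff_eq_mul.1 ((hpow x k hk' 2).trans h3)
    · rw [hm]
      by_contra h4
      have hm2 : m = 1 := by
        by_contra hm2
        exact h4 (by rw [show (4 : ℕ) = 2 ^ 2 from rfl]; exact pow_dvd_pow 2 (by omega))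
      refine hne ?_
      rw [← mul_inv_eq_one, ← zpow_neg_one, ← zpow_add, hord, hm2, pow_one]
      exact hk1
    · refine index_eq_two_iff.2 ⟨x, fun y => ?_⟩
      by_cases hy : y ∈ zpowers a
      · refine Or.inr ⟨hy, fun h => hxA ?_⟩
        simpa using (zpowers a).mul_mem ((zpowers a).inv_mem hy) h
      refine Or.inl ⟨?_, hy⟩
      obtain ⟨l, hl⟩ := mem_zpowers_iff.1 (hAn.conj_mem a (mem_zpowers a) y)
      have hl' : y * a * y⁻¹ = a ^ l := hl.symm
      have hnel : a ^ l ≠ a := fun h =>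
        hy (hCs (mem_centralizer_singleton_iff.2 (mul_inv_eq_iff_eq_mul.1 (hl'.trans h))))
      obtain ⟨e', he'⟩ := IsPGroup.iff_orderOf.1 hR y
      have hl1 : (2 : ℤ) ∣ l - 1 := by
        have h5 : (2 : ℤ) ∣ l ^ 2 ^ e' - 1 := by
          refine (dvd_pow_self (2 : ℤ) (by omega : m ≠ 0)).trans (?_)
          have := (hord (l ^ 2 ^ e' - 1)).1 (by
            rw [zpow_sub, zpow_one, mul_inv_eq_one, ← hpow y l hl', ← he', pow_orderOf_eq_one]
            group)
          push_cast at this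
          exact this
        rw [← even_iff_two_dvd] at h5 ⊢
        simpa [Int.even_sub', Int.odd_pow] using h5
      have hl4 : ¬ (4 : ℤ) ∣ l - 1 := fun h => hnel (htriv y l hl' hl1 fun _ => h)
      have hyx : (y * x) * a * (y * x)⁻¹ = a ^ (l * k) := by
        have e1 : y * x * a * (y * x)⁻¹ = y * (x * a * x⁻¹) * y⁻¹ := by group
        rw [e1, hk', ← conj_zpow, hl', ← zpow_mul]
      have h4 : (4 : ℤ) ∣ l * k - 1 := by
        obtain ⟨c, hc⟩ := hl1
        obtain ⟨d, hd⟩ : (2 : ℤ) ∣ k - 1 := by exact_mod_cast hk1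
        obtain ⟨c', rfl⟩ : ∃ c', c = 2 * c' + 1 := ⟨c / 2, by omega⟩
        obtain ⟨d', rfl⟩ : ∃ d', d = 2 * d' + 1 := ⟨d / 2, by omega⟩
        refine ⟨4 * c' * d' + 3 * c' + 3 * d' + 2, ?_⟩
        rw [show l = 4 * c' + 3 by omega, show k = 4 * d' + 3 by omega]
        ring
      exact hCs (mem_centralizer_singleton_iff.2 (mul_inv_eq_iff_eq_mul.1 (hyx.trans (htriv _ _ hyx
        ((show ((2 : ℕ) : ℤ) ∣ l * k - 1 from (by norm_num : (2 : ℤ) ∣ 4).trans h4)) fun _ => h4))))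
  · exact absurd (htriv x k hk' hk1 fun h => absurd h h2) hne

end Cfsg.Lib.PGroup.NormalSq
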