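import Mathlib

/-!
# Groups of exponent `p` and class at most `p` satisfy the Engel condition of length `p - 1`

If `G` has exponent `p` and `γ_{p+1}(G) = 1`, then `[y, s, …, s] = 1` (`p - 1` times `s`) for all `y`, `s`.
-/

set_option autoImplicit false

namespace Cfsg.Lib.PGroup.Engel

open Subgroup
open scoped commutatorElement

section Comm

variable {G : Type*} [Group G]

/-- `[γ_i, γ_j] ≤ γ_{i+j}` in the zero-based indexing. -/
theorem commutator_lcs_le : ∀ j i : ℕ,
    ⁅(⊤ : Subgroup G).lowerCentralSeries i, (⊤ : Subgroup G).lowerCentralSeries j⁆ ≤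
      (⊤ : Subgroup G).lowerCentralSeries (i + j + 1) := by
  intro j
  induction j with
  | zero =>
    intro i
    rw [Subgroup.lowerCentralSeries_succ, Subgroup.lowerCentralSeries_zero]
  | succ j ih =>
    intro i
    set L := fun k => (⊤ : Subgroup G).lowerCentralSeries k
    have hLn : ∀ k, (L k).Normal := fun k => by show ((⊤ : Subgroup G).lowerCentralSeries k).Normal; infer_instance
    haveI := hLn (i + j + 2)
    set π := QuotientGroup.mk' (L (i + j + 2)) with hπ
    have hmap : ∀ K : Subgroup G, K ≤ L (i + j + 2) → K.map π = ⊥ := fun K hK => by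
      rw [Subgroup.map_eq_bot_iff, hπ, QuotientGroup.ker_mk']; exact hK
    have h1 : ⁅⁅(⊤ : Subgroup G).map π, (L i).map π⁆, (L j).map π⁆ = ⊥ := by
      rw [← map_commutator, ← map_commutator]
      refine hmap _ ?_
      rw [commutator_comm (⊤ : Subgroup G)]
      refine le_trans (commutator_mono (le_of_eq ?_) le_rfl) ((ih (i + 1)).trans (le_of_eq ?_))
      · show ⁅(⊤ : Subgroup G).lowerCentralSeries i, ⊤⁆ = _
        rw [Subgroup.lowerCentralSeries_succ]
      · show _ = (⊤ : Subgroup G).lowerCentralSeries _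
        rw [show i + 1 + j + 1 = i + j + 2 by omega]
    have h2 : ⁅⁅(L i).map π, (L j).map π⁆, (⊤ : Subgroup G).map π⁆ = ⊥ := by
      rw [← map_commutator, ← map_commutator]
      refine hmap _ ((commutator_mono (ih i) le_rfl).trans (le_of_eq ?_))
      show _ = (⊤ : Subgroup G).lowerCentralSeries (i + j + 2)
      rw [show i + j + 2 = (i + j + 1) + 1 by omega, Subgroup.lowerCentralSeries_succ _ (i + j + 1)]
    have h3 := commutator_commutator_eq_bot_of_rotate h1 h2
    rw [← map_commutator, ← map_commutator, Subgroup.map_eq_bot_iff, hπ, QuotientGroup.ker_mk'] at h3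
    rw [commutator_comm, Subgroup.lowerCentralSeries_succ]
    exact h3.trans (le_of_eq (by show (⊤ : Subgroup G).lowerCentralSeries _ = _; congr 1))

theorem comm_pow_left {x m : G} (h : ⁅x, m⁆ ∈ center G) (a : ℕ) : ⁅x ^ a, m⁆ = ⁅x, m⁆ ^ a := by
  induction a with
  | zero => simp
  | succ a ih =>
    have hz := mem_center_iff.mp h
    calc ⁅x ^ (a + 1), m⁆ = x * ⁅x ^ a, m⁆ * x⁻¹ * ⁅x, m⁆ := by
          simp only [commutatorElement_def, pow_succ']; group
      _ = _ := by
          rw [ih, (show x * ⁅x, m⁆ ^ a = ⁅x, m⁆ ^ a * x from (Commute.pow_right (hz x) a).eq),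
            mul_inv_cancel_right, pow_succ]

theorem comm_pow_right {x m : G} (h : ⁅x, m⁆ ∈ center G) (a : ℕ) : ⁅x, m ^ a⁆ = ⁅x, m⁆ ^ a := by
  have h' : ⁅m, x⁆ ∈ center G := by rw [← commutatorElement_inv]; exact inv_mem h
  rw [← commutatorElement_inv (m ^ a) x, comm_pow_left h', ← inv_pow, commutatorElement_inv]

theorem comm_mul_left_central {x e m : G} (he : e ∈ center G) : ⁅x * e, m⁆ = ⁅x, m⁆ := by
  have := mem_center_iff.mp he
  simp only [commutatorElement_def, mul_inv_rev]
  rw [mul_assoc x e m, ← this m]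
  group

theorem comm_mul_right_commute {x m f : G} (hf : Commute x f) : ⁅x, m * f⁆ = ⁅x, m⁆ := by
  simp only [commutatorElement_def, mul_inv_rev]
  rw [mul_assoc (x * (m * f)), ← mul_assoc x⁻¹ f⁻¹, ← mul_inv_rev, ← hf.eq]
  group

/-- Modulo `γ_{k+2}` the commutator of `γ_{k}` with the group is bilinear. -/
theorem comm_congr {k : ℕ} {x e m f : G} (hx : x ∈ (⊤ : Subgroup G).lowerCentralSeries k)
    (he : e ∈ (⊤ : Subgroup G).lowerCentralSeries (k + 1))
    (hf : f ∈ (⊤ : Subgroup G).lowerCentralSeries 1) (a b : ℕ) :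
    (⁅x, m⁆ ^ (a * b))⁻¹ * ⁅x ^ a * e, m ^ b * f⁆ ∈ (⊤ : Subgroup G).lowerCentralSeries (k + 2) := by
  set N := (⊤ : Subgroup G).lowerCentralSeries (k + 2)
  set π := QuotientGroup.mk' N
  have hz : ∀ z ∈ (⊤ : Subgroup G).lowerCentralSeries (k + 1), π z ∈ center (G ⧸ N) := by
    intro z hz
    rw [mem_center_iff]
    intro q
    obtain ⟨g, rfl⟩ := QuotientGroup.mk'_surjective N q
    refine (commutatorElement_eq_one_iff_mul_comm.mp ?_).symm
    rw [← map_commutatorElement]
    refine (QuotientGroup.eq_one_iff _).mpr ?_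
    show _ ∈ (⊤ : Subgroup G).lowerCentralSeries (k + 1 + 1)
    rw [Subgroup.lowerCentralSeries_succ]
    exact commutator_mem_commutator hz (mem_top g)
  have hxm : ⁅π x, π m⁆ ∈ center (G ⧸ N) := by
    rw [← map_commutatorElement]
    refine hz _ ?_
    rw [Subgroup.lowerCentralSeries_succ]
    exact commutator_mem_commutator hx (mem_top m)
  have hc : Commute (π x ^ a) (π f) := by
    refine Commute.pow_left (commutatorElement_eq_one_iff_mul_comm.mp ?_) a
    rw [← map_commutatorElement]
    exact (QuotientGroup.eq_one_iff _).mpr (commutator_lcs_le 1 k (commutator_mem_commutator hx hf))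
  refine (QuotientGroup.eq_one_iff _).mp ?_
  show π _ = 1
  rw [map_mul, map_inv, map_pow, map_commutatorElement, map_commutatorElement, map_mul, map_mul, map_pow,
    map_pow, comm_mul_left_central (hz e he), comm_mul_right_commute hc, inv_mul_eq_one, pow_mul,
    ← comm_pow_left hxm a, comm_pow_right (by rw [comm_pow_left hxm a]; exact pow_mem hxm a)]

end Comm

section Engel

variable {p : ℕ} [hp : Fact p.Prime] {G : Type*} [Group G]

theorem pow_congr (hexp : ∀ g : G, g ^ p = 1) (x : G) {i j : ℕ} (h : (i : ZMod p) = (j : ZMod p)) :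
    x ^ i = x ^ j := by
  rw [pow_eq_pow_mod i (hexp x), pow_eq_pow_mod j (hexp x), ← ZMod.val_natCast, ← ZMod.val_natCast, h]

/-- Iterated commutators are linear in the first entry. -/
theorem iter_pow (y s : G) (m : ℕ) : ∀ j : ℕ,
    (fun z => ⁅z, s⁆)^[j] y ∈ (⊤ : Subgroup G).lowerCentralSeries j ∧
    ((fun z => ⁅z, s⁆)^[j] y ^ m)⁻¹ * (fun z => ⁅z, s⁆)^[j] (y ^ m) ∈
      (⊤ : Subgroup G).lowerCentralSeries (j + 1) := by
  intro j
  induction j with
  | zero => exact ⟨mem_top _, by simp⟩
  | succ j ih =>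
    rw [Function.iterate_succ_apply', Function.iterate_succ_apply']
    refine ⟨by rw [Subgroup.lowerCentralSeries_succ]; exact commutator_mem_commutator ih.1 (mem_top s), ?_⟩
    have := comm_congr ih.1 ih.2 (one_mem _ : (1 : G) ∈ (⊤ : Subgroup G).lowerCentralSeries 1) (m := s) m 1
    simpa using this

/-- In an abelian group of exponent `p`, an endomorphism `σ` with `∑_{i<p} σ^i = 0` satisfies `(1-σ)^{p-1} = 0`. -/
theorem iter_sub_eq_zero {A : Type*} [AddCommGroup A] (hp2 : p ≠ 2) (hexp : ∀ q : A, p • q = 0) (σ : A →+ A)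
    (h : ∀ q : A, ∑ i ∈ Finset.range p, σ^[i] q = 0) (q : A) :
    (fun x => x - σ x)^[p - 1] q = 0 := by
  letI : Module (ZMod p) A := AddCommGroup.zmodModule (n := p) hexp
  let T : A →ₗ[ZMod p] A := σ.toZModLinearMap p
  have hTp : ∀ (i : ℕ) (x : A), (T ^ i) x = σ^[i] x := by
    intro i x
    induction i with
    | zero => rfl
    | succ i ih => rw [pow_succ', Module.End.mul_apply, ih, Function.iterate_succ_apply']; rfl
  have hsum : ∑ i ∈ Finset.range p, T ^ i = 0 := by
    refine LinearMap.ext fun x => ?_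
    rw [LinearMap.sum_apply, LinearMap.zero_apply, Finset.sum_congr rfl fun i _ => hTp i x, h]
  have hp1 := hp.out.one_lt
  have hpoly : ((1 : Polynomial (ZMod p)) - Polynomial.X) ^ (p - 1) =
      ∑ i ∈ Finset.range p, Polynomial.X ^ i := by
    refine mul_right_cancel₀ (Polynomial.X_sub_C_ne_zero (1 : ZMod p)) ?_
    rw [map_one, geom_sum_mul, ← neg_sub Polynomial.X 1, (hp.out.even_sub_one hp2).neg_pow, ← pow_succ,
      show p - 1 + 1 = p by omega, sub_pow_char, one_pow]
  have hT1 : ((1 : Module.End (ZMod p) A) - T) ^ (p - 1) = 0 := by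
    have := congrArg (Polynomial.aeval (T : Module.End (ZMod p) A)) hpoly
    simpa [map_pow, map_sub, map_sum, hsum] using this
  have hiter : ∀ j : ℕ, (fun x => x - σ x)^[j] q = (((1 : Module.End (ZMod p) A) - T) ^ j) q := by
    intro j
    induction j with
    | zero => rfl
    | succ j ih =>
      rw [Function.iterate_succ_apply', pow_succ', Module.End.mul_apply, ← ih]
      rfl
  rw [hiter, hT1, LinearMap.zero_apply]

/-- A group of exponent `p` and class at most `p` is `(p-1)`-Engel. -/
theorem iter_eq_one (hp2 : p ≠ 2) (hexp : ∀ g : G, g ^ p = 1)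
    (hcl : (⊤ : Subgroup G).lowerCentralSeries p = ⊥) (y s : G) :
    (fun z => ⁅z, s⁆)^[p - 1] y = 1 := by
  have hp3 : 3 ≤ p := by have := hp.out.two_le; omega
  have hWexp : ∀ w : ((ZMod p)ˣ → G), w ^ p = 1 := fun w => funext fun u => hexp _
  let Y : ((ZMod p)ˣ → G) := fun u => y ^ (u : ZMod p).val
  let S : ((ZMod p)ˣ → G) := fun _ => s
  let M : Subgroup ((ZMod p)ˣ → G) := closure (Set.range fun i : ℕ => S ^ i * Y * (S ^ i)⁻¹)
  have hgenM : ∀ i : ℕ, S ^ i * Y * (S ^ i)⁻¹ ∈ M := fun i => subset_closure ⟨i, rfl⟩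
  -- conjugation by `S`
  have hSM : ∀ m : ((ZMod p)ˣ → G), m ∈ M → S * m * S⁻¹ ∈ M := by
    intro m hm
    have : M ≤ M.comap (MulAut.conj S).toMonoidHom := by
      refine (closure_le _).mpr ?_
      rintro _ ⟨i, rfl⟩
      show S * (S ^ i * Y * (S ^ i)⁻¹) * S⁻¹ ∈ M
      rw [show S * (S ^ i * Y * (S ^ i)⁻¹) * S⁻¹ = S ^ (i + 1) * Y * (S ^ (i + 1))⁻¹ by
        rw [pow_succ']; group]
      exact hgenM (i + 1)
    exact this hm
  let σ : M →* M :=
    { toFun := fun m => ⟨S * m * S⁻¹, hSM m m.2⟩
      map_one' := Subtype.ext (show S * 1 * S⁻¹ = 1 by group)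
      map_mul' := fun a b => Subtype.ext (show S * ((a : ((ZMod p)ˣ → G)) * b) * S⁻¹ = S * a * S⁻¹ * (S * b * S⁻¹) by group) }
  -- the scalings
  have hτM : ∀ (a : (ZMod p)ˣ) (m : ((ZMod p)ˣ → G)), m ∈ M → (fun u => m (a * u)) ∈ M := by
    intro a m hm
    let f : ((ZMod p)ˣ → G) →* ((ZMod p)ˣ → G) := { toFun := fun w u => w (a * u), map_one' := rfl, map_mul' := fun _ _ => rfl }
    have : M ≤ M.comap f := by
      refine (closure_le _).mpr ?_
      rintro _ ⟨i, rfl⟩
      have : f (S ^ i * Y * (S ^ i)⁻¹) = (S ^ i * Y * (S ^ i)⁻¹) ^ (a : ZMod p).val := by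
        rw [conj_pow]
        funext u
        show (S ^ i * Y * (S ^ i)⁻¹) (a * u) = _
        simp only [Y, S]
        show s ^ i * y ^ ((a * u : (ZMod p)ˣ) : ZMod p).val * (s ^ i)⁻¹ =
          s ^ i * (y ^ (u : ZMod p).val) ^ (a : ZMod p).val * (s ^ i)⁻¹
        rw [← pow_mul]
        congr 2
        exact pow_congr hexp y (by simp [mul_comm])
      show f _ ∈ M
      rw [this]
      exact pow_mem (hgenM i) _
    exact this hm
  let τ : (ZMod p)ˣ → (M →* M) := fun a =>
    { toFun := fun m => ⟨fun u => (m : ((ZMod p)ˣ → G)) (a * u), hτM a m m.2⟩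
      map_one' := rfl
      map_mul' := fun _ _ => rfl }
  set L := fun k => (⊤ : Subgroup M).lowerCentralSeries k with hL
  have hcq0 : ∀ q r : M ⧸ L 1, q * r = r * q := by
    intro q r
    obtain ⟨g, rfl⟩ := QuotientGroup.mk'_surjective _ q
    obtain ⟨h, rfl⟩ := QuotientGroup.mk'_surjective _ r
    refine commutatorElement_eq_one_iff_mul_comm.mp ?_
    rw [← map_commutatorElement]
    refine (QuotientGroup.eq_one_iff _).mpr ?_
    show _ ∈ (⊤ : Subgroup M).lowerCentralSeries (0 + 1)
    rw [Subgroup.lowerCentralSeries_succ]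
    exact commutator_mem_commutator (mem_top g) (mem_top h)
  have hE0 : ∀ (a : (ZMod p)ˣ) (w : M), (w ^ (a : ZMod p).val)⁻¹ * τ a w ∈ L 1 := by
    intro a w
    set π1 := QuotientGroup.mk' (L 1)
    rw [← QuotientGroup.eq_one_iff]
    show π1 _ = 1
    rw [map_mul, map_inv, map_pow, inv_mul_eq_one]
    have hle : M ≤ (MonoidHom.eqLocus (π1.comp (τ a))
      ({ toFun := fun m => π1 m ^ (a : ZMod p).val
         map_one' := by simp
         map_mul' := fun m n => by rw [map_mul, (show Commute (π1 m) (π1 n) from hcq0 _ _).mul_pow] } :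
        M →* M ⧸ L 1)).map M.subtype := by
      refine (closure_le _).mpr ?_
      rintro _ ⟨i, rfl⟩
      refine ⟨⟨_, hgenM i⟩, ?_, rfl⟩
      show π1 (τ a _) = π1 _ ^ _
      rw [← map_pow]
      congr 1
      refine Subtype.ext ?_
      rw [SubgroupClass.coe_pow, conj_pow]
      funext u
      show (S ^ i * Y * (S ^ i)⁻¹) (a * u) = _
      simp only [Y, S]
      show s ^ i * y ^ ((a * u : (ZMod p)ˣ) : ZMod p).val * (s ^ i)⁻¹ =
        s ^ i * (y ^ (u : ZMod p).val) ^ (a : ZMod p).val * (s ^ i)⁻¹
      rw [← pow_mul]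
      congr 2
      exact pow_congr hexp y (by simp [mul_comm])
    obtain ⟨w', hw', hww⟩ := hle w.2
    obtain rfl : w' = w := Subtype.ext hww
    exact hw'.symm
  -- the scalings act by scalars on the factors of the lower central series
  have hE : ∀ (a : (ZMod p)ˣ) (k : ℕ), ∀ x ∈ L k,
      (x ^ ((a : ZMod p).val ^ (k + 1)))⁻¹ * τ a x ∈ L (k + 1) := by
    intro a k
    induction k with
    | zero =>
      intro x _
      simpa using hE0 a x
    | succ k ih =>
      intro z hz
      set N := L (k + 2) with hN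
      set π := QuotientGroup.mk' N with hπ
      suffices h : π (τ a z) = π z ^ (a : ZMod p).val ^ (k + 2) by
        rw [← QuotientGroup.eq_one_iff]
        show π _ = 1
        rw [map_mul, map_inv, map_pow, h, inv_mul_cancel]
      have hz' : z ∈ ⁅(⊤ : Subgroup M).lowerCentralSeries k, (⊤ : Subgroup M)⁆ := by
        rw [← Subgroup.lowerCentralSeries_succ]; exact hz
      rw [Subgroup.commutator_def] at hz'
      have hcen : ∀ w ∈ L (k + 1), π w ∈ center (M ⧸ N) := by
        intro w hw
        rw [mem_center_iff]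
        intro q
        obtain ⟨g, rfl⟩ := QuotientGroup.mk'_surjective _ q
        refine (commutatorElement_eq_one_iff_mul_comm.mp ?_).symm
        rw [← map_commutatorElement]
        refine (QuotientGroup.eq_one_iff _).mpr ?_
        show _ ∈ (⊤ : Subgroup M).lowerCentralSeries (k + 1 + 1)
        rw [Subgroup.lowerCentralSeries_succ]
        exact commutator_mem_commutator hw (mem_top g)
      refine (Subgroup.closure_induction
        (p := fun z _ => z ∈ L (k + 1) ∧ π (τ a z) = π z ^ (a : ZMod p).val ^ (k + 2)) ?_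
        ⟨one_mem _, by simp⟩ ?_ ?_ hz').2
      · rintro _ ⟨x, hx, m, -, rfl⟩
        refine ⟨by show _ ∈ (⊤ : Subgroup M).lowerCentralSeries (k + 1)
                   rw [Subgroup.lowerCentralSeries_succ]; exact commutator_mem_commutator hx (mem_top m), ?_⟩
        have hm1 := hE0 a m
        have hx1 := ih x hx
        rw [map_commutatorElement (τ a),
          show τ a x = x ^ (a : ZMod p).val ^ (k + 1) * ((x ^ (a : ZMod p).val ^ (k + 1))⁻¹ * τ a x) from
            (mul_inv_cancel_left _ _).symm,
          show τ a m = m ^ (a : ZMod p).val * ((m ^ (a : ZMod p).val)⁻¹ * τ a m) from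
            (mul_inv_cancel_left _ _).symm]
        have h := comm_congr hx hx1 hm1 (m := m) ((a : ZMod p).val ^ (k + 1)) (a : ZMod p).val
        rw [← QuotientGroup.eq_one_iff] at h
        change π _ = 1 at h
        rw [map_mul, map_inv, inv_mul_eq_one, map_pow] at h
        rw [← h, ← pow_succ]
      · rintro u v _ _ ⟨hu, hu'⟩ ⟨hv, hv'⟩
        refine ⟨mul_mem hu hv, ?_⟩
        rw [map_mul, map_mul, hu', hv', map_mul,
          (show Commute (π u) (π v) from (mem_center_iff.mp (hcen u hu) _).symm).mul_pow]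
      · rintro u _ ⟨hu, hu'⟩
        exact ⟨inv_mem hu, by rw [map_inv, map_inv, hu', map_inv, inv_pow]⟩
  -- the iterated commutator lies in the derived group of `M`
  let Ym : M := ⟨Y, by simpa using hgenM 0⟩
  let δ : M → M := fun m => m * (σ m)⁻¹
  have hδ : ∀ m : M, ((δ m : M) : ((ZMod p)ˣ → G)) = ⁅(m : ((ZMod p)ˣ → G)), S⁆ := by
    intro m
    show (m : ((ZMod p)ˣ → G)) * (S * m * S⁻¹)⁻¹ = _
    rw [commutatorElement_def]; group
  have hδi : ∀ j : ℕ, ((δ^[j] Ym : M) : ((ZMod p)ˣ → G)) = fun u : (ZMod p)ˣ => (fun z => ⁅z, s⁆)^[j] (y ^ (u : ZMod p).val) := by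
    intro j
    induction j with
    | zero => rfl
    | succ j ih =>
      rw [Function.iterate_succ_apply', hδ, ih]
      funext u
      rw [Function.iterate_succ_apply']
      rfl
  set v := δ^[p - 1] Ym with hv
  have hv1 : v ∈ L 1 := by
    set π := QuotientGroup.mk' (L 1) with hπ
    letI : CommGroup (M ⧸ L 1) := { (inferInstance : Group (M ⧸ L 1)) with mul_comm := hcq0 }
    have hLle : L 1 ≤ (L 1).comap σ := by
      intro x hx
      show σ x ∈ (⊤ : Subgroup M).lowerCentralSeries 1
      exact Subgroup.lowerCentralSeries_mono 1 le_top (Subgroup.lowerCentralSeries.map σ 1 ⟨x, hx, rfl⟩)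
    let σq : M ⧸ L 1 →* M ⧸ L 1 := QuotientGroup.map (L 1) (L 1) σ hLle
    have hσq : ∀ (i : ℕ) (m : M), σq^[i] (π m) = π (σ^[i] m) := by
      intro i m
      induction i with
      | zero => rfl
      | succ i ih => rw [Function.iterate_succ_apply', ih, Function.iterate_succ_apply']; rfl
    have hprod : ∀ (n : ℕ) (m : M), ((m : ((ZMod p)ˣ → G)) * S) ^ n =
        ((((List.range n).map fun i => σ^[i] m).prod : M) : ((ZMod p)ˣ → G)) * S ^ n := by
      intro n m
      induction n with
      | zero => simp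
      | succ n ih =>
        have hσi : ((σ^[n] m : M) : ((ZMod p)ˣ → G)) = S ^ n * m * (S ^ n)⁻¹ := by
          clear ih
          induction n with
          | zero => simp
          | succ n ih =>
            rw [Function.iterate_succ_apply']
            show S * ((σ^[n] m : M) : ((ZMod p)ˣ → G)) * S⁻¹ = _
            rw [ih, pow_succ']; group
        rw [pow_succ, ih, List.range_succ, List.map_append, List.prod_append, List.map_singleton,
          List.prod_singleton, Subgroup.coe_mul, hσi, pow_succ]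
        group
    have hq : ∀ q : M ⧸ L 1, ∏ i ∈ Finset.range p, σq^[i] q = 1 := by
      intro q
      obtain ⟨m, rfl⟩ := QuotientGroup.mk'_surjective _ q
      have h1 : ((List.range p).map fun i => σ^[i] m).prod = 1 := by
        have h := hprod p m
        rw [hWexp, hWexp, mul_one] at h
        exact Subtype.ext h.symm
      have h2 := congrArg π h1
      rw [map_list_prod, List.map_map, map_one] at h2
      rw [← h2, ← List.toFinset_range, List.prod_toFinset _ List.nodup_range]
      congr 1
      exact List.map_congr_left fun i _ => hσq i m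
    have hexpq : ∀ q : M ⧸ L 1, q ^ p = 1 := by
      intro q
      obtain ⟨m, rfl⟩ := QuotientGroup.mk'_surjective _ q
      rw [← map_pow, show m ^ p = 1 from Subtype.ext (hWexp m), map_one]
    have h := iter_sub_eq_zero (A := Additive (M ⧸ L 1)) hp2
      (fun x => Additive.toMul.injective (by rw [toMul_nsmul, toMul_zero]; exact hexpq _))
      (MonoidHom.toAdditive σq) ?_ (Additive.ofMul (π Ym))
    · have hsemi : ∀ j, (fun x => x - MonoidHom.toAdditive σq x)^[j] (Additive.ofMul (π Ym)) =
          Additive.ofMul (π (δ^[j] Ym)) := by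
        intro j
        induction j with
        | zero => rfl
        | succ j ih =>
          rw [Function.iterate_succ_apply', ih, Function.iterate_succ_apply']
          show _ = Additive.ofMul (π (_ * (σ _)⁻¹))
          rw [map_mul, map_inv, ofMul_mul, ofMul_inv, ← sub_eq_add_neg]
          rfl
      rw [hsemi] at h
      exact (QuotientGroup.eq_one_iff _).mp (congrArg Additive.toMul h)
    · intro x
      have hit : ∀ (i : ℕ) (y : M ⧸ L 1), (MonoidHom.toAdditive σq)^[i] (Additive.ofMul y) =
          Additive.ofMul (σq^[i] y) := by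
        intro i y
        induction i with
        | zero => rfl
        | succ i ih => rw [Function.iterate_succ_apply', ih, Function.iterate_succ_apply']; rfl
      obtain ⟨y, rfl⟩ : ∃ y, Additive.ofMul y = x := ⟨Additive.toMul x, rfl⟩
      rw [Finset.sum_congr rfl fun i _ => hit i y, ← ofMul_prod, hq, ofMul_one]
  -- the scaling of `v`
  have hvτ : ∀ a : (ZMod p)ˣ, τ a v = v ^ (a : ZMod p).val := by
    intro a
    refine Subtype.ext ?_
    rw [SubgroupClass.coe_pow]
    show (fun u => (v : ((ZMod p)ˣ → G)) (a * u)) = _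
    rw [hv, hδi]
    funext u
    have key : ∀ m : ℕ, (fun z => ⁅z, s⁆)^[p - 1] (y ^ m) = (fun z => ⁅z, s⁆)^[p - 1] y ^ m := by
      intro m
      have h := (iter_pow y s m (p - 1)).2
      rw [show p - 1 + 1 = p by omega, hcl, mem_bot, inv_mul_eq_one] at h
      exact h.symm
    show (fun z => ⁅z, s⁆)^[p - 1] (y ^ ((a * u : (ZMod p)ˣ) : ZMod p).val) =
      ((fun z => ⁅z, s⁆)^[p - 1] (y ^ (u : ZMod p).val)) ^ (a : ZMod p).val
    rw [key, key, ← pow_mul]
    exact pow_congr hexp _ (by simp [mul_comm])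
  -- `v` descends through the series
  have hdesc : ∀ k : ℕ, 1 ≤ k → k ≤ p - 1 → v ∈ L k := by
    intro k hk1 hk
    induction k, hk1 using Nat.le_induction with
    | base => exact hv1
    | succ k hk1 ih =>
      have hvk := ih (by omega)
      obtain ⟨a, ha⟩ : ∃ a : (ZMod p)ˣ, ((a : ZMod p)) ^ (k + 1) ≠ (a : ZMod p) := by
        obtain ⟨g, hg⟩ := IsCyclic.exists_generator (α := (ZMod p)ˣ)
        refine ⟨g, fun h => ?_⟩
        have h1 : g ^ k = 1 := by
          refine Units.ext ?_
          rw [pow_succ] at h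
          rw [Units.val_pow_eq_pow_val, Units.val_one]
          exact mul_right_cancel₀ g.ne_zero (h.trans (one_mul _).symm)
        have h2 := orderOf_dvd_of_pow_eq_one h1
        rw [orderOf_eq_card_of_forall_mem_zpowers hg, Nat.card_eq_fintype_card, ZMod.card_units] at h2
        have := Nat.le_of_dvd hk1 h2
        omega
      have h := hE a k v hvk
      rw [hvτ] at h
      set c := ((a : ZMod p) - (a : ZMod p) ^ (k + 1)).val with hc
      have h' : v ^ c ∈ L (k + 1) := by
        have e : (v ^ ((a : ZMod p).val ^ (k + 1)))⁻¹ * v ^ (a : ZMod p).val = v ^ c := by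
          rw [inv_mul_eq_iff_eq_mul, ← pow_add]
          refine pow_congr (G := M) (fun g => Subtype.ext (hWexp g)) v ?_
          simp [hc]
        rwa [e] at h
      have hcne : ((c : ℕ) : ZMod p) ≠ 0 := by
        rw [hc, ZMod.natCast_zmod_val, sub_ne_zero]
        exact Ne.symm ha
      have hd : v = (v ^ c) ^ ((c : ZMod p))⁻¹.val := by
        rw [← pow_mul]
        refine (pow_one v).symm.trans (pow_congr (G := M) (fun g => Subtype.ext (hWexp g)) v ?_)
        simp [mul_inv_cancel₀ hcne]
      rw [hd]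
      exact pow_mem h' _
  -- the end of the series is trivial
  have hend : ∀ k : ℕ, 1 ≤ k → (L k).map M.subtype ≤ (⊤ : Subgroup ((ZMod p)ˣ → G)).lowerCentralSeries (k + 1) := by
    intro k hk
    induction k, hk using Nat.le_induction with
    | base =>
      set N := (⊤ : Subgroup ((ZMod p)ˣ → G)).lowerCentralSeries (1 + 1)
      set π := QuotientGroup.mk' N
      have hle : M ≤ (zpowers (π Y) ⊔ center (((ZMod p)ˣ → G) ⧸ N)).comap π := by
        refine (closure_le _).mpr ?_
        rintro _ ⟨i, rfl⟩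
        show π (S ^ i * Y * (S ^ i)⁻¹) ∈ zpowers (π Y) ⊔ center (((ZMod p)ˣ → G) ⧸ N)
        rw [show S ^ i * Y * (S ^ i)⁻¹ = ⁅S ^ i, Y⁆ * Y by simp [commutatorElement_def], map_mul]
        refine mul_mem (mem_sup_right ?_) (mem_sup_left (mem_zpowers _))
        rw [mem_center_iff]
        intro q
        obtain ⟨g, rfl⟩ := QuotientGroup.mk'_surjective _ q
        refine (commutatorElement_eq_one_iff_mul_comm.mp ?_).symm
        rw [← map_commutatorElement]
        refine (QuotientGroup.eq_one_iff _).mpr ?_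
        show _ ∈ (⊤ : Subgroup ((ZMod p)ˣ → G)).lowerCentralSeries (1 + 1)
        rw [Subgroup.lowerCentralSeries_succ, Subgroup.lowerCentralSeries_succ, Subgroup.lowerCentralSeries_zero]
        exact commutator_mem_commutator (commutator_mem_commutator (mem_top _) (mem_top _)) (mem_top g)
      have hcomm : ∀ p' q : M, π (p' : ((ZMod p)ˣ → G)) * π (q : ((ZMod p)ˣ → G)) = π (q : ((ZMod p)ˣ → G)) * π (p' : ((ZMod p)ˣ → G)) := by
        have hab : ∀ c ∈ zpowers (π Y) ⊔ center (((ZMod p)ˣ → G) ⧸ N), ∀ d ∈ zpowers (π Y) ⊔ center (((ZMod p)ˣ → G) ⧸ N),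
            c * d = d * c := by
          intro c hc d hd
          rw [mem_sup_of_normal_right] at hc hd
          obtain ⟨c1, ⟨i, rfl⟩, c2, hc2, rfl⟩ := hc
          obtain ⟨d1, ⟨j, rfl⟩, d2, hd2, rfl⟩ := hd
          have hz := fun (z) (hz : z ∈ center (((ZMod p)ˣ → G) ⧸ N)) (w) =>
            (show Commute w z from mem_center_iff.mp hz w)
          exact ((((Commute.refl (π Y)).zpow_zpow i j).mul_right (hz d2 hd2 _)).mul_left
            (((hz c2 hc2 _).symm))).eq
        exact fun p' q => hab _ (hle p'.2) _ (hle q.2)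
      rw [map_le_iff_le_comap]
      show (⊤ : Subgroup M).lowerCentralSeries (0 + 1) ≤ _
      rw [Subgroup.lowerCentralSeries_succ, Subgroup.lowerCentralSeries_zero, commutator_le]
      intro g _ h _
      show ((⁅g, h⁆ : M) : ((ZMod p)ˣ → G)) ∈ N
      rw [← QuotientGroup.eq_one_iff]
      show π (M.subtype ⁅g, h⁆) = 1
      rw [map_commutatorElement, map_commutatorElement, commutatorElement_eq_one_iff_mul_comm]
      exact hcomm g h
    | succ k hk ih =>
      show ((⊤ : Subgroup M).lowerCentralSeries (k + 1)).map M.subtype ≤ _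
      rw [Subgroup.lowerCentralSeries_succ, map_commutator, Subgroup.lowerCentralSeries_succ (n := k + 1)]
      exact commutator_mono ih le_top
  have hW : (⊤ : Subgroup ((ZMod p)ˣ → G)).lowerCentralSeries p = ⊥ := by
    rw [eq_bot_iff]
    intro w hw
    rw [mem_bot]
    funext u
    have h2 := Subgroup.lowerCentralSeries_mono p le_top
      (Subgroup.lowerCentralSeries.map (Pi.evalMonoidHom (fun _ : (ZMod p)ˣ => G) u) p ⟨w, hw, rfl⟩)
    simp only [hcl] at h2
    exact mem_bot.mp h2
  have hfin : (v : ((ZMod p)ˣ → G)) = 1 := by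
    have h2 := hend (p - 1) (by omega) ⟨v, hdesc (p - 1) (by omega) le_rfl, rfl⟩
    rw [show p - 1 + 1 = p by omega, hW, mem_bot] at h2
    exact h2
  have h1 := congrFun hfin 1
  rw [hv, hδi] at h1
  have h2 : y ^ ((1 : (ZMod p)ˣ) : ZMod p).val = y := by rw [Units.val_one, ZMod.val_one, pow_one]
  simp only [h2, Pi.one_apply] at h1
  exact h1

end Engel

end Cfsg.Lib.PGroup.Engel
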