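import Cfsg.Agent.Lib.PGroup.ExponentEngel
import Cfsg.Agent.Lib.PGroup.Regular
import Cfsg.Agent.Lib.PGroup.Basic
import Cfsg.Agent.Lib.PGroup.AbelianIndexP
import Cfsg.Agent.Lib.Fusion.Alperin
import Cfsg.Agent.Lib.Core.Basic

/-!
# `p`-groups of maximal class

The uniserial structure, and Blackburn's bound `|H : ℧₁(H)| ≤ p^p` for every subgroup `H` of a
`p`-group of maximal class.
-/

set_option autoImplicit false

namespace Cfsg.Lib.PGroup.MaxClass

open Subgroup
open scoped commutatorElement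

universe u

variable {p : ℕ} [hp : Fact p.Prime] {X : Type u} [Group X]

local notation:max "γ[" k "]" => (Subgroup.lowerCentralSeries (⊤ : Subgroup _) k)

theorem mem_center_mod {k : ℕ} {z : X} (hz : z ∈ γ[k]) :
    QuotientGroup.mk' (γ[k + 1] : Subgroup X) z ∈ center (X ⧸ (γ[k + 1] : Subgroup X)) := by
  rw [mem_center_iff]
  intro q
  obtain ⟨g, rfl⟩ := QuotientGroup.mk'_surjective _ q
  refine (commutatorElement_eq_one_iff_mul_comm.mp ?_).symm
  rw [← map_commutatorElement]
  refine (QuotientGroup.eq_one_iff _).mpr ?_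
  rw [Subgroup.lowerCentralSeries_succ]
  exact commutator_mem_commutator hz (mem_top g)

theorem mem_gamma_succ {k : ℕ} {z : X} (hz : z ∈ γ[k]) (g : X) : ⁅z, g⁆ ∈ γ[k + 1] := by
  rw [Subgroup.lowerCentralSeries_succ]
  exact commutator_mem_commutator hz (mem_top g)

/-- An elementwise criterion for `⁅A, B⁆ ≤ T`, `T` normal. -/
theorem commutator_sup_le {A₁ A₂ B T : Subgroup X} [T.Normal] (h₁ : ⁅A₁, B⁆ ≤ T) (h₂ : ⁅A₂, B⁆ ≤ T) :
    ⁅A₁ ⊔ A₂, B⁆ ≤ T := by
  set π := QuotientGroup.mk' T
  have key : ∀ A : Subgroup X, ⁅A, B⁆ ≤ T ↔ A ≤ (centralizer (B.map π : Set (X ⧸ T))).comap π := by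
    intro A
    constructor
    · intro h a ha
      rw [mem_comap, mem_centralizer_iff]
      rintro _ ⟨b, hb, rfl⟩
      refine (commutatorElement_eq_one_iff_mul_comm.mp ?_).symm
      rw [← map_commutatorElement]
      exact (QuotientGroup.eq_one_iff _).mpr (h (commutator_mem_commutator ha hb))
    · intro h
      rw [commutator_le]
      intro a ha b hb
      rw [← QuotientGroup.eq_one_iff, ← QuotientGroup.mk'_apply, map_commutatorElement,
        commutatorElement_eq_one_iff_mul_comm]
      exact (mem_centralizer_iff.mp (h ha) _ ⟨b, hb, rfl⟩).symm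
  rw [key] at h₁ h₂ ⊢
  exact sup_le h₁ h₂

variable (p X) in
/-- `X` has order `p ^ n` and maximal class `n - 1`, `n ≥ 3`. -/
structure IsMax (n : ℕ) : Prop where
  card : Nat.card X = p ^ n
  three : 3 ≤ n
  top : (γ[n - 1] : Subgroup X) = ⊥
  below : (γ[n - 2] : Subgroup X) ≠ ⊥

theorem isMax_of_class [Finite X] {n : ℕ} (hn : 3 ≤ n) (hX : Nat.card X = p ^ n)
    (hc : Group.nilpotencyClass X = n - 1) : IsMax p X n := by
  haveI := (IsPGroup.of_card (p := p) hX).isNilpotent
  refine ⟨hX, hn, Subgroup.lowerCentralSeries_eq_bot_iff_nilpotencyClass_le.2 hc.le, fun h => ?_⟩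
  have := Subgroup.lowerCentralSeries_eq_bot_iff_nilpotencyClass_le.1 h
  omega

variable [Finite X] {n : ℕ} (h : IsMax p X n)

include h

theorem isPGroup : IsPGroup p X := IsPGroup.of_card h.card

theorem noncyclic : ¬ IsCyclic X := by
  intro hc
  haveI := hc
  refine h.below (le_bot_iff.1 ?_)
  have h1 : (γ[1] : Subgroup X) = ⊥ := by
    rw [eq_bot_iff, show (1 : ℕ) = 0 + 1 from rfl, Subgroup.lowerCentralSeries_succ, commutator_le]
    intro a _ b _
    rw [mem_bot, commutatorElement_eq_one_iff_mul_comm]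
    exact IsCyclic.commGroup.mul_comm a b
  exact (Subgroup.lowerCentralSeries_antitone _ (show 1 ≤ n - 2 by have := h.three; omega)).trans h1.le

theorem index_frattini : p ^ 2 ≤ (frattini X).index := by
  have hX := isPGroup h
  obtain ⟨i, hi⟩ := hX.index (frattini X)
  rw [hi]
  refine Nat.pow_le_pow_right hp.out.pos ?_
  by_contra hlt
  apply noncyclic h
  obtain ⟨g, hg⟩ : ∃ g : X, zpowers g ⊔ frattini X = ⊤ := by
    rcases (show i = 0 ∨ i = 1 by omega) with rfl | rfl
    · exact ⟨1, by rw [index_eq_one.1 (hi.trans (pow_zero p)), sup_top_eq]⟩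
    · rw [pow_one] at hi
      obtain ⟨g, hg⟩ : ∃ g : X, g ∉ frattini X := by
        by_contra hall
        push Not at hall
        rw [show frattini X = ⊤ from eq_top_iff.2 fun x _ => hall x, index_top] at hi
        exact hp.out.ne_one hi.symm
      exact ⟨g, by rw [sup_comm]; exact Cfsg.Lib.PGroup.sup_zpowers_eq_top_of_index (p := p) hi hg⟩
  exact (isCyclic_iff_exists_zpowers_eq_top).2 ⟨g, frattini_nongenerating hg⟩

theorem card_gamma : ∀ k, 1 ≤ k → k ≤ n - 1 → Nat.card (γ[k] : Subgroup X) = p ^ (n - 1 - k) := by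
  have hX := isPGroup h
  have hn := h.three
  haveI := hX.isNilpotent
  have hstrict : ∀ k, k ≤ n - 2 → Nat.card (γ[k + 1] : Subgroup X) < Nat.card (γ[k] : Subgroup X) := by
    intro k hk
    have hne : (γ[k] : Subgroup X) ≠ ⊥ := fun hb =>
      h.below (le_bot_iff.1 ((Subgroup.lowerCentralSeries_antitone _ hk).trans hb.le))
    refine Cfsg.Lib.Fusion.card_lt_card_of_lt ?_
    rw [Subgroup.lowerCentralSeries_succ]
    exact Cfsg.Lib.PGroup.commutator_lt_of_isPGroup (hX.to_subgroup _) (hX.to_subgroup ⊤)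
      (by rw [normalizer_eq_top_iff.2 inferInstance]) hne
  have hexpo : ∀ k, ∃ i, Nat.card (γ[k] : Subgroup X) = p ^ i := fun k =>
    IsPGroup.iff_card.1 (hX.to_subgroup _)
  choose e he using hexpo
  have hdec : ∀ k, k ≤ n - 2 → e (k + 1) < e k := fun k hk => by
    have := hstrict k hk
    rw [he, he] at this
    exact (Nat.pow_lt_pow_iff_right hp.out.one_lt).1 this
  have h1 : e 1 ≤ n - 2 := by
    have hle : (γ[1] : Subgroup X) ≤ frattini X := by
      rw [Subgroup.top_lowerCentralSeries_one]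
      exact Cfsg.Lib.PGroup.commutator_le_frattini hX
    have h3 : p ^ e 1 * p ^ 2 ≤ p ^ n := by
      rw [← he 1, ← h.card, ← (γ[1] : Subgroup X).card_mul_index]
      exact Nat.mul_le_mul le_rfl ((index_frattini h).trans
        (Nat.le_of_dvd (Nat.pos_of_ne_zero index_ne_zero_of_finite) (index_dvd_of_le hle)))
    rw [← pow_add] at h3
    have := (Nat.pow_le_pow_iff_right hp.out.one_lt).1 h3
    omega
  have hup : ∀ j, j + 1 ≤ n - 1 → e (j + 1) ≤ n - 2 - j := by
    intro j
    induction j with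
    | zero => intro _; simpa using h1
    | succ j ih =>
      intro hj
      have := ih (by omega)
      have := hdec (j + 1) (by omega)
      omega
  have hlow : ∀ j, j ≤ n - 2 → j ≤ e (n - 1 - j) := by
    intro j
    induction j with
    | zero => intro _; exact Nat.zero_le _
    | succ j ih =>
      intro hj
      have h2 := ih (by omega)
      have h3 := hdec (n - 1 - (j + 1)) (by omega)
      rw [show n - 1 - (j + 1) + 1 = n - 1 - j by omega] at h3
      omega
  intro k hk1 hk
  rw [he]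
  congr 1
  have h2 := hup (k - 1) (by omega)
  rw [show k - 1 + 1 = k by omega] at h2
  have h3 := hlow (n - 1 - k) (by omega)
  rw [show n - 1 - (n - 1 - k) = k by omega] at h3
  omega

theorem gamma_eq_bot {k : ℕ} (hk : n - 1 ≤ k) : (γ[k] : Subgroup X) = ⊥ :=
  le_bot_iff.1 ((Subgroup.lowerCentralSeries_antitone _ hk).trans h.top.le)

theorem frattini_eq : frattini X = γ[1] := by
  have hn := h.three
  have hX := isPGroup h
  have hle : (γ[1] : Subgroup X) ≤ frattini X := by
    rw [Subgroup.top_lowerCentralSeries_one]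
    exact Cfsg.Lib.PGroup.commutator_le_frattini hX
  refine (eq_of_le_of_card_ge hle ?_).symm
  rw [card_gamma h 1 le_rfl (by omega)]
  refine Nat.le_of_mul_le_mul_right ?_ (pow_pos hp.out.pos 2)
  refine (Nat.mul_le_mul le_rfl (index_frattini h)).trans ?_
  rw [card_mul_index, h.card, ← pow_add]
  exact Nat.pow_le_pow_right hp.out.pos (by omega)

/-- Between consecutive terms of the series there is nothing. -/
theorem eq_gamma_of_between {k : ℕ} (hk : 1 ≤ k) {K : Subgroup X} (h1 : (γ[k + 1] : Subgroup X) ≤ K)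
    (h2 : K ≤ γ[k]) (h3 : ¬ K ≤ γ[k + 1]) : K = γ[k] := by
  rcases Nat.lt_or_ge (n - 1) (k + 1) with hbig | hsmall
  · refine absurd ?_ h3
    have := gamma_eq_bot h (k := k) (by omega)
    exact h2.trans (this.le.trans bot_le)
  refine eq_of_le_of_card_ge h2 ?_
  obtain ⟨i, hi⟩ := IsPGroup.iff_card.1 ((isPGroup h).to_subgroup K)
  have hlt := Cfsg.Lib.Fusion.card_lt_card_of_lt (lt_of_le_not_ge h1 h3)
  rw [card_gamma h (k + 1) (by omega) (by omega), hi] at hlt
  rw [card_gamma h k hk (by omega), hi]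
  have := (Nat.pow_lt_pow_iff_right hp.out.one_lt).1 hlt
  exact Nat.pow_le_pow_right hp.out.pos (by omega)

theorem sup_zpowers {k : ℕ} (hk : 1 ≤ k) {a : X} (ha : a ∈ γ[k]) (ha' : a ∉ γ[k + 1]) :
    zpowers a ⊔ γ[k + 1] = γ[k] :=
  eq_gamma_of_between h hk le_sup_right
    (sup_le (zpowers_le.2 ha) (Subgroup.lowerCentralSeries_antitone _ (by omega)))
    fun hle => ha' (hle (mem_sup_left (mem_zpowers a)))

/-- A normal subgroup inside `γ_k` and not inside `γ_{k+1}` is `γ_k`. -/
theorem eq_gamma_of_normal {k : ℕ} (hk : 1 ≤ k) {N : Subgroup X} [N.Normal] (h1 : N ≤ γ[k])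
    (h2 : ¬ N ≤ γ[k + 1]) : N = γ[k] := by
  have hk0 : N ⊔ γ[k + 1] = γ[k] := eq_gamma_of_between h hk le_sup_right
    (sup_le h1 (Subgroup.lowerCentralSeries_antitone _ (by omega))) fun hle => h2 (le_sup_left.trans hle)
  have key : ∀ j, (γ[k] : Subgroup X) ≤ N ⊔ γ[k + 1 + j] := by
    intro j
    induction j with
    | zero => exact hk0.ge
    | succ j ih =>
      haveI : (N ⊔ γ[k + 1 + (j + 1)] : Subgroup X).Normal := inferInstance
      have h3 : ⁅N ⊔ γ[k + 1 + j], (⊤ : Subgroup X)⁆ ≤ N ⊔ γ[k + 1 + (j + 1)] := by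
        refine commutator_sup_le (le_trans ?_ le_sup_left) (le_trans ?_ le_sup_right)
        · exact commutator_le_left N ⊤
        · rw [show k + 1 + (j + 1) = (k + 1 + j) + 1 by omega,
            Subgroup.lowerCentralSeries_succ _ (k + 1 + j)]
      have h4 : (γ[k + 1] : Subgroup X) ≤ N ⊔ γ[k + 1 + (j + 1)] := by
        rw [Subgroup.lowerCentralSeries_succ]
        exact (commutator_mono ih le_rfl).trans h3
      exact hk0.ge.trans (sup_le le_sup_left h4)
  refine le_antisymm h1 ((key (n - 1)).trans ?_)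
  rw [gamma_eq_bot h (by omega), sup_bot_eq]

theorem exists_level {x : X} (hx : x ∈ γ[1]) {m : ℕ} (hm : x ∉ γ[m]) :
    ∃ k, 1 ≤ k ∧ k < m ∧ x ∈ γ[k] ∧ x ∉ γ[k + 1] := by
  induction m with
  | zero => exact absurd (by rw [Subgroup.lowerCentralSeries_zero]; exact mem_top x) hm
  | succ m ih =>
    by_cases hxm : x ∈ γ[m]
    · rcases Nat.eq_zero_or_pos m with rfl | hpos
      · exact absurd hx hm
      · exact ⟨m, hpos, Nat.lt_succ_self m, hxm, hm⟩
    · obtain ⟨k, hk1, hkm, hxk, hxk'⟩ := ih hxm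
      exact ⟨k, hk1, by omega, hxk, hxk'⟩

/-- If `a` has level `k` then commuting with `a` modulo `γ_{k+2}` means commuting with `γ_k`. -/
theorem comm_level {k : ℕ} (hk : 1 ≤ k) {a g : X} (ha : a ∈ γ[k]) (ha' : a ∉ γ[k + 1])
    (hg : ⁅a, g⁆ ∈ γ[k + 2]) : ∀ b : X, b ∈ γ[k] → ⁅b, g⁆ ∈ γ[k + 2] := by
  intro b hb
  rw [← sup_zpowers h hk ha ha'] at hb
  refine (commutator_sup_le (B := zpowers g) ?_ ?_) (commutator_mem_commutator hb (mem_zpowers g))
  · rw [commutator_le]
    rintro _ ⟨i, rfl⟩ _ ⟨j, rfl⟩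
    rw [← QuotientGroup.eq_one_iff, ← QuotientGroup.mk'_apply, map_commutatorElement,
      commutatorElement_eq_one_iff_mul_comm]
    set π := QuotientGroup.mk' (γ[k + 2] : Subgroup X)
    have hc : Commute (π a) (π g) := commutatorElement_eq_one_iff_mul_comm.mp (by
      rw [← map_commutatorElement]; exact (QuotientGroup.eq_one_iff _).mpr hg)
    simp only [map_zpow]
    exact (hc.zpow_zpow i j).eq
  · refine (commutator_mono le_rfl le_top).trans ?_
    rw [show k + 2 = k + 1 + 1 from rfl, Subgroup.lowerCentralSeries_succ _ (k + 1)]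

theorem exists_comm_ne {k : ℕ} (hk : 1 ≤ k) (hk' : k + 3 ≤ n) {a : X} (ha : a ∈ γ[k]) (ha' : a ∉ γ[k + 1]) :
    ∃ g : X, ⁅a, g⁆ ∉ γ[k + 2] := by
  by_contra hall
  push Not at hall
  have h1 : (γ[k + 1] : Subgroup X) ≤ γ[k + 2] := by
    rw [Subgroup.lowerCentralSeries_succ _ k, commutator_le]
    exact fun b hb g _ => comm_level h hk ha ha' (hall g) b hb
  have h2 := card_le_of_le h1
  rw [card_gamma h (k + 1) (by omega) (by omega), card_gamma h (k + 2) (by omega) (by omega)] at h2
  have := (Nat.pow_le_pow_iff_right hp.out.one_lt).1 h2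
  omega

theorem mem_last_of_central {x : X} (hx : x ∈ γ[1]) (hc : x ∈ center X) : x ∈ γ[n - 2] := by
  by_contra hne
  obtain ⟨k, hk1, hkn, hxk, hxk'⟩ := exists_level h hx hne
  obtain ⟨g, hg⟩ := exists_comm_ne h hk1 (by omega) hxk hxk'
  refine hg ?_
  rw [commutatorElement_eq_one_iff_mul_comm.2 (mem_center_iff.1 hc g).symm]
  exact one_mem _

theorem pow_mem_gamma_succ {k : ℕ} {x : X} (hx : x ∈ γ[k]) : x ^ p ∈ γ[k + 1] := by
  rcases Nat.eq_zero_or_pos k with rfl | hk
  · rw [← frattini_eq h]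
    exact Cfsg.Lib.PGroup.pow_mem_frattini (isPGroup h) x
  rcases Nat.lt_or_ge (n - 1) (k + 1) with hbig | hsmall
  · have h1 := hx
    rw [gamma_eq_bot h (by omega), mem_bot] at h1
    rw [h1, one_pow]
    exact one_mem _
  haveI : ((γ[k + 1] : Subgroup X).subgroupOf γ[k]).Normal := inferInstance
  have hle : (γ[k + 1] : Subgroup X) ≤ γ[k] := Subgroup.lowerCentralSeries_antitone _ (by omega)
  have hidx : ((γ[k + 1] : Subgroup X).subgroupOf γ[k]).index = p := by
    have h1 := Cfsg.Lib.Core.card_mul_relIndex hle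
    rw [card_gamma h (k + 1) (by omega) (by omega), card_gamma h k hk (by omega),
      show n - 1 - k = (n - 1 - (k + 1)) + 1 by omega, pow_succ] at h1
    exact Nat.eq_of_mul_eq_mul_left (pow_pos hp.out.pos _) h1
  have h2 := pow_index_mem ((γ[k + 1] : Subgroup X).subgroupOf γ[k]) ⟨x, hx⟩
  rw [hidx] at h2
  exact h2

/-- Quotients by the terms of the series again have maximal class. -/
theorem isMax_quotient {m : ℕ} (hm : 2 ≤ m) (hm' : m ≤ n - 1) :
    IsMax p (X ⧸ (γ[m] : Subgroup X)) (m + 1) := by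
  set π := QuotientGroup.mk' (γ[m] : Subgroup X)
  have hmap : ∀ k, (γ[k] : Subgroup (X ⧸ (γ[m] : Subgroup X))) = (γ[k] : Subgroup X).map π := by
    intro k
    rw [Subgroup.map_lowerCentralSeries, map_top_of_surjective _ (QuotientGroup.mk'_surjective _)]
  refine ⟨?_, by omega, ?_, ?_⟩
  · refine Nat.eq_of_mul_eq_mul_right (Nat.card_pos (α := (γ[m] : Subgroup X))) ?_
    rw [← card_eq_card_quotient_mul_card_subgroup, h.card, card_gamma h m (by omega) hm', ← pow_add]
    congr 1
    omega
  · rw [hmap, Subgroup.map_eq_bot_iff, QuotientGroup.ker_mk', show m + 1 - 1 = m by omega]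
  · rw [hmap, Ne, Subgroup.map_eq_bot_iff, QuotientGroup.ker_mk']
    intro hle
    have h2 := card_le_of_le hle
    rw [card_gamma h _ (by omega) (by omega), card_gamma h m (by omega) hm'] at h2
    have := (Nat.pow_le_pow_iff_right hp.out.one_lt).1 h2
    omega

theorem mk_mem_gamma {m k : ℕ} (hkm : k ≤ m) {x : X} :
    QuotientGroup.mk' (γ[m] : Subgroup X) x ∈ (γ[k] : Subgroup (X ⧸ (γ[m] : Subgroup X))) ↔ x ∈ γ[k] := by
  have hmap : (γ[k] : Subgroup (X ⧸ (γ[m] : Subgroup X))) =
      (γ[k] : Subgroup X).map (QuotientGroup.mk' (γ[m] : Subgroup X)) := by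
    rw [Subgroup.map_lowerCentralSeries, map_top_of_surjective _ (QuotientGroup.mk'_surjective _)]
  rw [hmap, ← mem_comap, comap_map_eq, QuotientGroup.ker_mk',
    sup_eq_left.2 (Subgroup.lowerCentralSeries_antitone _ hkm)]

omit h in
theorem exists_not_mem_biUnion {ι : Type*} (s : Finset ι) (K : ι → Subgroup X) (hs : s.card < p)
    {N : ℕ} (hX : Nat.card X = p ^ (N + 1)) (hK : ∀ i ∈ s, Nat.card (K i) ≤ p ^ N) :
    ∃ x : X, ∀ i ∈ s, x ∉ K i := by
  classical
  haveI := Fintype.ofFinite X
  by_contra hall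
  push Not at hall
  have h1 : (Finset.univ : Finset X) ⊆ s.biUnion fun i => Finset.univ.filter (· ∈ K i) := fun x _ => by
    obtain ⟨i, hi, hxi⟩ := hall x
    exact Finset.mem_biUnion.2 ⟨i, hi, Finset.mem_filter.2 ⟨Finset.mem_univ _, hxi⟩⟩
  have h2 := (Finset.card_le_card h1).trans (Finset.card_biUnion_le_card_mul _ _ (p ^ N) fun i hi => by
    refine le_trans (le_of_eq ?_) (hK i hi)
    rw [Nat.card_eq_fintype_card, Fintype.card_subtype])
  rw [Finset.card_univ, ← Nat.card_eq_fintype_card, hX, pow_succ'] at h2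
  have := Nat.le_of_mul_le_mul_right h2 (pow_pos hp.out.pos N)
  omega

/-- A group of maximal class of order `p^(p+1)` does not have exponent `p`. -/
theorem exists_pow_ne_one_base (hp2 : p ≠ 2) (hn : n = p + 1) : ∃ x : X, x ^ p ≠ 1 := by
  classical
  by_contra hexp
  push Not at hexp
  have hp3 : 3 ≤ p := by have := hp.out.two_le; omega
  have hlev : ∀ k, 1 ≤ k → k + 3 ≤ n → ∃ a : X, a ∈ γ[k] ∧ a ∉ γ[k + 1] := by
    intro k hk hk'
    by_contra hall
    push Not at hall
    have h2 := card_le_of_le (show (γ[k] : Subgroup X) ≤ γ[k + 1] from hall)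
    rw [card_gamma h k hk (by omega), card_gamma h (k + 1) (by omega) (by omega)] at h2
    have := (Nat.pow_le_pow_iff_right hp.out.one_lt).1 h2
    omega
  choose a ha ha' using hlev
  let C : ℕ → Subgroup X := fun k => if hk : 1 ≤ k ∧ k + 3 ≤ n then
      (centralizer {QuotientGroup.mk' (γ[k + 2] : Subgroup X) (a k hk.1 hk.2)}).comap
        (QuotientGroup.mk' (γ[k + 2] : Subgroup X)) else γ[1]
  have hCmem : ∀ k (hk : 1 ≤ k) (hk' : k + 3 ≤ n) g, g ∈ C k ↔ ⁅a k hk hk', g⁆ ∈ γ[k + 2] := by
    intro k hk hk' g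
    simp only [C, dif_pos (And.intro hk hk'), mem_comap, mem_centralizer_singleton_iff]
    rw [← QuotientGroup.eq_one_iff, ← QuotientGroup.mk'_apply, map_commutatorElement,
      commutatorElement_eq_one_iff_mul_comm]
    exact eq_comm
  obtain ⟨s, hs⟩ : ∃ s : X, ∀ k ∈ Finset.range (p - 1), s ∉ C k := by
    refine exists_not_mem_biUnion (p := p) _ C (by rw [Finset.card_range]; omega) (N := p)
      (by rw [h.card, hn]) fun k hk => ?_
    rw [Finset.mem_range] at hk
    obtain ⟨i, hi, hic⟩ := (Nat.dvd_prime_pow hp.out).1 (hn ▸ h.card ▸ (C k).card_subgroup_dvd_card)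
    rw [hic]
    refine Nat.pow_le_pow_right hp.out.pos (Nat.lt_succ_iff.1 (lt_of_le_of_ne hi fun heq => ?_))
    have htop : C k = ⊤ := eq_top_of_card_eq _ (by rw [hic, h.card, hn, heq])
    by_cases hk1 : 1 ≤ k
    · obtain ⟨g, hg⟩ := exists_comm_ne h hk1 (by omega) (ha k hk1 (by omega)) (ha' k hk1 (by omega))
      exact hg ((hCmem k hk1 (by omega) g).1 (htop ▸ mem_top g))
    · simp only [C, dif_neg (fun h' : 1 ≤ k ∧ k + 3 ≤ n => hk1 h'.1)] at htop
      have h1 := congrArg (fun H : Subgroup X => Nat.card H) htop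
      rw [card_gamma h 1 le_rfl (by omega), card_top, h.card] at h1
      have := Nat.pow_right_injective hp.out.two_le h1
      omega
  have hs0 : s ∉ (γ[1] : Subgroup X) := by
    have := hs 0 (Finset.mem_range.2 (by omega))
    simpa [C] using this
  obtain ⟨y, hy⟩ : ∃ y : X, y ∉ zpowers s ⊔ frattini X := by
    by_contra hall
    push Not at hall
    exact noncyclic h ((isCyclic_iff_exists_zpowers_eq_top).2
      ⟨s, frattini_nongenerating (eq_top_iff.2 fun x _ => hall x)⟩)
  have htop : closure ({y, s} : Set X) = ⊤ := by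
    refine frattini_nongenerating (eq_top_of_card_eq _ ?_)
    have hlt1 : frattini X < zpowers s ⊔ frattini X := lt_of_le_of_ne le_sup_right fun hh =>
      hs0 (by rw [← frattini_eq h, hh]; exact mem_sup_left (mem_zpowers s))
    have hlt2 : zpowers s ⊔ frattini X < closure ({y, s} : Set X) ⊔ frattini X := by
      refine lt_of_le_of_ne (sup_le_sup_right (zpowers_le.2 (subset_closure (by simp))) _) fun hh => hy ?_
      rw [hh]; exact mem_sup_left (subset_closure (by simp))
    have c0 := Cfsg.Lib.Fusion.card_lt_card_of_lt hlt1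
    have c1 := Cfsg.Lib.Fusion.card_lt_card_of_lt hlt2
    obtain ⟨i, -, hi⟩ := (Nat.dvd_prime_pow hp.out).1
      (h.card ▸ (zpowers s ⊔ frattini X).card_subgroup_dvd_card)
    obtain ⟨j, hjn, hj⟩ := (Nat.dvd_prime_pow hp.out).1
      (h.card ▸ (closure ({y, s} : Set X) ⊔ frattini X).card_subgroup_dvd_card)
    rw [frattini_eq h, card_gamma h 1 le_rfl (by omega)] at c0
    rw [frattini_eq h] at c1 hi hj ⊢
    rw [hi] at c0 c1
    rw [hj] at c1 ⊢
    have := (Nat.pow_lt_pow_iff_right hp.out.one_lt).1 c0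
    have := (Nat.pow_lt_pow_iff_right hp.out.one_lt).1 c1
    rw [h.card]
    congr 1
    omega
  have hlvl : ∀ j, 1 ≤ j → j ≤ p - 1 →
      (fun z => ⁅z, s⁆)^[j] y ∈ γ[j] ∧ (fun z => ⁅z, s⁆)^[j] y ∉ γ[j + 1] := by
    intro j hj
    induction j, hj using Nat.le_induction with
    | base =>
      intro _
      rw [Function.iterate_one]
      refine ⟨mem_gamma_succ (k := 0) (mem_top y) s, fun hc => ?_⟩
      have h1 := Cfsg.Lib.PGroup.Regular.commutator_le_of_pair htop hc
      rw [← Subgroup.top_lowerCentralSeries_one] at h1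
      have h2 := card_le_of_le h1
      rw [card_gamma h 1 le_rfl (by omega), card_gamma h (1 + 1) (by omega) (by omega)] at h2
      have := (Nat.pow_le_pow_iff_right hp.out.one_lt).1 h2
      omega
    | succ j hj ih =>
      intro hj'
      obtain ⟨i1, i2⟩ := ih (by omega)
      rw [Function.iterate_succ_apply']
      refine ⟨mem_gamma_succ i1 s, fun hc => ?_⟩
      refine hs j (Finset.mem_range.2 (by omega)) ((hCmem j hj (by omega) s).2 ?_)
      exact comm_level h hj i1 i2 hc _ (ha j hj (by omega))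
  have hE := Cfsg.Lib.PGroup.Engel.iter_eq_one hp2 hexp (by rw [← h.top, hn, Nat.add_sub_cancel]) y s
  exact (hlvl (p - 1) (by omega) le_rfl).2 (hE ▸ one_mem _)

omit h [Finite X] in
theorem commutator_lcs_mem {i j k : ℕ} (hij : k ≤ i + j + 1) :
    ⁅(γ[i] : Subgroup X), (γ[j] : Subgroup X)⁆ ≤ γ[k] :=
  (Cfsg.Lib.PGroup.Engel.commutator_lcs_le j i).trans (Subgroup.lowerCentralSeries_antitone _ hij)

omit h [Finite X] in
theorem lcs_le_of_le {W : Subgroup X} {k : ℕ} (hW : W ≤ γ[k]) :
    ∀ j, W.lowerCentralSeries j ≤ γ[(j + 1) * k + j] := by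
  intro j
  induction j with
  | zero => simpa using hW
  | succ j ih =>
    rw [Subgroup.lowerCentralSeries_succ]
    exact (commutator_mono ih hW).trans (commutator_lcs_mem (by ring_nf; omega))

omit [Finite X] in
theorem powLaw_gamma (hp2 : p ≠ 2) {k : ℕ} (hk : 1 ≤ k) (hkn : n ≤ k + p + 2) {W : Subgroup X}
    (hW : W ≤ γ[k]) : Cfsg.Lib.PGroup.Regular.PowLaw p W := by
  have hp3 : 3 ≤ p := by have := hp.out.two_le; omega
  have hn := h.three
  refine Cfsg.Lib.PGroup.Regular.powLaw_of_lcs ?_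
  rw [← Subgroup.map_eq_bot_iff_of_injective _ W.subtype_injective,
    Subgroup.top_subtype_lowerCentralSeries, ← le_bot_iff]
  refine (lcs_le_of_le hW (p - 1)).trans ?_
  have : n - 1 ≤ (p - 1 + 1) * k + (p - 1) := by
    rw [show p - 1 + 1 = p by omega]
    have h2 : p + 1 ≤ p * k + (p - 1) := by
      have := Nat.le_mul_of_pos_right p hk
      omega
    have h3 : k + p + 1 ≤ p * k + (p - 1) := by nlinarith [Nat.sub_add_cancel (show 1 ≤ p by omega)]
    omega
  exact (Subgroup.lowerCentralSeries_antitone _ this).trans h.top.le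

/-- `γ_{n-1-p}` does not have exponent `p`. -/
theorem exists_pow_ne_one (hp2 : p ≠ 2) (hn : p + 2 ≤ n) :
    ∃ x ∈ (γ[n - 1 - p] : Subgroup X), x ^ p ≠ 1 := by
  induction n using Nat.strong_induction_on generalizing X with
  | _ n ih =>
  have hp3 : 3 ≤ p := by have := hp.out.two_le; omega
  set k := n - 1 - p with hkdef
  have hk : 1 ≤ k := by omega
  by_contra hexp
  push Not at hexp
  have hq := isMax_quotient h (m := n - 2) (by omega) (by omega)
  rw [show n - 2 + 1 = n - 1 by omega] at hq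
  obtain ⟨y, hyk, hyp⟩ : ∃ y ∈ (γ[k - 1] : Subgroup X), y ^ p ∉ γ[n - 2] := by
    rcases Nat.eq_or_lt_of_le hk with hk1 | hk2
    · obtain ⟨yb, hyb⟩ := exists_pow_ne_one_base hq hp2 (by omega)
      obtain ⟨y, rfl⟩ := QuotientGroup.mk'_surjective _ yb
      refine ⟨y, by rw [← hk1, Nat.sub_self, Subgroup.lowerCentralSeries_zero]; exact mem_top y, fun hc => hyb ?_⟩
      rw [← map_pow]
      exact (QuotientGroup.eq_one_iff _).mpr hc
    · obtain ⟨yb, hybk, hyb⟩ := ih (n - 1) (by omega) hq (by omega)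
      obtain ⟨y, rfl⟩ := QuotientGroup.mk'_surjective _ yb
      refine ⟨y, ?_, fun hc => hyb ?_⟩
      · rw [show k - 1 = n - 1 - 1 - p by omega]
        exact (mk_mem_gamma h (by omega)).1 hybk
      · rw [← map_pow]
        exact (QuotientGroup.eq_one_iff _).mpr hc
  have hypk : y ^ p ∈ γ[k] := by
    have h1 := pow_mem_gamma_succ h hyk
    rwa [show k - 1 + 1 = k by omega] at h1
  set W := zpowers y ⊔ (γ[k] : Subgroup X) with hWdef
  have hWk : W ≤ γ[k - 1] :=
    sup_le (zpowers_le.2 hyk) (Subgroup.lowerCentralSeries_antitone _ (by omega))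
  have hWW : ⁅W, W⁆ ≤ γ[k] := (commutator_mono hWk hWk).trans (commutator_lcs_mem (by omega))
  have hPL : Cfsg.Lib.PGroup.Regular.PowLaw p W := by
    rcases Nat.eq_or_lt_of_le hk with hk1 | hk2
    · -- `W = ⟨y⟩γ₁`
      refine Cfsg.Lib.PGroup.Regular.powLaw_of_lcs ?_
      rw [← Subgroup.map_eq_bot_iff_of_injective _ W.subtype_injective,
        Subgroup.top_subtype_lowerCentralSeries, ← le_bot_iff]
      have hn2 : n = p + 2 := by omega
      obtain ⟨t, ht1, htn, htm, htm'⟩ :=
        exists_level h (pow_mem_gamma_succ h (k := 0) (mem_top y)) hyp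
      -- the jump
      have hjump : ⁅(γ[t] : Subgroup X), W⁆ ≤ γ[t + 2] := by
        rw [commutator_comm, hWdef]
        refine commutator_sup_le ?_ ?_
        · rw [commutator_le]
          intro w hw a ha
          obtain ⟨i, rfl⟩ := hw
          rw [← commutatorElement_inv]
          refine inv_mem (comm_level h ht1 htm htm' ?_ a ha)
          rw [commutatorElement_eq_one_iff_mul_comm.2
            (((Commute.refl y).pow_left p).zpow_right i).eq]
          exact one_mem _
        · exact commutator_lcs_mem (by omega)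
      have hsucc : ∀ j, 1 ≤ j → j + 1 ≤ t → W.lowerCentralSeries j ≤ γ[j + 1] := by
        intro j hj
        induction j, hj using Nat.le_induction with
        | base =>
          intro _
          show W.lowerCentralSeries (0 + 1) ≤ _
          rw [Subgroup.lowerCentralSeries_succ, Subgroup.lowerCentralSeries_zero, hWdef]
          refine commutator_sup_le ?_ ?_
          · rw [commutator_comm]
            refine commutator_sup_le ?_ ?_
            · rw [commutator_le]
              rintro _ ⟨i, rfl⟩ _ ⟨j, rfl⟩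
              rw [commutatorElement_eq_one_iff_mul_comm.2 ((Commute.refl y).zpow_zpow i j).eq]
              exact one_mem _
            · refine (commutator_mono le_rfl le_top).trans ?_
              rw [← Subgroup.lowerCentralSeries_succ _ k, ← hk1]
          · refine (commutator_mono le_rfl le_top).trans ?_
            rw [← Subgroup.lowerCentralSeries_succ _ k, ← hk1]
        | succ j hj ihj =>
          intro hjt
          rw [Subgroup.lowerCentralSeries_succ]
          refine (commutator_mono (ihj (by omega)) le_top).trans ?_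
          rw [← Subgroup.lowerCentralSeries_succ _ (j + 1)]
      have hlate : ∀ j, t ≤ j → W.lowerCentralSeries j ≤ γ[j + 2] := by
        intro j hj
        induction j, hj using Nat.le_induction with
        | base =>
          rcases Nat.eq_or_lt_of_le ht1 with ht | ht
          · rw [← ht] at hjump ⊢
            show W.lowerCentralSeries (0 + 1) ≤ _
            rw [Subgroup.lowerCentralSeries_succ, Subgroup.lowerCentralSeries_zero]
            conv_lhs => arg 1; rw [hWdef]
            refine commutator_sup_le ?_ ?_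
            · rw [hWdef, commutator_comm]
              refine commutator_sup_le ?_ ?_
              · rw [commutator_le]
                rintro _ ⟨i, rfl⟩ _ ⟨j, rfl⟩
                rw [commutatorElement_eq_one_iff_mul_comm.2 ((Commute.refl y).zpow_zpow i j).eq]
                exact one_mem _
              · rw [← hk1]
                exact (commutator_mono le_rfl (zpowers_le.2 (mem_sup_left (mem_zpowers y)))).trans hjump
            · rw [← hk1]; exact hjump
          · obtain ⟨t', rfl⟩ : ∃ t', t = t' + 1 := ⟨t - 1, by omega⟩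
            rw [Subgroup.lowerCentralSeries_succ]
            exact (commutator_mono (hsucc t' (by omega) (by omega)) le_rfl).trans hjump
        | succ j hj ihj =>
          rw [Subgroup.lowerCentralSeries_succ]
          refine (commutator_mono ihj le_top).trans ?_
          rw [← Subgroup.lowerCentralSeries_succ _ (j + 2)]
      exact (hlate (p - 1) (by omega)).trans (gamma_eq_bot h (by omega)).le
    · exact powLaw_gamma h hp2 (by omega) (by omega) hWk
  have hcentral : y ^ p ∈ center X := by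
    rw [mem_center_iff]
    intro g
    set c := ⁅y⁻¹, g⁆ with hc
    have hck : c ∈ γ[k] := by
      have h1 := mem_gamma_succ (inv_mem hyk) g
      rwa [show k - 1 + 1 = k by omega] at h1
    let yW : W := ⟨y, mem_sup_left (mem_zpowers y)⟩
    let cW : W := ⟨c, mem_sup_right hck⟩
    obtain ⟨e, he, hprod⟩ := hPL yW cW
    have he1 : e = 1 := by
      refine (mem_bot.1 ((?_ : Cfsg.powerClosure p 1 _ ≤ ⊥) he))
      refine (closure_le _).2 ?_
      rintro _ ⟨w, hw, rfl⟩
      refine mem_bot.2 (Subtype.ext ?_)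
      rw [pow_one, SubgroupClass.coe_pow]
      refine hexp _ (hWW ?_)
      have h1 := mem_map_of_mem W.subtype hw
      rw [map_commutator] at h1
      exact commutator_mono (map_subtype_le _) (map_subtype_le _) h1
    have hgy : g * y * g⁻¹ = y * c := by rw [hc, commutatorElement_def]; group
    have h2 := congrArg Subtype.val hprod
    simp only [he1, mul_one, Subgroup.coe_mul, SubgroupClass.coe_pow] at h2
    have h3 : (y * c) ^ p = y ^ p := by rw [h2, show c ^ p = 1 from hexp c hck, mul_one]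
    have h4 : g * y ^ p * g⁻¹ = y ^ p := by rw [← conj_pow, hgy, h3]
    exact mul_inv_eq_iff_eq_mul.1 h4
  exact hyp (mem_last_of_central h (Subgroup.lowerCentralSeries_antitone _ hk hypk) hcentral)

/-- In `γ_{n-1-p}` only the elements of `γ_{n-p}` have order at most `p`. -/
theorem pow_ne_one_of_not_mem (hp2 : p ≠ 2) (hn : p + 2 ≤ n) {x : X} (hx : x ∈ γ[n - 1 - p])
    (hx' : x ∉ γ[n - p]) : x ^ p ≠ 1 := by
  intro hxp
  set k := n - 1 - p with hk
  obtain ⟨w, hw, hwp⟩ := exists_pow_ne_one h hp2 hn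
  rw [← hk] at hw
  have hPL := powLaw_gamma h hp2 (k := k) (by omega) (by omega) le_rfl
  have hG : IsPGroup p (γ[k] : Subgroup X) := (isPGroup h).to_subgroup _
  let Ω : Subgroup X :=
    { carrier := {v | v ∈ γ[k] ∧ v ^ p = 1}
      one_mem' := ⟨one_mem _, one_pow p⟩
      mul_mem' := by
        rintro a b ⟨ha, ha'⟩ ⟨hb, hb'⟩
        refine ⟨mul_mem ha hb, ?_⟩
        have := Cfsg.Lib.PGroup.Regular.pow_mul_eq_one hG hPL 1 (x := ⟨a, ha⟩) (y := ⟨b, hb⟩)
          (by rw [pow_one]; exact Subtype.ext ha') (by rw [pow_one]; exact Subtype.ext hb')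
        rw [pow_one] at this
        exact congrArg Subtype.val this
      inv_mem' := by
        rintro a ⟨ha, ha'⟩
        exact ⟨inv_mem ha, by rw [inv_pow, ha', inv_one]⟩ }
  haveI : Ω.Normal := ⟨fun a ha g => ⟨(inferInstance : (γ[k] : Subgroup X).Normal).conj_mem a ha.1 g, by
    rw [conj_pow, ha.2, mul_one, mul_inv_cancel]⟩⟩
  have heq : Ω = γ[k] := eq_gamma_of_normal h (by omega) (fun a ha => ha.1) fun hle =>
    hx' (by
      have h1 := hle (show x ∈ Ω from ⟨hx, hxp⟩)
      rwa [show k + 1 = n - p by omega] at h1)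
  exact hwp (heq.ge hw).2

/-- Powers of elements of level `i` avoid the powers of deeper elements. -/
theorem pow_not_mem (hp2 : p ≠ 2) {i : ℕ} (hi : 1 ≤ i) (hin : i + p + 1 ≤ n) {x : X} (hx : x ∈ γ[i])
    (hx' : x ∉ γ[i + 1]) :
    x ^ p ∉ closure {z : X | ∃ w ∈ (γ[i + 1] : Subgroup X), z = w ^ p} ⊔ γ[i + p] := by
  intro hmem
  have hp3 : 3 ≤ p := by have := hp.out.two_le; omega
  have hq := isMax_quotient h (m := i + p) (by omega) (by omega)
  set π := QuotientGroup.mk' (γ[i + p] : Subgroup X) with hπ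
  have hk : i + p + 1 - 1 - p = i := by omega
  have hPL := powLaw_gamma hq hp2 (k := i) hi (by omega) le_rfl
  have hG : IsPGroup p (γ[i] : Subgroup (X ⧸ (γ[i + p] : Subgroup X))) := (isPGroup hq).to_subgroup _
  set N := (γ[i] : Subgroup (X ⧸ (γ[i + p] : Subgroup X))) with hN
  set H := (γ[i + 1] : Subgroup (X ⧸ (γ[i + p] : Subgroup X))).subgroupOf N with hH
  have hle : closure {z : X | ∃ w ∈ (γ[i + 1] : Subgroup X), z = w ^ p} ⊔ γ[i + p] ≤
      ((Cfsg.powerClosure p 1 H).map N.subtype).comap π := by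
    refine sup_le ((closure_le _).2 ?_) fun z hz => ?_
    · rintro _ ⟨w, hw, rfl⟩
      have hw1 : π w ∈ N :=
        (mk_mem_gamma h (by omega)).2 (Subgroup.lowerCentralSeries_antitone _ (by omega) hw)
      refine ⟨⟨π w, hw1⟩ ^ p, subset_closure ⟨⟨π w, hw1⟩, (mk_mem_gamma h (by omega)).2 hw, by rw [pow_one]⟩, ?_⟩
      simp
    · rw [mem_comap, hπ, QuotientGroup.mk'_apply, (QuotientGroup.eq_one_iff z).2 hz]
      exact one_mem _
  obtain ⟨e, he, hex⟩ := hle hmem
  have he' : e ∈ {y | ∃ w ∈ H, y = w ^ p ^ 1} := by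
    rw [Cfsg.Lib.PGroup.Regular.setOf_pow_eq hG hPL H 1]; exact he
  obtain ⟨w, hw, rfl⟩ := he'
  have hx1 : π x ∈ N := (mk_mem_gamma h (by omega)).2 hx
  have heq : (⟨π x, hx1⟩ : N) ^ p ^ 1 = w ^ p ^ 1 := by
    refine Subtype.ext ?_
    have hex' : (w : X ⧸ (γ[i + p] : Subgroup X)) ^ p ^ 1 = π (x ^ p) := by
      rw [← SubgroupClass.coe_pow]; exact hex
    rw [SubgroupClass.coe_pow, SubgroupClass.coe_pow, hex', pow_one, map_pow]
  have h1 := (Cfsg.Lib.PGroup.Regular.pow_eq_iff 1 hG hPL _ _).1 heq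
  rw [pow_one] at h1
  refine pow_ne_one_of_not_mem hq hp2 (by omega) (x := π x * (w : X ⧸ (γ[i + p] : Subgroup X))⁻¹)
    (by rw [hk]; exact mul_mem hx1 (inv_mem w.2)) ?_ (congrArg Subtype.val h1)
  rw [show i + p + 1 - p = i + 1 by omega]
  intro hc
  apply hx'
  rw [← mk_mem_gamma h (show i + 1 ≤ i + p by omega)]
  have h5 : π x * (w : X ⧸ (γ[i + p] : Subgroup X))⁻¹ * (w : X ⧸ (γ[i + p] : Subgroup X)) ∈ γ[i + 1] :=
    mul_mem hc hw
  rwa [inv_mul_cancel_right] at h5

/-- Subgroups of the derived group: `|H : ℧₁(H)| ≤ p^(p-1)`. -/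
theorem relIndex_le_of_le_gamma_one (hp2 : p ≠ 2) {H : Subgroup X} (hH : H ≤ γ[1]) :
    (closure {y : X | ∃ a ∈ H, y = a ^ p}).relIndex H ≤ p ^ (p - 1) := by
  have hn := h.three
  have hp2' := hp.out.two_le
  set K := closure {y : X | ∃ a ∈ H, y = a ^ p}
  have hKH : K ≤ H := (closure_le _).2 (by rintro _ ⟨a, ha, rfl⟩; exact pow_mem ha p)
  set U : ℕ → Subgroup X := fun i => closure {z : X | ∃ w ∈ (γ[i] : Subgroup X), z = w ^ p} ⊔ γ[i + p - 1]
  have key : ∀ d i, 1 ≤ i → n - 1 - i ≤ d →
      Nat.card ↥(H ⊓ γ[i]) ≤ p ^ (p - 1) * Nat.card ↥(K ⊓ U i) := by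
    intro d
    induction d with
    | zero =>
      intro i hi hd
      rw [gamma_eq_bot h (show n - 1 ≤ i by omega), inf_bot_eq, card_bot]
      exact Nat.mul_pos (pow_pos hp.out.pos _) Nat.card_pos
    | succ d ih =>
      intro i hi hd
      rcases Nat.lt_or_ge n (i + p + 1) with hsmall | hbig
      · refine le_trans ?_ (Nat.le_mul_of_pos_right _ Nat.card_pos)
        rcases Nat.lt_or_ge (n - 1) i with h1 | h1
        · rw [gamma_eq_bot h (show n - 1 ≤ i by omega), inf_bot_eq, card_bot]
          exact Nat.one_le_pow _ _ hp.out.pos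
        · refine (card_le_of_le inf_le_right).trans ?_
          rw [card_gamma h i hi h1]
          exact Nat.pow_le_pow_right hp.out.pos (by omega)
      have ih' := ih (i + 1) (by omega) (by omega)
      have hUle : U (i + 1) ≤ U i := sup_le_sup
        (closure_mono (by
          rintro _ ⟨w, hw, rfl⟩
          exact ⟨w, Subgroup.lowerCentralSeries_antitone _ (by omega) hw, rfl⟩))
        (Subgroup.lowerCentralSeries_antitone _ (by omega))
      by_cases hx : H ⊓ γ[i] ≤ γ[i + 1]
      · refine (card_le_of_le (le_inf inf_le_left hx)).trans (ih'.trans ?_)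
        exact Nat.mul_le_mul le_rfl (card_le_of_le (inf_le_inf le_rfl hUle))
      obtain ⟨x, hxH, hxn⟩ := SetLike.not_le_iff_exists.1 hx
      have hle1 : Nat.card ↥(H ⊓ γ[i]) ≤ p * Nat.card ↥(H ⊓ γ[i + 1]) := by
        have h1 : H ⊓ γ[i + 1] ≤ H ⊓ γ[i] :=
          inf_le_inf le_rfl (Subgroup.lowerCentralSeries_antitone _ (by omega))
        have hri : (H ⊓ γ[i + 1]).relIndex (H ⊓ γ[i]) ≤ p := by
          have h3 := Cfsg.Lib.Core.card_mul_relIndex
            (Subgroup.lowerCentralSeries_antitone (⊤ : Subgroup X) (show i ≤ i + 1 by omega))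
          rw [card_gamma h (i + 1) (by omega) (by omega), card_gamma h i hi (by omega),
            show n - 1 - i = (n - 1 - (i + 1)) + 1 by omega, pow_succ] at h3
          have h4 := Nat.eq_of_mul_eq_mul_left (pow_pos hp.out.pos _) h3
          rw [show (H ⊓ γ[i + 1]) = (γ[i + 1] : Subgroup X) ⊓ (H ⊓ γ[i]) by
            rw [inf_comm H γ[i + 1]]
            exact le_antisymm (le_inf inf_le_left (le_inf inf_le_right
              (inf_le_left.trans (Subgroup.lowerCentralSeries_antitone _ (by omega)))))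
              (le_inf inf_le_left (inf_le_right.trans inf_le_left)), inf_relIndex_right, ← h4]
          refine relIndex_le_of_le_right inf_le_right ?_
          rw [h4]; exact hp.out.ne_zero
        rw [← Cfsg.Lib.Core.card_mul_relIndex h1, mul_comm p]
        exact Nat.mul_le_mul le_rfl hri
      have hle2 : p * Nat.card ↥(K ⊓ U (i + 1)) ≤ Nat.card ↥(K ⊓ U i) := by
        have hlt : K ⊓ U (i + 1) < K ⊓ U i := by
          refine lt_of_le_of_ne (inf_le_inf le_rfl hUle) fun heq => ?_
          have h1 : x ^ p ∈ K ⊓ U i :=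
            ⟨subset_closure ⟨x, hxH.1, rfl⟩, mem_sup_left (subset_closure ⟨x, hxH.2, rfl⟩)⟩
          rw [← heq] at h1
          have h2 := pow_not_mem h hp2 hi hbig hxH.2 hxn
          refine h2 ?_
          have h3 : x ^ p ∈ U (i + 1) := h1.2
          simp only [U, show i + 1 + p - 1 = i + p by omega] at h3
          exact h3
        obtain ⟨a, ha⟩ := IsPGroup.iff_card.1 ((isPGroup h).to_subgroup (K ⊓ U (i + 1)))
        obtain ⟨b, hb⟩ := IsPGroup.iff_card.1 ((isPGroup h).to_subgroup (K ⊓ U i))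
        have h1 := Cfsg.Lib.Fusion.card_lt_card_of_lt hlt
        rw [ha, hb] at h1 ⊢
        rw [← pow_succ']
        exact Nat.pow_le_pow_right hp.out.pos ((Nat.pow_lt_pow_iff_right hp.out.one_lt).1 h1)
      calc Nat.card ↥(H ⊓ γ[i]) ≤ p * Nat.card ↥(H ⊓ γ[i + 1]) := hle1
        _ ≤ p * (p ^ (p - 1) * Nat.card ↥(K ⊓ U (i + 1))) := Nat.mul_le_mul le_rfl ih'
        _ = p ^ (p - 1) * (p * Nat.card ↥(K ⊓ U (i + 1))) := by ring
        _ ≤ _ := Nat.mul_le_mul le_rfl hle2
  have h1 := (key (n - 1) 1 le_rfl (by omega)).trans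
    (Nat.mul_le_mul le_rfl (card_le_of_le inf_le_left))
  rw [inf_eq_left.2 hH, ← Cfsg.Lib.Core.card_mul_relIndex hKH, mul_comm (p ^ (p - 1))] at h1
  exact Nat.le_of_mul_le_mul_left h1 Nat.card_pos

/-- The whole group: `|X : ℧₁(X)| ≤ p^p`. -/
theorem index_pow_le (hp2 : p ≠ 2) : (closure (Set.range fun a : X => a ^ p)).index ≤ p ^ p := by
  have hn := h.three
  have hp3 : 3 ≤ p := by have := hp.out.two_le; omega
  rcases Nat.lt_or_ge p n with hbig | hsmall
  swap
  · refine (Nat.le_of_dvd Nat.card_pos (index_dvd_card _)).trans ?_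
    rw [h.card]
    exact Nat.pow_le_pow_right hp.out.pos hsmall
  set U := closure (Set.range fun a : X => a ^ p) with hU
  haveI : U.Normal := by
    refine ⟨fun u hu g => ?_⟩
    have : U ≤ U.comap (MulAut.conj g).toMonoidHom := by
      refine (closure_le _).2 ?_
      rintro _ ⟨a, rfl⟩
      exact subset_closure ⟨g * a * g⁻¹, by simp [conj_pow]⟩
    exact this hu
  have hU1 : U ≤ γ[1] := (closure_le _).2 (by
    rintro _ ⟨a, rfl⟩
    exact pow_mem_gamma_succ h (k := 0) (mem_top a))
  obtain ⟨x, hx⟩ := exists_pow_ne_one_base (isMax_quotient h (m := p) (by omega) (by omega)) hp2 rfl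
  obtain ⟨x, rfl⟩ := QuotientGroup.mk'_surjective _ x
  have hxp : x ^ p ∉ γ[p] := fun hc => hx (by rw [← map_pow]; exact (QuotientGroup.eq_one_iff _).2 hc)
  have hUp : ¬ U ≤ γ[p] := fun hle => hxp (hle (subset_closure ⟨x, rfl⟩))
  classical
  have hex : ∃ k, ¬ U ≤ γ[k + 1] := ⟨p - 1, by rwa [show p - 1 + 1 = p by omega]⟩
  set k := Nat.find hex with hk
  have hk' : ¬ U ≤ γ[k + 1] := Nat.find_spec hex
  have hkp : k ≤ p - 1 := Nat.find_min' hex (by rwa [show p - 1 + 1 = p by omega])
  have hk1 : 1 ≤ k := by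
    by_contra hc
    exact hk' (by rw [show k = 0 by omega]; exact hU1)
  have hUk : U ≤ γ[k] := by
    have h1 := Nat.find_min hex (show k - 1 < Nat.find hex by omega)
    rw [not_not, show k - 1 + 1 = k by omega] at h1
    exact h1
  have heq : U = γ[k] := eq_gamma_of_normal h hk1 hUk hk'
  have h2 := (γ[k] : Subgroup X).card_mul_index
  rw [card_gamma h k hk1 (by omega), h.card, show p ^ n = p ^ (n - 1 - k) * p ^ (k + 1) by
    rw [← pow_add]; congr 1; omega] at h2
  rw [heq, Nat.eq_of_mul_eq_mul_left (pow_pos hp.out.pos _) h2]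
  exact Nat.pow_le_pow_right hp.out.pos (by omega)

/-- Blackburn's bound. -/
theorem relIndex_pow_le (hp2 : p ≠ 2) (H : Subgroup X) :
    (closure {y : X | ∃ a ∈ H, y = a ^ p}).relIndex H ≤ p ^ p := by
  have hn := h.three
  by_cases hH : H = ⊤
  · subst hH
    have hset : {y : X | ∃ a ∈ (⊤ : Subgroup X), y = a ^ p} = Set.range fun a : X => a ^ p := by
      ext z; simp [eq_comm]
    rw [hset, relIndex_top_right]
    exact index_pow_le h hp2
  set H' := H ⊓ γ[1] with hH'
  set K := closure {y : X | ∃ a ∈ H, y = a ^ p}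
  set K' := closure {y : X | ∃ a ∈ H', y = a ^ p}
  have hKH : K ≤ H := (closure_le _).2 (by rintro _ ⟨a, ha, rfl⟩; exact pow_mem ha p)
  have hK'K : K' ≤ K := closure_mono (by rintro _ ⟨a, ha, rfl⟩; exact ⟨a, ha.1, rfl⟩)
  have hK'H' : K' ≤ H' := (closure_le _).2 (by rintro _ ⟨a, ha, rfl⟩; exact pow_mem ha p)
  have h1 := relIndex_le_of_le_gamma_one h hp2 (H := H') inf_le_right
  have hlt : Nat.card ↥(H ⊔ γ[1]) < p ^ n := by
    rw [← h.card, ← card_top (G := X)]
    refine Cfsg.Lib.Fusion.card_lt_card_of_lt (lt_top_iff_ne_top.2 fun htop => hH ?_)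
    exact frattini_nongenerating (by rwa [frattini_eq h])
  have h2 : H'.relIndex H ≤ p := by
    rw [hH', inf_relIndex_left, ← relIndex_sup_left, sup_comm]
    have h3 := Cfsg.Lib.Core.card_mul_relIndex (le_sup_right : (γ[1] : Subgroup X) ≤ H ⊔ γ[1])
    rw [card_gamma h 1 le_rfl (by omega)] at h3
    obtain ⟨j, hj, hjc⟩ := (Nat.dvd_prime_pow hp.out).1 (h.card ▸ (H ⊔ γ[1]).card_subgroup_dvd_card)
    rw [hjc] at hlt h3
    have hj' := (Nat.pow_lt_pow_iff_right hp.out.one_lt).1 hlt
    refine Nat.le_of_mul_le_mul_left ?_ (pow_pos hp.out.pos (n - 1 - 1))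
    rw [h3, ← pow_succ]
    exact Nat.pow_le_pow_right hp.out.pos (by omega)
  calc K.relIndex H ≤ K'.relIndex H := by
        refine relIndex_le_of_le_left hK'K ?_
        exact index_ne_zero_of_finite
    _ = K'.relIndex H' * H'.relIndex H := (relIndex_mul_relIndex _ _ _ hK'H' inf_le_left).symm
    _ ≤ p ^ (p - 1) * p := Nat.mul_le_mul h1 h2
    _ = p ^ p := by rw [← pow_succ]; congr 1; have := hp.out.two_le; omega

omit h [Finite X] in
/-- A finite `p`-group is generated by as many elements as the exponent of the index of its Frattini subgroup. -/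
theorem exists_finset_closure [Finite X] (hX : IsPGroup p X) {j : ℕ} (hj : (frattini X).index ≤ p ^ j) :
    ∃ T : Finset X, T.card ≤ j ∧ closure (T : Set X) = ⊤ := by
  classical
  have key : ∀ (m : ℕ) (K : Subgroup X), K.index ≤ p ^ m →
      ∃ T : Finset X, T.card ≤ m ∧ closure (T : Set X) ⊔ K = ⊤ := by
    intro m
    induction m with
    | zero =>
      intro K hK
      have := Nat.pos_of_ne_zero (index_ne_zero_of_finite (H := K))
      rw [pow_zero] at hK
      exact ⟨∅, le_rfl, by rw [index_eq_one.1 (show K.index = 1 by omega), sup_top_eq]⟩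
    | succ m ih =>
      intro K hK
      by_cases hKt : K = ⊤
      · exact ⟨∅, Nat.zero_le _, by rw [hKt, sup_top_eq]⟩
      obtain ⟨g, -, hg⟩ := SetLike.exists_of_lt (lt_top_iff_ne_top.2 hKt)
      have hlt : K < K ⊔ zpowers g :=
        lt_of_le_of_ne le_sup_left fun hh => hg (hh ▸ mem_sup_right (mem_zpowers g))
      have hidx : (K ⊔ zpowers g).index ≤ p ^ m := by
        obtain ⟨a, ha⟩ := hX.index K
        obtain ⟨b, hb⟩ := hX.index (K ⊔ zpowers g)
        have h1 := Subgroup.index_strictAnti hlt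
        rw [ha, hb] at h1
        have hab := (Nat.pow_lt_pow_iff_right hp.out.one_lt).1 h1
        rw [ha] at hK
        have := (Nat.pow_le_pow_iff_right hp.out.one_lt).1 hK
        rw [hb]
        exact Nat.pow_le_pow_right hp.out.pos (by omega)
      obtain ⟨T, hT, hTt⟩ := ih _ hidx
      refine ⟨insert g T, (Finset.card_insert_le _ _).trans (by omega), eq_top_iff.2 (hTt.ge.trans ?_)⟩
      rw [Finset.coe_insert]
      refine sup_le (le_sup_of_le_left (closure_mono (Set.subset_insert _ _))) (sup_le le_sup_right ?_)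
      exact zpowers_le.2 (mem_sup_left (subset_closure (Set.mem_insert g _)))
  obtain ⟨T, hT, hTt⟩ := key j _ hj
  exact ⟨T, hT, frattini_nongenerating hTt⟩

end Cfsg.Lib.PGroup.MaxClass
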