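import Cfsg.Agent.Lib.PGroup.Basic
import Cfsg.Agent.Lib.PGroup.MaximalClass
import Cfsg.Agent.S0112
import Mathlib

/-!
# `p`-groups with `|X : X'| = p²` and centralizers of order `p²`
-/

set_option autoImplicit false

namespace Cfsg.Lib.PGroup.CentralizerSq

open Subgroup
open scoped commutatorElement

variable {X : Type*} [Group X] [Finite X] {p : ℕ} [hp : Fact p.Prime]

omit [Finite X] hp in
theorem mem_cent_singleton {x z : X} : z ∈ centralizer ({x} : Set X) ↔ Commute z x :=
  mem_centralizer_singleton_iff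

/-- An element with a centralizer of order at most `p²`: either it is central or `|X : X'| = p²`. -/
theorem index_commutator_of_centralizer (hX : IsPGroup p X) {x : X}
    (hc : Nat.card (centralizer ({x} : Set X)) ≤ p ^ 2) (hbig : p ^ 2 ≤ Nat.card X) :
    (commutator X).index = p ^ 2 := by
  obtain ⟨n, hn⟩ := IsPGroup.iff_card.1 hX
  by_cases hxZ : x ∈ center X
  · have htop : centralizer ({x} : Set X) = ⊤ := eq_top_iff.2 fun z _ =>
      mem_cent_singleton.2 (mem_center_iff.1 hxZ z)
    rw [htop, card_top] at hc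
    have hX2 : Nat.card X = p ^ 2 := le_antisymm hc hbig
    have : commutator X = ⊥ := by
      rw [eq_bot_iff, commutator_def, commutator_le]
      intro a _ b _
      rw [mem_bot, commutatorElement_eq_one_iff_mul_comm]
      exact IsPGroup.commutative_of_card_eq_prime_sq hX2 a b
    rw [this, index_bot, hX2]
  set A := centralizer ({x} : Set X) with hA
  haveI : Nontrivial X := Finite.one_lt_card_iff_nontrivial.1
    (lt_of_lt_of_le (Nat.one_lt_pow two_ne_zero hp.out.one_lt) hbig)
  have hxA : x ∈ A := mem_cent_singleton.2 (Commute.refl x)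
  have hZA : center X < A := lt_of_le_of_ne (center_le_centralizer _) fun h => hxZ (h ▸ hxA)
  obtain ⟨i, hi⟩ := IsPGroup.iff_card.1 (hX.to_subgroup A)
  obtain ⟨j, hj⟩ := IsPGroup.iff_card.1 (hX.to_subgroup (center X))
  have hlt : Nat.card (center X) < Nat.card A := by
    refine lt_of_le_of_ne (Nat.le_of_dvd Nat.card_pos (card_dvd_of_le hZA.le)) fun h => ?_
    exact hZA.ne (eq_of_le_of_card_ge hZA.le h.ge)
  haveI := hX.center_nontrivial
  have hj0 : 1 ≤ j := by
    by_contra h
    have h1 : 1 < Nat.card (center X) := Finite.one_lt_card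
    rw [hj, show j = 0 by omega, pow_zero] at h1
    exact lt_irrefl 1 h1
  rw [hi, hj] at hlt
  rw [hi] at hc
  have hji : j < i := (Nat.pow_lt_pow_iff_right hp.out.one_lt).1 hlt
  have hi2 : i ≤ 2 := (Nat.pow_le_pow_iff_right hp.out.one_lt).1 hc
  obtain rfl : i = 2 := by omega
  have hcomm : ∀ a b : A, a * b = b * a := IsPGroup.commutative_of_card_eq_prime_sq hi
  have hAA : centralizer (A : Set X) = A := le_antisymm
    (fun z hz => mem_cent_singleton.2 (mem_centralizer_iff.1 hz x hxA).symm)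
    (fun z hz => mem_centralizer_iff.2 fun w hw => congrArg Subtype.val (hcomm ⟨w, hw⟩ ⟨z, hz⟩))
  have hlt2 : A ≠ ⊤ := fun h => hxZ (mem_center_iff.2 fun z =>
    mem_cent_singleton.1 (show z ∈ A from h ▸ mem_top z))
  have hn3 : 3 ≤ n := by
    have h1 : Nat.card A < Nat.card X := by
      refine lt_of_le_of_ne (Nat.le_of_dvd Nat.card_pos A.card_subgroup_dvd_card) fun h => ?_
      exact hlt2 (A.eq_top_of_card_eq h)
    rw [hi, hn] at h1
    exact (Nat.pow_lt_pow_iff_right hp.out.one_lt).1 h1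
  have hmax := Cfsg.Lib.PGroup.MaxClass.isMax_of_class hn3 hn
    (Cfsg.Agent.S0112.class_aux n X hn A hi hAA)
  have h1 := Cfsg.Lib.PGroup.MaxClass.card_gamma hmax 1 le_rfl (by omega)
  rw [Subgroup.top_lowerCentralSeries_one] at h1
  have h2 := card_mul_index (commutator X)
  rw [h1, hn] at h2
  refine Nat.eq_of_mul_eq_mul_left (pow_pos hp.out.pos (n - 1 - 1)) (h2.trans ?_)
  rw [← pow_add]
  congr 1
  omega

/-- A finite `p`-group with cyclic commutator quotient is cyclic. -/
theorem isCyclic_of_index_commutator_le (hX : IsPGroup p X) (h : (commutator X).index ≤ p) :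
    IsCyclic X := by
  have hg : ∃ g : X, zpowers g ⊔ commutator X = ⊤ := by
    obtain ⟨i, hi⟩ := hX.index (commutator X)
    rw [hi] at h
    have h1 : i ≤ 1 := (Nat.pow_le_pow_iff_right hp.out.one_lt).1 (by rwa [pow_one])
    rcases (show i = 0 ∨ i = 1 by omega) with rfl | rfl
    · exact ⟨1, by rw [index_eq_one.1 (hi.trans (pow_zero p)), sup_top_eq]⟩
    · rw [pow_one] at hi
      obtain ⟨g, hg⟩ : ∃ g : X, g ∉ commutator X := by
        by_contra hall
        push Not at hall
        rw [show commutator X = ⊤ from eq_top_iff.2 fun x _ => hall x, index_top] at hi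
        exact hp.out.ne_one hi.symm
      exact ⟨g, by rw [sup_comm]; exact Cfsg.Lib.PGroup.sup_zpowers_eq_top_of_index (p := p) hi hg⟩
  obtain ⟨g, hg⟩ := hg
  refine (isCyclic_iff_exists_zpowers_eq_top).2 ⟨g, frattini_nongenerating ?_⟩
  exact top_le_iff.1 (hg.ge.trans (sup_le_sup_left (Cfsg.Lib.PGroup.commutator_le_frattini hX) _))

omit [Finite X] hp in
/-- If `[Q, X] ≤ T` and `X = Q⟨y⟩` then `X' ≤ T`. -/
theorem commutator_le_of_gen {Q T : Subgroup X} [T.Normal] {y : X} (hgen : Q ⊔ zpowers y = ⊤)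
    (h : ⁅Q, (⊤ : Subgroup X)⁆ ≤ T) : commutator X ≤ T := by
  rw [commutator_def]
  conv_lhs => arg 1; rw [← hgen]
  refine Cfsg.Lib.PGroup.MaxClass.commutator_sup_le h ?_
  rw [commutator_comm]
  conv_lhs => arg 1; rw [← hgen]
  refine Cfsg.Lib.PGroup.MaxClass.commutator_sup_le ((commutator_mono le_rfl le_top).trans h) ?_
  rw [commutator_le]
  intro a ha b hb
  obtain ⟨i, rfl⟩ := mem_zpowers_iff.1 ha
  obtain ⟨j, rfl⟩ := mem_zpowers_iff.1 hb
  rw [commutatorElement_eq_one_iff_mul_comm.2 (Commute.zpow_zpow_self y i j).eq]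
  exact one_mem T

/-- A normal subgroup not in `X'` is everything or has index `p` and contains `X'`. -/
theorem eq_top_or_index (hX : IsPGroup p X) (hab : (commutator X).index = p ^ 2) {Q : Subgroup X}
    [Q.Normal] (hQ : ¬ Q ≤ commutator X) : Q = ⊤ ∨ (Q.index = p ∧ commutator X ≤ Q) := by
  set R := Q ⊔ commutator X with hR
  obtain ⟨i, hi⟩ := hX.index R
  have hlt : R.index < p ^ 2 := by
    rw [← hab]
    refine index_strictAnti (lt_of_le_of_ne le_sup_right fun h => hQ ?_)
    exact h.symm ▸ (le_sup_left : Q ≤ R)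
  rw [hi] at hlt
  have hi2 := (Nat.pow_lt_pow_iff_right hp.out.one_lt).1 hlt
  rcases (show i = 0 ∨ i = 1 by omega) with rfl | rfl
  · left
    have h1 : R = ⊤ := index_eq_one.1 (hi.trans (pow_zero p))
    exact frattini_nongenerating (top_le_iff.1
      (h1.ge.trans (sup_le_sup_left (Cfsg.Lib.PGroup.commutator_le_frattini hX) _)))
  · right
    rw [pow_one] at hi
    have hQX : IsPGroup p (X ⧸ Q) := hX.to_quotient Q
    have hmap : commutator (X ⧸ Q) = (commutator X).map (QuotientGroup.mk' Q) := by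
      rw [commutator_def, commutator_def, map_commutator,
        map_top_of_surjective _ (QuotientGroup.mk'_surjective Q)]
    have hidx : (commutator (X ⧸ Q)).index = p := by
      rw [hmap, index_map, QuotientGroup.ker_mk', MonoidHom.range_eq_top.2
        (QuotientGroup.mk'_surjective Q), index_top, mul_one, sup_comm, ← hR, hi]
    haveI : IsCyclic (X ⧸ Q) := isCyclic_of_index_commutator_le hQX hidx.le
    have hle : commutator X ≤ Q := by
      letI : CommGroup (X ⧸ Q) := IsCyclic.commGroup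
      exact Subgroup.Normal.quotient_commutative_iff_commutator_le.mp inferInstance
    refine ⟨?_, hle⟩
    rwa [hR, sup_eq_left.2 hle] at hi

/-- Outside an abelian normal subgroup of index `p` every centralizer has order `p²`. -/
theorem card_centralizer (hX : IsPGroup p X) (hab : (commutator X).index = p ^ 2) {Q : Subgroup X}
    [Q.Normal] (hQi : Q.index = p) (hQc : ∀ a ∈ Q, ∀ b ∈ Q, a * b = b * a) {w : X} (hw : w ∉ Q) :
    Nat.card (centralizer ({w} : Set X)) = p ^ 2 := by
  have hgen : Q ⊔ zpowers w = ⊤ := Cfsg.Lib.PGroup.sup_zpowers_eq_top_of_index (p := p) hQi hw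
  have hXQ : commutator X ≤ Q := by
    haveI : IsCyclic (X ⧸ Q) := isCyclic_of_prime_card (p := p) (by rw [← index_eq_card, hQi])
    letI : CommGroup (X ⧸ Q) := IsCyclic.commGroup
    exact Subgroup.Normal.quotient_commutative_iff_commutator_le.mp inferInstance
  let f : ↥Q →* X :=
    { toFun := fun q => ⁅(q : X), w⁆
      map_one' := by simp [commutatorElement_def]
      map_mul' := fun a b => by
        have hb : ⁅(b : X), w⁆ ∈ Q := hXQ (commutator_mem_commutator (mem_top _) (mem_top _))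
        have h1 : ⁅((a * b : ↥Q) : X), w⁆ = (a : X) * ⁅(b : X), w⁆ * (a : X)⁻¹ * ⁅(a : X), w⁆ := by
          simp only [commutatorElement_def, Subgroup.coe_mul]; group
        show ⁅((a * b : ↥Q) : X), w⁆ = _
        rw [h1, hQc _ a.2 _ hb, mul_inv_cancel_right]
        exact hQc _ hb _ (hXQ (commutator_mem_commutator (mem_top _) (mem_top _))) }
  have hfw : ∀ r ∈ f.range, r ∈ Q := by
    rintro _ ⟨q, rfl⟩
    exact hXQ (commutator_mem_commutator (mem_top _) (mem_top _))
  haveI hn : f.range.Normal := by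
    rw [← normalizer_eq_top_iff, eq_top_iff, ← hgen]
    refine sup_le (fun q hq => ?_) (zpowers_le.2 ?_)
    · refine mem_normalizer_iff.2 fun r => ?_
      constructor
      · intro hr
        rwa [hQc q hq r (hfw r hr), mul_inv_cancel_right]
      · intro hr
        have h := hQc q⁻¹ (inv_mem hq) _ (hfw _ hr)
        have h2 : r = q * r * q⁻¹ := by
          have : q⁻¹ * (q * r * q⁻¹) * q = q * r * q⁻¹ := by rw [h]; group
          rw [← this]; group
        rwa [h2]
    · refine mem_normalizer_fintype ?_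
      rintro r ⟨q, rfl⟩
      refine ⟨⟨w * q * w⁻¹, (inferInstance : Q.Normal).conj_mem _ q.2 w⟩, ?_⟩
      show ⁅w * (q : X) * w⁻¹, w⁆ = w * ⁅(q : X), w⁆ * w⁻¹
      simp only [commutatorElement_def]; group
  have hR : f.range = commutator X := by
    refine le_antisymm (by rintro _ ⟨q, rfl⟩; exact commutator_mem_commutator (mem_top _) (mem_top _)) ?_
    refine commutator_le_of_gen hgen ?_
    rw [commutator_comm]
    conv_lhs => arg 1; rw [← hgen]
    refine Cfsg.Lib.PGroup.MaxClass.commutator_sup_le ?_ ?_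
    · rw [commutator_le]
      intro a ha b hb
      rw [commutatorElement_eq_one_iff_mul_comm.2 (hQc a ha b hb)]
      exact one_mem _
    · rw [commutator_le]
      intro a ha b hb
      have h0 : zpowers w ≤ (centralizer (Q.map (QuotientGroup.mk' f.range) : Set (X ⧸ f.range))).comap
          (QuotientGroup.mk' f.range) := by
        rw [zpowers_le, mem_comap, mem_centralizer_iff]
        rintro _ ⟨q, hq, rfl⟩
        refine commutatorElement_eq_one_iff_mul_comm.mp ?_
        rw [← map_commutatorElement]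
        exact (QuotientGroup.eq_one_iff _).mpr ⟨⟨q, hq⟩, rfl⟩
      have h1 := mem_centralizer_iff.1 (h0 ha) _ ⟨b, hb, rfl⟩
      rw [← QuotientGroup.eq_one_iff, ← QuotientGroup.mk'_apply, map_commutatorElement,
        commutatorElement_eq_one_iff_mul_comm]
      exact h1.symm
  have hker : Nat.card f.ker = p := by
    have h1 : Nat.card f.ker * Nat.card f.range = Nat.card Q := by
      rw [← index_ker f, card_mul_index]
    have h2 := card_mul_index Q
    have h3 := card_mul_index (commutator X)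
    rw [hQi] at h2; rw [hab] at h3; rw [hR] at h1
    refine Nat.eq_of_mul_eq_mul_right (Nat.card_pos (α := commutator X)) (h1.trans ?_)
    refine Nat.eq_of_mul_eq_mul_right hp.out.pos ?_
    rw [h2, ← h3]; ring
  set C := centralizer ({w} : Set X)
  have hCQ : Nat.card (Q.subgroupOf C) = p := by
    rw [← hker]
    exact Nat.card_congr
      { toFun := fun z => ⟨⟨((z : C) : X), mem_subgroupOf.1 z.2⟩, MonoidHom.mem_ker.2
          (commutatorElement_eq_one_iff_mul_comm.2 (mem_cent_singleton.1 z.1.2))⟩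
        invFun := fun q => ⟨⟨((q : ↥Q) : X), mem_cent_singleton.2
          (commutatorElement_eq_one_iff_mul_comm.1 (MonoidHom.mem_ker.1 q.2))⟩,
          mem_subgroupOf.2 q.1.2⟩
        left_inv := fun z => Subtype.ext (Subtype.ext rfl)
        right_inv := fun q => Subtype.ext (Subtype.ext rfl) }
  have hidx : (Q.subgroupOf C).index = p := by
    have h1 : Q.relIndex C ∣ p := hQi ▸ relIndex_dvd_index_of_normal Q C
    rcases (Nat.dvd_prime hp.out).1 h1 with h | h
    · exact absurd (relIndex_eq_one.1 h (mem_cent_singleton.2 (Commute.refl w))) hw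
    · exact h
  rw [← card_mul_index (Q.subgroupOf C), hCQ, hidx, sq]

/-- With `|X : X'| = p²` and `Q` of index `p`, no nontrivial `X`-invariant decomposition of `Q`. -/
theorem not_split (hX : IsPGroup p X) (hab : (commutator X).index = p ^ 2) {Q A B : Subgroup X}
    [A.Normal] [B.Normal] (hQi : Q.index = p) (hAB : A ⊔ B = Q) (hdis : A ⊓ B = ⊥)
    (hA : A ≠ ⊥) (hB : B ≠ ⊥) : False := by
  haveI := hX.isNilpotent
  obtain ⟨w, hw⟩ : ∃ w, w ∉ Q := by
    by_contra h
    push Not at h
    rw [show Q = ⊤ from eq_top_iff.2 fun x _ => h x, index_top] at hQi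
    exact hp.out.ne_one hQi.symm
  haveI : Q.Normal := hAB ▸ Subgroup.sup_normal A B
  have hgen : Q ⊔ zpowers w = ⊤ := Cfsg.Lib.PGroup.sup_zpowers_eq_top_of_index (p := p) hQi hw
  set TA := ⁅A, (⊤ : Subgroup X)⁆ with hTA
  set TB := ⁅B, (⊤ : Subgroup X)⁆ with hTB
  have hTAle : TA ≤ A := commutator_le_left A ⊤
  have hTBle : TB ≤ B := commutator_le_left B ⊤
  have hTA' : TA ≠ A := Cfsg.Lib.PGroup.commutator_ne_self_of_isNilpotent hA
  have hTB' : TB ≠ B := Cfsg.Lib.PGroup.commutator_ne_self_of_isNilpotent hB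
  haveI : TA.Normal := commutator_normal A ⊤
  haveI : TB.Normal := commutator_normal B ⊤
  have hX' : commutator X ≤ TA ⊔ TB := by
    refine commutator_le_of_gen hgen ?_
    rw [← hAB]
    exact Cfsg.Lib.PGroup.MaxClass.commutator_sup_le le_sup_left le_sup_right
  set K := A ⊔ TB with hK
  have hKQ : K ≤ Q := hAB ▸ sup_le_sup_left hTBle A
  have hXK : commutator X ≤ K := hX'.trans (sup_le_sup_right hTAle _)
  have key : ∀ {A B TA TB : Subgroup X}, TA.Normal → TB ≤ B → A ⊓ B = ⊥ → TA ≤ A →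
      A ≤ TA ⊔ TB → A ≤ TA := by
    intro A B TA TB hn hTBle hdis hTAle h a ha
    haveI := hn
    obtain ⟨t, ht, s, hs, rfl⟩ := mem_sup_of_normal_left.1 (h ha)
    have h1 : s ∈ A := by
      have := mul_mem (inv_mem (hTAle ht)) ha
      rwa [inv_mul_cancel_left] at this
    have h2 : s ∈ A ⊓ B := ⟨h1, hTBle hs⟩
    rw [hdis, mem_bot] at h2
    rwa [h2, mul_one]
  have hcase : K = commutator X ∨ K = Q := by
    have h1 := relIndex_mul_relIndex (commutator X) K Q hXK hKQ
    have hrel : (commutator X).relIndex Q = p := by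
      have := relIndex_mul_index (hXK.trans hKQ)
      rw [hQi, hab, sq] at this
      exact Nat.eq_of_mul_eq_mul_right hp.out.pos this
    rw [hrel] at h1
    rcases (Nat.dvd_prime hp.out).1 (Dvd.intro _ h1) with h | h
    · exact Or.inl (le_antisymm (relIndex_eq_one.1 h) hXK)
    · rw [h] at h1
      exact Or.inr (le_antisymm hKQ (relIndex_eq_one.1
        (Nat.eq_of_mul_eq_mul_left hp.out.pos (h1.trans (mul_one p).symm))))
  rcases hcase with h | h
  · exact hTA' (le_antisymm hTAle (key inferInstance hTBle hdis hTAle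
      ((le_sup_left.trans h.le).trans hX')))
  · refine hTB' (le_antisymm hTBle (key (A := B) (B := A) (TA := TB) (TB := A) inferInstance le_rfl
      (by rwa [inf_comm]) hTBle ?_))
    rw [sup_comm, ← hK, h, ← hAB]
    exact le_sup_right

/-- With `|X : X'| = p²`, a nontrivial direct decomposition forces `X` abelian. -/
theorem commutator_eq_bot_of_split (hX : IsPGroup p X) (hab : (commutator X).index = p ^ 2)
    {A B : Subgroup X} [A.Normal] [B.Normal] (hAB : A ⊔ B = ⊤) (hdis : A ⊓ B = ⊥) (hA : A ≠ ⊥)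
    (hB : B ≠ ⊥) : commutator X = ⊥ := by
  haveI := hX.isNilpotent
  have hle : ∀ {A B : Subgroup X} [A.Normal] [B.Normal], A ⊔ B = ⊤ → A ⊓ B = ⊥ → A ≠ ⊥ → B ≠ ⊥ →
      commutator X ≤ A := by
    intro A B _ _ hAB hdis hA hB
    have hnc : ¬ B ≤ commutator X := fun h => by
      have h1 : A ⊔ commutator X = ⊤ := top_le_iff.1 (hAB.ge.trans (sup_le_sup_left h _))
      have h2 : A = ⊤ := frattini_nongenerating (top_le_iff.1
        (h1.ge.trans (sup_le_sup_left (Cfsg.Lib.PGroup.commutator_le_frattini hX) _)))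
      rw [h2, top_inf_eq] at hdis
      exact hB hdis
    have hnc' : ¬ A ≤ commutator X := fun h => by
      have h1 : B ⊔ commutator X = ⊤ := top_le_iff.1
        ((sup_comm A B ▸ hAB).ge.trans (sup_le_sup_left h _))
      have h2 : B = ⊤ := frattini_nongenerating (top_le_iff.1
        (h1.ge.trans (sup_le_sup_left (Cfsg.Lib.PGroup.commutator_le_frattini hX) _)))
      rw [h2, inf_top_eq] at hdis
      exact hA hdis
    rcases eq_top_or_index hX hab hnc' with h | h
    · rw [h, top_inf_eq] at hdis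
      exact absurd hdis hB
    · exact h.2
  rw [eq_bot_iff, ← hdis]
  exact le_inf (hle hAB hdis hA hB) (hle (sup_comm A B ▸ hAB) (inf_comm A B ▸ hdis) hB hA)

/-- If `Q = A × B` has index `p` and every element outside `Q` moves `A` into `B`,
then `A` is abelian. -/
theorem commute_of_moving (hX : IsPGroup p X) (hab : (commutator X).index = p ^ 2)
    {Q A B : Subgroup X} [Q.Normal] (hQi : Q.index = p) (hXQ : commutator X ≤ Q) (hAQ : A ≤ Q)
    (hBQ : B ≤ Q) (hcomm : ∀ a ∈ A, ∀ b ∈ B, a * b = b * a) (hdis : A ⊓ B = ⊥)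
    (hdec : ∀ q ∈ Q, ∃ a ∈ A, ∃ b ∈ B, q = a * b)
    (hmove : ∀ y, y ∉ Q → ∀ a ∈ A, y * a * y⁻¹ ∈ B) : ∀ a ∈ A, ∀ a' ∈ A, a * a' = a' * a := by
  classical
  choose α hα β hβ hq using hdec
  have huniq : ∀ {a a' b b' : X}, a ∈ A → a' ∈ A → b ∈ B → b' ∈ B → a * b = a' * b' → a = a' := by
    intro a a' b b' ha ha' hb hb' h
    have h1 : a'⁻¹ * a = b' * b⁻¹ := by
      calc a'⁻¹ * a = a'⁻¹ * (a * b) * b⁻¹ := by group
        _ = b' * b⁻¹ := by rw [h]; group
    have h2 : a'⁻¹ * a ∈ A ⊓ B := ⟨A.mul_mem (A.inv_mem ha') ha, h1 ▸ B.mul_mem hb' (B.inv_mem hb)⟩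
    rw [hdis, mem_bot] at h2
    exact (inv_mul_eq_one.1 h2).symm
  let π : ↥Q →* ↥A :=
    MonoidHom.mk' (fun q => ⟨α q q.2, hα q q.2⟩) fun x y => Subtype.ext (by
      refine huniq (hα _ (x * y).2) (A.mul_mem (hα _ x.2) (hα _ y.2)) (hβ _ (x * y).2) (B.mul_mem (hβ _ x.2) (hβ _ y.2)) ?_
      rw [← hq _ (x * y).2, Subgroup.coe_mul]
      conv_lhs => rw [hq _ x.2, hq _ y.2]
      calc α x x.2 * β x x.2 * (α y y.2 * β y y.2)
          = α x x.2 * (β x x.2 * α y y.2) * β y y.2 := by group
        _ = α x x.2 * (α y y.2 * β x x.2) * β y y.2 := by rw [hcomm _ (hα _ y.2) _ (hβ _ x.2)]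
        _ = _ := by simp only [Subgroup.coe_mul]; group)
  let π' : ↥Q →* Abelianization ↥A := Abelianization.of.comp π
  let c : X → (↥Q →* ↥Q) := fun z => (MulAut.conjNormal (H := Q) z).toMonoidHom
  have hc1 : ∀ (z : ↥Q) (q : ↥Q), π' (c z q) = π' q := by
    intro z q
    have : c z q = z * q * z⁻¹ := Subtype.ext (by simp [c, MulAut.conjNormal_apply])
    rw [this, map_mul, map_mul, map_inv, mul_comm (π' z) (π' q), mul_inv_cancel_right]
  have hcmul : ∀ z z' : X, ∀ q : ↥Q, c z (c z' q) = c (z * z') q := fun z z' q => by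
    simp [c, map_mul]
  obtain ⟨y, hy⟩ : ∃ y, y ∉ Q := by
    by_contra h
    push Not at h
    rw [show Q = ⊤ from eq_top_iff.2 fun x _ => h x, index_top] at hQi
    exact hp.out.ne_one hQi.symm
  have hyp : y ^ p ∈ Q := by
    have h1 := pow_card_eq_one' (x := (y : X ⧸ Q))
    rw [← index_eq_card, hQi] at h1
    exact (QuotientGroup.eq_one_iff _).1 (by rw [QuotientGroup.mk_pow]; exact h1)
  let φ : ↥Q →* Abelianization ↥A := ∏ j ∈ Finset.range p, π'.comp (c (y ^ j))
  have hφ : ∀ q, φ q = ∏ j ∈ Finset.range p, π' (c (y ^ j) q) := fun q => by simp [φ]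
  let W : Subgroup X :=
    { carrier := {z | ∀ q, φ (c z q) = φ q}
      one_mem' := fun q => by simp [c]
      mul_mem' := fun {z z'} hz hz' q => by rw [← hcmul, hz, hz']
      inv_mem' := fun {z} hz q => by
        have := hz (c z⁻¹ q)
        rw [hcmul, mul_inv_cancel] at this
        simpa [c] using this.symm }
  have hWQ : Q ≤ W := fun z hz q => by
    rw [hφ, hφ]
    refine Finset.prod_congr rfl fun j _ => ?_
    have hz' : y ^ j * z * (y ^ j)⁻¹ ∈ Q := (inferInstance : Q.Normal).conj_mem z hz _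
    rw [hcmul, show y ^ j * z = (y ^ j * z * (y ^ j)⁻¹) * y ^ j by group, ← hcmul]
    exact hc1 ⟨_, hz'⟩ _
  have hWy : y ∈ W := fun q => by
    rw [hφ, hφ]
    simp only [hcmul, ← pow_succ]
    obtain ⟨m, hm⟩ := Nat.exists_eq_succ_of_ne_zero hp.out.ne_zero
    have hlast : π' (c (y ^ p) q) = π' (c (y ^ 0) q) := by
      rw [pow_zero, show c (1 : X) q = q by simp [c]]
      exact hc1 ⟨_, hyp⟩ q
    rw [hm] at hlast ⊢
    rw [Finset.prod_range_succ (fun j => π' (c (y ^ (j + 1)) q)),
      Finset.prod_range_succ' (fun j => π' (c (y ^ j) q)), hlast]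
  have hgen : Q ⊔ zpowers y = ⊤ := Cfsg.Lib.PGroup.sup_zpowers_eq_top_of_index (p := p) hQi hy
  have hW : W = ⊤ := top_le_iff.1 (hgen.ge.trans (sup_le hWQ (zpowers_le.2 hWy)))
  have hinv : ∀ z q, φ (c z q) = φ q := fun z => (hW ▸ mem_top z : z ∈ W)
  set T := φ.ker.map Q.subtype
  haveI : T.Normal := ⟨by
    rintro _ ⟨q, hq, rfl⟩ z
    refine ⟨c z q, ?_, by simp [c, MulAut.conjNormal_apply]⟩
    show φ (c z q) = 1
    rw [hinv]; exact hq⟩
  have hX'T : commutator X ≤ T := by
    refine commutator_le_of_gen hgen ?_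
    rw [commutator_le]
    intro a ha b _
    refine ⟨(⟨a, ha⟩ : ↥Q) * (c b ⟨a, ha⟩)⁻¹, ?_, ?_⟩
    · show φ _ = 1
      rw [map_mul, map_inv, hinv, mul_inv_cancel]
    · simp [c, MulAut.conjNormal_apply, commutatorElement_def, mul_assoc]
  have hπA : ∀ (a : X) (ha : a ∈ A), π ⟨a, hAQ ha⟩ = ⟨a, ha⟩ := fun a ha => Subtype.ext
    (huniq (hα a (hAQ ha)) ha (hβ a (hAQ ha)) B.one_mem ((hq a (hAQ ha)).symm.trans (mul_one a).symm))
  have hπB : ∀ (b : X) (hb : b ∈ B), π ⟨b, hBQ hb⟩ = 1 := fun b hb => Subtype.ext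
    (huniq (hα b (hBQ hb)) A.one_mem (hβ b (hBQ hb)) hb ((hq b (hBQ hb)).symm.trans (one_mul b).symm))
  have hyj : ∀ j, j ≠ 0 → j < p → y ^ j ∉ Q := by
    intro j hj0 hjp hmem
    have h1 : (y : X ⧸ Q) ^ j = 1 := by rw [← QuotientGroup.mk_pow, QuotientGroup.eq_one_iff]; exact hmem
    have h2 : (y : X ⧸ Q) ^ p = 1 := by rw [← QuotientGroup.mk_pow, QuotientGroup.eq_one_iff]; exact hyp
    have h3 := pow_gcd_eq_one.2 ⟨h1, h2⟩
    rw [(hp.out.coprime_iff_not_dvd.2 fun hd => absurd (Nat.le_of_dvd (Nat.pos_of_ne_zero hj0) hd)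
      (by omega)).symm.gcd_eq_one, pow_one, QuotientGroup.eq_one_iff] at h3
    exact hy h3
  have hsurj : Function.Surjective φ := by
    intro t
    obtain ⟨⟨a, ha⟩, rfl⟩ := QuotientGroup.mk_surjective t
    refine ⟨⟨a, hAQ ha⟩, ?_⟩
    rw [hφ, Finset.prod_eq_single 0]
    · have : c (y ^ 0) ⟨a, hAQ ha⟩ = ⟨a, hAQ ha⟩ := by simp [c]
      rw [this]
      show Abelianization.of (π _) = _
      rw [hπA a ha]; rfl
    · intro j hj hj0
      have hb := hmove _ (hyj j hj0 (Finset.mem_range.1 hj)) a ha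
      have : c (y ^ j) ⟨a, hAQ ha⟩ = ⟨_, hBQ hb⟩ := Subtype.ext (MulAut.conjNormal_apply (H := Q) (y ^ j) _)
      rw [this]
      show Abelianization.of (π _) = 1
      rw [hπB _ hb, map_one]
    · exact fun h => absurd (Finset.mem_range.2 hp.out.pos) h
  have hrel : (commutator X).relIndex Q = p := by
    have := relIndex_mul_index hXQ
    rw [hQi, hab, sq] at this
    exact Nat.eq_of_mul_eq_mul_right hp.out.pos this
  have hcard : (commutator ↥A).index ≤ p := by
    have h1 : Nat.card (Abelianization ↥A) = (commutator ↥A).index := (index_eq_card _).symm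
    have h2 : Nat.card (Abelianization ↥A) = φ.ker.index := by
      rw [index_ker, MonoidHom.range_eq_top.2 hsurj, card_top]
    rw [← h1, h2, ← hrel]
    refine Nat.le_of_dvd (hrel ▸ hp.out.pos) ?_
    have h3 : (commutator X).subgroupOf Q ≤ φ.ker := fun q hq => by
      obtain ⟨q', hq', he⟩ := hX'T hq
      rwa [← Subtype.ext he]
    exact index_dvd_of_le h3
  haveI := isCyclic_of_index_commutator_le (hX.to_subgroup A) hcard
  intro a ha a' ha'
  exact congrArg Subtype.val ((IsCyclic.commGroup (α := ↥A)).mul_comm ⟨a, ha⟩ ⟨a', ha'⟩)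

end Cfsg.Lib.PGroup.CentralizerSq
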