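import Cfsg.Agent.Lib.TwoGroup.MaximalClass
import Cfsg.Agent.Lib.TwoGroup.Models
import Cfsg.Prelude.Def_PLocal
import Cfsg.Prelude.Def_CaseTheorems
import Mathlib.Algebra.Ring.GeomSum
import Mathlib.FieldTheory.Finite.Basic

/-!
# `p`-groups with a self-centralizing cyclic normal subgroup

`Data p n u`: the cyclic subgroup generated by `u`, of order `p ^ n`, is normal and self-centralizing.
Either the group is dihedral, quaternion or semidihedral (`alternative`), or the centralizer of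
`u ^ p` is a split extension of `zpowers u` by a group of order `p` (`exists_y`, `exists_coord`).
-/

set_option autoImplicit false

namespace Cfsg.Lib.CyclicNormal

open Subgroup

/-- A self-centralizing cyclic normal subgroup `zpowers u` of order `p ^ n`. -/
structure Data (p n : ℕ) {G : Type*} [Group G] (u : G) : Prop where
  isP : IsPGroup p G
  ord : orderOf u = p ^ n
  conj : ∀ g : G, g * u * g⁻¹ ∈ zpowers u
  cent : ∀ g : G, g * u = u * g → g ∈ zpowers u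

variable {G : Type*} [Group G] {p n : ℕ} {u : G}

theorem exists_data (hG : IsPGroup p G) (U : Subgroup G) [U.Normal] (hU : IsCyclic U)
    (hUn : Nat.card U = p ^ n) (hC : centralizer (U : Set G) ≤ U) :
    ∃ u : G, zpowers u = U ∧ Data p n u := by
  obtain ⟨u, rfl⟩ := (Subgroup.isCyclic_iff_exists_zpowers_eq_top U).1 hU
  refine ⟨u, rfl, hG, by rwa [Nat.card_zpowers] at hUn, fun g =>
    Normal.conj_mem inferInstance u (mem_zpowers u) g, fun g hg => hC ?_⟩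
  rw [mem_centralizer_iff]
  rintro x ⟨i, rfl⟩
  exact ((show Commute g u from hg).zpow_right i).eq.symm

theorem Data.zpow_eq_iff (h : Data p n u) (a b : ℤ) : u ^ a = u ^ b ↔ (p : ℤ) ^ n ∣ a - b := by
  rw [Cfsg.Lib.TwoGroup.zpow_eq_iff_dvd, h.ord, Nat.cast_pow]

theorem Data.zpow_eq_one_iff (h : Data p n u) (a : ℤ) : u ^ a = 1 ↔ (p : ℤ) ^ n ∣ a := by
  rw [← zpow_zero u, h.zpow_eq_iff, sub_zero]

theorem conj_zpow_eq {g : G} {r : ℤ} (hr : g * u * g⁻¹ = u ^ r) (i : ℤ) :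
    g * u ^ i * g⁻¹ = u ^ (r * i) := by
  rw [zpow_mul, ← hr, conj_zpow]

theorem conj_pow_eq {g : G} {r : ℤ} (hr : g * u * g⁻¹ = u ^ r) (k : ℕ) :
    g ^ k * u * (g ^ k)⁻¹ = u ^ (r ^ k) := by
  induction k with
  | zero => simp
  | succ k ih =>
    rw [pow_succ', mul_inv_rev, show g * g ^ k * u * ((g ^ k)⁻¹ * g⁻¹) =
      g * (g ^ k * u * (g ^ k)⁻¹) * g⁻¹ by simp [mul_assoc], ih, conj_zpow_eq hr, pow_succ']

theorem commute_of_mem_zpowers {x : G} (hx : x ∈ zpowers u) : Commute x u := by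
  obtain ⟨i, rfl⟩ := hx
  exact (Commute.refl u).zpow_left i

theorem Data.mem_of_dvd (h : Data p n u) {g : G} {r : ℤ} (hr : g * u * g⁻¹ = u ^ r)
    (hd : (p : ℤ) ^ n ∣ r - 1) : g ∈ zpowers u := by
  refine h.cent g ?_
  rw [← h.zpow_eq_iff, zpow_one] at hd
  exact mul_inv_eq_iff_eq_mul.1 (hr.trans hd)

theorem Data.dvd_of_mem (h : Data p n u) {g : G} {r : ℤ} (hr : g * u * g⁻¹ = u ^ r)
    (hg : g ∈ zpowers u) : (p : ℤ) ^ n ∣ r - 1 := by
  rw [← h.zpow_eq_iff, zpow_one, ← hr, (commute_of_mem_zpowers hg).eq, mul_inv_cancel_right]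

theorem geom_sum_mod (P b : ℤ) : ∀ m : ℕ,
    P ^ 2 ∣ (1 + P * b) ^ m - (1 + (m : ℤ) * (P * b)) ∧
    P ^ 2 ∣ (∑ i ∈ Finset.range m, (1 + P * b) ^ i) - ((m : ℤ) + P * b * (m.choose 2 : ℤ)) := by
  intro m
  induction m with
  | zero => simp
  | succ m ih =>
    obtain ⟨⟨c, hc⟩, ⟨d, hd⟩⟩ := ih
    constructor
    · refine ⟨c * (1 + P * b) + (m : ℤ) * b ^ 2, ?_⟩
      rw [pow_succ (1 + P * b) m, show (1 + P * b) ^ m = P ^ 2 * c + (1 + (m : ℤ) * (P * b)) by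
        linear_combination hc]
      push_cast
      ring
    · refine ⟨c + d, ?_⟩
      rw [Finset.sum_range_succ, Nat.choose_succ_succ, Nat.choose_one_right]
      push_cast
      linear_combination hc + hd

section

variable [hp : Fact p.Prime]

theorem Data.dvd_sub_one (h : Data p n u) (hn : n ≠ 0) {g : G} {r : ℤ}
    (hr : g * u * g⁻¹ = u ^ r) : (p : ℤ) ∣ r - 1 := by
  obtain ⟨k, hk⟩ := h.isP g
  have h1 := conj_pow_eq hr (p ^ k)
  rw [hk, one_mul, inv_one, mul_one] at h1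
  have h2 : (p : ℤ) ∣ r ^ (p ^ k) - 1 := by
    refine (dvd_pow_self (p : ℤ) hn).trans ?_
    rw [← h.zpow_eq_iff, zpow_one]
    exact h1.symm
  rw [← ZMod.intCast_zmod_eq_zero_iff_dvd, Int.cast_sub, Int.cast_pow, ZMod.pow_card_pow] at h2
  rwa [← ZMod.intCast_zmod_eq_zero_iff_dvd, Int.cast_sub]

theorem Data.two_le (h : Data p n u) (hna : ¬ IsMulCommutative G) : 2 ≤ n := by
  by_contra hlt
  apply hna
  have hall : ∀ g : G, g ∈ zpowers u := by
    intro g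
    obtain ⟨r, hr⟩ := mem_zpowers_iff.1 (h.conj g)
    refine h.mem_of_dvd hr.symm ?_
    rcases Nat.eq_zero_or_pos n with hn | hn
    · rw [hn, pow_zero]; exact one_dvd _
    · rw [show n = 1 by omega, pow_one]
      exact h.dvd_sub_one (by omega) hr.symm
  refine ⟨⟨fun a b => ?_⟩⟩
  obtain ⟨i, rfl⟩ := hall a
  obtain ⟨j, rfl⟩ := hall b
  exact zpow_mul_comm u i j

theorem Data.exists_M (h : Data p n u) (hn : n ≠ 0) {g : G} (hg : g ∉ zpowers u) {r : ℤ}
    (hr : g * u * g⁻¹ = u ^ r) (h4 : p = 2 → (4 : ℤ) ∣ r - 1) :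
    ∃ m, m ∉ zpowers u ∧ Commute m (u ^ p) := by
  classical
  obtain ⟨k, hk⟩ := h.isP g
  have hex : ∃ k, g ^ (p ^ k) ∈ zpowers u := ⟨k, hk ▸ one_mem _⟩
  obtain ⟨j, hj⟩ : ∃ j, Nat.find hex = j + 1 :=
    ⟨Nat.find hex - 1, (Nat.succ_pred_eq_of_ne_zero fun h0 => hg (by
      simpa [h0] using Nat.find_spec hex)).symm⟩
  have hnot : g ^ (p ^ j) ∉ zpowers u := Nat.find_min hex (by omega)
  have hin : (g ^ (p ^ j)) ^ p ∈ zpowers u := by
    rw [← pow_mul, ← pow_succ, ← hj]; exact Nat.find_spec hex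
  set m := g ^ (p ^ j)
  set s := r ^ (p ^ j) with hs
  have hsm : m * u * m⁻¹ = u ^ s := conj_pow_eq hr _
  have hdiv : r - 1 ∣ s - 1 := by
    simpa using sub_dvd_pow_sub_pow r 1 (p ^ j)
  obtain ⟨b, hb⟩ := h.dvd_sub_one hn hsm
  have hsum : IsCoprime ((p : ℤ) ^ n) (∑ i ∈ Finset.range p, s ^ i) ∨
      ∃ w : ℤ, ∑ i ∈ Finset.range p, s ^ i = p * w ∧ IsCoprime ((p : ℤ) ^ n) w := by
    right
    obtain ⟨c, hc⟩ := (geom_sum_mod (p : ℤ) b p).2
    rw [show 1 + (p : ℤ) * b = s by linear_combination -hb] at hc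
    obtain ⟨e, he⟩ : (p : ℤ) ∣ b * (p.choose 2 : ℤ) := by
      rcases eq_or_ne p 2 with hp2 | hp2
      · have h4' := (h4 hp2).trans hdiv
        subst hp2
        rw [hb, show (4 : ℤ) = 2 * 2 from rfl, Nat.cast_ofNat] at h4'
        exact dvd_mul_of_dvd_left (Int.dvd_of_mul_dvd_mul_left two_ne_zero h4') _
      · refine dvd_mul_of_dvd_right (Int.natCast_dvd_natCast.2 ?_) _
        have : 2 < p := lt_of_le_of_ne hp.out.two_le (Ne.symm hp2)
        exact hp.out.dvd_choose_self two_ne_zero this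
    refine ⟨1 + p * (c + e), by linear_combination hc + (p : ℤ) * he, IsCoprime.pow_left ?_⟩
    exact ⟨-(c + e), 1, by ring⟩
  have hdvd : (p : ℤ) ^ n ∣ s ^ p - 1 := h.dvd_of_mem (conj_pow_eq hsm p) hin
  rw [← geom_sum_mul] at hdvd
  refine ⟨m, hnot, ?_⟩
  have hpn : (p : ℤ) ^ n ∣ (s - 1) * p := by
    rcases hsum with hco | ⟨w, hw, hco⟩
    · exact dvd_mul_of_dvd_left (hco.dvd_of_dvd_mul_left hdvd) _
    · rw [hw, mul_assoc, mul_comm w, ← mul_assoc] at hdvd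
      rw [mul_comm]
      exact hco.dvd_of_dvd_mul_right hdvd
  rw [← zpow_natCast]
  refine mul_inv_eq_iff_eq_mul.1 ?_
  rw [conj_zpow_eq hsm, h.zpow_eq_iff, show s * (p : ℤ) - p = (s - 1) * p by ring]
  exact hpn

theorem Data.one_le_of_not_mem (h : Data p n u) {g : G} (hg : g ∉ zpowers u) : 1 ≤ n := by
  by_contra h0
  obtain ⟨r, hr⟩ := mem_zpowers_iff.1 (h.conj g)
  exact hg (h.mem_of_dvd hr.symm (by rw [show n = 0 by omega, pow_zero]; exact one_dvd _))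

variable [Finite G]

/-- Either dihedral, quaternion or semidihedral, or the centralizer of `u ^ p` is bigger. -/
theorem Data.alternative (h : Data p n u) (hna : ¬ IsMulCommutative G) :
    (p = 2 ∧ Nat.card G = 2 ^ (n + 1) ∧ ((∃ m : ℕ, Nonempty (G ≃* DihedralGroup m)) ∨
      (∃ m : ℕ, Nonempty (G ≃* QuaternionGroup m)) ∨ Cfsg.IsQuasiDihedral G)) ∨
    ((p = 2 → 3 ≤ n) ∧ ∃ m, m ∉ zpowers u ∧ Commute m (u ^ p)) := by
  have hn2 := h.two_le hna
  by_cases hM : (p = 2 → 3 ≤ n) ∧ ∃ m, m ∉ zpowers u ∧ Commute m (u ^ p)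
  · exact Or.inr hM
  left
  obtain ⟨g, hg⟩ : ∃ g, g ∉ zpowers u := by
    by_contra hall
    push Not at hall
    refine hna ⟨⟨fun a b => ?_⟩⟩
    obtain ⟨i, rfl⟩ := hall a
    obtain ⟨j, rfl⟩ := hall b
    exact zpow_mul_comm u i j
  obtain ⟨r, hr⟩ := mem_zpowers_iff.1 (h.conj g)
  have hp2 : p = 2 := by
    by_contra hp2
    exact hM ⟨fun e => absurd e hp2, h.exists_M (by omega) hg hr.symm fun e => absurd e hp2⟩
  subst hp2
  refine ⟨rfl, ?_⟩
  have hodd : ∀ (x : G) (s : ℤ), x ∉ zpowers u → x * u * x⁻¹ = u ^ s → ¬ (4 : ℤ) ∣ s - 1 := by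
    intro x s hx hs h4
    rcases Nat.lt_or_ge n 3 with hn3 | hn3
    · refine hx (h.mem_of_dvd hs ?_)
      rw [show n = 2 by omega]
      simpa using h4
    · exact hM ⟨fun _ => hn3, h.exists_M (by omega) hx hs fun _ => h4⟩
  have hidx : (zpowers u).index = 2 := by
    rw [index_eq_two_iff]
    refine ⟨g, fun b => ?_⟩
    by_cases hb : b ∈ zpowers u
    · exact Or.inr ⟨hb, fun h' => hg (by simpa using mul_mem (inv_mem hb) h')⟩
    · refine Or.inl ⟨?_, hb⟩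
      by_contra hbg
      obtain ⟨s, hs⟩ := mem_zpowers_iff.1 (h.conj b)
      have hbg' : b * g * u * (b * g)⁻¹ = u ^ (s * r) := by
        rw [mul_inv_rev, show b * g * u * (g⁻¹ * b⁻¹) = b * (g * u * g⁻¹) * b⁻¹ by
          simp [mul_assoc], ← hr, conj_zpow_eq hs.symm]
      refine hodd _ _ hbg hbg' ?_
      obtain ⟨a, ha⟩ := h.dvd_sub_one (by omega) hr.symm
      obtain ⟨c, hc⟩ := h.dvd_sub_one (by omega) hs.symm
      have ha2 : ¬ (2 : ℤ) ∣ a := fun ⟨k, hk⟩ => hodd g r hg hr.symm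
        ⟨k, by rw [ha, hk]; push_cast; ring⟩
      have hc2 : ¬ (2 : ℤ) ∣ c := fun ⟨k, hk⟩ => hodd b s hb hs.symm
        ⟨k, by rw [hc, hk]; push_cast; ring⟩
      obtain ⟨k, hk⟩ : (2 : ℤ) ∣ a + c := by omega
      refine ⟨a * c + k, ?_⟩
      rw [show r = 1 + 2 * a by push_cast at ha; linarith,
        show s = 1 + 2 * c by push_cast at hc; linarith]
      linear_combination 2 * hk
  have hcard : Nat.card G = 2 ^ (n + 1) := by
    rw [← card_mul_index (zpowers u), hidx, Nat.card_zpowers, h.ord, pow_succ]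
  refine ⟨hcard, ?_⟩
  obtain ⟨a, b, ha, hb, hrel⟩ := Cfsg.Lib.TwoGroup.MaximalClass.exists_generators
    (show 3 ≤ n + 1 by omega) hcard (zpowers u) inferInstance hidx hna
  simp only [Nat.add_sub_cancel] at ha
  have hn1 : n + 1 - 2 = n - 1 := by omega
  rw [hn1] at hrel
  have hai : (zpowers a).index = 2 := by
    refine Nat.eq_of_mul_eq_mul_left (Nat.card_pos (α := zpowers a)) ?_
    rw [card_mul_index, hcard, Nat.card_zpowers, ha, pow_succ]
  have htop : closure ({a, b} : Set G) = ⊤ := by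
    rw [eq_top_iff, ← Cfsg.Lib.PGroup.sup_zpowers_eq_top_of_index (p := 2) hai hb]
    exact sup_le (zpowers_le.2 (subset_closure (by simp))) (zpowers_le.2 (subset_closure (by simp)))
  rcases hrel with ⟨hb2, hinv⟩ | ⟨hb2, hinv⟩ | ⟨hn4, hb2, hconj⟩ | ⟨hn4, hb2, hconj⟩
  · obtain ⟨e⟩ := Cfsg.Lib.TwoGroup.equiv_dihedral (by rw [← sq]; exact hb2) hinv hb
    exact Or.inl ⟨_, ⟨((MulEquiv.subgroupCongr htop).trans topEquiv).symm.trans e⟩⟩
  · obtain ⟨e⟩ := Cfsg.Lib.TwoGroup.equiv_quaternion (m := 2 ^ (n - 1))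
      (by rw [ha, ← pow_succ', show n - 1 + 1 = n by omega]) (by rw [← sq]; exact hb2) hinv hb
    exact Or.inr (Or.inl ⟨_, ⟨((MulEquiv.subgroupCongr htop).trans topEquiv).symm.trans e⟩⟩)
  · exfalso
    have hcen : a ^ 2 ∈ center G := by
      rw [mem_center_iff]
      intro x
      have hle : closure ({a, b} : Set G) ≤ centralizer ({a ^ 2} : Set G) := by
        refine (closure_le _).2 ?_
        rintro y (rfl | rfl)
        · exact mem_centralizer_singleton_iff.2 ((Commute.refl _).pow_right 2).eq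
        · refine mem_centralizer_singleton_iff.2 (mul_inv_eq_iff_eq_mul.1 ?_)
          rw [← conj_pow, hconj, ← pow_mul, add_mul, one_mul, pow_add, ← pow_succ,
            show n - 1 + 1 = n by omega, ← ha, pow_orderOf_eq_one, mul_one]
      rw [htop] at hle
      exact mem_centralizer_singleton_iff.1 (hle (mem_top x))
    obtain ⟨i, hi⟩ := mem_zpowers_iff.1 (h.cent _ (mem_center_iff.1 hcen u).symm)
    have hord : orderOf (a ^ 2) = 2 ^ (n - 1) := by
      rw [orderOf_pow' a two_ne_zero, ha,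
        Nat.gcd_eq_right (dvd_pow_self 2 (by omega)),
        show 2 ^ n = 2 ^ (n - 1) * 2 by rw [← pow_succ, show n - 1 + 1 = n by omega],
        Nat.mul_div_cancel _ two_pos]
    have hle : zpowers (a ^ 2) ≤ zpowers (u ^ 2) := by
      rw [zpowers_le]
      obtain ⟨q, hq⟩ | ⟨q, hq⟩ := Int.even_or_odd i
      · refine ⟨q, ?_⟩
        change (u ^ 2) ^ q = a ^ 2
        rw [← hi, hq, ← two_mul, zpow_mul, ← zpow_natCast u 2, Nat.cast_ofNat]
      · exfalso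
        have h1 : u ^ (i * 2 ^ (n - 1)) = 1 := by
          rw [zpow_mul, hi, show (2 : ℤ) ^ (n - 1) = ((2 ^ (n - 1) : ℕ) : ℤ) by simp, zpow_natCast,
            ← hord, pow_orderOf_eq_one]
        rw [h.zpow_eq_one_iff] at h1
        have h2 : (2 : ℤ) ^ (n - 1) * 2 ∣ (2 : ℤ) ^ (n - 1) * i := by
          rw [← pow_succ, show n - 1 + 1 = n by omega, mul_comm]
          simpa using h1
        have h3 := Int.dvd_of_mul_dvd_mul_left (pow_ne_zero _ two_ne_zero) h2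
        omega
    have heq : zpowers (u ^ 2) = zpowers (a ^ 2) := by
      refine (eq_of_le_of_card_ge hle ?_).symm
      rw [Nat.card_zpowers, Nat.card_zpowers, hord, orderOf_pow' u two_ne_zero, h.ord,
        Nat.gcd_eq_right (dvd_pow_self 2 (by omega)),
        show 2 ^ n = 2 ^ (n - 1) * 2 by rw [← pow_succ, show n - 1 + 1 = n by omega],
        Nat.mul_div_cancel _ two_pos]
    obtain ⟨j, hj⟩ := mem_zpowers_iff.1 (heq.le (mem_zpowers (u ^ 2)))
    refine hM ⟨fun _ => by omega, g, hg, ?_⟩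
    rw [← hj]
    exact mem_center_iff.1 (zpow_mem hcen j) g
  · refine Or.inr (Or.inr ⟨n, by omega, hcard, a, b, ha, ?_, hconj⟩)
    exact orderOf_eq_prime hb2 fun h1 => hb (h1 ▸ one_mem _)

end

/-- Powers in a group of class two generated by `u` and `m`. -/
theorem mul_pow_formula {v m c : G} (hm : m * v * m⁻¹ = v * c) (hcv : Commute c v)
    (hcm : Commute c m) : ∀ k : ℕ, (v * m) ^ k = v ^ k * c ^ k.choose 2 * m ^ k := by
  have hmk : ∀ k : ℕ, m ^ k * v = v * c ^ k * m ^ k := by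
    intro k
    induction k with
    | zero => simp
    | succ k ih =>
      calc m ^ (k + 1) * v = m * (m ^ k * v) := by rw [pow_succ', mul_assoc]
        _ = m * v * c ^ k * m ^ k := by rw [ih]; simp only [mul_assoc]
        _ = v * c * m * c ^ k * m ^ k := by rw [← hm]; simp only [mul_assoc, inv_mul_cancel_left]
        _ = v * c * (m * c ^ k) * m ^ k := by simp only [mul_assoc]
        _ = v * c * (c ^ k * m) * m ^ k := by rw [(hcm.pow_left k).eq]
        _ = v * c ^ (k + 1) * m ^ (k + 1) := by rw [pow_succ', pow_succ']; simp only [mul_assoc]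
  intro k
  induction k with
  | zero => simp
  | succ k ih =>
    calc (v * m) ^ (k + 1) = v ^ k * c ^ k.choose 2 * m ^ k * (v * m) := by rw [pow_succ, ih]
      _ = v ^ k * c ^ k.choose 2 * (m ^ k * v) * m := by simp only [mul_assoc]
      _ = v ^ k * (c ^ k.choose 2 * v) * c ^ k * (m ^ k * m) := by
        rw [hmk]; simp only [mul_assoc]
      _ = v ^ k * (v * c ^ k.choose 2) * c ^ k * (m ^ k * m) := by rw [(hcv.pow_left _).eq]
      _ = v ^ (k + 1) * c ^ (k + 1).choose 2 * m ^ (k + 1) := by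
        rw [Nat.choose_succ_succ, Nat.choose_one_right, pow_succ, pow_succ, pow_add,
          (Commute.pow_pow_self c k (k.choose 2)).eq]
        simp only [mul_assoc]

theorem dvd_unit (hn : 2 ≤ n) (h3 : p = 2 → 3 ≤ n) (hp : p.Prime) :
    (p : ℤ) ∣ ((p : ℤ) ^ (n - 2)) * (p.choose 2 : ℤ) := by
  rcases eq_or_ne p 2 with hp2 | hp2
  · have := h3 hp2
    exact dvd_mul_of_dvd_left (dvd_pow_self _ (by omega)) _
  · refine dvd_mul_of_dvd_right (Int.natCast_dvd_natCast.2 ?_) _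
    exact hp.dvd_choose_self two_ne_zero (lt_of_le_of_ne hp.two_le (Ne.symm hp2))

variable [hp : Fact p.Prime]

/-- An element of order `p` outside `zpowers u` moving `u` by the central element of order `p`. -/
theorem Data.exists_y (h : Data p n u) (hn : 2 ≤ n) (h3 : p = 2 → 3 ≤ n) {m : G}
    (hm : m ∉ zpowers u) (hmc : Commute m (u ^ p)) :
    ∃ y : G, y ∉ zpowers u ∧ y ^ p = 1 ∧ y * u * y⁻¹ = u * u ^ ((p : ℤ) ^ (n - 1)) := by
  obtain ⟨q, rfl⟩ : ∃ q, n = q + 2 := ⟨n - 2, by omega⟩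
  simp only [show q + 2 - 1 = q + 1 from rfl]
  obtain ⟨r, hr⟩ := mem_zpowers_iff.1 (h.conj m)
  have h1 : u ^ (r * p) = u ^ (p : ℤ) := by
    rw [← conj_zpow_eq hr.symm, zpow_natCast, hmc.eq, mul_inv_cancel_right]
  rw [h.zpow_eq_iff, show r * (p : ℤ) - p = p * (r - 1) by ring, pow_succ'] at h1
  obtain ⟨k, hk⟩ := Int.dvd_of_mul_dvd_mul_left (Int.natCast_ne_zero.2 hp.out.ne_zero) h1
  set z := u ^ ((p : ℤ) ^ (q + 1)) with hz
  have hzp : z ^ p = 1 := by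
    rw [hz, ← zpow_natCast, ← zpow_mul, h.zpow_eq_one_iff, ← pow_succ]
  have hkp : ¬ (p : ℤ) ∣ k := by
    rintro ⟨l, rfl⟩
    exact hm (h.mem_of_dvd hr.symm ⟨l, by rw [hk]; ring⟩)
  obtain ⟨a, b, hab⟩ := ((Nat.prime_iff_prime_int.1 hp.out).coprime_iff_not_dvd.2 hkp).symm
  -- replace `m` by a power with the standard action
  obtain ⟨t, ht⟩ : ∃ t : ℕ, (p : ℤ) ∣ (t : ℤ) - a := by
    refine ⟨(a % p).toNat, ?_⟩
    rw [Int.toNat_of_nonneg (Int.emod_nonneg a (Int.natCast_ne_zero.2 hp.out.ne_zero))]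
    exact ⟨-(a / p), by linarith [Int.emod_add_ediv_mul a p]⟩
  have hpow : ∀ j : ℕ, (p : ℤ) ^ (q + 2) ∣ r ^ j - (1 + j * (p : ℤ) ^ (q + 1) * k) := by
    intro j
    induction j with
    | zero => simp
    | succ j ih =>
      obtain ⟨c, hc⟩ := ih
      refine ⟨c * r + j * k * k * (p : ℤ) ^ q, ?_⟩
      rw [pow_succ r j]
      push_cast
      linear_combination r * hc + (1 + (j : ℤ) * (p : ℤ) ^ (q + 1) * k) * hk
  have hmt : m ^ t * u * (m ^ t)⁻¹ = u * z := by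
    rw [conj_pow_eq hr.symm, hz, ← zpow_one_add, h.zpow_eq_iff]
    obtain ⟨c, hc⟩ := hpow t
    obtain ⟨d, hd⟩ := ht
    refine ⟨c + d * k - b, ?_⟩
    linear_combination hc + (p : ℤ) ^ (q + 1) * k * hd + (p : ℤ) ^ (q + 1) * hab
  set m₁ := m ^ t
  have hne : ∀ {x : G}, x * u * x⁻¹ = u * z → x ∉ zpowers u := by
    intro x hx hxu
    rw [(commute_of_mem_zpowers hxu).eq, mul_inv_cancel_right, left_eq_mul, hz,
      h.zpow_eq_one_iff, pow_succ _ (q + 1)] at hx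
    have := Int.natAbs_dvd_natAbs.2 hx
    simp only [Int.natAbs_mul, Int.natAbs_pow, Int.natAbs_natCast] at this
    have h1 := Nat.le_of_dvd (pow_pos hp.out.pos _) this
    nlinarith [hp.out.two_le, pow_pos hp.out.pos (q + 1)]
  have hzu : Commute z u := commute_of_mem_zpowers (zpow_mem (mem_zpowers u) _)
  have hzm : Commute z m₁ := by
    have h2 := conj_zpow (i := (p : ℤ) ^ (q + 1)) (a := m₁) (b := u)
    rw [hmt, hzu.symm.mul_zpow] at h2
    have hzz : z ^ ((p : ℤ) ^ (q + 1)) = 1 := by rw [pow_succ', zpow_mul, zpow_natCast, hzp, one_zpow]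
    rw [hzz, mul_one] at h2
    exact (mul_inv_eq_iff_eq_mul.1 h2.symm).symm
  -- `m₁ ^ p` is a power of `u ^ p`
  obtain ⟨i, hi⟩ : ∃ i : ℤ, u ^ i = m₁ ^ p := by
    refine mem_zpowers_iff.1 (h.cent _ ?_)
    have h2 : m₁ * u * m₁⁻¹ = u ^ (1 + (p : ℤ) ^ (q + 1)) := by rw [hmt, hz, zpow_one_add]
    have h4 := conj_pow_eq h2 p
    have h5 : u ^ ((1 + (p : ℤ) ^ (q + 1)) ^ p) = u ^ (1 : ℤ) := by
      rw [h.zpow_eq_iff]
      obtain ⟨c, hc⟩ := (geom_sum_mod (p : ℤ) ((p : ℤ) ^ q) p).2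
      have e := geom_sum_mul (1 + (p : ℤ) ^ (q + 1)) p
      rw [show 1 + (p : ℤ) * (p : ℤ) ^ q = 1 + (p : ℤ) ^ (q + 1) by ring] at hc
      refine ⟨(p : ℤ) * c + 1 + (p : ℤ) ^ q * (p.choose 2 : ℤ), ?_⟩
      rw [← e]
      linear_combination ((p : ℤ) ^ (q + 1)) * hc
    rw [h5, zpow_one] at h4
    exact mul_inv_eq_iff_eq_mul.1 h4
  obtain ⟨l, rfl⟩ : (p : ℤ) ∣ i := by
    have h2 : m₁ * u ^ i * m₁⁻¹ = u ^ i := by
      rw [hi, ← pow_succ', pow_succ, mul_inv_cancel_right]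
    rw [conj_zpow_eq (r := 1 + (p : ℤ) ^ (q + 1)) (by rw [hmt, hz, zpow_one_add]), h.zpow_eq_iff,
      show (1 + (p : ℤ) ^ (q + 1)) * i - i = (p : ℤ) ^ (q + 1) * i by ring, pow_succ _ (q + 1)] at h2
    exact Int.dvd_of_mul_dvd_mul_left (pow_ne_zero _ (Int.natCast_ne_zero.2 hp.out.ne_zero)) h2
  obtain ⟨e, he⟩ := dvd_unit hn h3 hp.out
  simp only [show q + 2 - 2 = q from rfl] at he
  -- invert `1 + p e` modulo `p ^ (q + 1)`
  obtain ⟨A, B, hAB⟩ : IsCoprime ((p : ℤ) ^ (q + 1)) (1 + p * e) :=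
    IsCoprime.pow_left ⟨-e, 1, by ring⟩
  refine ⟨u ^ (-(l * B)) * m₁, ?_, ?_, ?_⟩
  · intro hmem
    exact hne hmt (by simpa using mul_mem (zpow_mem (mem_zpowers u) (l * B)) hmem)
  · have hconj : m₁ * u ^ (-(l * B)) * m₁⁻¹ = u ^ (-(l * B)) * z ^ (-(l * B)) := by
      rw [← conj_zpow, hmt, hzu.symm.mul_zpow]
    rw [mul_pow_formula hconj ((hzu.zpow_zpow _ _))
      (hzm.zpow_left _), ← hi, hz]
    simp only [← zpow_natCast, ← zpow_mul, ← zpow_add]
    rw [h.zpow_eq_one_iff]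
    refine ⟨l * A, ?_⟩
    linear_combination (-(p : ℤ) * l * B) * he - (p : ℤ) * l * hAB
  · have hu' : Commute (u ^ (-(l * B))) (u * z) :=
      ((Commute.refl u).zpow_left _).mul_right (hzu.symm.zpow_left _)
    rw [mul_inv_rev, show u ^ (-(l * B)) * m₁ * u * (m₁⁻¹ * (u ^ (-(l * B)))⁻¹) =
      u ^ (-(l * B)) * (m₁ * u * m₁⁻¹) * (u ^ (-(l * B)))⁻¹ by simp [mul_assoc], hmt, hu'.eq,
      mul_inv_cancel_right]

variable {y : G}

theorem Data.exists_coord (h : Data p n u) (hn : 2 ≤ n)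
    (hy : y * u * y⁻¹ = u * u ^ ((p : ℤ) ^ (n - 1))) {g : G} (hg : Commute g (u ^ p)) :
    ∃ (i : ℤ) (e : ℕ), g = u ^ i * y ^ e := by
  obtain ⟨q, rfl⟩ : ∃ q, n = q + 2 := ⟨n - 2, by omega⟩
  simp only [show q + 2 - 1 = q + 1 from rfl] at hy
  obtain ⟨r, hr⟩ := mem_zpowers_iff.1 (h.conj g)
  have h1 : u ^ (r * p) = u ^ (p : ℤ) := by
    rw [← conj_zpow_eq hr.symm, zpow_natCast, hg.eq, mul_inv_cancel_right]
  rw [h.zpow_eq_iff, show r * (p : ℤ) - p = p * (r - 1) by ring, pow_succ'] at h1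
  obtain ⟨k, hk⟩ := Int.dvd_of_mul_dvd_mul_left (Int.natCast_ne_zero.2 hp.out.ne_zero) h1
  obtain ⟨t, ht⟩ : ∃ t : ℕ, (p : ℤ) ∣ (t : ℤ) - k := by
    refine ⟨(k % p).toNat, ?_⟩
    rw [Int.toNat_of_nonneg (Int.emod_nonneg k (Int.natCast_ne_zero.2 hp.out.ne_zero))]
    exact ⟨-(k / p), by linarith [Int.emod_add_ediv_mul k p]⟩
  have hy' : y * u * y⁻¹ = u ^ (1 + (p : ℤ) ^ (q + 1)) := by rw [hy, zpow_one_add]
  have hpow : ∀ j : ℕ, (p : ℤ) ^ (q + 2) ∣
      (1 + (p : ℤ) ^ (q + 1)) ^ j - (1 + j * (p : ℤ) ^ (q + 1)) := by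
    intro j
    induction j with
    | zero => simp
    | succ j ih =>
      obtain ⟨c, hc⟩ := ih
      refine ⟨c * (1 + (p : ℤ) ^ (q + 1)) + j * (p : ℤ) ^ q, ?_⟩
      rw [pow_succ (1 + (p : ℤ) ^ (q + 1)) j]
      push_cast
      linear_combination (1 + (p : ℤ) ^ (q + 1)) * hc
  have hin : g * (y ^ t)⁻¹ ∈ zpowers u := by
    refine h.cent _ ?_
    have e1 : y ^ t * u * (y ^ t)⁻¹ = g * u * g⁻¹ := by
      rw [conj_pow_eq hy', ← hr, h.zpow_eq_iff]
      obtain ⟨c, hc⟩ := hpow t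
      obtain ⟨d, hd⟩ := ht
      refine ⟨c + d, ?_⟩
      linear_combination hc - hk + (p : ℤ) ^ (q + 1) * hd
    have e2 : (y ^ t)⁻¹ * u = (y ^ t)⁻¹ * g * ((y ^ t)⁻¹ * g)⁻¹ * ((y ^ t)⁻¹ * u) := by group
    obtain ⟨j, hj⟩ := mem_zpowers_iff.1 (h.conj (y ^ t)⁻¹)
    have e3 : u = (y ^ t)⁻¹ * (g * u * g⁻¹) * y ^ t := by rw [← e1]; group
    have e4 : g * u * g⁻¹ = y ^ t * u * (y ^ t)⁻¹ := e1.symm
    calc g * (y ^ t)⁻¹ * u = g * ((y ^ t)⁻¹ * u * y ^ t) * (y ^ t)⁻¹ := by group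
      _ = g * u ^ j * g⁻¹ * (g * (y ^ t)⁻¹) := by rw [hj, inv_inv]; group
      _ = y ^ t * u ^ j * (y ^ t)⁻¹ * (g * (y ^ t)⁻¹) := by
        rw [← conj_zpow, ← conj_zpow, e4]
      _ = u * (g * (y ^ t)⁻¹) := by rw [hj, inv_inv]; group
  obtain ⟨i, hi⟩ := mem_zpowers_iff.1 hin
  exact ⟨i, t, by rw [hi, inv_mul_cancel_right]⟩

theorem Data.pow_coord (h : Data p n u) (hn : 2 ≤ n) (hyp : y ^ p = 1)
    (hy : y * u * y⁻¹ = u * u ^ ((p : ℤ) ^ (n - 1))) (i : ℤ) (e : ℕ) :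
    (u ^ i * y ^ e) ^ p =
      u ^ (i * p * (1 + e * ((p : ℤ) ^ (n - 2) * (p.choose 2 : ℤ)))) := by
  obtain ⟨q, rfl⟩ : ∃ q, n = q + 2 := ⟨n - 2, by omega⟩
  simp only [show q + 2 - 1 = q + 1 from rfl] at hy
  simp only [show q + 2 - 2 = q from rfl]
  set z := u ^ ((p : ℤ) ^ (q + 1)) with hz
  have hzu : Commute z u := commute_of_mem_zpowers (zpow_mem (mem_zpowers u) _)
  have hzy : Commute z y := by
    have h2 := conj_zpow (i := (p : ℤ) ^ (q + 1)) (a := y) (b := u)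
    rw [hy, hzu.symm.mul_zpow] at h2
    have hzz : z ^ ((p : ℤ) ^ (q + 1)) = 1 := by
      rw [hz, ← zpow_mul, h.zpow_eq_one_iff, ← pow_add]
      exact pow_dvd_pow _ (by omega)
    rw [hzz, mul_one] at h2
    exact (mul_inv_eq_iff_eq_mul.1 h2.symm).symm
  have hye : ∀ e : ℕ, y ^ e * u * (y ^ e)⁻¹ = u * z ^ e := by
    intro e
    induction e with
    | zero => simp
    | succ e ih =>
      rw [pow_succ', mul_inv_rev, show y * y ^ e * u * ((y ^ e)⁻¹ * y⁻¹) =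
        y * (y ^ e * u * (y ^ e)⁻¹) * y⁻¹ by simp [mul_assoc], ih,
        show y * (u * z ^ e) * y⁻¹ = (y * u * y⁻¹) * (y * z ^ e * y⁻¹) by simp [mul_assoc], hy,
        ← (hzy.pow_left e).eq, mul_inv_cancel_right, pow_succ', mul_assoc]
  have hc : y ^ e * u ^ i * (y ^ e)⁻¹ = u ^ i * (z ^ e) ^ i := by
    rw [← conj_zpow, hye, (hzu.pow_left e).symm.mul_zpow]
  rw [mul_pow_formula hc ((hzu.pow_left e).zpow_zpow _ _) (((hzy.pow_right e).pow_left e).zpow_left _),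
    show (y ^ e) ^ p = 1 by rw [← pow_mul, mul_comm, pow_mul, hyp, one_pow], mul_one, hz]
  simp only [← zpow_natCast, ← zpow_mul, ← zpow_add]
  congr 1
  ring

theorem Data.dvd_of_pow (h : Data p n u) (hn : 2 ≤ n) (h3 : p = 2 → 3 ≤ n) (hyp : y ^ p = 1)
    (hy : y * u * y⁻¹ = u * u ^ ((p : ℤ) ^ (n - 1))) {i : ℤ} {e j : ℕ} (hj : j + 1 ≤ n)
    (hpow : ((u ^ i * y ^ e) ^ p) ^ p ^ j = 1) : (p : ℤ) ^ (n - 1 - j) ∣ i := by
  rw [h.pow_coord hn hyp hy, ← zpow_natCast, ← zpow_mul, h.zpow_eq_one_iff] at hpow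
  obtain ⟨d, hd⟩ := dvd_unit hn h3 hp.out
  rw [hd] at hpow
  have hco : IsCoprime ((p : ℤ) ^ n) (1 + e * (p * d)) :=
    IsCoprime.pow_left ⟨-(e * d), 1, by ring⟩
  have h1 : (p : ℤ) ^ (n - 1 - j) * (p : ℤ) ^ (j + 1) ∣ i * (p : ℤ) ^ (j + 1) := by
    rw [← pow_add, show n - 1 - j + (j + 1) = n by omega]
    refine hco.dvd_of_dvd_mul_left (dvd_trans hpow (dvd_of_eq ?_))
    push_cast
    ring
  exact Int.dvd_of_mul_dvd_mul_right (pow_ne_zero _ (Int.natCast_ne_zero.2 hp.out.ne_zero)) h1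

/-- The centralizer of `u ^ p` modulo `zpowers u`. -/
theorem Data.card_centralizer [Finite G] (h : Data p n u) (hn : 2 ≤ n) (hyu : y ∉ zpowers u)
    (hyp : y ^ p = 1) (hy : y * u * y⁻¹ = u * u ^ ((p : ℤ) ^ (n - 1))) :
    centralizer ({u ^ p} : Set G) = zpowers y ⊔ zpowers u ∧
      Nat.card ↥(centralizer ({u ^ p} : Set G)) = p * Nat.card ↥(zpowers u) := by
  have hyc : Commute y (u ^ p) := by
    rw [← zpow_natCast]
    refine mul_inv_eq_iff_eq_mul.1 ?_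
    rw [← conj_zpow, hy, (commute_of_mem_zpowers (zpow_mem (mem_zpowers u) _)).symm.mul_zpow,
      ← zpow_mul, ← pow_succ, show n - 1 + 1 = n by omega, mul_eq_left, h.zpow_eq_one_iff]
  have huc : u ∈ centralizer ({u ^ p} : Set G) :=
    mem_centralizer_singleton_iff.2 ((Commute.refl u).pow_right p).eq
  have heq : centralizer ({u ^ p} : Set G) = zpowers y ⊔ zpowers u := by
    refine le_antisymm (fun g hg => ?_)
      (sup_le (zpowers_le.2 (mem_centralizer_singleton_iff.2 hyc.eq)) (zpowers_le.2 huc))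
    obtain ⟨i, e, rfl⟩ := h.exists_coord hn hy (mem_centralizer_singleton_iff.1 hg)
    exact mul_mem (mem_sup_right (zpow_mem (mem_zpowers u) i))
      (mem_sup_left (pow_mem (mem_zpowers y) e))
  refine ⟨heq, ?_⟩
  have hnorm : y ∈ normalizer (zpowers u : Set G) :=
    Subgroup.mem_normalizer_iff_map_conj_eq.2 (eq_of_le_of_card_ge
      (by rintro _ ⟨x, ⟨i, rfl⟩, rfl⟩
          obtain ⟨r, hr⟩ := mem_zpowers_iff.1 (h.conj y)
          exact ⟨r * i, (conj_zpow_eq hr.symm i).symm⟩)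
      (le_of_eq (card_map_of_injective (MulAut.conj y).injective).symm))
  have hle : Nat.card ↥(zpowers y ⊔ zpowers u) ≤ p * Nat.card ↥(zpowers u) := by
    rw [← Nat.card_fin p, ← Nat.card_prod]
    refine Nat.card_le_card_of_surjective (fun t : Fin p × zpowers u =>
      (⟨y ^ (t.1 : ℕ) * (t.2 : G), mul_mem (mem_sup_left (npow_mem_zpowers y _))
        (mem_sup_right t.2.2)⟩ : ↥(zpowers y ⊔ zpowers u))) ?_
    rintro ⟨v, hv⟩
    rw [← SetLike.mem_coe, Subgroup.coe_mul_of_left_le_normalizer_right _ _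
      (zpowers_le.2 hnorm), Set.mem_mul] at hv
    obtain ⟨a, ⟨k, rfl⟩, b, hb, rfl⟩ := hv
    have hnn := Int.emod_nonneg k (Int.natCast_ne_zero.2 hp.out.ne_zero)
    refine ⟨(⟨(k % p).toNat, ?_⟩, ⟨b, hb⟩), Subtype.ext ?_⟩
    · have := Int.emod_lt_of_pos k (show (0 : ℤ) < p by exact_mod_cast hp.out.pos)
      omega
    · show y ^ (k % p).toNat * b = y ^ k * b
      rw [← zpow_natCast, Int.toNat_of_nonneg hnn]
      nth_rw 2 [← Int.emod_add_ediv_mul k p]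
      rw [zpow_add, mul_comm (k / (p : ℤ)), zpow_mul, zpow_natCast, hyp, one_zpow, mul_one]
  rw [heq]
  refine le_antisymm hle ?_
  have hlt : zpowers u < zpowers y ⊔ zpowers u :=
    lt_of_le_of_ne le_sup_right fun e => hyu (e.ge (mem_sup_left (mem_zpowers y)))
  obtain ⟨a, ha⟩ := IsPGroup.iff_card.1 (h.isP.to_subgroup (zpowers y ⊔ zpowers u))
  rw [Nat.card_zpowers, h.ord, ha, ← pow_succ']
  have h1 := Cfsg.Lib.Fusion.card_lt_card_of_lt hlt
  rw [Nat.card_zpowers, h.ord, ha] at h1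
  exact Nat.pow_le_pow_right hp.out.pos ((Nat.pow_lt_pow_iff_right hp.out.one_lt).1 h1)

end Cfsg.Lib.CyclicNormal
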