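import Cfsg.Prelude.Def_Transfer
import Cfsg.Agent.Lib.PGroup.Basic
import Cfsg.Agent.Lib.Core.Cores

/-!
# Normal subgroups of every order inside a normal subgroup of a `p`-group
-/

set_option autoImplicit false
set_option linter.style.haveILetI false

namespace Cfsg.Lib.PGroup.NormalStep

open Subgroup

variable {R : Type*} [Group R] [Finite R] {p : ℕ} [hp : Fact p.Prime]

theorem exists_normal_le (hR : IsPGroup p R) (A : Subgroup R) [A.Normal] :
    ∀ k : ℕ, p ^ k ∣ Nat.card A → ∃ B : Subgroup R, B.Normal ∧ B ≤ A ∧ Nat.card B = p ^ k := by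
  intro k
  induction k with
  | zero => exact fun _ => ⟨⊥, inferInstance, bot_le, by rw [card_bot, pow_zero]⟩
  | succ k ih =>
    intro hk
    obtain ⟨B, hBn, hBA, hBc⟩ := ih ((pow_dvd_pow p (Nat.le_succ k)).trans hk)
    haveI := hBn
    set π := QuotientGroup.mk' B with hπ
    have hsurj := QuotientGroup.mk'_surjective B
    haveI : (A.map π).Normal := (inferInstance : A.Normal).map π hsurj
    have hne : A.map π ≠ ⊥ := by
      intro h
      rw [Subgroup.map_eq_bot_iff, hπ, QuotientGroup.ker_mk'] at h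
      have h1 := Nat.le_of_dvd Nat.card_pos (hk.trans (card_dvd_of_le h))
      rw [hBc] at h1
      exact absurd h1 (not_le.2 (Nat.pow_lt_pow_right hp.out.one_lt (Nat.lt_succ_self k)))
    obtain ⟨w, hwA, hwc, hw⟩ := exists_mem_center_orderOf_eq (hR.to_quotient B) hne
    haveI : (zpowers w).Normal := ⟨fun a ha g => by
      rw [Subgroup.mem_center_iff.1 (zpowers_le.2 hwc ha) g, mul_inv_cancel_right]; exact ha⟩
    refine ⟨(zpowers w).comap π, inferInstance, ?_, ?_⟩
    · refine (comap_mono (zpowers_le.2 hwA)).trans (le_of_eq ?_)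
      rw [comap_map_eq, hπ, QuotientGroup.ker_mk', sup_eq_left]
      exact hBA
    · rw [Cfsg.Lib.Core.card_comap_eq π hsurj, hπ, QuotientGroup.ker_mk', hBc, Nat.card_zpowers, hw, pow_succ]

end Cfsg.Lib.PGroup.NormalStep
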