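import Cfsg.Agent.Lib.PGroup.AbelianIndexP
import Cfsg.Agent.Lib.Core.Basic

/-!
# The commutator endomorphism attached to an abelian subgroup of index `p`
-/

set_option autoImplicit false

namespace Cfsg.Lib.PGroup.AbelianIndex

open scoped commutatorElement

universe u

variable {G : Type u} [Group G] {p : ℕ}

/-- An abelian subgroup of index `p` of a nonabelian finite `p`-group and an element outside. -/
structure Data (p : ℕ) (A : Subgroup G) (x : G) : Prop where
  isPGroup : IsPGroup p G
  noncomm : ¬ IsMulCommutative G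
  comm : IsMulCommutative A
  index : A.index = p
  not_mem : x ∉ A

variable {A : Subgroup G} {x : G}

theorem Data.normal [Finite G] [Fact p.Prime] (h : Data p A x) : A.Normal :=
  normal_of_index_eq h.isPGroup h.index

theorem Data.commute (h : Data p A x) {a b : G} (ha : a ∈ A) (hb : b ∈ A) : Commute a b :=
  congrArg (fun t : A => (t : G)) (h.comm.is_comm.comm ⟨a, ha⟩ ⟨b, hb⟩)

theorem Data.comm_mem [Finite G] [Fact p.Prime] (h : Data p A x) {a : G} (ha : a ∈ A) (g : G) :
    ⁅a, g⁆ ∈ A := by
  rw [commutatorElement_def, mul_assoc, mul_assoc]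
  exact mul_mem ha (by
    have := h.normal.conj_mem _ (inv_mem ha) g
    rwa [mul_assoc] at this)

theorem Data.exists_pow [Finite G] [Fact p.Prime] (h : Data p A x) (g : G) :
    ∃ i : ℕ, (x ^ i)⁻¹ * g ∈ A := by
  haveI := h.normal
  have hg : g ∈ A ⊔ Subgroup.zpowers x :=
    sup_zpowers_eq_top_of_index h.index h.not_mem ▸ Subgroup.mem_top g
  obtain ⟨a, ha, y, hy, rfl⟩ := Subgroup.mem_sup_of_normal_left.mp hg
  obtain ⟨i, rfl⟩ := mem_powers_iff_mem_zpowers.mpr hy
  refine ⟨i, ?_⟩
  have := h.normal.conj_mem a ha (x ^ i)⁻¹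
  rwa [inv_inv, mul_assoc] at this

theorem Data.center_le [Finite G] [Fact p.Prime] (h : Data p A x) : Subgroup.center G ≤ A :=
  haveI := h.comm
  center_le_of_abelian_index h.noncomm h.index

theorem Data.mem_center_iff [Finite G] [Fact p.Prime] (h : Data p A x) {a : G} (ha : a ∈ A) :
    a ∈ Subgroup.center G ↔ Commute a x := by
  refine ⟨fun hz => (Subgroup.mem_center_iff.mp hz x).symm, fun hc => Subgroup.mem_center_iff.mpr fun g => ?_⟩
  obtain ⟨i, hi⟩ := h.exists_pow g
  have h1 := (hc.pow_right i).mul_right (h.commute ha hi)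
  rw [mul_inv_cancel_left] at h1
  exact h1.eq.symm

/-- The endomorphism `a ↦ [a, x]` of `A`. -/
def Data.phi [Finite G] [Fact p.Prime] (h : Data p A x) : A →* A where
  toFun a := ⟨⁅(a : G), x⁆, h.comm_mem a.2 x⟩
  map_one' := Subtype.ext (by simp)
  map_mul' a b := Subtype.ext (by
    have h1 : (a : G) * ⁅(b : G), x⁆ = ⁅(b : G), x⁆ * a := h.commute a.2 (h.comm_mem b.2 x)
    show ⁅(a : G) * b, x⁆ = ⁅(a : G), x⁆ * ⁅(b : G), x⁆
    calc ⁅(a : G) * b, x⁆ = (a : G) * ⁅(b : G), x⁆ * (a : G)⁻¹ * ⁅(a : G), x⁆ := by
          simp [commutatorElement_def, mul_assoc]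
      _ = ⁅(b : G), x⁆ * ⁅(a : G), x⁆ := by rw [h1, mul_inv_cancel_right]
      _ = _ := h.commute (h.comm_mem b.2 x) (h.comm_mem a.2 x))

theorem Data.coe_phi [Finite G] [Fact p.Prime] (h : Data p A x) (a : A) :
    ((h.phi a : A) : G) = ⁅(a : G), x⁆ := rfl

theorem Data.ker_phi [Finite G] [Fact p.Prime] (h : Data p A x) :
    h.phi.ker = (Subgroup.center G).subgroupOf A := by
  ext a
  rw [MonoidHom.mem_ker, Subgroup.mem_subgroupOf, h.mem_center_iff a.2, Subtype.ext_iff, h.coe_phi]
  exact commutatorElement_eq_one_iff_commute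

theorem Data.card_ker [Finite G] [Fact p.Prime] (h : Data p A x) :
    Nat.card h.phi.ker = Nat.card (Subgroup.center G) := by
  rw [h.ker_phi, Nat.card_congr (Subgroup.subgroupOfEquivOfLe h.center_le).toEquiv]

theorem Data.card_center_mul_range [Finite G] [Fact p.Prime] (h : Data p A x) :
    Nat.card (Subgroup.center G) * Nat.card h.phi.range = Nat.card A := by
  rw [← h.card_ker, ← Subgroup.index_ker, Subgroup.card_mul_index]

theorem Data.range_eq [Finite G] [Fact p.Prime] (h : Data p A x) :
    h.phi.range.map A.subtype = commutator G := by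
  refine Subgroup.eq_of_le_of_card_ge ?_ ?_
  · rintro _ ⟨_, ⟨a, rfl⟩, rfl⟩
    exact Subgroup.commutator_mem_commutator (Subgroup.mem_top _) (Subgroup.mem_top _)
  · haveI := h.comm
    rw [Subgroup.card_map_of_injective A.subtype_injective]
    have h1 := index_center_of_abelian_index h.isPGroup h.noncomm h.index
    have h2 := (Subgroup.center G).card_mul_index
    have h3 := A.card_mul_index
    rw [h1] at h2
    rw [h.index, ← h.card_center_mul_range] at h3
    refine le_of_eq (Nat.eq_of_mul_eq_mul_left
      (Nat.mul_pos (Nat.card_pos (α := Subgroup.center G)) (Fact.out : p.Prime).pos) ?_)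
    rw [mul_assoc, h2, mul_right_comm, h3]

theorem Data.mem_upperTwo [Finite G] [Fact p.Prime] (h : Data p A x) {a : G} (ha : a ∈ A) :
    a ∈ Subgroup.upperCentralSeries G 2 ↔ ⁅a, x⁆ ∈ Subgroup.center G := by
  rw [Subgroup.mem_upperCentralSeries_succ_iff, Subgroup.upperCentralSeries_one]
  refine ⟨fun hy => ?_, fun hc y => ?_⟩
  · exact hy x
  · obtain ⟨i, hi⟩ := h.exists_pow y
    set π := QuotientGroup.mk' (Subgroup.center G)
    rw [← QuotientGroup.eq_one_iff]
    show π ⁅a, y⁆ = 1
    rw [map_commutatorElement, commutatorElement_eq_one_iff_commute,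
      show y = x ^ i * ((x ^ i)⁻¹ * y) from (mul_inv_cancel_left _ _).symm, map_mul, map_pow]
    have h1 : Commute (π a) (π x) := by
      rw [← commutatorElement_eq_one_iff_commute, ← map_commutatorElement]
      exact (QuotientGroup.eq_one_iff _).mpr hc
    exact (h1.pow_right i).mul_right ((h.commute ha hi).map π)

/-- The numerical consequences of `Z₂(G) ≤ A` with `|Z₂(G) : Z(G)| = p`. -/
theorem Data.numerics [Finite G] [Fact p.Prime] (h : Data p A x)
    (hZ2 : Subgroup.upperCentralSeries G 2 ≤ A)
    (hcard : Nat.card (Subgroup.upperCentralSeries G 2) = p * Nat.card (Subgroup.center G)) :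
    Nat.card ↥(Subgroup.center G ⊓ commutator G) = p ∧
      (Subgroup.center G ⊔ commutator G).relIndex A = p ∧
      ∀ m : ℕ, (Subgroup.center G).index = p ^ m → 3 ≤ m →
        ¬ (⊤ : Subgroup G).lowerCentralSeries (m - 2) ≤ Subgroup.center G := by
  have hp := (Fact.out : p.Prime)
  have hZA := h.center_le
  have hSA : commutator G ≤ A := by rw [← h.range_eq]; exact Subgroup.map_subtype_le _
  have key : Nat.card ↥((Subgroup.center G).subgroupOf A ⊓ h.phi.range) = p := by
    have h1 : ((Subgroup.center G).subgroupOf A).comap h.phi =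
        (Subgroup.upperCentralSeries G 2).subgroupOf A := by
      ext a
      rw [Subgroup.mem_comap, Subgroup.mem_subgroupOf, Subgroup.mem_subgroupOf, h.coe_phi,
        h.mem_upperTwo a.2]
    have h2 : Nat.card ↥(((Subgroup.center G).subgroupOf A).comap h.phi) =
        Nat.card h.phi.ker * Nat.card ↥((Subgroup.center G).subgroupOf A ⊓ h.phi.range) := by
      rw [inf_comm ((Subgroup.center G).subgroupOf A), ← Subgroup.map_comap_eq]
      have h3 := Subgroup.card_mul_index (Subgroup.subgroupOf h.phi.ker
        (((Subgroup.center G).subgroupOf A).comap h.phi))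
      rw [Nat.card_congr (Subgroup.subgroupOfEquivOfLe (Subgroup.ker_le_comap _ _)).toEquiv] at h3
      rw [← h3]
      congr 1
      have h4 := Subgroup.index_ker (h.phi.comp
        (((Subgroup.center G).subgroupOf A).comap h.phi).subtype)
      rw [← MonoidHom.comap_ker, MonoidHom.range_comp, Subgroup.range_subtype] at h4
      exact h4
    rw [h1, Nat.card_congr (Subgroup.subgroupOfEquivOfLe hZ2).toEquiv, hcard, h.card_ker,
      mul_comm p] at h2
    exact (Nat.eq_of_mul_eq_mul_left Nat.card_pos h2).symm
  have hmap : ((Subgroup.center G).subgroupOf A ⊓ h.phi.range).map A.subtype =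
      Subgroup.center G ⊓ commutator G := by
    rw [Subgroup.map_inf _ _ _ A.subtype_injective, h.range_eq, Subgroup.subgroupOf_map_subtype,
      inf_eq_left.mpr hZA]
  have hinf : Nat.card ↥(Subgroup.center G ⊓ commutator G) = p := by
    rw [← hmap, Subgroup.card_map_of_injective A.subtype_injective, key]
  refine ⟨hinf, ?_, fun m hm hm3 hle => ?_⟩
  · have hsup : Nat.card (Subgroup.center G) * Nat.card (commutator G) =
        Nat.card ↥(Subgroup.center G ⊔ commutator G) *
          Nat.card ↥(Subgroup.center G ⊓ commutator G) := by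
      have a1 := Cfsg.Lib.Core.card_mul_relIndex
        (le_sup_left : Subgroup.center G ≤ Subgroup.center G ⊔ commutator G)
      have a2 := Cfsg.Lib.Core.card_mul_relIndex
        (inf_le_right : Subgroup.center G ⊓ commutator G ≤ commutator G)
      rw [Subgroup.inf_relIndex_right] at a2
      rw [sup_comm, Subgroup.relIndex_sup_right, sup_comm] at a1
      rw [← a1, ← a2]; ring
    have hS : Nat.card (commutator G) = Nat.card h.phi.range := by
      rw [← h.range_eq, Subgroup.card_map_of_injective A.subtype_injective]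
    rw [hinf, hS, h.card_center_mul_range] at hsup
    have h3 := (Subgroup.center G ⊔ commutator G).subgroupOf A |>.card_mul_index
    rw [Nat.card_congr (Subgroup.subgroupOfEquivOfLe (sup_le hZA hSA)).toEquiv] at h3
    exact Nat.eq_of_mul_eq_mul_left Nat.card_pos (h3.trans hsup)
  · have hR : ∀ j : ℕ, (h.phi.range.map A.subtype ⊓ ⊤ ≤ commutator G) := fun _ =>
      inf_le_left.trans h.range_eq.le
    have hit : ∀ j : ℕ, ∃ B : Subgroup A, B ≤ h.phi.range ∧
        B.map A.subtype ≤ (⊤ : Subgroup G).lowerCentralSeries (j + 1) ∧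
        Nat.card h.phi.range ≤ p ^ j * Nat.card B := by
      intro j
      induction j with
      | zero =>
        refine ⟨h.phi.range, le_rfl, ?_, by simp⟩
        rw [h.range_eq, zero_add, Subgroup.top_lowerCentralSeries_one]
      | succ j ih =>
        obtain ⟨B, hB1, hB2, hB3⟩ := ih
        refine ⟨B.map h.phi, Subgroup.map_le_range _ _, ?_, ?_⟩
        · rintro _ ⟨_, ⟨b, hb, rfl⟩, rfl⟩
          rw [Subgroup.lowerCentralSeries_succ]
          exact Subgroup.commutator_mem_commutator (hB2 ⟨b, hb, rfl⟩) (Subgroup.mem_top x)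
        · refine hB3.trans ?_
          rw [pow_succ, mul_assoc]
          refine Nat.mul_le_mul_left _ ?_
          have h1 := Subgroup.card_mul_index (h.phi.comp B.subtype).ker
          rw [Subgroup.index_ker, MonoidHom.range_comp, Subgroup.range_subtype] at h1
          rw [← h1]
          refine Nat.mul_le_mul_right _ ?_
          rw [← Subgroup.card_map_of_injective B.subtype_injective]
          refine le_trans (Subgroup.card_le_of_le ?_) key.le
          rintro _ ⟨b, hb, rfl⟩
          exact ⟨h.ker_phi.le hb, hB1 b.2⟩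
    obtain ⟨B, hB1, hB2, hB3⟩ := hit (m - 3)
    rw [show m - 3 + 1 = m - 2 by omega] at hB2
    have hBle : B ≤ (Subgroup.center G).subgroupOf A ⊓ h.phi.range :=
      le_inf (fun b hb => hle (hB2 ⟨b, hb, rfl⟩)) hB1
    have hBp := Subgroup.card_le_of_le hBle
    rw [key] at hBp
    have hRm : Nat.card h.phi.range = p ^ (m - 1) := by
      have h2 := (Subgroup.center G).card_mul_index
      have h3 := A.card_mul_index
      rw [h.index, ← h.card_center_mul_range] at h3
      rw [hm, ← h3, mul_assoc] at h2
      have h4 := Nat.eq_of_mul_eq_mul_left Nat.card_pos h2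
      rw [show m = m - 1 + 1 by omega, pow_succ] at h4
      exact (Nat.eq_of_mul_eq_mul_right hp.pos h4).symm
    rw [hRm] at hB3
    have h5 := hB3.trans (Nat.mul_le_mul_left _ hBp)
    rw [← pow_succ, Nat.pow_le_pow_iff_right hp.one_lt] at h5
    omega

end Cfsg.Lib.PGroup.AbelianIndex
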