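import Cfsg.Agent.Lib.PGroup.Basic
import Cfsg.Agent.Lib.PGroup.ClassTwo
import Cfsg.Agent.Lib.TwoGroup.Models
import Mathlib.GroupTheory.NoncommCoprod

/-!
# Groups with derived subgroup of order `p` and an elementary abelian subgroup of index `p`
-/

set_option autoImplicit false

namespace Cfsg.Lib.PGroup

open Subgroup
open scoped commutatorElement

variable {p : ℕ} [Fact p.Prime] {P : Type*} [Group P] [Finite P]

/-- Data extracted from a non-commuting pair in a group with derived subgroup of order `p`. -/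
theorem centralizer_data (hP : IsPGroup p P) (hD : Nat.card (commutator P) = p)
    {x y : P} (hxy : x * y ≠ y * x) (hC : ∀ a b : P, a * y = y * a → b * y = y * b → a * b = b * a) :
    commutator P ≤ center P ∧ Nat.card P = p * (p * Nat.card (center P)) ∧
      (∀ g : P, ∃ (i : ℕ) (c : P), c * y = y * c ∧ g = x ^ i * c) ∧
      ∀ c : P, c * y = y * c → ∃ i : ℕ, ∃ w ∈ center P, c = y ^ i * w := by
  have hp := (Fact.out : p.Prime)
  have hc2 : commutator P ≤ center P := le_center_of_card_eq_prime hP hD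
  let φ : P →* commutator P :=
    { toFun := fun g => ⟨⁅g, y⁆, commutator_mem_commutator (mem_top g) (mem_top y)⟩
      map_one' := Subtype.ext (by simp)
      map_mul' := fun a b => Subtype.ext (commutatorElement_mul_left hc2 a b y) }
  have hker : ∀ g, g ∈ φ.ker ↔ g * y = y * g := fun g => by
    rw [MonoidHom.mem_ker]
    exact ⟨fun h => commutatorElement_eq_one_iff_mul_comm.1 (congrArg Subtype.val h),
      fun h => Subtype.ext (commutatorElement_eq_one_iff_mul_comm.2 h)⟩
  have hsurj : ∀ (f : commutator P), f ≠ 1 → zpowers f = ⊤ := fun f hf =>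
    eq_top_of_card_eq _ (by
      rw [Nat.card_zpowers, hD]
      exact ((Nat.dvd_prime hp).1 (hD ▸ orderOf_dvd_natCard f)).resolve_left
        (fun h => hf (orderOf_eq_one_iff.1 h)))
  have hx : φ x ≠ 1 := fun h => hxy ((hker x).1 h)
  have hφs : φ.range = ⊤ := eq_top_iff.2 ((hsurj _ hx).ge.trans (zpowers_le.2 ⟨x, rfl⟩))
  have hcard1 : Nat.card P = p * Nat.card φ.ker := by
    rw [φ.ker.card_eq_card_quotient_mul_card_subgroup,
      Nat.card_congr (QuotientGroup.quotientKerEquivRange φ).toEquiv, hφs, card_top, hD]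
  have hdec : ∀ g : P, ∃ (i : ℕ) (c : P), c * y = y * c ∧ g = x ^ i * c := by
    intro g
    obtain ⟨i, hi⟩ := (isOfFinOrder_of_finite (φ x)).mem_powers_iff_mem_zpowers.2
      ((hsurj _ hx).ge (mem_top (φ g)))
    refine ⟨i, (x ^ i)⁻¹ * g, (hker _).1 ?_, (mul_inv_cancel_left _ _).symm⟩
    rw [MonoidHom.mem_ker, map_mul, map_inv, map_pow, inv_mul_eq_one]
    exact hi
  let ψ : φ.ker →* commutator P :=
    { toFun := fun c => ⟨⁅x, (c : P)⁆, commutator_mem_commutator (mem_top x) (mem_top _)⟩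
      map_one' := Subtype.ext (by simp)
      map_mul' := fun a b => Subtype.ext (commutatorElement_mul_right hc2 x a b) }
  have hψker : ∀ c : φ.ker, c ∈ ψ.ker ↔ (c : P) ∈ center P := by
    intro c
    rw [MonoidHom.mem_ker]
    constructor
    · intro h
      have h1 : x * (c : P) = c * x :=
        commutatorElement_eq_one_iff_mul_comm.1 (congrArg Subtype.val h)
      refine mem_center_iff.2 fun g => ?_
      obtain ⟨i, d, hd, rfl⟩ := hdec g
      exact ((Commute.pow_left (h1 : Commute x c) i).mul_left (hC d c hd ((hker _).1 c.2))).eq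
    · intro h
      exact Subtype.ext (commutatorElement_eq_one_iff_mul_comm.2 (mem_center_iff.1 h x))
  have hy : y ∈ φ.ker := (hker y).2 rfl
  have hy' : ψ ⟨y, hy⟩ ≠ 1 := fun h => hxy (commutatorElement_eq_one_iff_mul_comm.1 (congrArg Subtype.val h))
  have hψs : ψ.range = ⊤ := eq_top_iff.2 ((hsurj _ hy').ge.trans (zpowers_le.2 ⟨⟨y, hy⟩, rfl⟩))
  have hZC : center P ≤ φ.ker := fun z hz => (hker z).2 (mem_center_iff.1 hz y).symm
  have hcard2 : Nat.card φ.ker = p * Nat.card (center P) := by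
    rw [ψ.ker.card_eq_card_quotient_mul_card_subgroup,
      Nat.card_congr (QuotientGroup.quotientKerEquivRange ψ).toEquiv, hψs, card_top, hD,
      ← Nat.card_congr (Subgroup.subgroupOfEquivOfLe hZC).toEquiv]
    congr 2
    have : ψ.ker = (center P).subgroupOf φ.ker := ext hψker
    rw [this]
  refine ⟨hc2, by rw [hcard1, hcard2], hdec, fun c hc => ?_⟩
  obtain ⟨i, hi⟩ := (isOfFinOrder_of_finite (ψ ⟨y, hy⟩)).mem_powers_iff_mem_zpowers.2
    ((hsurj _ hy').ge (mem_top (ψ ⟨c, (hker c).2 hc⟩)))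
  refine ⟨i, (y ^ i)⁻¹ * c, ?_, (mul_inv_cancel_left _ _).symm⟩
  have h1 := (hψker ((⟨y, hy⟩ : φ.ker) ^ i)⁻¹ |>.1)
  have h2 : (⟨y, hy⟩ : φ.ker) ^ i * 1 = ⟨y, hy⟩ ^ i := mul_one _
  have h3 : ((⟨y, hy⟩ : φ.ker) ^ i)⁻¹ * ⟨c, (hker c).2 hc⟩ ∈ ψ.ker := by
    rw [MonoidHom.mem_ker, map_mul, map_inv, map_pow, inv_mul_eq_one]
    exact hi
  have h4 := (hψker _).1 h3
  simpa using h4

/-- A group with derived subgroup of order `p`, all of whose `p`-th powers lie in it, generated by an
element of order `p` and an elementary abelian centralizer, is a product of a group of order `p ^ 3`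
generated by two elements of order `p` and an elementary abelian group. -/
theorem exists_split (hP : IsPGroup p P) (hD : Nat.card (commutator P) = p)
    {x y : P} (hxy : x * y ≠ y * x) (hC : ∀ a b : P, a * y = y * a → b * y = y * b → a * b = b * a)
    (hCp : ∀ a : P, a * y = y * a → a ^ p = 1) (hxp : x ^ p = 1) :
    ∃ E A : Subgroup P, x ∈ E ∧ y ∈ E ∧ commutator P ≤ E ∧ E ≤ zpowers x ⊔ (zpowers y ⊔ commutator P) ∧
      Nat.card E = p ^ 3 ∧ A ≤ center P ∧ center P ⊓ E = commutator P ∧
      (∀ g : P, ∃ a ∈ E, ∃ b ∈ A, g = a * b) ∧ Nonempty (P ≃* E × A) := by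
  have hp := (Fact.out : p.Prime)
  obtain ⟨hc2, hcard, hdec, hdecC⟩ := centralizer_data hP hD hxy hC
  set D := commutator P with hDdef
  set Z := center P with hZ
  have hZp : ∀ w ∈ Z, w ^ p = 1 := fun w hw => hCp w (mem_center_iff.1 hw y).symm
  -- a complement to `D` in the centre
  obtain ⟨A, hA⟩ := (Set.toFinite {A : Subgroup P | A ≤ Z ∧ A ⊓ D = ⊥}).exists_maximal
    ⟨⊥, bot_le, bot_inf_eq _⟩
  obtain ⟨hAZ, hAD⟩ := hA.1
  haveI hAn : A.Normal :=
    ⟨fun a ha g => by rwa [mem_center_iff.1 (hAZ ha) g, mul_inv_cancel_right]⟩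
  have hsup : Z ≤ A ⊔ D := by
    intro w hw
    by_contra hwn
    have hle : A ⊔ zpowers w ≤ Z := sup_le hAZ (zpowers_le.2 hw)
    have hne : (A ⊔ zpowers w) ⊓ D ≠ ⊥ := fun h =>
      hwn (mem_sup_left (hA.2 ⟨hle, h⟩ le_sup_left (mem_sup_right (mem_zpowers w))))
    obtain ⟨⟨d, hd⟩, hd1'⟩ := ne_bot_iff_exists_ne_one.1 hne
    have hd1 : d ≠ 1 := fun h => hd1' (Subtype.ext h)
    obtain ⟨a, ha, b, hb, hab⟩ := mem_sup_of_normal_left.1 hd.1
    obtain ⟨i, rfl⟩ := mem_zpowers_iff.1 hb
    by_cases hi : w ^ i = 1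
    · rw [hi, mul_one] at hab
      exact hd1 ((Subgroup.mem_bot).1 (hAD ▸ ⟨hab ▸ ha, hd.2⟩))
    · have h1 : zpowers (w ^ i) = zpowers w :=
        eq_of_le_of_card_ge (zpowers_le.2 (zpow_mem (mem_zpowers w) i)) (by
          rw [Nat.card_zpowers, Nat.card_zpowers,
            orderOf_eq_prime (hZp _ (zpow_mem hw i)) hi,
            orderOf_eq_prime (hZp w hw) fun h => hi (by rw [h, one_zpow])])
      have h2 : w ^ i ∈ A ⊔ D := by
        rw [show w ^ i = a⁻¹ * d by rw [← hab, inv_mul_cancel_left]]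
        exact mul_mem (mem_sup_left (inv_mem ha)) (mem_sup_right hd.2)
      exact hwn (zpowers_le.2 h2 (h1.ge (mem_zpowers w)))
  haveI hMn : (zpowers y ⊔ D).Normal := Normal.of_commutator_le _ le_sup_right
  set E := zpowers x ⊔ (zpowers y ⊔ D) with hE
  have hEle : Nat.card E ≤ p ^ 3 := by
    have hord : ∀ w : P, w ^ p = 1 → Nat.card (zpowers w) ≤ p := fun w hw => by
      rw [Nat.card_zpowers]
      exact Nat.le_of_dvd hp.pos (orderOf_dvd_of_pow_eq_one hw)
    let f : zpowers x × (zpowers y × D) → E := fun q =>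
      ⟨(q.1 : P) * ((q.2.1 : P) * (q.2.2 : P)),
        mul_mem (mem_sup_left q.1.2) (mem_sup_right (mul_mem (mem_sup_left q.2.1.2) (mem_sup_right q.2.2.2)))⟩
    have hf : Function.Surjective f := by
      rintro ⟨w, hw⟩
      obtain ⟨a, ha, m, hm, rfl⟩ := mem_sup_of_normal_right.1 hw
      haveI : D.Normal := by rw [hDdef]; infer_instance
      obtain ⟨b, hb, d, hd, rfl⟩ := mem_sup_of_normal_right.1 hm
      exact ⟨(⟨a, ha⟩, ⟨b, hb⟩, ⟨d, hd⟩), rfl⟩
    refine (Nat.card_le_card_of_surjective f hf).trans ?_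
    rw [Nat.card_prod, Nat.card_prod, hD, pow_succ, pow_two, mul_assoc]
    exact Nat.mul_le_mul (hord x hxp) (Nat.mul_le_mul_right _ (hord y (hCp y rfl)))
  let f : E × A →* P := MonoidHom.noncommCoprod E.subtype A.subtype
    fun e a => mem_center_iff.1 (hAZ a.2) e
  have hsurj : Function.Surjective f := by
    rw [← MonoidHom.range_eq_top, eq_top_iff]
    have hEr : E ≤ f.range := fun e he => ⟨(⟨e, he⟩, 1), show (e : P) * 1 = e from mul_one e⟩
    have hAr : A ≤ f.range := fun a ha => ⟨(1, ⟨a, ha⟩), show 1 * (a : P) = a from one_mul a⟩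
    intro g _
    obtain ⟨i, c, hc, rfl⟩ := hdec g
    obtain ⟨j, w, hw, rfl⟩ := hdecC c hc
    refine mul_mem (pow_mem (hEr (mem_sup_left (mem_zpowers x))) i)
      (mul_mem (pow_mem (hEr (mem_sup_right (mem_sup_left (mem_zpowers y)))) j) ?_)
    exact (sup_le hAr (fun d hd => hEr (mem_sup_right (mem_sup_right hd)))) (hsup hw)
  have hcardA : Nat.card Z = Nat.card A * p := by
    let g : A × D →* P := MonoidHom.noncommCoprod A.subtype D.subtype
      fun a d => (mem_center_iff.1 (hAZ a.2) d).symm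
    have hg : Function.Injective g := by
      refine (injective_iff_map_eq_one g).2 fun q hq => ?_
      have h0 : (q.1 : P) * (q.2 : P) = 1 := hq
      have h1 : (q.1 : P) = ((q.2 : P))⁻¹ := eq_inv_of_mul_eq_one_left h0
      have h2 : (q.1 : P) = 1 := Subgroup.mem_bot.1 (hAD ▸ ⟨q.1.2, h1 ▸ D.inv_mem q.2.2⟩)
      have h3 : (q.2 : P) = 1 := by rw [h2, one_mul] at h0; exact h0
      exact Prod.ext (Subtype.ext h2) (Subtype.ext h3)
    have hr : g.range = Z := by
      refine le_antisymm ?_ ?_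
      · rintro _ ⟨q, rfl⟩
        exact mul_mem (hAZ q.1.2) (hc2 q.2.2)
      · refine hsup.trans (sup_le ?_ ?_)
        · exact fun a ha => ⟨(⟨a, ha⟩, 1), show a * 1 = a from mul_one a⟩
        · exact fun d hd => ⟨(1, ⟨d, hd⟩), show 1 * d = d from one_mul d⟩
    rw [← hr, ← Nat.card_congr (MonoidHom.ofInjective hg).toEquiv, Nat.card_prod, hD]
  have hle : Nat.card (E × A) ≤ Nat.card P := by
    rw [Nat.card_prod, hcard, hcardA]
    calc Nat.card E * Nat.card A ≤ p ^ 3 * Nat.card A := Nat.mul_le_mul_right _ hEle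
      _ = p * (p * (Nat.card A * p)) := by ring
  have hbij : Function.Bijective f := hsurj.bijective_of_nat_card_le hle
  have hEc : Nat.card E = p ^ 3 := by
    have h1 := Nat.card_congr (Equiv.ofBijective f hbij)
    rw [Nat.card_prod, hcard, hcardA] at h1
    refine Nat.eq_of_mul_eq_mul_right (Nat.card_pos (α := A)) ?_
    rw [h1]; ring
  refine ⟨E, A, mem_sup_left (mem_zpowers x), mem_sup_right (mem_sup_left (mem_zpowers y)),
    le_sup_right.trans le_sup_right, le_rfl, hEc, hAZ, ?_, fun g => ?_, ⟨(MulEquiv.ofBijective f hbij).symm⟩⟩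
  swap
  · obtain ⟨⟨a, b⟩, rfl⟩ := hsurj g
    exact ⟨a, a.2, b, b.2, rfl⟩
  refine le_antisymm ?_ (le_inf hc2 (le_sup_right.trans le_sup_right))
  rintro w ⟨hw, hwE⟩
  haveI : D.Normal := by rw [hDdef]; infer_instance
  obtain ⟨a, ha, d, hd, rfl⟩ := mem_sup_of_normal_right.1 (hsup hw)
  have haE : a ∈ E := by
    have := mul_mem hwE (E.inv_mem (mem_sup_right (mem_sup_right hd) : d ∈ E))
    rwa [mul_inv_cancel_right] at this
  have h1 : f (⟨a, haE⟩, 1) = f (1, ⟨a, ha⟩) :=
    show a * 1 = 1 * a by rw [mul_one, one_mul]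
  have h2 : a = 1 := congrArg (fun q : E × A => (q.1 : P)) (hbij.1 h1)
  rwa [h2, one_mul]

/-- The `p`-odd structure: extraspecial of order `p ^ 3` and exponent `p` times elementary abelian. -/
theorem exists_iso_extraspecial (hp2 : p ≠ 2) (hP : IsPGroup p P) (hD : Nat.card (commutator P) = p)
    {x y : P} (hxy : x * y ≠ y * x) (hC : ∀ a b : P, a * y = y * a → b * y = y * b → a * b = b * a)
    (hall : ∀ a : P, a ^ p = 1) :
    ∃ (E : Type) (_ : Group E) (A : Type) (_ : CommGroup A), Cfsg.IsExtraspecial p E ∧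
      Nat.card E = p ^ 3 ∧ Monoid.exponent E = p ∧ (∀ a : A, a ^ p = 1) ∧ Nonempty (P ≃* E × A) := by
  have hp := (Fact.out : p.Prime)
  obtain ⟨E, A, hxE, hyE, hDE, hEle, hcard, hAZ, hZE, hgen, ⟨e⟩⟩ :=
    exists_split hP hD hxy hC (fun a _ => hall a) (hall x)
  letI : CommGroup A :=
    { (inferInstance : Group A) with
      mul_comm := fun a b => Subtype.ext (mem_center_iff.1 (hAZ b.2) a) }
  let fE : Shrink.{0} E ≃* E := Shrink.mulEquiv
  let fA : Shrink.{0} A ≃* A := Shrink.mulEquiv
  have hEp : IsPGroup p E := hP.to_subgroup E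
  have hne : ¬ ∀ a b : E, a * b = b * a := fun h =>
    hxy (congrArg Subtype.val (h ⟨x, hxE⟩ ⟨y, hyE⟩))
  have hDsub : (commutator P).subgroupOf E = center E := by
    refine le_antisymm (fun d hd => mem_center_iff.2 fun g => Subtype.ext
      (mem_center_iff.1 (le_center_of_card_eq_prime hP hD hd) g)) fun c hc => ?_
    show (c : P) ∈ commutator P
    rw [← hZE]
    refine ⟨mem_center_iff.2 fun g => ?_, c.2⟩
    obtain ⟨a, ha, b, hb, rfl⟩ := hgen g
    rw [mul_assoc, ← mem_center_iff.1 (hAZ hb) (c : P), ← mul_assoc,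
      show a * (c : P) = c * a from congrArg Subtype.val (mem_center_iff.1 hc ⟨a, ha⟩), mul_assoc]
  have hcZ : Nat.card (center E) = p := by
    rw [← hDsub, Nat.card_congr (subgroupOfEquivOfLe hDE).toEquiv, hD]
  have hcomm : commutator E = center E := by
    refine le_antisymm ?_ ?_
    · rw [← hDsub]
      refine (map_le_iff_le_comap).1 ?_
      rw [map_subtype_commutator]
      exact commutator_mono le_top le_top
    · haveI : Finite (center E) := inferInstance
      refine le_of_eq (eq_of_le_of_card_ge ?_ ?_).symm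
      · rw [← hDsub]
        refine (map_le_iff_le_comap).1 ?_
        rw [map_subtype_commutator]
        exact commutator_mono le_top le_top
      · rw [hcZ]
        refine Nat.le_of_dvd Nat.card_pos ?_
        obtain ⟨k, hk⟩ := IsPGroup.iff_card.mp (hEp.to_subgroup (commutator E))
        rcases k with _ | k
        · exfalso
          refine hne fun a b => commutatorElement_eq_one_iff_mul_comm.1 ?_
          have h1 := commutator_mem_commutator (mem_top a) (mem_top b)
          rwa [← commutator_def, card_eq_one.1 (hk.trans (pow_zero p)), mem_bot] at h1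
        · exact hk ▸ dvd_pow_self p (Nat.succ_ne_zero k)
  have hfr : frattini E = center E := by
    refine le_antisymm ?_ (hcomm ▸ commutator_le_frattini hEp)
    refine frattini_le_of_commutator_le_of_pow_mem (p := p) hcomm.le fun a => ?_
    rw [show a ^ p = 1 from Subtype.ext (hall a)]
    exact one_mem _
  have hex : Monoid.exponent E = p := by
    refine ((Nat.dvd_prime hp).1 (Monoid.exponent_dvd_of_forall_pow_eq_one
      fun a => Subtype.ext (hall a))).resolve_left fun h => ?_
    haveI := Monoid.exp_eq_one_iff.1 h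
    exact hne fun a b => Subsingleton.elim _ _
  have hext : Cfsg.IsExtraspecial p E := ⟨⟨hEp, hfr, hcomm⟩, hcZ⟩
  refine ⟨Shrink.{0} E, inferInstance, Shrink.{0} A, inferInstance, ?_, ?_, ?_, ?_,
    ⟨e.trans (fE.symm.prodCongr fA.symm)⟩⟩
  · have hXp : IsPGroup p (Shrink.{0} E) := hEp.of_equiv fE.symm
    haveI : Finite (Shrink.{0} E) := Finite.of_equiv _ fE.symm.toEquiv
    have hcenter : center (Shrink.{0} E) = (center E).comap fE.toMonoidHom := by
      ext a
      simp only [mem_comap, mem_center_iff]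
      refine ⟨fun h b => ?_, fun h b => fE.injective ?_⟩
      · have h1 := congrArg fE (h (fE.symm b))
        rw [map_mul, map_mul, MulEquiv.apply_symm_apply] at h1
        exact h1
      · rw [map_mul, map_mul]; exact h (fE b)
    have hcX : commutator (Shrink.{0} E) = center (Shrink.{0} E) := by
      rw [hcenter, ← hcomm, show (commutator E).comap fE.toMonoidHom =
        (commutator E).map fE.symm.toMonoidHom from (map_equiv_eq_comap_symm fE.symm _).symm]
      rw [_root_.commutator_def, _root_.commutator_def, map_commutator,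
        map_top_of_surjective _ fE.symm.surjective]
    refine ⟨⟨hXp, le_antisymm ?_ (hcX ▸ commutator_le_frattini hXp), hcX⟩, ?_⟩
    · refine frattini_le_of_commutator_le_of_pow_mem (p := p) hcX.le fun a => ?_
      rw [show a ^ p = 1 from fE.injective (by rw [map_pow, map_one]; exact Subtype.ext (hall _))]
      exact one_mem _
    · rw [Nat.card_congr (centerCongr fE).toEquiv, hcZ]
  · rw [Nat.card_congr fE.toEquiv, hcard]
  · rw [Monoid.exponent_eq_of_mulEquiv fE, hex]
  · exact fun a => fA.injective (by rw [map_pow, map_one]; exact Subtype.ext (hall _))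

/-- The case `p = 2`: dihedral of order `8` times elementary abelian. -/
theorem exists_iso_dihedral (hp2 : p = 2) (hP : IsPGroup p P) (hD : Nat.card (commutator P) = p)
    {x y : P} (hxy : x * y ≠ y * x) (hC : ∀ a b : P, a * y = y * a → b * y = y * b → a * b = b * a)
    (hCp : ∀ a : P, a * y = y * a → a ^ p = 1) (hxp : x ^ p = 1) :
    ∃ (A : Type) (_ : CommGroup A), (∀ a : A, a ^ 2 = 1) ∧ Nonempty (P ≃* DihedralGroup 4 × A) := by
  subst hp2
  obtain ⟨E, A, hxE, hyE, hDE, hEle, hcard, hAZ, -, -, ⟨e⟩⟩ := exists_split hP hD hxy hC hCp hxp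
  letI : CommGroup A :=
    { (inferInstance : Group A) with
      mul_comm := fun a b => Subtype.ext (mem_center_iff.1 (hAZ b.2) a) }
  let fA : Shrink.{0} A ≃* A := Shrink.mulEquiv
  have hyp : y ^ 2 = 1 := hCp y rfl
  have hx1 : x⁻¹ = x := inv_eq_of_mul_eq_one_right (by rw [← sq, hxp])
  have hy1 : y⁻¹ = y := inv_eq_of_mul_eq_one_right (by rw [← sq, hyp])
  have hr2 : (x * y) ^ 2 = ⁅x, y⁆ := by rw [sq, commutatorElement_def, hx1, hy1, mul_assoc (x * y)]
  have hd : ⁅x, y⁆ ∈ commutator P := commutator_mem_commutator (mem_top x) (mem_top y)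
  have hd1 : ⁅x, y⁆ ≠ 1 := fun h => hxy (commutatorElement_eq_one_iff_mul_comm.1 h)
  have hd2 : ⁅x, y⁆ ^ 2 = 1 := by
    have := pow_card_eq_one' (x := (⟨_, hd⟩ : commutator P))
    rw [hD] at this
    exact congrArg Subtype.val this
  have hr4 : orderOf (x * y) = 4 := orderOf_eq_prime_pow (p := 2) (n := 1)
    (by rw [pow_one, hr2]; exact hd1)
    (by rw [show (2 : ℕ) ^ (1 + 1) = 2 * 2 by norm_num, pow_mul, hr2, hd2])
  obtain ⟨g⟩ := Cfsg.Lib.TwoGroup.equiv_dihedral (r := x * y) (t := x) (by rw [← sq, hxp])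
    (by rw [hx1, mul_inv_rev, hx1, hy1, ← mul_assoc x x y, ← sq, hxp, one_mul])
    (fun h => hxy (by
      obtain ⟨i, hi⟩ := mem_zpowers_iff.1 h
      have h1 : Commute x (x * y) := by
        have h2 := (Commute.refl (x * y)).zpow_left i
        rwa [hi] at h2
      have h2 : x * (x * y) = x * (y * x) := by rw [← mul_assoc x y x]; exact h1.eq
      exact mul_left_cancel h2))
  have hcl : closure ({x * y, x} : Set P) = E := by
    refine le_antisymm ((closure_le _).2 (by
      rintro w (rfl | rfl)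
      exacts [mul_mem hxE hyE, hxE])) (hEle.trans ?_)
    have hmx : x ∈ closure ({x * y, x} : Set P) := subset_closure (Or.inr rfl)
    have hmy : y ∈ closure ({x * y, x} : Set P) := by
      have := mul_mem (inv_mem hmx) (subset_closure (Or.inl rfl) : x * y ∈ closure ({x * y, x} : Set P))
      rwa [inv_mul_cancel_left] at this
    refine sup_le (zpowers_le.2 hmx) (sup_le (zpowers_le.2 hmy) ?_)
    have h1 : zpowers ⁅x, y⁆ = commutator P :=
      eq_of_le_of_card_ge (zpowers_le.2 hd) (by
        rw [hD, Nat.card_zpowers, orderOf_eq_prime hd2 hd1])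
    rw [← h1, zpowers_le, commutatorElement_def]
    exact mul_mem (mul_mem (mul_mem hmx hmy) (inv_mem hmx)) (inv_mem hmy)
  exact ⟨Shrink.{0} A, inferInstance,
    fun a => fA.injective (by
      rw [map_pow, map_one]
      exact Subtype.ext (hCp _ ((mem_center_iff.1 (hAZ (fA a).2) y).symm))),
    ⟨e.trans ((((MulEquiv.subgroupCongr hcl).symm.trans g).trans
      (by rw [hr4])).prodCongr fA.symm)⟩⟩

end Cfsg.Lib.PGroup
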