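import Cfsg.Agent.Lib.PGroup.MaxClassDegree
import Cfsg.Agent.Lib.PGroup.AbelianIndexP

/-!
# Automorphisms of a `p`-group of maximal class on the layers of the lower central series

An automorphism acting on a layer by a power map acts on the next one through the commutator
pairing; this excludes some sign patterns on the last three layers.
-/

set_option autoImplicit false
set_option linter.unusedSectionVars false

namespace Cfsg.Lib.PGroup.Layers

open Subgroup Cfsg.Lib.PGroup.MaxClass Cfsg.Lib.PGroup.Uniform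
open scoped commutatorElement

universe u

variable {p : ℕ} [hp : Fact p.Prime] {X : Type u} [Group X]

local notation:max "γ[" k "]" => (Subgroup.lowerCentralSeries (⊤ : Subgroup _) k)

/-- `φ` acts on `γ_k / γ_{k+1}` as the power `s`. -/
def Layer (φ : MulAut X) (k : ℕ) (s : ℤ) : Prop :=
  ∀ x ∈ (γ[k] : Subgroup X), (x ^ s)⁻¹ * φ x ∈ γ[k + 1]

theorem mk_comm_right {k : ℕ} {x : X} (hx : x ∈ γ[k]) (a b : X) :
    QuotientGroup.mk' (γ[k + 2] : Subgroup X) ⁅x, a * b⁆ =
      QuotientGroup.mk' (γ[k + 2] : Subgroup X) ⁅x, a⁆ * QuotientGroup.mk' (γ[k + 2] : Subgroup X) ⁅x, b⁆ := by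
  have hc := mem_center_iff.1 (mem_center_mod (mem_gamma_succ hx b) :
    QuotientGroup.mk' (γ[k + 2] : Subgroup X) ⁅x, b⁆ ∈ center _) (QuotientGroup.mk' (γ[k + 2] : Subgroup X) a)
  have e : ⁅x, a * b⁆ = ⁅x, a⁆ * (a * ⁅x, b⁆ * a⁻¹) := by
    simp only [commutatorElement_def]; group
  rw [e, map_mul, map_mul, map_mul, map_inv, hc, mul_inv_cancel_right]

theorem mk_comm_left {k : ℕ} {y : X} (hy : y ∈ γ[k]) (x a : X) :
    QuotientGroup.mk' (γ[k + 2] : Subgroup X) ⁅x * y, a⁆ =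
      QuotientGroup.mk' (γ[k + 2] : Subgroup X) ⁅x, a⁆ * QuotientGroup.mk' (γ[k + 2] : Subgroup X) ⁅y, a⁆ := by
  have hz : QuotientGroup.mk' (γ[k + 2] : Subgroup X) ⁅y, a⁆ ∈ center _ := mem_center_mod (mem_gamma_succ hy a)
  have hc := mem_center_iff.1 hz (QuotientGroup.mk' (γ[k + 2] : Subgroup X) x)
  have e : ⁅x * y, a⁆ = x * ⁅y, a⁆ * x⁻¹ * ⁅x, a⁆ := by
    simp only [commutatorElement_def]; group
  rw [e, map_mul, map_mul, map_mul, map_inv, hc, mul_inv_cancel_right]
  exact (mem_center_iff.1 hz _).symm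

/-- Commutators with a fixed element of level `k`, modulo `γ_{k+2}`. -/
def commR {k : ℕ} {x : X} (hx : x ∈ γ[k]) : X →* X ⧸ (γ[k + 2] : Subgroup X) :=
  MonoidHom.mk' (fun a => QuotientGroup.mk' (γ[k + 2] : Subgroup X) ⁅x, a⁆) (mk_comm_right hx)

/-- Commutators of elements of level `k` with a fixed element, modulo `γ_{k+2}`. -/
def commL (k : ℕ) (a : X) : (γ[k] : Subgroup X) →* X ⧸ (γ[k + 2] : Subgroup X) :=
  MonoidHom.mk' (fun x => QuotientGroup.mk' (γ[k + 2] : Subgroup X) ⁅(x : X), a⁆)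
    fun x y => mk_comm_left y.2 (x : X) a

theorem mk_comm_zpow {k : ℕ} {x : X} (hx : x ∈ γ[k]) (a : X) (i j : ℤ) :
    QuotientGroup.mk' (γ[k + 2] : Subgroup X) ⁅x ^ i, a ^ j⁆ =
      QuotientGroup.mk' (γ[k + 2] : Subgroup X) ⁅x, a⁆ ^ (i * j) := by
  show commR (zpow_mem hx i) (a ^ j) = _
  rw [map_zpow, zpow_mul]
  congr 1
  show commL k a (⟨x, hx⟩ ^ i) = _
  rw [map_zpow]
  rfl

theorem mk_comm_congr_left {k : ℕ} {x y : X} (hx : x ∈ γ[k]) (hy : y ∈ γ[k + 1]) (a : X) :
    QuotientGroup.mk' (γ[k + 2] : Subgroup X) ⁅x * y, a⁆ =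
      QuotientGroup.mk' (γ[k + 2] : Subgroup X) ⁅x, a⁆ := by
  have _ := hx
  rw [mk_comm_left (Subgroup.lowerCentralSeries_antitone _ (Nat.le_succ k) hy), mul_eq_left]
  exact (QuotientGroup.eq_one_iff _).2 (mem_gamma_succ hy a)

theorem mk_comm_congr_right {k : ℕ} {x : X} (hx : x ∈ γ[k]) {a b : X} (hb : b ∈ twoCent X k) :
    QuotientGroup.mk' (γ[k + 2] : Subgroup X) ⁅x, a * b⁆ =
      QuotientGroup.mk' (γ[k + 2] : Subgroup X) ⁅x, a⁆ := by
  rw [mk_comm_right hx, mul_eq_left]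
  exact (QuotientGroup.eq_one_iff _).2 (mem_twoCent.1 hb x hx)

theorem map_gamma (φ : MulAut X) (k : ℕ) {x : X} (hx : x ∈ γ[k]) : φ x ∈ γ[k] := by
  have h : (γ[k] : Subgroup X).map φ.toMonoidHom = γ[k] := by
    rw [Subgroup.map_lowerCentralSeries, map_top_of_surjective _ φ.surjective]
  rw [← h]
  exact mem_map_of_mem _ hx

theorem map_twoCent (φ : MulAut X) (k : ℕ) {g : X} (hg : g ∈ twoCent X k) : φ g ∈ twoCent X k := by
  refine mem_twoCent.2 fun b hb => ?_
  obtain ⟨b, rfl⟩ := φ.surjective b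
  rw [← map_commutatorElement]
  refine map_gamma φ _ (mem_twoCent.1 hg b ?_)
  have := map_gamma φ.symm k hb
  rwa [MulEquiv.symm_apply_apply] at this

variable [Finite X] {n : ℕ} (h : IsMax p X n)
include h

theorem dvd_of_zpow_mem {k : ℕ} {x : X} (hx : x ∈ γ[k]) (hx' : x ∉ γ[k + 1]) {i : ℤ}
    (hi : x ^ i ∈ γ[k + 1]) : (p : ℤ) ∣ i := by
  have h1 : QuotientGroup.mk' (γ[k + 1] : Subgroup X) x ^ p = 1 := by
    rw [← map_pow]
    exact (QuotientGroup.eq_one_iff _).2 (pow_mem_gamma_succ h hx)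
  have h2 : QuotientGroup.mk' (γ[k + 1] : Subgroup X) x ^ i = 1 := by
    rw [← map_zpow]
    exact (QuotientGroup.eq_one_iff _).2 hi
  have h3 : orderOf (QuotientGroup.mk' (γ[k + 1] : Subgroup X) x) = p :=
    orderOf_eq_prime h1 fun he => hx' ((QuotientGroup.eq_one_iff _).1 he)
  rw [← h3]
  exact orderOf_dvd_iff_zpow_eq_one.2 h2

theorem layer_unique {φ : MulAut X} {k : ℕ} (hk : 1 ≤ k) (hk' : k + 2 ≤ n) {s t : ℤ}
    (hs : Layer φ k s) (ht : Layer φ k t) : (p : ℤ) ∣ s - t := by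
  obtain ⟨x, hx, hx'⟩ := exists_of_level h hk hk'
  refine dvd_of_zpow_mem h hx hx' ?_
  have h1 := mul_mem (ht x hx) (inv_mem (hs x hx))
  rw [mul_inv_rev, inv_inv, mul_assoc, mul_inv_cancel_left] at h1
  rwa [sub_eq_neg_add, zpow_add, zpow_neg]

theorem layer_of_gen {φ : MulAut X} {k : ℕ} (hk : 1 ≤ k) {x : X} (hx : x ∈ γ[k]) (hx' : x ∉ γ[k + 1])
    {s : ℤ} (hs : (x ^ s)⁻¹ * φ x ∈ γ[k + 1]) : Layer φ k s := by
  set π := QuotientGroup.mk' (γ[k + 1] : Subgroup X) with hπ
  have hc : ∀ a ∈ (γ[k] : Subgroup X), ∀ q, q * π a = π a * q := fun a ha q =>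
    mem_center_iff.1 (mem_center_mod ha) q
  let K : Subgroup X :=
    { carrier := {a | a ∈ γ[k] ∧ π (φ a) = π a ^ s}
      one_mem' := ⟨one_mem _, by rw [map_one, map_one, one_zpow]⟩
      mul_mem' := by
        rintro a b ⟨ha, ha'⟩ ⟨hb, hb'⟩
        refine ⟨mul_mem ha hb, ?_⟩
        rw [map_mul, map_mul, ha', hb', map_mul, (show Commute (π a) (π b) from (hc a ha _).symm).mul_zpow]
      inv_mem' := by
        rintro a ⟨ha, ha'⟩
        refine ⟨inv_mem ha, ?_⟩
        rw [map_inv, map_inv, ha', map_inv, inv_zpow] }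
  have hle : zpowers x ⊔ γ[k + 1] ≤ K := by
    refine sup_le (zpowers_le.2 ⟨hx, ?_⟩) fun a ha =>
      ⟨Subgroup.lowerCentralSeries_antitone _ (Nat.le_succ k) ha, ?_⟩
    · rw [hπ, ← map_zpow, QuotientGroup.mk'_apply, QuotientGroup.mk'_apply, eq_comm]
      exact QuotientGroup.eq.2 hs
    · rw [show π a = 1 from (QuotientGroup.eq_one_iff a).2 ha, one_zpow]
      exact (QuotientGroup.eq_one_iff _).2 (map_gamma φ _ ha)
  intro a ha
  rw [sup_zpowers h hk hx hx'] at hle
  have h1 := (hle ha).2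
  rw [hπ, ← map_zpow, QuotientGroup.mk'_apply, QuotientGroup.mk'_apply, eq_comm] at h1
  exact QuotientGroup.eq.1 h1

theorem layer_step {φ : MulAut X} {k : ℕ} {s : ℤ} {x g : X} (hx : x ∈ γ[k])
    (hxs : (x ^ s)⁻¹ * φ x ∈ γ[k + 1]) (hc : ⁅x, g⁆ ∉ γ[k + 2]) {a : ℤ}
    (hg : (g ^ a)⁻¹ * φ g ∈ twoCent X k) : Layer φ (k + 1) (s * a) := by
  refine layer_of_gen h (by omega) (mem_gamma_succ hx g) hc ?_
  refine QuotientGroup.eq.1 ?_
  show QuotientGroup.mk' (γ[k + 2] : Subgroup X) (⁅x, g⁆ ^ (s * a)) =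
    QuotientGroup.mk' (γ[k + 2] : Subgroup X) (φ ⁅x, g⁆)
  rw [map_commutatorElement φ, map_zpow, ← mk_comm_zpow hx g s a]
  conv_rhs => rw [← mul_inv_cancel_left (x ^ s) (φ x), ← mul_inv_cancel_left (g ^ a) (φ g)]
  rw [mk_comm_congr_left (zpow_mem hx s) hxs, mk_comm_congr_right (zpow_mem hx s) hg]

theorem exists_decomp {P : Subgroup X} (hP : P.index = p) (h1 : (γ[1] : Subgroup X) ≤ P) {g : X} (hg : g ∉ P)
    (v : X) : ∃ a : ℤ, (g ^ a)⁻¹ * v ∈ P := by
  have _ := h1
  haveI : P.Normal := Cfsg.Lib.PGroup.normal_of_index_eq (isPGroup h) hP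
  have hv : v ∈ zpowers g ⊔ P := by
    rw [sup_comm, Cfsg.Lib.PGroup.sup_zpowers_eq_top_of_index (p := p) hP hg]; exact mem_top v
  obtain ⟨_, ⟨a, rfl⟩, m, hm, rfl⟩ := mem_sup_of_normal_right.1 hv
  exact ⟨a, by simpa using hm⟩

/-- No automorphism has the signs `(1, 1, -1)`, or `(1, -1, 1)` in an exceptional group, on the
last three layers. -/
theorem no_auto (hp2 : p ≠ 2) (h5 : 5 ≤ n) (φ : MulAut X) (h1 : Layer φ (n - 4) 1)
    (hs : (Layer φ (n - 3) 1 ∧ Layer φ (n - 2) (-1)) ∨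
      (Layer φ (n - 3) (-1) ∧ Layer φ (n - 2) 1 ∧ twoCent X (n - 3) ≠ twoCent X 1)) : False := by
  have hDeg := Degree.twoCent_eq h hp2
  have hp3 : 3 ≤ p := by have := hp.out.two_le; omega
  have htwo : ¬ (p : ℤ) ∣ 2 := fun hd => by
    have := Int.le_of_dvd two_pos hd
    omega
  set M := twoCent X (n - 3) with hMd
  set P := twoCent X 1 with hPd
  have hMidx : M.index = p := index_twoCent h (by omega) (by omega)
  have hPidx : P.index = p := index_twoCent h le_rfl (by omega)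
  obtain ⟨t, ht, ht'⟩ := exists_of_level h (k := n - 4) (by omega) (by omega)
  have hlev : ∀ k, 1 ≤ k → k + 3 ≤ n → ∀ g, g ∉ twoCent X k → ∀ x ∈ (γ[k] : Subgroup X),
      x ∉ γ[k + 1] → ⁅x, g⁆ ∉ γ[k + 2] := fun k hk hk' g hg x hx hx' hc =>
    hg (mem_twoCent.2 (comm_level h hk hx hx' hc))
  by_cases hMP : M = P
  · rcases hs with ⟨h2, h3⟩ | ⟨-, -, hne⟩
    swap
    · exact hne hMP
    obtain ⟨g, hg⟩ : ∃ g, g ∉ M := by
      by_contra hall
      push Not at hall
      rw [show M = ⊤ from eq_top_iff.2 fun x _ => hall x, index_top] at hMidx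
      exact hp.out.ne_one hMidx.symm
    obtain ⟨a, ha⟩ := exists_decomp h hMidx (gamma_one_le_twoCent _) hg (φ g)
    have h4 : twoCent X (n - 4) = M := by rw [hMP]; exact hDeg _ (by omega) (by omega)
    have hA := layer_step h ht (h1 t ht) (hlev _ (by omega) (by omega) g (h4 ▸ hg) t ht ht') (a := a)
      (h4.symm ▸ ha)
    rw [show n - 4 + 1 = n - 3 by omega, one_mul] at hA
    have hu := hlev _ (by omega) (by omega) g (h4 ▸ hg) t ht ht'
    rw [show n - 4 + 2 = n - 3 + 1 by omega] at hu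
    have hum : ⁅t, g⁆ ∈ γ[n - 3] := by
      rw [show n - 3 = n - 4 + 1 by omega]; exact mem_gamma_succ ht g
    have hB := layer_step h hum (h2 _ hum)
      (hlev (n - 3) (by omega) (by omega) g hg _ hum hu) (a := a) ha
    rw [show n - 3 + 1 = n - 2 by omega, one_mul] at hB
    refine htwo ?_
    have e1 := layer_unique h (by omega) (by omega) hA h2
    have e2 := layer_unique h (by omega) (by omega) hB h3
    have := dvd_sub e2 e1
    rwa [show a - -1 - (a - 1) = 2 by ring] at this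
  · -- exceptional
    obtain ⟨hev, -⟩ := Degree.exceptional h hp2 h5 (P := P) (fun i hi hi' => hDeg i hi hi') hMP
    obtain ⟨m, hmM, hmP⟩ := SetLike.not_le_iff_exists.1 fun hle : M ≤ P =>
      hMP (Degree.twoCent_le_imp_eq h (by omega) (by omega) le_rfl (by omega) hle)
    obtain ⟨y, hyP, hyM⟩ := SetLike.not_le_iff_exists.1 fun hle : P ≤ M =>
      hMP (Degree.twoCent_le_imp_eq h le_rfl (by omega) (by omega) (by omega) hle).symm
    have hy1 : y ∉ (γ[1] : Subgroup X) := fun hc => hyM (gamma_one_le_twoCent _ hc)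
    have hm1 : m ∉ (γ[1] : Subgroup X) := fun hc => hmP (gamma_one_le_twoCent _ hc)
    have hgen : ∀ (Q : Subgroup X), Q.index = p → (γ[1] : Subgroup X) ≤ Q → ∀ g ∈ Q, g ∉ γ[1] →
        ∀ v ∈ Q, ∃ a : ℤ, (g ^ a)⁻¹ * v ∈ γ[1] := by
      intro Q hQ hQ1 g hg hg1 v hv
      have heq : zpowers g ⊔ γ[1] = Q := by
        obtain ⟨b, hb⟩ : ∃ b, b ∉ Q := by
          by_contra hall
          push Not at hall
          rw [show Q = ⊤ from eq_top_iff.2 fun x _ => hall x, index_top] at hQ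
          exact hp.out.ne_one hQ.symm
        refine le_antisymm (sup_le (zpowers_le.2 hg) hQ1) ?_
        have hlt : (γ[1] : Subgroup X) < zpowers g ⊔ γ[1] :=
          lt_of_le_of_ne le_sup_right fun e => hg1 (e ▸ mem_sup_left (mem_zpowers g))
        have h2 := index_strictAnti hlt
        rw [Degree.index_gamma_one h] at h2
        obtain ⟨i, hi⟩ := (isPGroup h).index (zpowers g ⊔ (γ[1] : Subgroup X))
        rw [hi] at h2
        have hi1 := (Nat.pow_lt_pow_iff_right hp.out.one_lt).1 h2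
        refine le_of_eq (eq_of_le_of_card_ge (sup_le (zpowers_le.2 hg) hQ1) ?_).symm
        refine Nat.le_of_mul_le_mul_right (c := p) ?_ hp.out.pos
        calc Nat.card Q * p = Nat.card Q * Q.index := by rw [hQ]
          _ = Nat.card X := card_mul_index Q
          _ = Nat.card ↥(zpowers g ⊔ (γ[1] : Subgroup X)) * p ^ i := by rw [← hi, card_mul_index]
          _ ≤ _ := Nat.mul_le_mul le_rfl (le_of_le_of_eq
              (Nat.pow_le_pow_right hp.out.pos (show i ≤ 1 by omega)) (pow_one p))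
      obtain ⟨_, ⟨a, rfl⟩, w, hw, rfl⟩ := mem_sup_of_normal_right.1 (heq.symm ▸ hv : v ∈ zpowers g ⊔ γ[1])
      exact ⟨a, by simpa using hw⟩
    obtain ⟨a, ha⟩ := hgen M hMidx (gamma_one_le_twoCent _) m hmM hm1 _ (map_twoCent φ _ hmM)
    obtain ⟨b, hb⟩ := hgen P hPidx (gamma_one_le_twoCent _) y hyP hy1 _ (map_twoCent φ _ hyP)
    -- all layers
    have hc0 : ⁅m, y⁆ ∉ (γ[0 + 2] : Subgroup X) := by
      intro hc
      have htop := Degree.closure_pair_eq_top h hPidx (gamma_one_le_twoCent _) hmP hyP hy1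
      have h1' := Cfsg.Lib.PGroup.Regular.commutator_le_of_pair htop hc
      rw [← Subgroup.top_lowerCentralSeries_one] at h1'
      have h2 := card_le_of_le h1'
      rw [card_gamma h 1 le_rfl (by omega), card_gamma h (0 + 2) (by omega) (by omega)] at h2
      have := (Nat.pow_le_pow_iff_right hp.out.one_lt).1 h2
      omega
    have hL : ∀ k, 1 ≤ k → k + 4 ≤ n → Layer φ k (a ^ k * b) := by
      intro k hk
      induction k, hk using Nat.le_induction with
      | base =>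
        intro _
        rw [pow_one]
        exact layer_step h (k := 0) (by rw [Subgroup.lowerCentralSeries_zero]; exact mem_top m) ha hc0
          (gamma_one_le_twoCent _ hb)
      | succ k hk ih =>
        intro hk'
        obtain ⟨x, hx, hx'⟩ := exists_of_level h hk (by omega)
        rw [pow_succ, mul_right_comm]
        exact layer_step h hx (ih (by omega) x hx)
          (hlev k hk (by omega) m (by rw [hDeg k hk (by omega)]; exact hmP) x hx hx') (gamma_one_le_twoCent _ ha)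
    have h4 : twoCent X (n - 4) = P := hDeg _ (by omega) (by omega)
    have hu0 := hlev _ (by omega) (by omega) m (h4 ▸ hmP) t ht ht'
    have hA := layer_step h ht (h1 t ht) hu0 (gamma_one_le_twoCent _ ha)
    rw [show n - 4 + 1 = n - 3 by omega, one_mul] at hA
    have hum : ⁅t, m⁆ ∈ γ[n - 3] := by
      rw [show n - 3 = n - 4 + 1 by omega]; exact mem_gamma_succ ht m
    rw [show n - 4 + 2 = n - 3 + 1 by omega] at hu0
    have e0 := layer_unique h (by omega) (by omega) (hL (n - 4) (by omega) (by omega)) h1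
    obtain ⟨r, hr⟩ : Even (n - 4) := by
      obtain ⟨q, hq⟩ := hev
      exact ⟨q - 2, by omega⟩
    have hmain : ∀ s2 s3 : ℤ, s2 * s2 = 1 → Layer φ (n - 3) s2 → Layer φ (n - 2) s3 →
        (p : ℤ) ∣ s2 * s3 - 1 := by
      intro s2 s3 hsq h2 h3
      have hB := layer_step h hum (h2 _ hum) (hlev (n - 3) (by omega) (by omega) y hyM _ hum hu0)
        (gamma_one_le_twoCent _ hb)
      rw [show n - 3 + 1 = n - 2 by omega] at hB
      have e1 : (p : ℤ) ∣ a - s2 := layer_unique h (by omega) (by omega) hA h2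
      have e2 : (p : ℤ) ∣ s2 * b - s3 := layer_unique h (by omega) (by omega) hB h3
      have e3 : (p : ℤ) ∣ a ^ (n - 4) - 1 := by
        have := sub_dvd_pow_sub_pow a s2 (n - 4)
        rw [hr, ← two_mul, pow_mul, pow_mul, sq s2, hsq, one_pow] at this
        rw [hr, ← two_mul, pow_mul]
        exact e1.trans this
      -- `1 ≡ b ≡ s2 * s3`
      have e4 : (p : ℤ) ∣ b - s2 * s3 := by
        have := e2.mul_left s2
        rwa [mul_sub, ← mul_assoc, hsq, one_mul] at this
      have := dvd_sub (dvd_sub e0 (e3.mul_right b)) e4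
      rwa [show a ^ (n - 4) * b - 1 - (a ^ (n - 4) - 1) * b - (b - s2 * s3) = s2 * s3 - 1 by ring] at this
    refine htwo ?_
    rcases hs with ⟨h2, h3⟩ | ⟨h2, h3, -⟩
    · have := hmain 1 (-1) (by norm_num) h2 h3
      rwa [show (1 : ℤ) * -1 - 1 = -2 by norm_num, dvd_neg] at this
    · have := hmain (-1) 1 (by norm_num) h2 h3
      rwa [show (-1 : ℤ) * 1 - 1 = -2 by norm_num, dvd_neg] at this

/-- An abelian subgroup of order at least `p ^ 3` lies in one of the two two-step centralizers. -/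
theorem le_twoCent_of_abelian (hp2 : p ≠ 2) (h5 : 5 ≤ n) {E : Subgroup X}
    (hab : ∀ a ∈ E, ∀ b ∈ E, a * b = b * a) (hE : p ^ 3 ≤ Nat.card E) :
    E ≤ twoCent X 1 ∨ E ≤ twoCent X (n - 3) := by
  have hkey : ∀ x ∈ E, x ∈ twoCent X 1 ∨ x ∈ twoCent X (n - 3) := by
    intro x hx
    by_contra hno
    push Not at hno
    have hx1 : x ∉ (γ[1] : Subgroup X) := fun hc => hno.1 (gamma_one_le_twoCent _ hc)
    have hC := card_centralizer_of_avoid h hx1 fun i hi hi' => by
      rcases Nat.eq_or_lt_of_le hi' with heq | hlt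
      · rw [show i = n - 3 by omega]; exact hno.2
      · rw [Degree.twoCent_eq h hp2 i hi (by omega)]; exact hno.1
    have hle : E ≤ centralizer ({x} : Set X) := fun a ha =>
      mem_centralizer_singleton_iff.2 (hab a ha x hx)
    have h1 := hE.trans (card_le_of_le hle)
    rw [hC] at h1
    have := (Nat.pow_le_pow_iff_right hp.out.one_lt).1 h1
    omega
  by_contra hno
  push Not at hno
  obtain ⟨a, ha, ha'⟩ := SetLike.not_le_iff_exists.1 hno.1
  obtain ⟨b, hb, hb'⟩ := SetLike.not_le_iff_exists.1 hno.2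
  have haM := (hkey a ha).resolve_left ha'
  have hbP := (hkey b hb).resolve_right hb'
  rcases hkey (a * b) (mul_mem ha hb) with hc | hc
  · exact ha' (by simpa using mul_mem hc (inv_mem hbP))
  · exact hb' (by simpa using mul_mem (inv_mem haM) hc)

/-- `γ_{n-4}` is abelian. -/
theorem gamma_abelian (h5 : 5 ≤ n) : ∀ a ∈ (γ[n - 4] : Subgroup X), ∀ b ∈ (γ[n - 4] : Subgroup X),
    a * b = b * a := by
  obtain ⟨t, ht, ht'⟩ := exists_of_level h (k := n - 4) (by omega) (by omega)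
  have hsup := sup_zpowers h (show 1 ≤ n - 4 by omega) ht ht'
  have hbot : ⁅(γ[n - 4 + 1] : Subgroup X), (γ[n - 4] : Subgroup X)⁆ ≤ ⊥ :=
    (commutator_lcs_mem (k := n - 1) (by omega)).trans h.top.le
  have h1 : ⁅(γ[n - 4] : Subgroup X), (γ[n - 4] : Subgroup X)⁆ ≤ (⊥ : Subgroup X) := by
    nth_rewrite 1 [← hsup]
    refine commutator_sup_le ?_ hbot
    rw [commutator_comm, ← hsup]
    refine commutator_sup_le ?_ ?_
    · rw [commutator_le]
      rintro _ ⟨i, rfl⟩ _ ⟨j, rfl⟩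
      rw [commutatorElement_eq_one_iff_mul_comm.2 ((Commute.refl t).zpow_zpow i j).eq]
      exact one_mem _
    · exact (commutator_mono le_rfl (zpowers_le.2 ht)).trans hbot
  intro a ha b hb
  exact commutatorElement_eq_one_iff_mul_comm.1 (mem_bot.1 (h1 (commutator_mem_commutator ha hb)))

end Cfsg.Lib.PGroup.Layers
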