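import Cfsg.Agent.S3781
import Cfsg.Agent.Lib.PGroup.Basic
import Cfsg.Agent.Lib.Lie.LowerCentral

/-!
# Orders of finite `p`-groups of given derived length

If `N` is normal and contained in the term `γ_{s+1}` of the lower central series of a finite `p`-group, then
`|N : N'| ≥ p^{s+2}` unless `N` is abelian, and if equality holds then `N'' ≤ γ_{4s+5}`. Iterating gives the
bound `2^k + 2k - 2 ≤ n` for a group of order `p^n` with nontrivial `k`-th derived subgroup.
-/

set_option autoImplicit false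

namespace Cfsg.Lib.PGroup.DerivedLength

open Subgroup
open Cfsg.Lib.Lie (lcs)
open scoped commutatorElement

variable {P : Type*} [Group P]

/-- Iterated commutators of a subgroup with the whole group. -/
def cit (A : Subgroup P) : ℕ → Subgroup P
  | 0 => A
  | k + 1 => ⁅cit A k, (⊤ : Subgroup P)⁆

theorem cit_normal (A : Subgroup P) [A.Normal] : ∀ k, (cit A k).Normal
  | 0 => ‹A.Normal›
  | k + 1 => by
    haveI := cit_normal A k
    exact Subgroup.commutator_normal (cit A k) ⊤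

theorem cit_succ_le (A : Subgroup P) [A.Normal] (k : ℕ) : cit A (k + 1) ≤ cit A k := by
  haveI := cit_normal A k
  exact Subgroup.commutator_le_left _ _

/-- The logarithm to base `p` of the order of a subgroup. -/
noncomputable def lg (p : ℕ) (A : Subgroup P) : ℕ := Nat.log p (Nat.card A)

variable [Finite P] {p : ℕ} [hp : Fact p.Prime]

theorem card_eq (hP : IsPGroup p P) (A : Subgroup P) : Nat.card A = p ^ lg p A := by
  obtain ⟨n, hn⟩ := IsPGroup.iff_card.1 (hP.to_subgroup A)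
  rw [lg, hn, Nat.log_pow hp.out.one_lt]

theorem lg_mono (hP : IsPGroup p P) {A B : Subgroup P} (h : A ≤ B) : lg p A ≤ lg p B := by
  have h2 := Nat.le_of_dvd Nat.card_pos (Subgroup.card_dvd_of_le h)
  rw [card_eq hP A, card_eq hP B] at h2
  exact (Nat.pow_le_pow_iff_right hp.out.one_lt).1 h2

theorem eq_of_le_of_lg_le (hP : IsPGroup p P) {A B : Subgroup P} (h : A ≤ B) (h2 : lg p B ≤ lg p A) :
    A = B := by
  refine Subgroup.eq_of_le_of_card_ge h ?_
  rw [card_eq hP A, card_eq hP B]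
  exact Nat.pow_le_pow_right hp.out.pos h2

theorem lg_lt (hP : IsPGroup p P) {A B : Subgroup P} (h : A < B) : lg p A < lg p B := by
  by_contra hcon
  exact h.ne (eq_of_le_of_lg_le hP h.le (Nat.not_lt.1 hcon))

theorem one_le_lg (hP : IsPGroup p P) {A : Subgroup P} (h : A ≠ ⊥) : 1 ≤ lg p A :=
  Nat.lt_of_le_of_lt (Nat.zero_le _) (lg_lt hP (bot_lt_iff_ne_bot.2 h))

theorem eq_bot_of_le_commutator (hP : IsPGroup p P) {A : Subgroup P}
    (h : A ≤ ⁅A, (⊤ : Subgroup P)⁆) : A = ⊥ :=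
  le_bot_iff.1 (Cfsg.Agent.S3781.le_of_sup_commutator hP.isNilpotent (L := ⊥) (by rwa [bot_sup_eq]))

/-- A term of the lower central series pushes a short normal section down. -/
theorem commutator_lcs_le_of_lg_le (hP : IsPGroup p P) {U E : Subgroup P} [U.Normal] [E.Normal]
    (hEU : E ≤ U) {s : ℕ} (h : lg p U ≤ lg p E + s) : ⁅U, lcs P s⁆ ≤ ⁅E, (⊤ : Subgroup P)⁆ := by
  have hchain : ∀ k, cit U k ≤ E ∨ lg p (cit U k ⊔ E) + k ≤ lg p U := by
    intro k
    induction k with
    | zero => right; show lg p (U ⊔ E) + 0 ≤ _; rw [sup_eq_left.2 hEU]; simp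
    | succ k ih =>
      rcases ih with h | h
      · exact Or.inl ((cit_succ_le U k).trans h)
      by_cases hk : cit U k ≤ E
      · exact Or.inl ((cit_succ_le U k).trans hk)
      right
      have hlt : cit U (k + 1) ⊔ E < cit U k ⊔ E := by
        refine lt_of_le_of_ne (sup_le_sup_right (cit_succ_le U k) E) fun heq => hk ?_
        refine Cfsg.Agent.S3781.le_of_sup_commutator hP.isNilpotent ?_
        show cit U k ≤ E ⊔ cit U (k + 1)
        rw [sup_comm E, heq]
        exact le_sup_left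
      have := lg_lt hP hlt
      omega
  have hE : cit U s ≤ E := by
    rcases hchain s with h' | h'
    · exact h'
    exact le_sup_left.trans (eq_of_le_of_lg_le hP (le_sup_right : E ≤ cit U s ⊔ E) (by omega)).ge
  have hle := Cfsg.Agent.S3781.commutator_lcs_le (D := cit U) (fun k => rfl) (cit_normal U) s 0
  refine hle.trans ?_
  rw [Nat.zero_add]
  exact Subgroup.commutator_mono hE le_rfl

theorem commutator_lcs_lcs_le {A B : Subgroup P} {i j k : ℕ} (hA : A ≤ lcs P i) (hB : B ≤ lcs P j)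
    (hk : k ≤ i + j + 1) : ⁅A, B⁆ ≤ lcs P k :=
  (Subgroup.commutator_mono hA hB).trans
    ((Cfsg.Lib.Lie.commutator_lcs_le j i).trans (Cfsg.Lib.Lie.lcs_anti hk))

omit [Finite P] in
/-- If `N` is generated by `x`, `y` and `U`, with `[U, N] ≤ T` and `[x, y] ∈ T`, then `N' ≤ T`. -/
theorem commutator_le_of_generators {N U T : Subgroup P} [T.Normal] {x y : P} (hx : x ∈ N) (hy : y ∈ N)
    (hUN : U ≤ N) (hN : N ≤ Subgroup.closure {x, y} ⊔ U) (hU : ⁅U, N⁆ ≤ T) (hxy : ⁅x, y⁆ ∈ T) :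
    ⁅N, N⁆ ≤ T := by
  set S : Set P := {x, y} ∪ (U : Set P)
  have hS : N ≤ Subgroup.closure S := by
    rw [Subgroup.closure_union, Subgroup.closure_eq]
    exact hN
  have hSN : S ⊆ N := by
    rintro a ((rfl | rfl) | ha)
    · exact hx
    · exact hy
    · exact hUN ha
  have hleft : ∀ a ∈ U, ∀ b ∈ N, ⁅a, b⁆ ∈ T := fun a ha b hb => hU (Subgroup.commutator_mem_commutator ha hb)
  have hright : ∀ a ∈ U, ∀ b ∈ N, ⁅b, a⁆ ∈ T := fun a ha b hb => by
    rw [← commutatorElement_inv]; exact inv_mem (hleft a ha b hb)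
  have hpair : ∀ a ∈ S, ∀ b ∈ S, ⁅a, b⁆ ∈ T := by
    have hyx : ⁅y, x⁆ ∈ T := by rw [← commutatorElement_inv]; exact inv_mem hxy
    intro a ha b hb
    rcases ha with (rfl | rfl) | ha
    · rcases hb with (rfl | rfl) | hb
      · rw [commutatorElement_self]; exact one_mem _
      · exact hxy
      · exact hright b hb _ hx
    · rcases hb with (rfl | rfl) | hb
      · exact hyx
      · rw [commutatorElement_self]; exact one_mem _
      · exact hright b hb _ hy
    · exact hleft a ha b (hSN hb)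
  let π := QuotientGroup.mk' T
  have hcomm : ∀ a ∈ π '' S, ∀ b ∈ π '' S, Commute a b := by
    rintro _ ⟨a, ha, rfl⟩ _ ⟨b, hb, rfl⟩
    rw [← commutatorElement_eq_one_iff_commute, ← map_commutatorElement]
    exact (QuotientGroup.eq_one_iff _).2 (hpair a ha b hb)
  have h1 : Subgroup.closure (π '' S) ≤ Subgroup.centralizer (π '' S) :=
    (Subgroup.closure_le _).2 fun a ha b hb => hcomm b hb a ha
  have h2 : Subgroup.closure (π '' S) ≤
      Subgroup.centralizer ((Subgroup.closure (π '' S) : Subgroup (P ⧸ T)) : Set (P ⧸ T)) :=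
    (Subgroup.closure_le _).2 fun a ha b hb => (h1 hb a ha).symm
  have h3 : ⁅N.map π, N.map π⁆ = ⊥ := by
    rw [Subgroup.commutator_eq_bot_iff_le_centralizer]
    have h4 : N.map π ≤ Subgroup.closure (π '' S) := by
      rw [← MonoidHom.map_closure]; exact Subgroup.map_mono hS
    exact h4.trans (h2.trans (Subgroup.centralizer_le h4))
  rw [← Subgroup.map_commutator, Subgroup.map_eq_bot_iff, QuotientGroup.ker_mk'] at h3
  exact h3

/-- A normal subgroup lying above `E` and one step below `N`. -/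
theorem exists_step (hP : IsPGroup p P) {E N : Subgroup P} [E.Normal] [N.Normal] (hEN : E ≤ N) :
    ∃ (U : Subgroup P) (x : P), U.Normal ∧ E ≤ U ∧ U ≤ N ∧ x ∈ N ∧ N ≤ Subgroup.closure {x} ⊔ U ∧
      lg p U ≤ max (lg p E) (lg p N - 1) := by
  rcases eq_or_lt_of_le hEN with rfl | hlt
  · exact ⟨E, 1, inferInstance, le_rfl, le_rfl, one_mem _, le_sup_right, le_max_left _ _⟩
  set M₀ := E ⊔ ⁅N, (⊤ : Subgroup P)⁆
  have hM₀N : M₀ ≤ N := sup_le hEN (Subgroup.commutator_le_left N ⊤)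
  have hM₀ne : M₀.subgroupOf N ≠ ⊤ := fun h =>
    hlt.not_ge (Cfsg.Agent.S3781.le_of_sup_commutator hP.isNilpotent (Subgroup.subgroupOf_eq_top.1 h))
  obtain ⟨M, hM, hMle⟩ := (eq_top_or_exists_le_coatom (M₀.subgroupOf N)).resolve_left hM₀ne
  set U := M.map N.subtype with hU
  have hUN : U ≤ N := Subgroup.map_subtype_le M
  have hMU : M₀ ≤ U := fun a ha => ⟨⟨a, hM₀N ha⟩, hMle (Subgroup.mem_subgroupOf.2 ha), rfl⟩
  have hUn : U.Normal := by
    rw [← Subgroup.commutator_top_right_le_iff]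
    exact ((Subgroup.commutator_mono hUN le_rfl).trans (le_sup_right : _ ≤ M₀)).trans hMU
  have hUlt : U < N := by
    refine lt_of_le_of_ne hUN fun h => hM.1 ?_
    rw [hU] at h
    exact Subgroup.map_injective N.subtype_injective (by rw [h, ← MonoidHom.range_eq_map, Subgroup.range_subtype])
  obtain ⟨x, hxN, hxU⟩ := SetLike.exists_of_lt hUlt
  refine ⟨U, x, hUn, le_sup_left.trans hMU, hUN, hxN, ?_, ?_⟩
  · intro a ha
    have hne : M < M ⊔ Subgroup.closure {⟨x, hxN⟩} := by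
      refine lt_of_le_of_ne le_sup_left fun h => hxU ⟨⟨x, hxN⟩, ?_, rfl⟩
      rw [h]
      exact Subgroup.mem_sup_right (Subgroup.subset_closure rfl)
    have htop := hM.2 _ hne
    have ha' : a ∈ (⊤ : Subgroup N).map N.subtype := ⟨⟨a, ha⟩, trivial, rfl⟩
    rw [← htop, Subgroup.map_sup, MonoidHom.map_closure, Set.image_singleton, sup_comm] at ha'
    exact ha'
  · have hidx := Cfsg.Lib.PGroup.index_of_isCoatom (hP.to_subgroup N) hM
    have hc : Nat.card M * p = Nat.card N := by rw [← hidx, Subgroup.card_mul_index]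
    have hcU : Nat.card U = Nat.card M :=
      Nat.card_congr (Subgroup.equivMapOfInjective M N.subtype N.subtype_injective).toEquiv.symm
    rw [← hcU, card_eq hP U, card_eq hP N, ← pow_succ] at hc
    have := Nat.pow_right_injective hp.out.two_le hc
    omega

/-- A nonabelian normal subgroup inside `γ_{s+1}` has abelianisation of order at least `p^{s+2}`. -/
theorem lg_derived_add_le (hP : IsPGroup p P) {N : Subgroup P} [N.Normal] {s : ℕ} (hN : N ≤ lcs P s)
    (hne : ⁅N, N⁆ ≠ ⊥) : lg p ⁅N, N⁆ + s + 2 ≤ lg p N := by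
  by_contra hcon
  obtain ⟨U, x, hUn, hEU, hUN, hx, hgen, hlg⟩ := exists_step hP (Subgroup.commutator_le_left N N)
  have hUs : lg p U ≤ lg p ⁅N, N⁆ + s := by omega
  have hbr : ⁅U, N⁆ ≤ ⁅⁅N, N⁆, (⊤ : Subgroup P)⁆ :=
    (Subgroup.commutator_mono le_rfl hN).trans (commutator_lcs_le_of_lg_le hP hEU hUs)
  refine hne (eq_bot_of_le_commutator hP ?_)
  refine commutator_le_of_generators hx hx hUN ?_ hbr ?_
  · simpa using hgen
  · rw [commutatorElement_self]; exact one_mem _

/-- If the abelianisation of `N ≤ γ_{s+1}` is as small as possible, `N''` lies in `γ_{4s+5}`. -/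
theorem derived_derived_le (hP : IsPGroup p P) {N : Subgroup P} [N.Normal] {s : ℕ} (hN : N ≤ lcs P s)
    (hsmall : lg p N ≤ lg p ⁅N, N⁆ + s + 2) : ⁅⁅N, N⁆, ⁅N, N⁆⁆ ≤ lcs P (4 * s + 4) := by
  obtain ⟨U₁, x, hU₁n, hEU₁, hU₁N, hx, hgen₁, hlg₁⟩ := exists_step hP (Subgroup.commutator_le_left N N)
  obtain ⟨U, y, hUn, hEU, hUU₁, hy, hgen₂, hlg⟩ := exists_step hP hEU₁
  have hUs : lg p U ≤ lg p ⁅N, N⁆ + s := by omega
  set E := ⁅N, N⁆ with hE
  set Z := ⁅E, (⊤ : Subgroup P)⁆ with hZ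
  have hbr : ⁅U, N⁆ ≤ Z := (Subgroup.commutator_mono le_rfl hN).trans (commutator_lcs_le_of_lg_le hP hEU hUs)
  have hgen : N ≤ Subgroup.closure {x, y} ⊔ U := by
    refine hgen₁.trans (sup_le ((Subgroup.closure_mono (by simp)).trans le_sup_left) (hgen₂.trans ?_))
    exact sup_le_sup_right (Subgroup.closure_mono (by simp)) U
  set z := ⁅x, y⁆ with hz
  have hzE : z ∈ E := Subgroup.commutator_mem_commutator hx (hU₁N hy)
  have hZE : Z ≤ E := Subgroup.commutator_le_left E ⊤
  set S := Subgroup.closure {z} ⊔ Z with hS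
  have hSE : S ≤ E := sup_le ((Subgroup.closure_le _).2 (by simpa using hzE)) hZE
  have : S.Normal := by
    rw [← Subgroup.commutator_top_right_le_iff]
    exact (Subgroup.commutator_mono hSE le_rfl).trans (le_sup_right : Z ≤ S)
  have hES : E ≤ S :=
    commutator_le_of_generators hx (hU₁N hy) (hUU₁.trans hU₁N) hgen (hbr.trans le_sup_right)
      (Subgroup.mem_sup_left (Subgroup.subset_closure rfl))
  have hEl : E ≤ lcs P (2 * s + 1) := commutator_lcs_lcs_le hN hN (by omega)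
  have hZl : Z ≤ lcs P (2 * s + 2) :=
    Subgroup.commutator_mono hEl (le_refl (⊤ : Subgroup P))
  refine commutator_le_of_generators hzE hzE hZE ?_ (commutator_lcs_lcs_le hZl hEl (by omega)) ?_
  · simpa [hS] using hES
  · rw [commutatorElement_self]; exact one_mem _

/-- The derived series of a subgroup. -/
def der (N : Subgroup P) : ℕ → Subgroup P
  | 0 => N
  | m + 1 => der ⁅N, N⁆ m

omit [Finite P] in
theorem der_succ : ∀ (m : ℕ) (N : Subgroup P), der N (m + 1) = ⁅der N m, der N m⁆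
  | 0, _ => rfl
  | m + 1, N => der_succ m ⁅N, N⁆

omit [Finite P] in
theorem der_top : ∀ k, der (⊤ : Subgroup P) k = derivedSeries P k
  | 0 => rfl
  | k + 1 => by rw [der_succ, derivedSeries_succ, der_top k]

omit [Finite P] in
theorem ne_bot_of_der_ne_bot : ∀ {m : ℕ} {N : Subgroup P}, der N m ≠ ⊥ → N ≠ ⊥
  | 0, _, h => h
  | m + 1, N, h => fun hN => by
    subst hN
    exact ne_bot_of_der_ne_bot (m := m) h (by rw [Subgroup.commutator_bot_left])

/-- A normal subgroup inside `γ_{s+1}`, `s ≥ 1`, with nontrivial `m`-th derived subgroup is large. -/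
theorem bound (hP : IsPGroup p P) : ∀ (m : ℕ) (N : Subgroup P) [N.Normal] (s : ℕ), 1 ≤ s → N ≤ lcs P s →
    der N m ≠ ⊥ → (s + 1) * (2 ^ m - 1) + 2 * m ≤ lg p N + 1 := by
  intro m
  induction m using Nat.strong_induction_on with
  | _ m ih =>
    intro N _ s hs hN hne
    obtain rfl | ⟨m, rfl⟩ : m = 0 ∨ ∃ j, m = j + 1 := by
      rcases m with _ | j
      · exact Or.inl rfl
      · exact Or.inr ⟨j, rfl⟩
    · simp
    let E := ⁅N, N⁆
    have hE1 : E ≠ ⊥ := ne_bot_of_der_ne_bot (m := m) hne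
    haveI : E.Normal := Subgroup.commutator_normal N N
    have hEl : E ≤ lcs P (2 * s + 1) := commutator_lcs_lcs_le hN hN (by omega)
    have ha : lg p E + s + 2 ≤ lg p N := lg_derived_add_le hP hN hE1
    have hE0 := one_le_lg hP hE1
    rcases m with _ | m
    · simp only [zero_add, pow_one]
      omega
    by_cases hbig : lg p E + s + 3 ≤ lg p N
    · have h := ih (m + 1) (by omega) E (2 * s + 1) (by omega) hEl hne
      obtain ⟨t, ht⟩ : ∃ t, 2 ^ (m + 1) = t + 1 := ⟨2 ^ (m + 1) - 1, (Nat.sub_add_cancel Nat.one_le_two_pow).symm⟩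
      rw [ht, Nat.add_sub_cancel] at h
      rw [pow_succ, ht, show (t + 1) * 2 - 1 = 2 * t + 1 by omega]
      nlinarith
    let F := ⁅E, E⁆
    have hF1 : F ≠ ⊥ := ne_bot_of_der_ne_bot (m := m) hne
    haveI : F.Normal := Subgroup.commutator_normal E E
    have hFl : F ≤ lcs P (4 * s + 4) := derived_derived_le hP hN (show lg p N ≤ lg p E + s + 2 by omega)
    have ha' : lg p F + (2 * s + 1) + 2 ≤ lg p E := lg_derived_add_le hP hEl hF1
    have hF0 := one_le_lg hP hF1
    rcases m with _ | m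
    · norm_num
      omega
    rcases m with _ | m
    · have hG1 : ⁅F, F⁆ ≠ ⊥ := ne_bot_of_der_ne_bot (m := 0) hne
      have ha'' : lg p ⁅F, F⁆ + (4 * s + 4) + 2 ≤ lg p F := lg_derived_add_le hP hFl hG1
      have hG0 := one_le_lg hP hG1
      norm_num
      omega
    have h := ih (m + 2) (by omega) F (4 * s + 4) (by omega) hFl hne
    obtain ⟨t, ht, ht3⟩ : ∃ t, 2 ^ (m + 2) = t + 1 ∧ 3 ≤ t := by
      refine ⟨2 ^ (m + 2) - 1, ?_, ?_⟩ <;>
      · have : 2 ^ 2 ≤ 2 ^ (m + 2) := Nat.pow_le_pow_right (by norm_num) (by omega)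
        omega
    rw [ht, Nat.add_sub_cancel] at h
    rw [show m + 2 + 1 + 1 = (m + 2) + 2 by omega, pow_add, ht, show (t + 1) * 2 ^ 2 - 1 = 4 * t + 3 by omega]
    nlinarith

/-- A group of order `p^n` with nontrivial `k`-th derived subgroup has `2^k + 2k ≤ n + 2`. -/
theorem derived_length_bound (hP : IsPGroup p P) (k : ℕ) (hk : derivedSeries P k ≠ ⊥) :
    2 ^ k + 2 * k ≤ lg p (⊤ : Subgroup P) + 2 := by
  rw [← der_top] at hk
  rcases k with _ | k
  · simp
  let E := ⁅(⊤ : Subgroup P), (⊤ : Subgroup P)⁆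
  have hE1 : E ≠ ⊥ := ne_bot_of_der_ne_bot (m := k) hk
  haveI : E.Normal := Subgroup.commutator_normal _ _
  have h0 : (⊤ : Subgroup P) ≤ lcs P 0 := (Subgroup.lowerCentralSeries_zero (⊤ : Subgroup P)).ge
  have hEl : E ≤ lcs P 1 := (Subgroup.lowerCentralSeries_succ (⊤ : Subgroup P) 0).ge
  have ha : lg p E + 0 + 2 ≤ lg p (⊤ : Subgroup P) := lg_derived_add_le hP h0 hE1
  have hE0 := one_le_lg hP hE1
  rcases k with _ | k
  · norm_num
    omega
  let F := ⁅E, E⁆
  have hF1 : F ≠ ⊥ := ne_bot_of_der_ne_bot (m := k) hk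
  haveI : F.Normal := Subgroup.commutator_normal E E
  have ha' : lg p F + 1 + 2 ≤ lg p E := lg_derived_add_le hP hEl hF1
  have hF0 := one_le_lg hP hF1
  by_cases hbig : lg p E + 3 ≤ lg p (⊤ : Subgroup P)
  · have h := bound hP (k + 1) E 1 le_rfl hEl hk
    obtain ⟨t, ht⟩ : ∃ t, 2 ^ (k + 1) = t + 1 := ⟨2 ^ (k + 1) - 1, (Nat.sub_add_cancel Nat.one_le_two_pow).symm⟩
    rw [ht, Nat.add_sub_cancel] at h
    rw [pow_succ, ht]
    omega
  have hsm : lg p (⊤ : Subgroup P) ≤ lg p E + 0 + 2 := by omega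
  have hFl : F ≤ lcs P (4 * 0 + 4) := derived_derived_le (s := 0) hP h0 hsm
  rw [show 4 * 0 + 4 = 4 from rfl] at hFl
  rcases k with _ | k
  · norm_num
    omega
  rcases k with _ | k
  · have hG1 : ⁅F, F⁆ ≠ ⊥ := ne_bot_of_der_ne_bot (m := 0) hk
    have ha'' : lg p ⁅F, F⁆ + 4 + 2 ≤ lg p F := lg_derived_add_le hP hFl hG1
    have hG0 := one_le_lg hP hG1
    norm_num
    omega
  have h := bound hP (k + 2) F 4 (by omega) hFl hk
  obtain ⟨t, ht, ht3⟩ : ∃ t, 2 ^ (k + 2) = t + 1 ∧ 3 ≤ t := by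
    refine ⟨2 ^ (k + 2) - 1, ?_, ?_⟩ <;>
    · have : 2 ^ 2 ≤ 2 ^ (k + 2) := Nat.pow_le_pow_right (by norm_num) (by omega)
      omega
  rw [ht, Nat.add_sub_cancel] at h
  rw [show k + 2 + 1 + 1 = (k + 2) + 2 by omega, pow_add, ht]
  omega

end Cfsg.Lib.PGroup.DerivedLength
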