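import Cfsg.Prelude.Def_Transfer
import Mathlib.Data.Nat.Choose.Dvd
import Mathlib.GroupTheory.Nilpotent
import Mathlib.GroupTheory.PGroup
import Mathlib.GroupTheory.Sylow

/-!
# Maximal normal elementary abelian subgroups of `p`-groups, `p` odd
-/

set_option autoImplicit false
set_option linter.style.haveILetI false

namespace Cfsg.Lib.PGroup.OddNormalElementary

open Subgroup
open scoped commutatorElement

variable {R : Type*} [Group R]

theorem mul_pow_of_commutator {x c d : R} (hdx : Commute d x) (hdc : Commute d c)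
    (h : c * x = x * c * d) (n : ℕ) : (x * c) ^ n = x ^ n * c ^ n * d ^ (n.choose 2) := by
  have hc : ∀ m : ℕ, c ^ m * x = x * c ^ m * d ^ m := by
    intro m
    induction m with
    | zero => simp
    | succ m ih =>
      calc c ^ (m + 1) * x = c * (c ^ m * x) := by rw [pow_succ', mul_assoc]
        _ = c * x * (c ^ m * d ^ m) := by rw [ih]; group
        _ = x * c * (d * c ^ m) * d ^ m := by rw [h]; group
        _ = x * c * (c ^ m * d) * d ^ m := by rw [(hdc.pow_right m).eq]
        _ = x * c ^ (m + 1) * d ^ (m + 1) := by rw [pow_succ', pow_succ']; group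
  induction n with
  | zero => simp
  | succ n ih =>
    set k := n.choose 2
    have hk : (n + 1).choose 2 = k + n := by
      rw [Nat.choose_succ_succ, Nat.choose_one_right]; exact add_comm _ _
    calc (x * c) ^ (n + 1) = x ^ n * c ^ n * (d ^ k * x) * c := by rw [pow_succ, ih]; group
      _ = x ^ n * (c ^ n * x) * (d ^ k * c) := by rw [(hdx.pow_left k).eq]; group
      _ = x ^ n * (x * c ^ n) * (d ^ n * (d ^ k * c)) := by rw [hc]; group
      _ = x ^ (n + 1) * c ^ n * (c * (d ^ k * d ^ n)) := by
        rw [← mul_assoc (d ^ n), ← pow_add, (hdc.pow_left _).eq, ← pow_add, add_comm n k, pow_succ]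
        group
      _ = x ^ (n + 1) * c ^ (n + 1) * d ^ (n + 1).choose 2 := by
        rw [hk, ← pow_add, pow_succ c]; group

variable [Finite R] {p : ℕ} [Fact p.Prime]

/-- For odd `p`, a maximal normal elementary abelian subgroup contains every element of order `p`
centralizing it. -/
theorem mem_of_centralizes (hp : p ≠ 2) (hR : IsPGroup p R) (A : Subgroup R) [A.Normal]
    (hA : IsElementaryAbelian p A)
    (hmax : ∀ K : Subgroup R, K.Normal → IsElementaryAbelian p K → A ≤ K → K = A)
    {x : R} (hx : x ^ p = 1) (hxC : x ∈ centralizer (A : Set R)) : x ∈ A := by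
  classical
  by_contra hxA
  haveI : Group.IsNilpotent R := hR.isNilpotent
  set q := QuotientGroup.mk' A
  let Z : ℕ → Subgroup R := fun n => (Subgroup.upperCentralSeries (R ⧸ A) n).comap q
  set C := centralizer (A : Set R) with hC
  haveI : C.Normal := inferInstance
  have hex : ∃ n, ∃ y ∈ C, y ^ p = 1 ∧ y ∉ A ∧ y ∈ Z n := by
    obtain ⟨n, hn⟩ := Group.IsNilpotent.nilpotent (R ⧸ A)
    exact ⟨n, x, hxC, hx, hxA, by show q x ∈ Subgroup.upperCentralSeries (R ⧸ A) n; rw [hn]; trivial⟩
  obtain ⟨y, hyC, hy, hyA, hyn⟩ := Nat.find_spec hex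
  have hn0 : Nat.find hex ≠ 0 := fun h0 => by
    rw [h0] at hyn
    exact hyA (by simpa [Z, q] using hyn)
  obtain ⟨n, hn⟩ := Nat.exists_eq_succ_of_ne_zero hn0
  have hmin : ∀ m ≤ n, ∀ z ∈ C, z ^ p = 1 → z ∈ Z m → z ∈ A := fun m hm z hzC hz hzm => by
    by_contra hzA
    exact Nat.find_min hex (by omega) ⟨z, hzC, hz, hzA, hzm⟩
  have hpd : p ∣ p.choose 2 :=
    (Fact.out : p.Prime).dvd_choose_self two_ne_zero
      (lt_of_le_of_ne (Fact.out : p.Prime).two_le (Ne.symm hp))
  have hAp : ∀ d ∈ A, d ^ p = 1 := hA.2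
  have key : ∀ m ≤ n, ∀ c ∈ C, c ∈ Z m → (y * c) ^ p = 1 → c ^ p = 1 := by
    intro m
    induction m with
    | zero =>
      intro _ c _ hc _
      exact hAp c (by simpa [Z, q] using hc)
    | succ m ih =>
      intro hm c hcC hcm hyc
      set d := y⁻¹ * (c * y * c⁻¹) with hd
      have hdC : d ∈ C := mul_mem (inv_mem hyC) (mul_mem (mul_mem hcC hyC) (inv_mem hcC))
      have hdm : d ∈ Z m := by
        show q d ∈ Subgroup.upperCentralSeries (R ⧸ A) m
        have h1 : q c ∈ Subgroup.upperCentralSeries (R ⧸ A) (m + 1) := hcm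
        rw [Subgroup.mem_upperCentralSeries_succ_iff] at h1
        have h2 := (inferInstance : (Subgroup.upperCentralSeries (R ⧸ A) m).Normal).conj_mem _ (h1 (q y))
          (q y⁻¹)
        convert h2 using 1
        rw [← map_commutatorElement, ← map_inv, ← map_mul, ← map_mul]
        rw [hd, commutatorElement_def]
        congr 1
        group
      have hdp : d ^ p = 1 := ih (by omega) d hdC hdm (by
        rw [hd, mul_inv_cancel_left, conj_pow, hy, mul_one, mul_inv_cancel])
      have hdA : d ∈ A := hmin m (by omega) d hdC hdp hdm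
      have hdx : Commute d y := mem_centralizer_iff.mp hyC d hdA
      have hdc : Commute d c := mem_centralizer_iff.mp hcC d hdA
      have h := mul_pow_of_commutator hdx hdc (show c * y = y * c * d by
        rw [mul_assoc y c d, ← hdc.eq, hd]; group) p
      obtain ⟨k, hk⟩ := hpd
      rw [hyc, hy, one_mul, hk, pow_mul, hdp, one_pow, mul_one] at h
      exact h.symm
  have hcentral : ∀ g : R, y⁻¹ * (g * y * g⁻¹) ∈ A := by
    intro g
    have hcC : y⁻¹ * (g * y * g⁻¹) ∈ C := mul_mem (inv_mem hyC) ((inferInstance : C.Normal).conj_mem y hyC g)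
    have hcn : y⁻¹ * (g * y * g⁻¹) ∈ Z n := by
      show q _ ∈ Subgroup.upperCentralSeries (R ⧸ A) n
      have h1 : q y ∈ Subgroup.upperCentralSeries (R ⧸ A) (n + 1) := by rw [hn] at hyn; exact hyn
      rw [Subgroup.mem_upperCentralSeries_succ_iff] at h1
      have h2 := inv_mem ((inferInstance : (Subgroup.upperCentralSeries (R ⧸ A) n).Normal).conj_mem _
        (h1 (q g)) (q y⁻¹))
      convert h2 using 1
      rw [← map_commutatorElement, ← map_inv, ← map_mul, ← map_mul, ← map_inv]
      rw [commutatorElement_def]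
      congr 1
      group
    exact hmin n le_rfl _ hcC (key n le_rfl _ hcC hcn (by
      rw [mul_inv_cancel_left, conj_pow, hy, mul_one, mul_inv_cancel])) hcn
  let B : Subgroup R := closure (insert y (A : Set R))
  have hgen : ∀ a ∈ insert y (A : Set R), ∀ b ∈ insert y (A : Set R), a * b = b * a := by
    rintro a (rfl | ha) b (rfl | hb)
    · rfl
    · exact (mem_centralizer_iff.mp hyC b hb).symm
    · exact mem_centralizer_iff.mp hyC a ha
    · exact congrArg Subtype.val (hA.1.is_comm.comm ⟨a, ha⟩ ⟨b, hb⟩)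
  have hBc : IsMulCommutative B := isMulCommutative_closure (fun a ha b hb => hgen a ha b hb)
  have hB : IsElementaryAbelian p B := by
    refine ⟨hBc, fun b hb => ?_⟩
    refine closure_induction (p := fun z _ => z ^ p = 1) ?_ (one_pow p) (fun a b ha hb e1 e2 => ?_)
      (fun a _ e => by rw [inv_pow, e, inv_one]) hb
    · rintro z (rfl | hz)
      exacts [hy, hAp z hz]
    · rw [Commute.mul_pow (congrArg Subtype.val (hBc.is_comm.comm ⟨a, ha⟩ ⟨b, hb⟩) : a * b = b * a),
        e1, e2, one_mul]
  have hyB : y ∈ B := subset_closure (Set.mem_insert _ _)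
  have hAB : A ≤ B := fun a ha => subset_closure (Set.mem_insert_of_mem _ ha)
  have hBn : B.Normal := by
    refine normalizer_eq_top_iff.mp (top_le_iff.mp fun g _ => mem_normalizer_fintype fun z hz => ?_)
    have : B ≤ B.comap (MulAut.conj g).toMonoidHom := by
      refine (closure_le _).mpr ?_
      rintro z (rfl | hz)
      · show g * z * g⁻¹ ∈ B
        rw [← mul_inv_cancel_left z (g * z * g⁻¹)]
        exact mul_mem hyB (hAB (hcentral g))
      · exact hAB ((inferInstance : A.Normal).conj_mem z hz g)
    exact this hz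
  exact hyA (hmax B hBn hB hAB ▸ hyB)

end Cfsg.Lib.PGroup.OddNormalElementary
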