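import Cfsg.Agent.Lib.PGroup.BreadthForms

/-!
Vaughan-Lee's bound for the derived group of a `p`-group of given breadth.
-/

set_option autoImplicit false
set_option linter.style.haveILetI false
set_option linter.unusedSectionVars false

universe u

namespace Cfsg.Lib.PGroup.Breadth

open Subgroup Module
open scoped commutatorElement

variable {G : Type u} [Group G] [Finite G] {p : ℕ} [Fact p.Prime] {d : ℕ}

/-- Index of the centralizer of `x` in the `i`-th term. -/
noncomputable def cIdx (x : G) (i : ℕ) : ℕ := (centralizer ({x} : Set G)).relIndex (L G i)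

theorem cIdx_ne_zero (x : G) (i : ℕ) : cIdx x i ≠ 0 := Nat.card_pos.ne'

theorem normal_of_between {i : ℕ} {N : Subgroup G} (h1 : L G (i + 2) ≤ N) (h2 : N ≤ L G (i + 1)) :
    N.Normal := by
  refine ⟨fun n hn y => ?_⟩
  have : y * n * y⁻¹ = ⁅y, n⁆ * n := by simp [commutatorElement_def, mul_assoc]
  rw [this]
  exact mul_mem (h1 (comm_mem_L' (h2 hn) y)) hn

/-- `γ_{i+3}` with the commutators against the first `j` generators. -/
def layer (g : Fin d → G) (i j : ℕ) : Subgroup G :=
  L G (i + 2) ⊔ closure {c | ∃ x ∈ L G i, ∃ k : Fin d, k.val < j ∧ ⁅x, g k⁆ = c}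

theorem L_le_layer (g : Fin d → G) (i j : ℕ) : L G (i + 2) ≤ layer g i j := le_sup_left

theorem comm_mem_layer (g : Fin d → G) {i j : ℕ} {x : G} (hx : x ∈ L G i) {k : Fin d} (hk : k.val < j) :
    ⁅x, g k⁆ ∈ layer g i j :=
  mem_sup_right (subset_closure ⟨x, hx, k, hk, rfl⟩)

theorem layer_le (g : Fin d → G) (i j : ℕ) : layer g i j ≤ L G (i + 1) :=
  sup_le (L_succ_le (i + 1)) ((closure_le _).2 fun _ ⟨_, hx, _, _, h⟩ => h ▸ comm_mem_L hx _)

theorem layer_zero (g : Fin d → G) (i : ℕ) : layer g i 0 = L G (i + 2) := by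
  refine le_antisymm (sup_le le_rfl ((closure_le _).2 ?_)) (L_le_layer g i 0)
  rintro _ ⟨_, _, k, hk, -⟩
  exact absurd hk (Nat.not_lt_zero _)

theorem layer_top {g : Fin d → G} (hg : closure (Set.range g) = ⊤) (i : ℕ) :
    L G (i + 1) ≤ layer g i d := by
  change Subgroup.lowerCentralSeries (⊤ : Subgroup G) (i + 1) ≤ _
  rw [Subgroup.lowerCentralSeries_succ, commutator_le]
  intro x hx y _
  have := normal_of_between (L_le_layer g i d) (layer_le g i d)
  let S : Subgroup G :=
    { carrier := {y | ⁅x, y⁆ ∈ layer g i d}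
      one_mem' := by simp
      mul_mem' := fun {a b} ha hb => by
        simp only [Set.mem_ofPred_eq, comm_mul_right]
        exact mul_mem ha (this.conj_mem _ hb _)
      inv_mem' := fun {a} ha => by
        simp only [Set.mem_ofPred_eq] at ha ⊢
        have h1 : ⁅x, a⁻¹⁆ = a⁻¹ * ⁅x, a⁆⁻¹ * a⁻¹⁻¹ := by simp [commutatorElement_def, mul_assoc]
        rw [h1]
        exact this.conj_mem _ (inv_mem ha) _ }
  have hle : closure (Set.range g) ≤ S :=
    (closure_le S).2 (by rintro _ ⟨k, rfl⟩; exact comm_mem_layer g hx k.2)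
  exact hle (hg ▸ mem_top y)

/-- Commutation with `g k` into a layer. -/
theorem exists_layer_step (g : Fin d → G) (i : ℕ) (k : Fin d) :
    ∃ K : Subgroup G, L G (i + 1) ≤ K ∧ K ≤ L G i ∧
      centralizer ({g k} : Set G) ⊓ L G i ≤ K ∧
      (∀ x, x ∈ K ↔ x ∈ L G i ∧ ⁅x, g k⁆ ∈ layer g i k.val) ∧
      Nat.card (layer g i (k.val + 1)) ≤ Nat.card (layer g i k.val) * K.relIndex (L G i) := by
  have hnorm := normal_of_between (L_le_layer g i k.val) (layer_le g i k.val)
  have hcen : ∀ (c y : G), c ∈ L G (i + 1) →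
      (QuotientGroup.mk (y * c * y⁻¹) : G ⧸ layer g i k.val) = QuotientGroup.mk c := by
    intro c y hc
    have : y * c * y⁻¹ = ⁅y, c⁆ * c := by simp [commutatorElement_def, mul_assoc]
    rw [this, QuotientGroup.mk_mul, (QuotientGroup.eq_one_iff _).2 (L_le_layer g i _ (comm_mem_L' hc y)), one_mul]
  let θ : ↥(L G i) →* G ⧸ layer g i k.val :=
    MonoidHom.mk' (fun x => QuotientGroup.mk ⁅(x : G), g k⁆) fun x y => by
      simp only [Subgroup.coe_mul, comm_mul_left, QuotientGroup.mk_mul _ (x * ⁅(y : G), g k⁆ * (x : G)⁻¹)]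
      have hy := comm_mem_L y.2 (g k)
      rw [hcen _ _ hy]
      have h1 := hcen _ ⁅(x : G), g k⁆ hy
      rw [QuotientGroup.mk_mul, QuotientGroup.mk_mul, QuotientGroup.mk_inv, mul_inv_eq_iff_eq_mul] at h1
      exact h1.symm
  have hker : ∀ x, x ∈ θ.ker.map (L G i).subtype ↔ x ∈ L G i ∧ ⁅x, g k⁆ ∈ layer g i k.val := by
    intro x
    constructor
    · rintro ⟨x', hx', rfl⟩
      exact ⟨x'.2, (QuotientGroup.eq_one_iff _).1 (MonoidHom.mem_ker.1 hx')⟩
    · rintro ⟨hx, hxc⟩
      exact ⟨⟨x, hx⟩, MonoidHom.mem_ker.2 ((QuotientGroup.eq_one_iff _).2 hxc), rfl⟩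
  refine ⟨θ.ker.map (L G i).subtype, fun x hx => (hker x).2 ⟨L_succ_le i hx, ?_⟩, map_subtype_le _,
    fun x hx => (hker x).2 ⟨hx.2, ?_⟩, hker, ?_⟩
  · exact L_le_layer g i _ (comm_mem_L hx (g k))
  · have h1 := mem_centralizer_iff.1 hx.1 (g k) rfl
    rw [commutatorElement_eq_one_iff_mul_comm.2 h1.symm]
    exact one_mem _
  · have hsub : layer g i (k.val + 1) ≤ θ.range.comap (QuotientGroup.mk' (layer g i k.val)) := by
      have hN : layer g i k.val ≤ θ.range.comap (QuotientGroup.mk' (layer g i k.val)) := fun x hx => by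
        rw [mem_comap, QuotientGroup.mk'_apply, (QuotientGroup.eq_one_iff _).2 hx]
        exact one_mem _
      refine sup_le ((L_le_layer g i _).trans hN) ((closure_le _).2 ?_)
      rintro _ ⟨x, hx, l, hl, rfl⟩
      rcases Nat.lt_succ_iff_lt_or_eq.1 hl with h | h
      · exact hN (comm_mem_layer g hx h)
      · obtain rfl : l = k := Fin.ext h
        exact ⟨⟨x, hx⟩, rfl⟩
    refine (Subgroup.card_le_of_le hsub).trans (le_of_eq ?_)
    have h1 : (θ.ker.map (L G i).subtype).relIndex (L G i) = θ.ker.index := by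
      rw [relIndex, subgroupOf, comap_map_eq_self_of_injective (L G i).subtype_injective]
    rw [h1, index_ker]
    apply mul_right_cancel₀ (show θ.range.index ≠ 0 from index_ne_zero_of_finite)
    calc Nat.card (θ.range.comap (QuotientGroup.mk' (layer g i k.val))) * θ.range.index
        = Nat.card G := by
          rw [← index_comap_of_surjective θ.range (QuotientGroup.mk'_surjective (layer g i k.val)),
            card_mul_index]
      _ = Nat.card (layer g i k.val) * Nat.card θ.range * θ.range.index := by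
          rw [mul_assoc, card_mul_index, ← card_mul_index (layer g i k.val), index_eq_card]

theorem step_bound (g : Fin d → G) (i : ℕ) (k : Fin d) :
    Nat.card (layer g i (k.val + 1)) * cIdx (g k) (i + 1) ≤ Nat.card (layer g i k.val) * cIdx (g k) i := by
  obtain ⟨K, hK1, hK2, hK3, -, hK4⟩ := exists_layer_step g i k
  refine le_trans (Nat.mul_le_mul_right _ hK4) ?_
  rw [mul_assoc]
  refine Nat.mul_le_mul_left _ ?_
  have h1 : cIdx (g k) i = (centralizer ({g k} : Set G)).relIndex K * K.relIndex (L G i) := by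
    rw [cIdx, ← inf_relIndex_right, ← relIndex_mul_relIndex _ K _ hK3 hK2]
    congr 1
    rw [← inf_relIndex_right, inf_assoc, inf_eq_right.2 hK2, inf_relIndex_right]
  rw [h1, mul_comm]
  exact Nat.mul_le_mul_right _ (relIndex_le_of_le_right hK1 Nat.card_pos.ne')

/-- The first layer with `j` independent generators commuting nontrivially with the next one. -/
theorem step_bound_zero {V : Type u} [AddCommGroup V] [Module (ZMod p) V] [Finite V]
    (F : FratSpace G p V) {g : Fin d → G} (hli : LinearIndependent (ZMod p) (F.proj ∘ g))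
    (hgood : ∀ k, F.Good (g k)) (k : Fin d) :
    Nat.card (layer g 0 (k.val + 1)) * cIdx (g k) 1 * p ^ k.val ≤ Nat.card (layer g 0 k.val) * cIdx (g k) 0 := by
  obtain ⟨K, hK1, hK2, hK3, hKmem, hK4⟩ := exists_layer_step g 0 k
  refine le_trans (Nat.mul_le_mul_right _ (Nat.mul_le_mul_right _ hK4)) ?_
  rw [mul_assoc, mul_assoc]
  refine Nat.mul_le_mul_left _ ?_
  set C := centralizer ({g k} : Set G)
  set S := Submodule.span (ZMod p) {F.proj (g k)}
  set B := F.pre S ⊓ K
  have hCB : C ⊓ K ≤ B := fun x hx => by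
    refine ⟨hgood k x ?_, hx.2⟩
    rw [commutatorElement_eq_one_iff_mul_comm.2 (mem_centralizer_iff.1 hx.1 (g k) rfl)]
    exact one_mem _
  -- the earlier generators are independent modulo `B`
  have hB : p ^ k.val ≤ B.relIndex K := by
    let ψ : G →* Multiplicative (V ⧸ S) := MonoidHom.mk'
      (fun x => Multiplicative.ofAdd (Submodule.Quotient.mk (F.proj x)))
      (fun x y => by rw [F.proj_mul, Submodule.Quotient.mk_add]; rfl)
    have hψ : ψ.ker = F.pre S := by
      ext x
      rw [MonoidHom.mem_ker, F.mem_pre, ← Submodule.Quotient.mk_eq_zero]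
      exact Iff.rfl
    rw [show B.relIndex K = ψ.ker.relIndex K by rw [hψ, inf_relIndex_right], relIndex_ker]
    let T : AddSubgroup (V ⧸ S) :=
      { carrier := {v | Multiplicative.ofAdd v ∈ K.map ψ}
        zero_mem' := (K.map ψ).one_mem
        add_mem' := fun ha hb => (K.map ψ).mul_mem ha hb
        neg_mem' := fun ha => (K.map ψ).inv_mem ha }
    have hcard : Nat.card (K.map ψ) = Nat.card (AddSubgroup.toZModSubmodule p T) :=
      Nat.card_congr ⟨fun x => ⟨Multiplicative.toAdd x.1, x.2⟩, fun v => ⟨Multiplicative.ofAdd v.1, v.2⟩,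
        fun _ => rfl, fun _ => rfl⟩
    have hd : k.val ≤ finrank (ZMod p) (AddSubgroup.toZModSubmodule p T) := by
      have hmem : ∀ l : {l : Fin d // l < k},
          Submodule.mkQ S (F.proj (g l.1)) ∈ AddSubgroup.toZModSubmodule p T := by
        intro l
        refine ⟨g l.1, (hKmem _).2 ⟨mem_L_zero _, ?_⟩, rfl⟩
        rw [← commutatorElement_inv]
        exact inv_mem (comm_mem_layer g (mem_L_zero _) l.2)
      have hind : LinearIndependent (ZMod p) fun l : {l : Fin d // l < k} =>
          Submodule.mkQ S (F.proj (g l.1)) := by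
        refine (hli.comp _ Subtype.val_injective).map ?_
        rw [Submodule.ker_mkQ]
        have h1 := hli.disjoint_span_image (s := {l | l < k}) (t := {k})
          (Set.disjoint_singleton_right.2 (lt_irrefl k))
        rw [Set.image_singleton] at h1
        refine h1.mono_left (Submodule.span_mono ?_)
        rintro _ ⟨l, rfl⟩
        exact ⟨l.1, l.2, rfl⟩
      have h2 := (LinearIndependent.of_comp (v := fun l => (⟨_, hmem l⟩ : AddSubgroup.toZModSubmodule p T))
        (Submodule.subtype _) hind).fintype_card_le_finrank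
      rwa [Fintype.card_subtype, Finset.filter_gt_eq_Iio, Fin.card_Iio] at h2
    rw [hcard, Module.natCard_eq_pow_finrank (K := ZMod p), Nat.card_zmod]
    exact Nat.pow_le_pow_right (Fact.out : p.Prime).pos hd
  have h1 : cIdx (g k) 0 = C.relIndex K * K.relIndex (L G 0) := by
    rw [cIdx, ← inf_relIndex_right, ← relIndex_mul_relIndex _ K _ hK3 hK2]
    congr 1
    rw [← inf_relIndex_right, inf_assoc, inf_eq_right.2 hK2, inf_relIndex_right]
  have hBK : B ≤ K := inf_le_right
  have h2 : C.relIndex K = C.relIndex B * B.relIndex K := by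
    have hCB' : C ⊓ B = C ⊓ K := le_antisymm (inf_le_inf_left _ hBK) (le_inf inf_le_left hCB)
    rw [← inf_relIndex_right, ← relIndex_mul_relIndex _ B _ hCB hBK]
    congr 1
    rw [← hCB', inf_relIndex_right]
  have h3 : cIdx (g k) 1 ≤ C.relIndex B := by
    refine relIndex_le_of_le_right (fun x hx => ⟨?_, hK1 hx⟩) Nat.card_pos.ne'
    exact hgood k x (comm_mem_L' hx (g k))
  rw [h1, h2, mul_comm (K.relIndex (L G 0))]
  calc cIdx (g k) 1 * p ^ k.val * K.relIndex (L G 0)
      ≤ C.relIndex B * B.relIndex K * K.relIndex (L G 0) := Nat.mul_le_mul_right _ (Nat.mul_le_mul h3 hB)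
    _ = _ := rfl

/-- The product over the generators. -/
noncomputable def cProd (g : Fin d → G) (i : ℕ) : ℕ := ∏ k : Fin d, cIdx (g k) i

theorem layer_bound (g : Fin d → G) (i j : ℕ) :
    Nat.card (layer g i j) * ∏ k ∈ Finset.univ.filter (fun k : Fin d => k.val < j), cIdx (g k) (i + 1) ≤
      Nat.card (L G (i + 2)) * ∏ k ∈ Finset.univ.filter (fun k : Fin d => k.val < j), cIdx (g k) i := by
  induction j with
  | zero => simp [layer_zero]
  | succ j ih =>
    by_cases hj : j < d
    · have hins : Finset.univ.filter (fun k : Fin d => k.val < j + 1) =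
          insert (⟨j, hj⟩ : Fin d) (Finset.univ.filter (fun k : Fin d => k.val < j)) := by
        ext k; simp [Fin.ext_iff]; omega
      rw [hins, Finset.prod_insert (by simp), Finset.prod_insert (by simp)]
      have h := step_bound g i ⟨j, hj⟩
      calc Nat.card (layer g i (j + 1)) * (cIdx (g ⟨j, hj⟩) (i + 1) * _)
          = Nat.card (layer g i (j + 1)) * cIdx (g ⟨j, hj⟩) (i + 1) * _ := by rw [mul_assoc]
        _ ≤ Nat.card (layer g i j) * cIdx (g ⟨j, hj⟩) i * _ := Nat.mul_le_mul_right _ h
        _ = cIdx (g ⟨j, hj⟩) i * (Nat.card (layer g i j) * _) := by ring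
        _ ≤ cIdx (g ⟨j, hj⟩) i * _ := Nat.mul_le_mul_left _ ih
        _ = _ := by ring
    · have hins : Finset.univ.filter (fun k : Fin d => k.val < j + 1) =
          Finset.univ.filter (fun k : Fin d => k.val < j) := by
        ext k; have := k.2; simp; omega
      have hlay : layer g i (j + 1) ≤ layer g i j := by
        refine sup_le le_sup_left ((closure_le _).2 ?_)
        rintro _ ⟨x, hx, k, -, rfl⟩
        exact comm_mem_layer g hx (by have := k.2; omega)
      rw [hins]
      exact le_trans (Nat.mul_le_mul_right _ (Subgroup.card_le_of_le hlay)) ih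

theorem layer_bound_zero {V : Type u} [AddCommGroup V] [Module (ZMod p) V] [Finite V]
    (F : FratSpace G p V) {g : Fin d → G} (hli : LinearIndependent (ZMod p) (F.proj ∘ g))
    (hgood : ∀ k, F.Good (g k)) (j : ℕ) (hj : j ≤ d) :
    Nat.card (layer g 0 j) * (∏ k ∈ Finset.univ.filter (fun k : Fin d => k.val < j), cIdx (g k) 1) *
        p ^ (∑ l ∈ Finset.range j, l) ≤
      Nat.card (L G 2) * ∏ k ∈ Finset.univ.filter (fun k : Fin d => k.val < j), cIdx (g k) 0 := by
  induction j with
  | zero => simp [layer_zero]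
  | succ j ih =>
    have hj' : j < d := hj
    have hins : Finset.univ.filter (fun k : Fin d => k.val < j + 1) =
        insert (⟨j, hj'⟩ : Fin d) (Finset.univ.filter (fun k : Fin d => k.val < j)) := by
      ext k; simp [Fin.ext_iff]; omega
    rw [hins, Finset.prod_insert (by simp), Finset.prod_insert (by simp), Finset.sum_range_succ, pow_add]
    have h := step_bound_zero F hli hgood ⟨j, hj'⟩
    set P1 := ∏ k ∈ Finset.univ.filter (fun k : Fin d => k.val < j), cIdx (g k) 1
    set P0 := ∏ k ∈ Finset.univ.filter (fun k : Fin d => k.val < j), cIdx (g k) 0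
    have ih' := ih hj'.le
    calc Nat.card (layer g 0 (j + 1)) * (cIdx (g ⟨j, hj'⟩) 1 * P1) * (p ^ (∑ l ∈ Finset.range j, l) * p ^ j)
        = Nat.card (layer g 0 (j + 1)) * cIdx (g ⟨j, hj'⟩) 1 * p ^ j * (P1 * p ^ (∑ l ∈ Finset.range j, l)) := by
          ring
      _ ≤ Nat.card (layer g 0 j) * cIdx (g ⟨j, hj'⟩) 0 * (P1 * p ^ (∑ l ∈ Finset.range j, l)) :=
          Nat.mul_le_mul_right _ h
      _ = cIdx (g ⟨j, hj'⟩) 0 * (Nat.card (layer g 0 j) * P1 * p ^ (∑ l ∈ Finset.range j, l)) := by ring
      _ ≤ cIdx (g ⟨j, hj'⟩) 0 * (Nat.card (L G 2) * P0) := Nat.mul_le_mul_left _ ih'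
      _ = _ := by ring

theorem filter_val_lt : Finset.univ.filter (fun k : Fin d => k.val < d) = Finset.univ := by
  ext k; simp

theorem card_L_le {g : Fin d → G} (hg : closure (Set.range g) = ⊤) (hG : IsPGroup p G) (i : ℕ) :
    Nat.card (L G (i + 1)) ≤ cProd g i := by
  obtain ⟨n, hn⟩ := Subgroup.nilpotent_iff_lowerCentralSeries.1 hG.isNilpotent
  have hone : ∀ i, 1 ≤ cProd g i := fun i =>
    Finset.one_le_prod' fun k _ => Nat.one_le_iff_ne_zero.2 (cIdx_ne_zero _ _)
  suffices H : ∀ m i, n ≤ i + m → Nat.card (L G (i + 1)) ≤ cProd g i from H n i (by omega)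
  intro m
  induction m with
  | zero =>
    intro i hi
    rw [show L G (i + 1) = ⊥ from eq_bot_iff.2
      ((Subgroup.lowerCentralSeries_antitone _ (by omega : n ≤ i + 1)).trans hn.le), Subgroup.card_bot]
    exact hone i
  | succ m ih =>
    intro i hi
    have h := layer_bound g i d
    rw [filter_val_lt] at h
    have h2 : Nat.card (L G (i + 1)) * cProd g (i + 1) ≤ cProd g i * cProd g (i + 1) :=
      calc _ ≤ Nat.card (layer g i d) * cProd g (i + 1) :=
            Nat.mul_le_mul_right _ (Subgroup.card_le_of_le (layer_top hg i))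
        _ ≤ Nat.card (L G (i + 2)) * cProd g i := h
        _ ≤ cProd g (i + 1) * cProd g i := Nat.mul_le_mul_right _ (ih (i + 1) (by omega))
        _ = _ := mul_comm _ _
    exact Nat.le_of_mul_le_mul_right h2 (hone _)

/-- The bound when the good elements span. -/
theorem card_L_one_le (hG : IsPGroup p G) {b : ℕ}
    (hb : ∀ x : G, (centralizer ({x} : Set G)).index ≤ p ^ b)
    (hmax : ∀ M : Subgroup G, M ≠ ⊤ → ¬ L G 1 ≤ ⁅M, M⁆ ⊔ L G 2) :
    Nat.card (L G 1) ≤ p ^ (b * (b + 1) / 2) := by
  obtain ⟨V, _, _, _, ⟨F⟩⟩ := exists_fratSpace hG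
  haveI : Module.Finite (ZMod p) V := Module.Finite.of_finite
  obtain ⟨t, htsub, hspan, hli⟩ := exists_linearIndependent (ZMod p) (F.proj '' {x | F.Good x})
  rw [F.span_good hG hmax] at hspan
  have : Fintype t := Fintype.ofFinite _
  choose g₀ hg₀ hg₀e using fun v : t => htsub v.2
  let e := (Fintype.equivFin t).symm
  let g : Fin (Fintype.card t) → G := g₀ ∘ e
  have hproj : F.proj ∘ g = (fun v : t => (v : V)) ∘ e := funext fun k => hg₀e (e k)
  have hli' : LinearIndependent (ZMod p) (F.proj ∘ g) := hproj ▸ hli.comp _ e.injective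
  have htop : closure (Set.range g) = ⊤ := by
    refine frattini_nongenerating (eq_top_iff.2 fun x _ => ?_)
    let T : AddSubgroup V :=
      { carrier := {v | ∃ y ∈ closure (Set.range g), F.proj y = v}
        zero_mem' := ⟨1, one_mem _, F.proj_one⟩
        add_mem' := by
          rintro _ _ ⟨a, ha, rfl⟩ ⟨c, hc, rfl⟩
          exact ⟨a * c, mul_mem ha hc, F.proj_mul a c⟩
        neg_mem' := by
          rintro _ ⟨a, ha, rfl⟩
          exact ⟨a⁻¹, inv_mem ha, F.proj_inv a⟩ }
    have hle : (⊤ : Submodule (ZMod p) V) ≤ AddSubgroup.toZModSubmodule p T := by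
      rw [← hspan, Submodule.span_le]
      intro v hv
      refine ⟨g (e.symm ⟨v, hv⟩), subset_closure ⟨_, rfl⟩, ?_⟩
      simp only [g, Function.comp_apply, Equiv.apply_symm_apply, hg₀e]
    obtain ⟨y, hy, hyx⟩ := hle (Submodule.mem_top (x := F.proj x))
    have h1 : y⁻¹ * x ∈ frattini G := by
      rw [← F.proj_eq_zero, F.proj_mul, F.proj_inv, hyx, neg_add_cancel]
    simpa using mul_mem_sup hy h1
  have hgood : ∀ k, F.Good (g k) := fun k => hg₀ (e k)
  have h0 := layer_bound_zero F hli' hgood (Fintype.card t) le_rfl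
  rw [filter_val_lt] at h0
  have hc0 : cProd g 0 ≤ p ^ (b * (Fintype.card t)) := by
    rw [pow_mul, ← Fin.prod_const (Fintype.card t) (p ^ b)]
    refine Finset.prod_le_prod' fun k _ => ?_
    change (centralizer ({g k} : Set G)).relIndex ⊤ ≤ _
    rw [relIndex_top_right]
    exact hb _
  have hone : 0 < cProd g 1 := Finset.prod_pos fun k _ => Nat.pos_of_ne_zero (cIdx_ne_zero _ _)
  have h1 : Nat.card (L G 1) * p ^ (∑ l ∈ Finset.range (Fintype.card t), l) ≤ p ^ (b * (Fintype.card t)) := by
    refine Nat.le_of_mul_le_mul_right ?_ hone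
    calc Nat.card (L G 1) * p ^ (∑ l ∈ Finset.range (Fintype.card t), l) * cProd g 1
        ≤ Nat.card (layer g 0 (Fintype.card t)) * p ^ (∑ l ∈ Finset.range (Fintype.card t), l) * cProd g 1 :=
          Nat.mul_le_mul_right _ (Nat.mul_le_mul_right _ (Subgroup.card_le_of_le (layer_top htop 0)))
      _ = Nat.card (layer g 0 (Fintype.card t)) * cProd g 1 * p ^ (∑ l ∈ Finset.range (Fintype.card t), l) := by ring
      _ ≤ Nat.card (L G 2) * cProd g 0 := h0
      _ ≤ cProd g 1 * p ^ (b * (Fintype.card t)) := Nat.mul_le_mul (card_L_le htop hG 1) hc0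
      _ = _ := mul_comm _ _
  have h2 : b * (Fintype.card t) ≤ b * (b + 1) / 2 + ∑ l ∈ Finset.range (Fintype.card t), l := by
    have hs := Finset.sum_range_id_mul_two (Fintype.card t)
    have ht : 2 * (b * (b + 1) / 2) = b * (b + 1) :=
      Nat.mul_div_cancel' (Nat.even_mul_succ_self b).two_dvd
    rcases Nat.eq_zero_or_pos (Fintype.card t) with hd | hd
    · simp [hd]
    obtain ⟨e, he⟩ : ∃ e, (Fintype.card t) = e + 1 := ⟨(Fintype.card t) - 1, by omega⟩
    rw [he] at hs ⊢
    rw [Nat.add_sub_cancel] at hs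
    rcases le_or_gt (e + 1) b with hc | hc <;> nlinarith
  refine Nat.le_of_mul_le_mul_right ?_ (pow_pos (Fact.out : p.Prime).pos (∑ l ∈ Finset.range (Fintype.card t), l))
  rw [← pow_add]
  exact h1.trans (Nat.pow_le_pow_right (Fact.out : p.Prime).pos h2)

/-- Vaughan-Lee's theorem. -/
theorem card_commutator_le : ∀ (n : ℕ) (G : Type u) [Group G] [Finite G], Nat.card G = n → IsPGroup p G →
    ∀ b : ℕ, (∀ x : G, (centralizer ({x} : Set G)).index ≤ p ^ b) →
    Nat.card (commutator G) ≤ p ^ (b * (b + 1) / 2) := by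
  intro n
  induction n using Nat.strong_induction_on with
  | _ n IH =>
    intro G _ _ hn hG b hb
    by_cases hmax : ∀ M : Subgroup G, M ≠ ⊤ → ¬ L G 1 ≤ ⁅M, M⁆ ⊔ L G 2
    · rw [← Subgroup.top_lowerCentralSeries_one]
      exact card_L_one_le hG hb hmax
    · push Not at hmax
      obtain ⟨M₀, hM₀, hM₀L⟩ := hmax
      obtain ⟨M, hM, hMle⟩ := (eq_top_or_exists_le_coatom M₀).resolve_left hM₀
      haveI : M.Normal := Cfsg.Lib.PGroup.normal_of_isCoatom hG hM
      have hML : L G 1 ≤ ⁅M, M⁆ ⊔ L G 2 := hM₀L.trans (sup_le_sup_right (commutator_mono hMle hMle) _)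
      have hk : ∀ k, L G 1 ≤ ⁅M, M⁆ ⊔ L G (k + 2) := by
        intro k
        induction k with
        | zero => exact hML
        | succ k ih =>
          refine hML.trans (sup_le le_sup_left ?_)
          change Subgroup.lowerCentralSeries (⊤ : Subgroup G) (1 + 1) ≤ _
          rw [Subgroup.lowerCentralSeries_succ, commutator_le]
          intro x hx y _
          obtain ⟨m, hm, l, hl, rfl⟩ := mem_sup_of_normal_left.1 (ih hx)
          rw [comm_mul_left]
          refine mul_mem ?_ (mem_sup_left ((commutator_le_left ⁅M, M⁆ ⊤) (commutator_mem_commutator hm (mem_top y))))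
          exact mem_sup_right ((inferInstance : (L G (k + 1 + 2)).Normal).conj_mem _ (comm_mem_L hl y) m)
      obtain ⟨c, hc⟩ := Subgroup.nilpotent_iff_lowerCentralSeries.1 hG.isNilpotent
      have hle : L G 1 ≤ ⁅M, M⁆ := by
        refine (hk c).trans (sup_le le_rfl ?_)
        rw [show L G (c + 2) = ⊥ from eq_bot_iff.2
          ((Subgroup.lowerCentralSeries_antitone _ (by omega : c ≤ c + 2)).trans hc.le)]
        exact bot_le
      have hlt : Nat.card M < n := hn ▸ lt_of_le_of_ne (Subgroup.card_le_card_group M)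
        (fun h => hM.1 (Subgroup.eq_top_of_card_eq _ h))
      have hbM : ∀ x : M, (centralizer ({x} : Set M)).index ≤ p ^ b := by
        intro x
        refine le_trans ?_ (hb x)
        have : centralizer ({x} : Set M) = (centralizer ({(x : G)} : Set G)).subgroupOf M := by
          ext y
          rw [mem_subgroupOf, mem_centralizer_singleton_iff, mem_centralizer_singleton_iff]
          exact Subtype.ext_iff
        rw [this, ← relIndex, ← relIndex_top_right]
        exact relIndex_le_of_le_right le_top Nat.card_pos.ne'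
      have h := IH _ hlt M rfl (hG.to_subgroup M) b hbM
      rw [← Subgroup.top_lowerCentralSeries_one]
      refine (Subgroup.card_le_of_le hle).trans ?_
      rwa [← Subgroup.map_subtype_commutator, Subgroup.card_subtype]

end Cfsg.Lib.PGroup.Breadth
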