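import Mathlib

/-!
A finite vector space with a nonzero functional `h` cannot be doubly covered: either some vector
outside the kernel of `h` lies on no plane of the family, or some functional outside the line of `h`
has no partner `g` such that `f ∧ g` vanishes on all planes.
-/

set_option autoImplicit false
set_option linter.style.haveILetI false

universe u

namespace Cfsg.Lib.PGroup.Breadth

open Module Submodule

variable {K : Type} [Field K] [Finite K]

/-- The alternating form given by two functionals. -/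
def Wedge {V : Type*} [AddCommGroup V] [Module K V] (f g : Dual K V) (u v : V) : Prop :=
  f u * g v = f v * g u

omit [Finite K] in
theorem wedge_span_pair {V : Type*} [AddCommGroup V] [Module K V] {f g : Dual K V} {a y : V}
    (h : Wedge f g a y) {u v : V} (hu : u ∈ span K {a, y}) (hv : v ∈ span K {a, y}) : Wedge f g u v := by
  obtain ⟨α, β, rfl⟩ := mem_span_pair.1 hu
  obtain ⟨γ, δ, rfl⟩ := mem_span_pair.1 hv
  simp only [Wedge, map_add, map_smul, smul_eq_mul] at h ⊢
  linear_combination (α * δ - β * γ) * h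

theorem no_double_cover : ∀ (n : ℕ) (V : Type u) [AddCommGroup V] [Module K V] [Finite V],
    finrank K V = n → ∀ (h : Dual K V), h ≠ 0 → ∀ 𝒯 : Set (Submodule K V),
    (∀ T ∈ 𝒯, finrank K T ≤ 2) →
    (∀ a, h a ≠ 0 → ∃ T ∈ 𝒯, a ∈ T ∧ ∃ y ∈ T, y ∉ span K {a}) →
    (∀ f : Dual K V, f ∉ span K {h} →
      ∃ g : Dual K V, g ∉ span K {f} ∧ ∀ T ∈ 𝒯, ∀ u ∈ T, ∀ v ∈ T, Wedge f g u v) → False := by
  intro n
  induction n using Nat.strong_induction_on with
  | _ n IH =>
    intro V _ _ _ hn h hh 𝒯 hdim hcov hbad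
    haveI : FiniteDimensional K V := Module.Finite.of_finite
    haveI : Finite (Set (Submodule K V)) :=
      haveI : Finite (Submodule K V) := Finite.of_injective (fun T => (T : Set V)) SetLike.coe_injective
      inferInstance
    obtain ⟨S, hS⟩ := exists_minimal_of_wellFoundedLT
      (fun S : Set (Submodule K V) => S ⊆ 𝒯 ∧ ∀ a, h a ≠ 0 → ∃ T ∈ S, a ∈ T ∧ ∃ y ∈ T, y ∉ span K {a})
      ⟨𝒯, subset_rfl, hcov⟩
    obtain ⟨hS𝒯, hScov⟩ := hS.prop
    obtain ⟨a₁, ha₁⟩ : ∃ a, h a ≠ 0 := by
      by_contra! hc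
      exact hh (LinearMap.ext hc)
    obtain ⟨T₀, hT₀S, -⟩ := hScov a₁ ha₁
    -- a vector which lies only on `T₀`
    obtain ⟨a, ha, hpriv⟩ : ∃ a, h a ≠ 0 ∧ ∀ T ∈ S, T ≠ T₀ → ¬ (a ∈ T ∧ ∃ y ∈ T, y ∉ span K {a}) := by
      by_contra! hc
      have := hS.le_of_le (y := S \ {T₀}) ⟨Set.sdiff_subset.trans hS𝒯, fun a ha => by
        obtain ⟨T, hT, hne, hT'⟩ := hc a ha
        exact ⟨T, ⟨hT, hne⟩, hT'⟩⟩ Set.sdiff_subset
      exact (this hT₀S).2 rfl
    obtain ⟨T, hTS, haT, y, hyT, hya⟩ := hScov a ha
    obtain rfl : T = T₀ := by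
      by_contra hne
      exact hpriv T hTS hne ⟨haT, y, hyT, hya⟩
    have hmemU : ∀ f : Dual K V, f ∈ (span K {a}).dualAnnihilator ↔ f a = 0 := by
      intro f
      rw [mem_dualAnnihilator]
      refine ⟨fun H => H a (mem_span_singleton_self a), fun H w hw => ?_⟩
      obtain ⟨c, rfl⟩ := mem_span_singleton.1 hw
      simp [H]
    -- functionals separate vectors from the line of `a`
    have hsep : ∀ z : V, z ∉ span K {a} → ∃ f : Dual K V, f a = 0 ∧ f z ≠ 0 := by
      intro z hz
      obtain ⟨f, hfz, hf⟩ := exists_dual_map_eq_bot_of_notMem hz inferInstance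
      exact ⟨f, LinearMap.mem_ker.1 (LinearMap.le_ker_iff_map.2 hf (mem_span_singleton_self a)), hfz⟩
    have haT' : span K {a, y} = T := by
      refine eq_of_le_of_finrank_le (span_le.2 ?_) ?_
      · rintro w (rfl | rfl)
        exacts [haT, hyT]
      · have h2 : LinearIndependent K ![a, y] := by
          rw [LinearIndependent.pair_iff' (fun h0 => ha (by rw [h0, map_zero]))]
          intro c hc
          exact hya (mem_span_singleton.2 ⟨c, hc⟩)
        have h3 := finrank_span_eq_card h2
        rw [Matrix.range_cons_cons_empty] at h3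
        rw [h3]
        exact hdim T (hS𝒯 hTS)
    set U := (span K {a}).dualAnnihilator with hU
    let h' : Dual K U := (Dual.eval K V y).comp U.subtype
    have hh' : h' ≠ 0 := by
      obtain ⟨f, hfa, hfy⟩ := hsep y hya
      intro h0
      exact hfy (LinearMap.congr_fun h0 ⟨f, (hmemU f).2 hfa⟩)
    haveI : Finite (Dual K V) := Finite.of_injective (fun f => (f : V → K))
      DFunLike.coe_injective
    have hlt : finrank K U < n := by
      have h1 := Subspace.finrank_add_finrank_dualAnnihilator_eq (span K {a})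
      rw [finrank_span_singleton (fun h0 => ha (by rw [h0, map_zero])), hn] at h1
      change finrank K U < n
      rw [hU]
      omega
    refine IH _ hlt U rfl h' hh' {T' | ∃ f g : U, T' = span K {f, g} ∧
      ∀ T ∈ S, ∀ u ∈ T, ∀ v ∈ T, Wedge (f : Dual K V) g u v} ?_ ?_ ?_
    · rintro _ ⟨f, g, rfl, -⟩
      classical
      refine (finrank_span_le_card _).trans ?_
      rw [Set.toFinset_card, ← Nat.card_eq_fintype_card, Nat.card_coe_set_eq]
      exact (Set.ncard_insert_le _ _).trans (by simp)
    · intro f hf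
      have hfa : (f : Dual K V) a = 0 := (hmemU _).1 f.2
      have hf' : (f : Dual K V) ∉ span K {h} := by
        intro hc
        obtain ⟨c, hc⟩ := mem_span_singleton.1 hc
        have h1 := LinearMap.congr_fun hc a
        rw [LinearMap.smul_apply, hfa, smul_eq_mul, mul_eq_zero] at h1
        apply hf
        change (f : Dual K V) y = 0
        rw [← hc, h1.resolve_right ha, zero_smul]
        rfl
      obtain ⟨g, hgf, hg⟩ := hbad _ hf'
      have hga : g a = 0 := by
        have h1 := hg T (hS𝒯 hTS) a haT y hyT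
        simp only [Wedge, hfa, zero_mul] at h1
        exact (mul_eq_zero.1 h1.symm).resolve_left hf
      refine ⟨span K {f, ⟨g, (hmemU g).2 hga⟩}, ⟨f, _, rfl, fun T hT => hg T (hS𝒯 hT)⟩,
        subset_span (by simp), ⟨g, (hmemU g).2 hga⟩, subset_span (by simp), fun hc => ?_⟩
      obtain ⟨c, hc⟩ := mem_span_singleton.1 hc
      exact hgf (mem_span_singleton.2 ⟨c, congrArg Subtype.val hc⟩)
    · intro φ hφ
      obtain ⟨ψ, hψ⟩ := LinearMap.exists_extend φ
      obtain ⟨x₀, rfl⟩ := (Module.evalEquiv K V).surjective ψ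
      have hx₀ : ∀ f : U, φ f = (f : Dual K V) x₀ := fun f => by rw [← hψ]; rfl
      -- move the representative out of the kernel of `h`
      obtain ⟨x, hx, hxh⟩ : ∃ x, (∀ f : U, φ f = (f : Dual K V) x) ∧ h x ≠ 0 := by
        by_cases h0 : h x₀ = 0
        · refine ⟨x₀ + a, fun f => ?_, by rw [map_add, h0, zero_add]; exact ha⟩
          rw [map_add, (hmemU _).1 f.2, add_zero, hx₀]
        · exact ⟨x₀, hx₀, h0⟩
      have hxT : x ∉ T := by
        intro hxT
        rw [← haT', mem_span_pair] at hxT
        obtain ⟨α, β, hxe⟩ := hxT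
        refine hφ (mem_span_singleton.2 ⟨β, LinearMap.ext fun f => ?_⟩)
        rw [hx f, ← hxe, map_add, map_smul, map_smul, (hmemU _).1 f.2, smul_zero, zero_add]
        rfl
      obtain ⟨T', hT'S, hxT', y', hy'T', hy'x⟩ := hScov x hxh
      have hne : T' ≠ T := fun h0 => hxT (h0 ▸ hxT')
      have haT'' : a ∉ T' := by
        intro haT''
        refine hpriv T' hT'S hne ⟨haT'', x, hxT', fun hc => hxT ?_⟩
        exact (span_le.2 (Set.singleton_subset_iff.2 haT)) hc
      refine ⟨(Dual.eval K V y').comp U.subtype, fun hc => ?_, ?_⟩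
      · obtain ⟨c, hc⟩ := mem_span_singleton.1 hc
        have hz : y' - c • x ∈ span K {a} := by
          by_contra hz
          obtain ⟨f, hfa, hfz⟩ := hsep _ hz
          apply hfz
          have h1 : c * φ ⟨f, (hmemU f).2 hfa⟩ = f y' := LinearMap.congr_fun hc ⟨f, (hmemU f).2 hfa⟩
          rw [hx] at h1
          rw [map_sub, map_smul, smul_eq_mul, ← h1, sub_self]
        obtain ⟨e, he⟩ := mem_span_singleton.1 hz
        by_cases he0 : e = 0
        · rw [he0, zero_smul] at he
          exact hy'x (mem_span_singleton.2 ⟨c, (sub_eq_zero.1 he.symm).symm⟩)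
        · apply haT''
          have h1 : a = e⁻¹ • (y' - c • x) := by rw [← he, smul_smul, inv_mul_cancel₀ he0, one_smul]
          rw [h1]
          exact T'.smul_mem _ (T'.sub_mem hy'T' (T'.smul_mem _ hxT'))
      · rintro _ ⟨f, g, rfl, hfg⟩ u hu v hv
        have h1 : Wedge φ ((Dual.eval K V y').comp U.subtype) f g := by
          have := hfg T' hT'S x hxT' y' hy'T'
          change φ f * (g : Dual K V) y' = φ g * (f : Dual K V) y'
          simp only [Wedge] at this
          rw [hx, hx]
          linear_combination this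
        exact wedge_span_pair h1 hu hv

end Cfsg.Lib.PGroup.Breadth
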