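import Cfsg.Agent.Lib.PGroup.BreadthCover
import Cfsg.Agent.Lib.PGroup.Basic

/-!
In a `p`-group whose derived group is not generated modulo `γ₃` by the commutators of a proper subgroup,
the elements whose commutation map into `γ₂/γ₃` has smallest kernel generate.
-/

set_option autoImplicit false
set_option linter.unusedSectionVars false
set_option linter.style.haveILetI false

universe u

namespace Cfsg.Lib.PGroup.Breadth

open Subgroup Module
open scoped commutatorElement

variable {G : Type u} [Group G]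

/-- The lower central series, starting from the group. -/
abbrev L (G : Type u) [Group G] (i : ℕ) : Subgroup G := Subgroup.lowerCentralSeries (⊤ : Subgroup G) i

theorem comm_mem_L {i : ℕ} {x : G} (hx : x ∈ L G i) (y : G) : ⁅x, y⁆ ∈ L G (i + 1) := by
  change ⁅x, y⁆ ∈ Subgroup.lowerCentralSeries (⊤ : Subgroup G) (i + 1)
  rw [Subgroup.lowerCentralSeries_succ]
  exact commutator_mem_commutator hx (mem_top y)

theorem comm_mem_L' {i : ℕ} {x : G} (hx : x ∈ L G i) (y : G) : ⁅y, x⁆ ∈ L G (i + 1) := by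
  rw [← commutatorElement_inv]; exact inv_mem (comm_mem_L hx y)

theorem mem_L_zero (x : G) : x ∈ L G 0 := mem_top x

theorem L_succ_le (i : ℕ) : L G (i + 1) ≤ L G i :=
  Subgroup.lowerCentralSeries_antitone (⊤ : Subgroup G) (Nat.le_succ i)

theorem comm_mul_left (x y z : G) : ⁅x * y, z⁆ = x * ⁅y, z⁆ * x⁻¹ * ⁅x, z⁆ := by
  simp [commutatorElement_def, mul_assoc]

theorem comm_mul_right (x y z : G) : ⁅x, y * z⁆ = ⁅x, y⁆ * (y * ⁅x, z⁆ * y⁻¹) := by
  simp [commutatorElement_def, mul_assoc]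

variable [Finite G] {p : ℕ} [Fact p.Prime]

/-- Data identifying `G/Φ(G)` with a vector space. -/
structure FratSpace (G : Type u) [Group G] (p : ℕ) (V : Type u) [AddCommGroup V] [Module (ZMod p) V] where
  /-- the projection -/
  proj : G → V
  proj_mul : ∀ x y, proj (x * y) = proj x + proj y
  proj_surj : Function.Surjective proj
  proj_eq_zero : ∀ x, proj x = 0 ↔ x ∈ frattini G

theorem exists_fratSpace (hG : IsPGroup p G) :
    ∃ (V : Type u) (_ : AddCommGroup V) (_ : Module (ZMod p) V) (_ : Finite V),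
      Nonempty (FratSpace G p V) := by
  obtain ⟨hcomm, hexp⟩ := Cfsg.Lib.PGroup.isElementaryAbelian_quotient_frattini hG
  letI : CommGroup (G ⧸ frattini G) :=
    { (inferInstance : Group (G ⧸ frattini G)) with
      mul_comm := fun a b => Subtype.ext_iff.1 (hcomm.is_comm.comm ⟨a, mem_top a⟩ ⟨b, mem_top b⟩) }
  letI : Module (ZMod p) (Additive (G ⧸ frattini G)) :=
    AddCommGroup.zmodModule (n := p) fun v => by
      change Additive.toMul v ^ p = 1
      exact hexp _ (mem_top _)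
  exact ⟨Additive (G ⧸ frattini G), inferInstance, inferInstance, inferInstance,
    ⟨{ proj := fun x => Additive.ofMul (QuotientGroup.mk x)
       proj_mul := fun x y => rfl
       proj_surj := fun v => ⟨_, congrArg Additive.ofMul (Quotient.out_eq (Additive.toMul v))⟩
       proj_eq_zero := fun x => by
         rw [← QuotientGroup.eq_one_iff]; rfl }⟩⟩

namespace FratSpace

variable {V : Type u} [AddCommGroup V] [Module (ZMod p) V] (F : FratSpace G p V)

theorem proj_one : F.proj 1 = 0 := (F.proj_eq_zero 1).2 (one_mem _)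

theorem proj_inv (x : G) : F.proj x⁻¹ = - F.proj x :=
  eq_neg_of_add_eq_zero_left (by rw [← F.proj_mul, inv_mul_cancel, F.proj_one])

theorem proj_pow (x : G) (k : ℕ) : F.proj (x ^ k) = k • F.proj x := by
  induction k with
  | zero => simp [F.proj_one]
  | succ k ih => rw [pow_succ, F.proj_mul, ih, succ_nsmul]

/-- The preimage of a subspace. -/
def pre (S : Submodule (ZMod p) V) : Subgroup G where
  carrier := {x | F.proj x ∈ S}
  one_mem' := by simp [F.proj_one]
  mul_mem' := fun {a b} ha hb => by simp only [Set.mem_ofPred_eq, F.proj_mul]; exact S.add_mem ha hb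
  inv_mem' := fun {a} ha => by simp only [Set.mem_ofPred_eq, F.proj_inv]; exact S.neg_mem ha

theorem mem_pre {S : Submodule (ZMod p) V} {x : G} : x ∈ F.pre S ↔ F.proj x ∈ S := Iff.rfl

/-- Elements commuting modulo `γ₃` only with the trivial ones. -/
def Good (x : G) : Prop := ∀ y, ⁅x, y⁆ ∈ L G 2 → F.proj y ∈ Submodule.span (ZMod p) {F.proj x}

theorem exists_form (hG : IsPGroup p G) (hmax : ∀ M : Subgroup G, M ≠ ⊤ → ¬ L G 1 ≤ ⁅M, M⁆ ⊔ L G 2)
    (f : Dual (ZMod p) V) (hf : f ≠ 0) :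
    ∃ g : Dual (ZMod p) V, g ∉ Submodule.span (ZMod p) {f} ∧
      ∀ x y : G, ⁅x, y⁆ ∈ L G 2 → Wedge f g (F.proj x) (F.proj y) := by
  set M := F.pre (LinearMap.ker f) with hM
  have hMtop : M ≠ ⊤ := fun h => hf (LinearMap.ext fun v => by
    obtain ⟨x, rfl⟩ := F.proj_surj v
    exact LinearMap.mem_ker.1 (F.mem_pre.1 (h ▸ mem_top x : x ∈ M)))
  have hN : (⁅M, M⁆ ⊔ L G 2).subgroupOf (L G 1) ≠ ⊤ := fun h => hmax M hMtop (subgroupOf_eq_top.1 h)
  obtain ⟨A, hA, hAle⟩ := (eq_top_or_exists_le_coatom _).resolve_left hN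
  have hL1 : IsPGroup p ↥(L G 1) := hG.to_subgroup _
  have := Cfsg.Lib.PGroup.normal_of_isCoatom hL1 hA
  let e : (↥(L G 1) ⧸ A) ≃* Multiplicative (ZMod p) :=
    mulEquivOfPrimeCardEq (p := p) (by rw [← index_eq_card, Cfsg.Lib.PGroup.index_of_isCoatom hL1 hA])
      (by rw [Nat.card_congr Multiplicative.toAdd, Nat.card_zmod])
  let ω : ↥(L G 1) →* Multiplicative (ZMod p) := e.toMonoidHom.comp (QuotientGroup.mk' A)
  have hωs : Function.Surjective ω := e.surjective.comp (QuotientGroup.mk'_surjective A)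
  have hω : ∀ (c : G) (hc : c ∈ L G 1), c ∈ ⁅M, M⁆ ⊔ L G 2 → ω ⟨c, hc⟩ = 1 := by
    intro c hc hcN
    change e (QuotientGroup.mk ⟨c, hc⟩) = 1
    rw [(QuotientGroup.eq_one_iff _).2 (hAle (mem_subgroupOf.2 hcN)), map_one]
  let β : G → G → ZMod p := fun x y => Multiplicative.toAdd (ω ⟨⁅x, y⁆, comm_mem_L (mem_L_zero x) y⟩)
  have hβ2 : ∀ x y, ⁅x, y⁆ ∈ L G 2 → β x y = 0 := fun x y h => by
    simp only [β, hω _ _ (mem_sup_right h), toAdd_one]
  have hconj : ∀ (x c : G) (hc : c ∈ L G 1) (h : x * c * x⁻¹ ∈ L G 1), ω ⟨x * c * x⁻¹, h⟩ = ω ⟨c, hc⟩ := by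
    intro x c hc h
    have h1 : (⟨x * c * x⁻¹, h⟩ : ↥(L G 1)) = ⟨⁅x, c⁆, L_succ_le 1 (comm_mem_L' hc x)⟩ * ⟨c, hc⟩ :=
      Subtype.ext (show x * c * x⁻¹ = ⁅x, c⁆ * c by simp [commutatorElement_def, mul_assoc])
    rw [h1, map_mul, hω _ _ (mem_sup_right (comm_mem_L' hc x)), one_mul]
  have hnorm := (Subgroup.lowerCentralSeries_characteristic (S := (⊤ : Subgroup G)) 1)
  have hconjmem : ∀ (x c : G), c ∈ L G 1 → x * c * x⁻¹ ∈ L G 1 := fun x c hc =>
    (inferInstance : (L G 1).Normal).conj_mem c hc x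
  have hβl : ∀ x x' y, β (x * x') y = β x y + β x' y := by
    intro x x' y
    have hc := comm_mem_L (mem_L_zero x') y
    have h1 : (⟨⁅x * x', y⁆, comm_mem_L (mem_L_zero _) y⟩ : ↥(L G 1)) =
        ⟨x * ⁅x', y⁆ * x⁻¹, hconjmem x _ hc⟩ * ⟨⁅x, y⁆, comm_mem_L (mem_L_zero x) y⟩ :=
      Subtype.ext (comm_mul_left x x' y)
    simp only [β, h1, map_mul, hconj x _ hc, toAdd_mul]
    exact add_comm _ _
  have hanti : ∀ x y, β y x = - β x y := by
    intro x y
    have h1 : (⟨⁅y, x⁆, comm_mem_L (mem_L_zero y) x⟩ : ↥(L G 1)) =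
        (⟨⁅x, y⁆, comm_mem_L (mem_L_zero x) y⟩ : ↥(L G 1))⁻¹ :=
      Subtype.ext (commutatorElement_inv x y).symm
    simp only [β, h1, map_inv, toAdd_inv]
  have hβr : ∀ x y y', β x (y * y') = β x y + β x y' := fun x y y' => by
    rw [hanti _ x, hβl, neg_add, ← hanti, ← hanti]
  have hpow : ∀ x y (k : ℕ), β (x ^ k) y = k • β x y := by
    intro x y k
    induction k with
    | zero =>
      have : β (1 * 1) y = β 1 y + β 1 y := hβl 1 1 y
      rw [mul_one, left_eq_add] at this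
      simpa using this
    | succ k ih => rw [pow_succ, hβl, ih, succ_nsmul]
  have hMM : ∀ x ∈ M, ∀ y ∈ M, β x y = 0 := fun x hx y hy => by
    simp only [β, hω _ _ (mem_sup_left (commutator_mem_commutator hx hy)), toAdd_one]
  obtain ⟨v, hv⟩ : ∃ v, f v ≠ 0 := by
    by_contra! hc
    exact hf (LinearMap.ext hc)
  obtain ⟨x₀, hx₀⟩ := F.proj_surj ((f v)⁻¹ • v)
  have hf1 : f (F.proj x₀) = 1 := by rw [hx₀, map_smul, smul_eq_mul, inv_mul_cancel₀ hv]
  -- the functional `β(x₀, ·)`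
  have hres : ∀ y y', F.proj y = F.proj y' → β x₀ y = β x₀ y' := by
    let φ : G →* Multiplicative (ZMod p) := MonoidHom.mk' (fun y => Multiplicative.ofAdd (β x₀ y))
      (fun y y' => by rw [hβr]; rfl)
    have hle : frattini G ≤ φ.ker := by
      refine Cfsg.Lib.PGroup.frattini_le_of_commutator_le_of_pow_mem (p := p)
        (Abelianization.commutator_subset_ker φ) fun y => ?_
      rw [MonoidHom.mem_ker, map_pow]
      apply Multiplicative.toAdd.injective
      rw [toAdd_pow, toAdd_one, nsmul_eq_mul, ZMod.natCast_self, zero_mul]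
    intro y y' h
    have h1 : y⁻¹ * y' ∈ frattini G := by
      rw [← F.proj_eq_zero, F.proj_mul, F.proj_inv, h, neg_add_cancel]
    have h2 := hle h1
    rw [MonoidHom.mem_ker, map_mul, map_inv, inv_mul_eq_one] at h2
    exact Multiplicative.ofAdd.injective h2
  let g₀ : V →+ ZMod p := AddMonoidHom.mk' (fun w => β x₀ (Function.surjInv F.proj_surj w)) fun w w' => by
    rw [← hβr]
    exact hres _ _ (by rw [F.proj_mul, Function.surjInv_eq F.proj_surj, Function.surjInv_eq F.proj_surj,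
      Function.surjInv_eq F.proj_surj])
  let g : Dual (ZMod p) V := g₀.toZModLinearMap p
  have hg : ∀ y, g (F.proj y) = β x₀ y := fun y => hres _ _ (Function.surjInv_eq F.proj_surj _)
  have key : ∀ x y, β x y = f (F.proj x) * g (F.proj y) - f (F.proj y) * g (F.proj x) := by
    have dec : ∀ x : G, ∃ m ∈ M, x = x₀ ^ (f (F.proj x)).val * m := fun x =>
      ⟨(x₀ ^ (f (F.proj x)).val)⁻¹ * x, by
        rw [hM, F.mem_pre, LinearMap.mem_ker, F.proj_mul, F.proj_inv, F.proj_pow, map_add, map_neg,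
          map_nsmul, hf1, nsmul_eq_mul, ZMod.natCast_zmod_val, mul_one, neg_add_cancel], by group⟩
    have h00 : β x₀ x₀ = 0 := hβ2 _ _ (by simp)
    intro x y
    obtain ⟨m, hm, hx⟩ := dec x
    obtain ⟨m', hm', hy⟩ := dec y
    have hgm : ∀ (z n : G), n ∈ M → z = x₀ ^ (f (F.proj z)).val * n → g (F.proj z) = β x₀ n := by
      intro z n _ hz
      rw [hg]
      conv_lhs => rw [hz]
      rw [hβr, hanti (x₀ ^ _) x₀, hpow, h00, smul_zero, neg_zero, zero_add]
    rw [hgm x m hm hx, hgm y m' hm' hy]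
    conv_lhs => rw [hx, hy]
    rw [hβl, hβr, hβr, hMM m hm m' hm', hanti (x₀ ^ (f (F.proj y)).val) m, hpow, hpow, hpow,
      hanti (x₀ ^ (f (F.proj y)).val) x₀, hpow, h00]
    simp only [nsmul_eq_mul, ZMod.natCast_zmod_val]
    ring
  refine ⟨g, fun hc => ?_, fun x y hxy => sub_eq_zero.1 ((key x y).symm.trans (hβ2 x y hxy))⟩
  obtain ⟨c, hc⟩ := Submodule.mem_span_singleton.1 hc
  have h0 : ∀ x y, β x y = 0 := fun x y => by
    rw [key, ← hc, LinearMap.smul_apply, LinearMap.smul_apply, smul_eq_mul, smul_eq_mul]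
    ring
  have hle : L G 1 ≤ ω.ker.map (L G 1).subtype := by
    change Subgroup.lowerCentralSeries (⊤ : Subgroup G) (0 + 1) ≤ _
    rw [Subgroup.lowerCentralSeries_succ, commutator_le]
    intro x _ y _
    exact ⟨⟨⁅x, y⁆, comm_mem_L (mem_L_zero x) y⟩, toAdd_eq_zero.1 (h0 x y), rfl⟩
  obtain ⟨c', hc'⟩ := hωs (Multiplicative.ofAdd 1)
  obtain ⟨d, hd, hde⟩ := hle c'.2
  have : ω c' = 1 := by rw [← Subtype.ext hde]; exact hd
  rw [this] at hc'
  exact one_ne_zero (Multiplicative.ofAdd.injective hc').symm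

/-- The good elements span `G/Φ(G)`. -/
theorem span_good [Finite V] (hG : IsPGroup p G) (hmax : ∀ M : Subgroup G, M ≠ ⊤ → ¬ L G 1 ≤ ⁅M, M⁆ ⊔ L G 2) :
    Submodule.span (ZMod p) (F.proj '' {x | F.Good x}) = ⊤ := by
  by_contra hne
  obtain ⟨h, hh, hmap⟩ := Submodule.exists_dual_map_eq_bot_of_lt_top (lt_top_iff_ne_top.2 hne) inferInstance
  have hker := LinearMap.le_ker_iff_map.2 hmap
  refine no_double_cover _ V rfl h hh
    {T | ∃ x y : G, T = Submodule.span (ZMod p) {F.proj x, F.proj y} ∧ ⁅x, y⁆ ∈ L G 2} ?_ ?_ ?_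
  · rintro _ ⟨x, y, rfl, -⟩
    classical
    refine (finrank_span_le_card _).trans ?_
    rw [Set.toFinset_card, ← Nat.card_eq_fintype_card, Nat.card_coe_set_eq]
    exact (Set.ncard_insert_le _ _).trans (by simp)
  · intro a ha
    obtain ⟨x, rfl⟩ := F.proj_surj a
    have hx : ¬ F.Good x := fun hx => ha (LinearMap.mem_ker.1 (hker (Submodule.subset_span ⟨x, hx, rfl⟩)))
    simp only [Good, not_forall] at hx
    obtain ⟨y, hxy, hy⟩ := hx
    exact ⟨_, ⟨x, y, rfl, hxy⟩, Submodule.subset_span (by simp), _, Submodule.subset_span (by simp), hy⟩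
  · intro f hf
    obtain ⟨g, hg, hw⟩ := F.exists_form hG hmax f (fun h0 => hf (h0 ▸ zero_mem _))
    refine ⟨g, hg, ?_⟩
    rintro _ ⟨x, y, rfl, hxy⟩ u hu v hv
    exact wedge_span_pair (hw x y hxy) hu hv

end FratSpace

end Cfsg.Lib.PGroup.Breadth
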