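import Mathlib
import Cfsg.Agent.S0130
import Cfsg.Agent.Lib.PGroup.Basic

/-!
Finite `p`-groups, `p` odd, in which every element of order `p` is central: the number of generators
is at most the rank of the subgroup of these elements.
-/

set_option autoImplicit false

namespace Cfsg.Lib.PGroup

open Subgroup
open scoped commutatorElement

variable {G : Type*} [Group G] {p : ℕ}

/-- The product formula with a central commutator. -/
theorem mul_pow_of_central {a b c : G} (hba : b * a = c * a * b) (hc : c ∈ center G) (n : ℕ) :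
    (a * b) ^ n = a ^ n * b ^ n * c ^ n.choose 2 :=
  Cfsg.Agent.S0130.mul_pow_swap hba (Commute.symm (mem_center_iff.1 hc a)) (Commute.symm (mem_center_iff.1 hc b)) n

theorem pow_choose_two_eq_one [hp : Fact p.Prime] (hp2 : p ≠ 2) {c : G} (hc : c ^ p = 1) :
    c ^ p.choose 2 = 1 := by
  obtain ⟨k, hk⟩ := hp.out.dvd_choose_self (by norm_num : (2 : ℕ) ≠ 0) (hp.out.two_le.lt_of_ne' hp2)
  rw [hk, pow_mul, hc, one_pow]

variable [Finite G] [hp : Fact p.Prime]

/-- In a `p`-group, `p` odd, with central elements of order `p`, elements of order dividing `p ^ 2` are central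
modulo the elements of order `p`. -/
theorem commutator_pow_eq_one (hp2 : p ≠ 2) (hG : IsPGroup p G) : ∀ K : Subgroup G,
    (∀ x ∈ K, x ^ p = 1 → ∀ y ∈ K, x * y = y * x) →
      ∀ x ∈ K, (x ^ p) ^ p = 1 → ∀ y ∈ K, ⁅x, y⁆ ^ p = 1 := by
  intro K
  induction K using WellFoundedLT.induction with
  | _ K ih =>
    intro hK x hx hxp y hy
    by_cases hcyc : zpowers x = K
    · obtain ⟨i, rfl⟩ : y ∈ zpowers x := hcyc.symm ▸ hy
      rw [commutatorElement_eq_one_iff_mul_comm.2 ((Commute.refl x).zpow_right i).eq, one_pow]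
    have hne : (zpowers x).subgroupOf K ≠ ⊤ := fun h =>
      hcyc (le_antisymm (zpowers_le.2 hx) (subgroupOf_eq_top.1 h))
    obtain ⟨M, hM, hle⟩ := (eq_top_or_exists_le_coatom _).resolve_left hne
    have hMn := Cfsg.Lib.PGroup.normal_of_isCoatom (hG.to_subgroup K) hM
    have hxM : (⟨x, hx⟩ : K) ∈ M := hle (mem_subgroupOf.2 (mem_zpowers x))
    set M' := M.map K.subtype with hM'
    have hM'K : M' ≤ K := map_subtype_le M
    have hlt : M' < K := lt_of_le_of_ne hM'K fun h => hM.1 (map_injective K.subtype_injective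
      (h.trans (by rw [← MonoidHom.range_eq_map, range_subtype])))
    have hx' : x ∈ M' := ⟨⟨x, hx⟩, hxM, rfl⟩
    have hx'' : y * x * y⁻¹ ∈ M' := ⟨_, hMn.conj_mem _ hxM ⟨y, hy⟩, rfl⟩
    have hc := ih M' hlt (fun a ha hap b hb => hK a (hM'K ha) hap b (hM'K hb)) x hx' hxp (y * x * y⁻¹) hx''
    rw [← commutatorElement_inv, inv_pow, inv_eq_one] at hc
    set c := ⁅y * x * y⁻¹, x⁆ with hcdef
    have hcK : c ∈ K := by
      rw [hcdef, commutatorElement_def]
      exact mul_mem (mul_mem (mul_mem (hM'K hx'') hx) (inv_mem (hM'K hx''))) (inv_mem hx)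
    set z := ⁅y, x⁆ with hzdef
    have hzK : z ∈ K := mul_mem (mul_mem (mul_mem hy hx) (inv_mem hy)) (inv_mem hx)
    have hba : z * x = c * x * z := by
      rw [hzdef, hcdef, commutatorElement_def, commutatorElement_def]; group
    have hcomm : ∀ w ∈ K, Commute c w := fun w hw => hK c hcK hc w hw
    have h := Cfsg.Agent.S0130.mul_pow_swap hba (hcomm x hx) (hcomm z hzK) p
    have h' := Cfsg.Agent.S0130.pow_mul_swap hba (hcomm x hx) (hcomm z hzK) p
    rw [hc, one_mul] at h'
    rw [pow_choose_two_eq_one hp2 hc, mul_one] at h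
    have hzx : z * x = y * x * y⁻¹ := by rw [hzdef, commutatorElement_def]; group
    have hcx : Commute (x ^ p) (z ^ p) := hK _ (pow_mem hx p) hxp _ (pow_mem hzK p)
    have hxz : x * z = c⁻¹ * (z * x) := by rw [hba]; group
    have h2 : (x * z) ^ p = (z * x) ^ p := by
      rw [hxz, Commute.mul_pow ((hcomm _ (mul_mem hzK hx)).inv_left), inv_pow, hc, inv_one, one_mul]
    rw [h2, hzx, conj_pow, (hK _ (pow_mem hx p) hxp y hy).symm, mul_inv_cancel_right] at h
    have hz1 : z ^ p = 1 := mul_eq_left.1 h.symm
    rw [← commutatorElement_inv, ← hzdef, inv_pow, hz1, inv_one]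

omit [Finite G] in
/-- The subgroup of elements of order dividing `p`, when these are central. -/
def omegaCentral (p : ℕ) (h : ∀ x : G, x ^ p = 1 → x ∈ center G) : Subgroup G where
  carrier := {x | x ^ p = 1}
  one_mem' := one_pow p
  mul_mem' := fun {a b} (ha : a ^ p = 1) (hb : b ^ p = 1) => by
    show (a * b) ^ p = 1
    rw [Commute.mul_pow (mem_center_iff.1 (h b hb) a), ha, hb, one_mul]
  inv_mem' := fun {a} (ha : a ^ p = 1) => by
    show a⁻¹ ^ p = 1
    rw [inv_pow, ha, inv_one]

omit [Finite G] in
/-- In a `p`-group, `p` odd, with central elements of order `p`, the index of the Frattini subgroup is at most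
the number of elements of order dividing `p`. -/
theorem index_frattini_le_of_omega_central : ∀ n : ℕ, ∀ {H : Type*} [Group H] [Finite H], Nat.card H ≤ n →
    p ≠ 2 → IsPGroup p H → ∀ h : (∀ x : H, x ^ p = 1 → x ∈ center H),
      (frattini H).index ≤ Nat.card (omegaCentral p h) := by
  intro n
  induction n with
  | zero => intro H _ _ hn; exact absurd hn (Nat.card_pos (α := H)).not_ge
  | succ n ih =>
    intro H _ _ hn hp2 hH h
    set N := omegaCentral p h with hN
    rcases subsingleton_or_nontrivial H with hs | hnt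
    · exact le_trans (le_of_eq (index_eq_one.2 (Subsingleton.elim _ _))) Nat.card_pos
    have hNn : N.Normal := ⟨fun a ha g => by
      rw [mem_center_iff.1 (h a ha) g, mul_inv_cancel_right]; exact ha⟩
    have hN1 : N ≠ ⊥ := by
      obtain ⟨k, hk⟩ := IsPGroup.iff_card.1 hH
      have hk0 : k ≠ 0 := fun h0 => absurd hk (by rw [h0, pow_zero]; exact Finite.one_lt_card.ne')
      obtain ⟨z, hz⟩ := exists_prime_orderOf_dvd_card' (G := H) p (hk ▸ dvd_pow_self p hk0)
      intro hb
      have : z ∈ N := by show z ^ p = 1; rw [← hz, pow_orderOf_eq_one]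
      rw [hb, mem_bot] at this
      rw [this, orderOf_one] at hz
      exact hp.out.one_lt.ne hz
    have hQ : Nat.card (H ⧸ N) ≤ n := by
      have h1 := card_eq_card_quotient_mul_card_subgroup N
      have h2 : 2 ≤ Nat.card N := Nat.lt_of_not_le fun h3 => hN1 ((Subgroup.card_le_one_iff_eq_bot N).1 h3)
      have h3 : 0 < Nat.card (H ⧸ N) := Nat.card_pos
      have : Nat.card (H ⧸ N) < Nat.card H := by rw [h1]; exact lt_mul_of_one_lt_right h3 h2
      omega
    have key : ∀ x y : H, x ^ p ∈ N → ⁅x, y⁆ ∈ N := fun x y hx =>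
      commutator_pow_eq_one hp2 hH ⊤ (fun a _ ha b _ => (mem_center_iff.1 (h a ha) b).symm) x (mem_top x) hx y (mem_top y)
    have hbar : ∀ x : H ⧸ N, x ^ p = 1 → x ∈ center (H ⧸ N) := by
      intro x hx
      induction x using QuotientGroup.induction_on with
      | _ x =>
        rw [← QuotientGroup.mk_pow, QuotientGroup.eq_one_iff] at hx
        rw [mem_center_iff]
        intro g
        induction g using QuotientGroup.induction_on with
        | _ g =>
          refine (commutatorElement_eq_one_iff_mul_comm.1 ?_).symm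
          have := map_commutatorElement (QuotientGroup.mk' N) x g
          rw [QuotientGroup.mk'_apply, QuotientGroup.mk'_apply, QuotientGroup.mk'_apply] at this
          rw [← this, QuotientGroup.eq_one_iff]
          exact key x g hx
    have hwd : ∀ x y : H, (x : H ⧸ N) = y → x ^ p = y ^ p := by
      intro x y hxy
      rw [QuotientGroup.eq] at hxy
      have hm : x⁻¹ * y ∈ center H := h _ hxy
      rw [show y = x * (x⁻¹ * y) by group, Commute.mul_pow (mem_center_iff.1 hm x), hxy, mul_one]
    let f : omegaCentral p hbar → ↥(N ⊓ frattini H) := fun x => ⟨(x : H ⧸ N).out ^ p, by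
      have hx : ((x : H ⧸ N).out : H ⧸ N) ^ p = 1 := by rw [QuotientGroup.out_eq']; exact x.2
      rw [← QuotientGroup.mk_pow, QuotientGroup.eq_one_iff] at hx
      exact ⟨hx, pow_mem_frattini hH _⟩⟩
    have hf : Function.Injective f := by
      intro x y hxy
      have e : (x : H ⧸ N).out ^ p = (y : H ⧸ N).out ^ p := congrArg Subtype.val hxy
      have hxp : (x : H ⧸ N).out ^ p ∈ N := (f x).2.1
      set a := (x : H ⧸ N).out with ha
      set b := (y : H ⧸ N).out⁻¹ with hb
      have hcN : ⁅b, a⁆ ∈ N := by
        rw [← commutatorElement_inv]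
        exact inv_mem (key a b hxp)
      have hm := mul_pow_of_central (a := a) (b := b) (c := ⁅b, a⁆) (by rw [commutatorElement_def]; group) (h _ hcN) p
      rw [pow_choose_two_eq_one hp2 hcN, mul_one, hb, inv_pow, ← e, mul_inv_cancel] at hm
      apply Subtype.ext
      rw [← QuotientGroup.out_eq' (x : H ⧸ N), ← QuotientGroup.out_eq' (y : H ⧸ N), QuotientGroup.eq]
      have h3 : a * (y : H ⧸ N).out⁻¹ ∈ N := hm
      exact hNn.mem_comm (by simpa [ha] using inv_mem h3)
    have h1 := ih hQ hp2 (hH.to_quotient N) hbar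
    have h2 := Nat.card_le_card_of_injective f hf
    have h3 : frattini (H ⧸ N) ≤ (frattini H).map (QuotientGroup.mk' N) := by
      refine frattini_le_of_commutator_le_of_pow_mem (p := p) ?_ fun g => ?_
      · rw [_root_.commutator_def, commutator_le]
        intro a _ b _
        obtain ⟨a, rfl⟩ := QuotientGroup.mk'_surjective N a
        obtain ⟨b, rfl⟩ := QuotientGroup.mk'_surjective N b
        rw [← map_commutatorElement]
        exact mem_map_of_mem _ (commutator_le_frattini hH (commutator_mem_commutator (mem_top a) (mem_top b)))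
      · obtain ⟨g, rfl⟩ := QuotientGroup.mk'_surjective N g
        rw [← map_pow]
        exact mem_map_of_mem _ (pow_mem_frattini hH g)
    have h4 : (frattini H ⊔ N).index ≤ (frattini (H ⧸ N)).index := by
      have := index_map_eq (H := frattini H ⊔ N) (f := QuotientGroup.mk' N) (QuotientGroup.mk'_surjective N)
        (by rw [QuotientGroup.ker_mk']; exact le_sup_right)
      rw [← this, Subgroup.map_sup, (map_eq_bot_iff N).2 (QuotientGroup.ker_mk' N).ge, sup_bot_eq]
      exact Nat.le_of_dvd (Nat.pos_of_ne_zero index_ne_zero_of_finite) (index_dvd_of_le h3)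
    have h5 : (frattini H).index = (frattini H).relIndex (frattini H ⊔ N) * (frattini H ⊔ N).index :=
      (relIndex_mul_index le_sup_left).symm
    rw [show (frattini H).relIndex (frattini H ⊔ N) = (frattini H).relIndex N by
      rw [sup_comm, relIndex_sup_right]] at h5
    have h6 : (frattini H).relIndex N * Nat.card ↥(N ⊓ frattini H) = Nat.card N := by
      rw [← inf_relIndex_right, inf_comm (frattini H), relIndex, ← Nat.card_congr (subgroupOfEquivOfLe (inf_le_left : N ⊓ frattini H ≤ N)).toEquiv,
        index_mul_card]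
    rw [h5, ← h6]
    exact Nat.mul_le_mul_left _ (h4.trans (h1.trans h2))

end Cfsg.Lib.PGroup
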