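import Cfsg.Agent.Lib.PGroup.FrobeniusType
import Cfsg.Agent.Lib.Solv.FrobeniusBasic

/-!
# Frobenius groups with nilpotent kernel and the numbers of elements of each order
-/

set_option autoImplicit false

namespace Cfsg.Lib.PGroup.OrderType

open Subgroup Cfsg Cfsg.Lib.Solv

universe u v

variable {F : Type u} {G : Type v} [Group F] [Finite F] [Group G] [Finite G]

/-- Groups with the same numbers of elements of each order admit an order-preserving bijection. -/
theorem exists_orderEquiv (hT : ∀ m : ℕ, Nat.card {g : F // orderOf g = m} = Nat.card {h : G // orderOf h = m}) :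
    ∃ e : F ≃ G, ∀ x, orderOf (e x) = orderOf x := by
  have h : ∀ m : ℕ, Nonempty ({g : F // orderOf g = m} ≃ {h : G // orderOf h = m}) := fun m =>
    Finite.card_eq.mp (hT m)
  let ee := fun m => (h m).some
  refine ⟨Equiv.ofFiberEquiv (f := orderOf) (g := orderOf) ee, fun x => ?_⟩
  exact Equiv.ofFiberEquiv_map ee x

theorem same_of_equiv (e : F ≃ G) (he : ∀ x, orderOf (e x) = orderOf x) : Same F G := fun n =>
  Nat.card_congr (Equiv.subtypeEquiv e fun x => by
    rw [← orderOf_dvd_iff_pow_eq_one, ← orderOf_dvd_iff_pow_eq_one, he])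

/-- A Frobenius group with nilpotent kernel: the data used below. -/
structure Data (F : Type u) [Group F] (K C : Subgroup F) : Prop where
  normal : K.Normal
  nil : Group.IsNilpotent K
  ne_bot : K ≠ ⊥
  compl_ne_bot : C ≠ ⊥
  compl : K.IsComplement' C
  coprime : (Nat.card K).Coprime K.index
  fpf : ∀ h ∈ C, h ≠ 1 → K ⊓ centralizer {h} = ⊥

theorem data_of_frobenius {C : Subgroup F} (hC : IsFrobeniusComplement C)
    (hnil : ∀ K : Subgroup F, (K : Set F) = frobeniusKernel C → Group.IsNilpotent K) :
    ∃ K : Subgroup F, Data F K C := by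
  obtain ⟨K, hK, hKn, hc⟩ := frobenius_theorem hC
  have hKne : K ≠ ⊥ := by
    rintro rfl
    exact hC.2.1 (by simpa using hc.sup_eq_top)
  refine ⟨K, hKn, hnil K hK, hKne, hC.1, hc, ?_, fun h hh hh1 => ?_⟩
  · rw [hc.symm.index_eq_card, ← hc.index_eq_card, ← hc.symm.index_eq_card]
    exact (frob_coprime hC).symm.coprime_dvd_left (hc.index_eq_card ▸ dvd_rfl) |>.coprime_dvd_right
      (dvd_of_eq (hc.symm.index_eq_card))
  · rw [eq_bot_iff]
    rintro k ⟨hk, hkc⟩
    exact mem_bot.mpr (fpf_of_frobenius hC hc.disjoint hh hh1 hk (mem_centralizer_singleton_iff.mp hkc))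

theorem mem_iff_of_coprime {K : Subgroup F} [K.Normal] (hK : (Nat.card K).Coprime K.index) (x : F) :
    x ∈ K ↔ orderOf x ∣ Nat.card K := by
  refine ⟨fun hx => Subgroup.orderOf_dvd_natCard K hx, fun hx => ?_⟩
  exact (QuotientGroup.eq_one_iff x).mp (orderOf_eq_one_iff.mp (Nat.eq_one_of_dvd_coprimes hK
    ((orderOf_map_dvd (QuotientGroup.mk' K) x).trans hx) (K.index_eq_card ▸ _root_.orderOf_dvd_natCard _)))

/-- An element of such a group has order dividing the kernel or coprime to it. -/
theorem order_cases {K C : Subgroup F} (d : Data F K C) (x : F) (hx : ¬ orderOf x ∣ Nat.card K) :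
    (orderOf x).Coprime (Nat.card K) := by
  have := d.normal
  by_contra hcop
  obtain ⟨p, hp, hp1, hp2⟩ := Nat.Prime.not_coprime_iff_dvd.mp hcop
  have hxK : x ∉ K := fun h => hx ((mem_iff_of_coprime d.coprime x).mp h)
  -- a power of x of order p lies in K, and commutes with a nontrivial power of x outside K
  set n := orderOf x
  have hn0 : n ≠ 0 := (orderOf_pos x).ne'
  set y := x ^ (n / p) with hy
  have hyo : orderOf y = p := by
    rw [hy, orderOf_pow_of_dvd (Nat.div_pos (Nat.le_of_dvd (Nat.pos_of_ne_zero hn0) hp1) hp.pos).ne'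
      (Nat.div_dvd_of_dvd hp1), Nat.div_div_self hp1 hn0]
  have hyK : y ∈ K := (mem_iff_of_coprime d.coprime y).mpr (hyo ▸ hp2)
  have hy1 : y ≠ 1 := fun h => hp.ne_one (hyo.symm.trans (orderOf_eq_one_iff.mpr h))
  -- the `|K|`-th power of `x` lies outside `K`, in a conjugate of the complement
  set m := Nat.card K
  have hm : x ^ m ∉ K := fun hm => hxK ((QuotientGroup.eq_one_iff x).mp (orderOf_eq_one_iff.mp
    (Nat.eq_one_of_dvd_coprimes d.coprime
      (orderOf_dvd_of_pow_eq_one (by rw [← QuotientGroup.mk_pow, QuotientGroup.eq_one_iff]; exact hm))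
      (K.index_eq_card ▸ _root_.orderOf_dvd_natCard _))))
  have hL : Nat.card (zpowers (x ^ m)) ∣ Nat.card C := by
    rw [Nat.card_zpowers, ← d.compl.symm.index_eq_card]
    refine orderOf_dvd_of_pow_eq_one ?_
    rw [← pow_mul, K.card_mul_index, pow_card_eq_one']
  have hfr : IsFrobeniusComplement C :=
    isFrobeniusComplement_of_fpf d.compl d.ne_bot d.compl_ne_bot d.fpf
  obtain ⟨g, hg⟩ := le_conj_of_card_dvd hfr hL
  have hgC : g⁻¹ * x ^ m * g ∈ C := Cfsg.Lib.Core.mem_conj_smul.1 (hg (mem_zpowers _))
  have hc : g⁻¹ * y * g ∈ K ⊓ centralizer {g⁻¹ * x ^ m * g} := by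
    refine ⟨by simpa using d.normal.conj_mem y hyK g⁻¹, ?_⟩
    refine mem_centralizer_singleton_iff.mpr ?_
    have h1 : y * x ^ m = x ^ m * y := ((Commute.refl x).pow_pow _ _).eq
    calc g⁻¹ * y * g * (g⁻¹ * x ^ m * g) = g⁻¹ * (y * x ^ m) * g := by group
      _ = g⁻¹ * (x ^ m * y) * g := by rw [h1]
      _ = _ := by group
  rw [d.fpf _ hgC (fun e => hm (by
    have e2 : x ^ m = 1 := by
      calc x ^ m = g * (g⁻¹ * x ^ m * g) * g⁻¹ := by group
        _ = 1 := by rw [e]; group
    rw [e2]; exact one_mem _)), mem_bot] at hc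
  exact hy1 (by
    calc y = g * (g⁻¹ * y * g) * g⁻¹ := by group
      _ = 1 := by rw [hc]; group)

theorem center_ne_bot_of_nilpotent (K : Subgroup F) [Group.IsNilpotent K] [Nontrivial K] :
    center K ≠ ⊥ := by
  intro h
  obtain ⟨n, hn⟩ := Group.IsNilpotent.nilpotent (G := K)
  have hz : ∀ i, Subgroup.upperCentralSeries K i = ⊥ := by
    intro i
    induction i with
    | zero => exact Subgroup.upperCentralSeries_zero K
    | succ i ih =>
      rw [eq_bot_iff]
      intro x hx
      rw [Subgroup.mem_upperCentralSeries_succ_iff] at hx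
      rw [← h, mem_center_iff]
      intro y
      have h1 := hx y
      rw [ih, mem_bot] at h1
      exact (commutatorElement_eq_one_iff_mul_comm.mp h1).symm
  exact top_ne_bot (α := Subgroup K) (hn.symm.trans (hz n))

theorem abelianCyclic_quotient {K C : Subgroup F} (d : Data F K C) [K.Normal] :
    AbelianCyclic (F ⧸ K) := by
  refine abelianCyclic_of_injective (G := C) d.compl.symm.QuotientMulEquiv.toMonoidHom
    d.compl.symm.QuotientMulEquiv.injective fun B hB => ?_
  have := d.nil
  have : Nontrivial K := K.nontrivial_iff_ne_bot.mpr d.ne_bot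
  set V := (center K).map K.subtype with hV
  have hVne : V ≠ ⊥ := by
    rw [hV, Ne, (center K).map_eq_bot_iff_of_injective K.subtype_injective]
    exact center_ne_bot_of_nilpotent K
  have hVn : V.Normal := Cfsg.Lib.Core.normal_map_char_of_normal _
  have : IsMulCommutative V := map_isMulCommutative _ _
  have hB' : IsMulCommutative (B.map C.subtype) := map_isMulCommutative _ _
  have h1 : IsCyclic (B.map C.subtype) := by
    refine isCyclic_of_fpf_abelian hVne (by rw [normalizer_eq_top]; exact le_top) fun b hb hb1 => ?_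
    obtain ⟨c, -, rfl⟩ := hb
    exact le_bot_iff.mp ((inf_le_inf_right _ (map_subtype_le _)).trans (d.fpf _ c.2 hb1).le)
  exact (B.equivMapOfInjective C.subtype C.subtype_injective).isCyclic.mpr h1

/-- The kernel is determined by the numbers of elements of each order. -/
theorem exists_data {K C : Subgroup F} (d : Data F K C) (e : F ≃ G)
    (he : ∀ x, orderOf (e x) = orderOf x) :
    ∃ K' H : Subgroup G, Data G K' H ∧ Nat.card K' = Nat.card K := by
  classical
  have := d.normal
  have hcard : Nat.card G = Nat.card F := (Nat.card_congr e).symm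
  set k := Nat.card K with hk
  have hk0 : k ≠ 0 := Nat.card_pos.ne'
  -- each Sylow subgroup for a prime of `k` is normal in G
  have hsyl : ∀ p : ℕ, p.Prime → p ∣ k → ∀ y : G, (∃ i, orderOf y = p ^ i) → y ∈ pCore p G := by
    intro p hp hpk y ⟨i, hi⟩
    have := Fact.mk hp
    have := d.nil
    obtain ⟨P⟩ : Nonempty (Sylow p K) := inferInstance
    obtain ⟨Q⟩ : Nonempty (Sylow p G) := inferInstance
    have hco : ¬ p ∣ K.index := fun h => hp.one_lt.ne'
      (Nat.eq_one_of_dvd_coprimes d.coprime hpk h)
    let P' : Sylow p F := (P.isPGroup'.map K.subtype).toSylow (by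
      rw [index_map_subtype]; exact hp.not_dvd_mul P.not_dvd_index hco)
    have hchar : (P : Subgroup K).Characteristic :=
      P.characteristic_of_normal inferInstance
    have hP'n : (P' : Subgroup F).Normal := by
      show ((P : Subgroup K).map K.subtype).Normal
      exact Cfsg.Lib.Core.normal_map_char_of_normal _
    have hQn := exists_normal_of_same (same_of_equiv e he) hcard.symm P' hP'n Q
    obtain ⟨S, hS⟩ := (IsPGroup.of_card (p := p) (n := i) (G := zpowers y)
      (by rw [Nat.card_zpowers, hi])).exists_le_sylow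
    have : Unique (Sylow p G) := Sylow.unique_of_normal Q hQn
    exact Cfsg.Lib.Core.le_pCore' hQn Q.isPGroup' ((Subsingleton.elim S Q) ▸ hS (mem_zpowers y))
  set N := fittingSubgroup G
  have hNnil : Group.IsNilpotent N := Cfsg.Lib.Core.fittingSubgroup_isNilpotent G
  have hNn : N.Normal := Cfsg.Lib.Core.fittingSubgroup_normal' G
  -- all elements of order dividing k lie in N
  have hmemN : ∀ y : G, orderOf y ∣ k → y ∈ N := by
    intro y hy
    refine Cfsg.Lib.PGroup.mem_of_ordCompl_pow_mem fun p hpp hpd => ?_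
    have := Fact.mk hpp
    exact Cfsg.Lib.Core.pCore_le_fittingSubgroup p G (hsyl p hpp
      (hpd.trans hy) _ ⟨_, Cfsg.Lib.PGroup.orderOf_ordCompl_pow hpp⟩)
  let K' : Subgroup G :=
    { carrier := {y | orderOf y ∣ k}
      one_mem' := by simp
      inv_mem' := fun hy => by simpa using hy
      mul_mem' := fun {a b} ha hb => by
        -- inside the nilpotent group `N` use the π-core of the primes of `k`
        have hpi : ∀ y : N, orderOf (y : G) ∣ k → y ∈ piCore {p | p ∣ k} N := by
          intro y hy
          refine Cfsg.Lib.PGroup.mem_of_ordCompl_pow_mem fun p hpp hpd => ?_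
          have := Fact.mk hpp
          have hpk : p ∣ k := hpd.trans (orderOf_coe y ▸ hy)
          obtain ⟨S, hS⟩ := (IsPGroup.of_card (p := p) (n := (orderOf y).factorization p)
            (G := zpowers (y ^ (orderOf y / p ^ (orderOf y).factorization p)))
            (by rw [Nat.card_zpowers]; exact Cfsg.Lib.PGroup.orderOf_ordCompl_pow (g := y) hpp)).exists_le_sylow
          have hSn : (S : Subgroup N).Normal := inferInstance
          refine Cfsg.Lib.Core.le_piCore' hSn ?_ (hS (mem_zpowers _))
          intro q hq hqd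
          rw [S.card_eq_multiplicity] at hqd
          exact ((Nat.prime_dvd_prime_iff_eq hq hpp).mp (hq.dvd_of_dvd_pow hqd)) ▸ hpk
        have hab := mul_mem (hpi ⟨a, hmemN a ha⟩ ha) (hpi ⟨b, hmemN b hb⟩ hb)
        have hd : orderOf (a * b) ∣ Nat.card (piCore {p | p ∣ k} N) := by
          have h := Subgroup.orderOf_dvd_natCard _ hab
          rwa [← orderOf_coe] at h
        show orderOf (a * b) ∣ k
        obtain ⟨x, hx⟩ := e.surjective (a * b)
        rw [← hx, he] at hd ⊢
        by_contra hnd
        have hx1 : orderOf x ≠ 1 := fun h => hnd (h ▸ one_dvd k)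
        obtain ⟨q, hq, hqd⟩ := Nat.exists_prime_and_dvd hx1
        exact hq.one_lt.ne' (Nat.eq_one_of_dvd_coprimes (order_cases d x hnd) hqd
          (Cfsg.Lib.Core.piCore_isPiSub _ N q hq (hqd.trans hd))) }
  have hK'c : Nat.card K' = k := by
    have h1 : Nat.card {x : F // orderOf x ∣ k} = k :=
      Nat.card_congr (Equiv.subtypeEquivRight fun x => (mem_iff_of_coprime d.coprime x).symm)
    exact (Nat.card_congr (Equiv.subtypeEquiv e fun x => by
      rw [show (e x ∈ K' ↔ orderOf (e x) ∣ k) from Iff.rfl, he] : {x : F // orderOf x ∣ k} ≃ K')).symm.trans h1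
  have hK'n : K'.Normal := ⟨fun y hy g => by
    show orderOf (g * y * g⁻¹) ∣ k
    rw [← MulAut.conj_apply, show orderOf (MulAut.conj g y) = orderOf y from
      orderOf_injective (MulAut.conj g).toMonoidHom (MulAut.conj g).injective y]
    exact hy⟩
  have hidx : K'.index = K.index := by
    have h1 := K'.card_mul_index
    rw [hcard, ← K.card_mul_index, hK'c] at h1
    exact Nat.eq_of_mul_eq_mul_left (Nat.pos_of_ne_zero hk0) h1
  have hcop : (Nat.card K').Coprime K'.index := by rw [hK'c, hidx]; exact d.coprime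
  obtain ⟨H, hH⟩ := Subgroup.exists_right_complement'_of_coprime hcop
  refine ⟨K', H, ⟨hK'n, ?_, ?_, ?_, hH, hcop, fun h hh hh1 => ?_⟩, hK'c⟩
  · exact Cfsg.Lib.Core.isNilpotent_of_le (fun y hy => hmemN y hy) hNnil
  · intro h
    rw [h, card_bot] at hK'c
    exact d.ne_bot (K.card_eq_one.mp hK'c.symm)
  · intro h
    apply d.compl_ne_bot
    rw [← card_eq_one, ← d.compl.symm.index_eq_card, ← hidx, hH.symm.index_eq_card, h, card_bot]
  · rw [eq_bot_iff]
    rintro y ⟨hy, hyc⟩
    rw [mem_bot]
    by_contra hy1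
    replace hyc := mem_centralizer_singleton_iff.mp hyc
    have hyo : orderOf y ∣ k := hy
    have hhc : (orderOf h).Coprime k := by
      refine Nat.Coprime.coprime_dvd_left ((Subgroup.orderOf_dvd_natCard H hh).trans ?_) d.coprime.symm
      rw [← hH.symm.index_eq_card, hidx]
    obtain ⟨x, hx⟩ := e.surjective (h * y)
    have hord : orderOf x = orderOf h * orderOf y := by
      rw [← he x, hx]
      exact (show Commute h y from hyc.symm).orderOf_mul_eq_mul_orderOf_of_coprime
        (hhc.coprime_dvd_right hyo)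
    by_cases hd : orderOf x ∣ k
    · exact hh1 (orderOf_eq_one_iff.mp (Nat.eq_one_of_dvd_coprimes hhc dvd_rfl
        ((Dvd.intro _ hord.symm).trans hd)))
    · exact hy1 (orderOf_eq_one_iff.mp (Nat.eq_one_of_dvd_coprimes (order_cases d x hd)
        (Dvd.intro_left _ hord.symm) hyo))

/-- Solvability transfers. -/
theorem isSolvable_of_data {K C : Subgroup F} {K' H : Subgroup G} (d : Data F K C) (d' : Data G K' H)
    (hs : Same F G) (hc : Nat.card F = Nat.card G) (hk : Nat.card K = Nat.card K')
    (hF : Group.IsSolvable F) : Group.IsSolvable G := by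
  have := d.normal
  have := d'.normal
  have := hF
  have hq : Nat.card (G ⧸ K') = Nat.card (F ⧸ K) := by
    have h1 := K.card_mul_index
    have h2 := K'.card_mul_index
    rw [Subgroup.index_eq_card] at h1 h2
    rw [← hc, ← h1, hk] at h2
    exact Nat.eq_of_mul_eq_mul_left Nat.card_pos h2
  have h3 : Group.IsSolvable (G ⧸ K') := isSolvable_of_same _ (F ⧸ K) rfl inferInstance
    (abelianCyclic_quotient d) (G ⧸ K') (same_quotient hs K K' hk d.coprime d'.coprime) hq
  have h4 : Group.IsSolvable K' := IsNilpotent.to_isSolvable (G := K') (h := d'.nil)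
  exact Group.isSolvable_of_ker_le_range K'.subtype (QuotientGroup.mk' K')
    (by rw [QuotientGroup.ker_mk', range_subtype])

end Cfsg.Lib.PGroup.OrderType
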