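import Mathlib
import Cfsg.Agent.S4010
import Cfsg.Agent.Lib.PGroup.Basic

/-!
A `p`-subgroup of `GL (k, p)` is generated by at most `k ^ 2 / 4` elements: leading positions of elements
outside the Frattini subgroup form a triangle-free graph.
-/

set_option autoImplicit false

namespace Cfsg.Lib.PGroup.Lead

open Subgroup Finset
open scoped commutatorElement

variable {k p : ℕ} [hp : Fact p.Prime]

/-- The nilpotent part of a matrix. -/
def ent (g : (GL (Fin k) (ZMod p))) : Matrix (Fin k) (Fin k) (ZMod p) := (g : Matrix (Fin k) (Fin k) (ZMod p)) - 1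

/-- Strictly upper triangular nilpotent part. -/
def Upper (H : Subgroup (GL (Fin k) (ZMod p))) : Prop := ∀ g ∈ H, ∀ i j, ent g i j ≠ 0 → i < j

/-- The order on positions: by distance from the diagonal, then by row. -/
def key (i j : Fin k) : ℕ := ((j : ℕ) - i) * k + i

theorem key_le {a b i j : Fin k} (h : key i j ≤ key a b) :
    (j : ℕ) - i < (b : ℕ) - a ∨ ((j : ℕ) - i = (b : ℕ) - a ∧ (i : ℕ) ≤ a) := by
  rcases lt_trichotomy ((j : ℕ) - i) ((b : ℕ) - a) with h1 | h1 | h1
  · exact Or.inl h1
  · exact Or.inr ⟨h1, by unfold key at h; rw [h1] at h; omega⟩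
  · exfalso
    unfold key at h
    have : ((b : ℕ) - a + 1) * k ≤ ((j : ℕ) - i) * k := Nat.mul_le_mul_right k h1
    have := a.2
    rw [add_mul, one_mul] at *
    omega

theorem key_lt_of_lt {a b i j : Fin k} (h : (j : ℕ) - i < (b : ℕ) - a) : key i j < key a b := by
  by_contra h'
  rcases key_le (not_lt.1 h') with h1 | ⟨h1, -⟩ <;> omega

theorem key_inj {a b i j : Fin k} (hab : a < b) (hij : i < j) (h : key i j = key a b) : i = a ∧ j = b := by
  rw [Fin.lt_def] at hab hij
  rcases key_le h.le with h1 | ⟨h1, h2⟩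
  · exact absurd h (key_lt_of_lt h1).ne
  rcases key_le h.ge with h3 | ⟨-, h4⟩
  · omega
  exact ⟨Fin.ext (by omega), Fin.ext (by omega)⟩

theorem key_lt_bound (i j : Fin k) : key i j < k * k + k := by
  have : ((j : ℕ) - i) * k ≤ k * k := Nat.mul_le_mul_right k (by omega)
  have := i.2
  unfold key
  omega

theorem ent_mul (g h : (GL (Fin k) (ZMod p))) : ent (g * h) = ent g * ent h + (ent g + ent h) := by
  simp only [ent, Units.val_mul]
  noncomm_ring

theorem ent_one : ent (1 : (GL (Fin k) (ZMod p))) = 0 := by simp [ent]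

variable {H : Subgroup (GL (Fin k) (ZMod p))}

theorem entry_add (hH : Upper H) {t : ℕ} {g h : (GL (Fin k) (ZMod p))} (hg : g ∈ H) (hh : h ∈ H)
    (hgt : ∀ a b, key a b < t → ent g a b = 0) {i j : Fin k} (hij : key i j ≤ t) :
    ent (g * h) i j = ent g i j + ent h i j := by
  rw [ent_mul, Matrix.add_apply, Matrix.add_apply, Matrix.mul_apply, Finset.sum_eq_zero, zero_add]
  intro c _
  by_contra hne
  have h1 := hH g hg i c (left_ne_zero_of_mul hne)
  have h2 := hH h hh c j (right_ne_zero_of_mul hne)
  refine left_ne_zero_of_mul hne (hgt i c (lt_of_lt_of_le (key_lt_of_lt ?_) hij))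
  rw [Fin.lt_def] at h1 h2
  omega

/-- Elements with no entry before `t`. -/
def level (H : Subgroup (GL (Fin k) (ZMod p))) (hH : Upper H) (t : ℕ) : Subgroup H where
  carrier := {g | ∀ a b, key a b < t → ent (g : (GL (Fin k) (ZMod p))) a b = 0}
  one_mem' := fun a b _ => by simp [ent_one]
  mul_mem' := fun {g h} hg hh a b hab => by
    rw [Subgroup.coe_mul, entry_add hH g.2 h.2 hg hab.le, hg a b hab, hh a b hab, add_zero]
  inv_mem' := fun {g} hg a b hab => by
    have := entry_add hH g.2 (g⁻¹ : H).2 hg hab.le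
    rw [← Subgroup.coe_mul, mul_inv_cancel, Subgroup.coe_one, ent_one, hg a b hab, zero_add] at this
    exact this.symm

theorem mem_level {hH : Upper H} {t : ℕ} {g : H} :
    g ∈ level H hH t ↔ ∀ a b, key a b < t → ent (g : (GL (Fin k) (ZMod p))) a b = 0 := Iff.rfl

/-- Leading positions of elements. -/
def Jump (H : Subgroup (GL (Fin k) (ZMod p))) (q : Fin k × Fin k) : Prop :=
  q.1 < q.2 ∧ ∃ g ∈ H, (∀ a b, key a b < key q.1 q.2 → ent g a b = 0) ∧ ent g q.1 q.2 ≠ 0

theorem Jump.mono {H K : Subgroup (GL (Fin k) (ZMod p))} (h : H ≤ K) {q : Fin k × Fin k} (hq : Jump H q) : Jump K q :=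
  ⟨hq.1, let ⟨g, hg, h2⟩ := hq.2; ⟨g, h hg, h2⟩⟩

open scoped Classical in
/-- The leading positions from `t` on. -/
noncomputable def jumps (H : Subgroup (GL (Fin k) (ZMod p))) (t : ℕ) : Finset (Fin k × Fin k) :=
  Finset.univ.filter fun q => Jump H q ∧ t ≤ key q.1 q.2

theorem mem_jumps {t : ℕ} {q : Fin k × Fin k} : q ∈ jumps H t ↔ Jump H q ∧ t ≤ key q.1 q.2 := by
  simp [jumps]

theorem card_level (hH : Upper H) : ∀ d t, t + d = k * k + k →
    Nat.card (level H hH t) = p ^ (jumps H t).card := by
  intro d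
  induction d with
  | zero =>
    intro t ht
    have h1 : jumps H t = ∅ := Finset.eq_empty_of_forall_notMem fun q hq => by
      have := (mem_jumps.1 hq).2
      have := key_lt_bound q.1 q.2
      omega
    have h2 : level H hH t = ⊥ := by
      rw [eq_bot_iff]
      intro g hg
      rw [Subgroup.mem_bot]
      refine Subtype.ext (Units.ext (sub_eq_zero.1 (Matrix.ext fun a b => hg a b ?_)))
      have := key_lt_bound a b
      omega
    rw [h1, h2, Finset.card_empty, pow_zero, Subgroup.card_bot]
  | succ d ih =>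
    intro t ht
    have hle : level H hH (t + 1) ≤ level H hH t := fun g hg a b hab => hg a b (by omega)
    have hmul := Subgroup.card_mul_index ((level H hH (t + 1)).subgroupOf (level H hH t))
    rw [Nat.card_congr (subgroupOfEquivOfLe hle).toEquiv, ih (t + 1) (by omega)] at hmul
    by_cases hex : ∃ q, Jump H q ∧ key q.1 q.2 = t
    · obtain ⟨⟨i, j⟩, ⟨hij, g, hg, hg0, hgne⟩, rfl⟩ := hex
      let f : ↥(level H hH (key i j)) →* Multiplicative (ZMod p) :=
        { toFun := fun x => Multiplicative.ofAdd (ent ((x : H) : (GL (Fin k) (ZMod p))) i j)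
          map_one' := by simp [ent_one]
          map_mul' := fun x y => by
            rw [← ofAdd_add, Subgroup.coe_mul, Subgroup.coe_mul, entry_add hH x.1.2 y.1.2 x.2 le_rfl] }
      have hker : (level H hH (key i j + 1)).subgroupOf (level H hH (key i j)) = f.ker := by
        ext x
        rw [Subgroup.mem_subgroupOf, MonoidHom.mem_ker, mem_level]
        constructor
        · intro h
          show Multiplicative.ofAdd _ = 1
          rw [h i j (Nat.lt_succ_self _)]
          rfl
        · intro h a b hab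
          rcases Nat.lt_or_ge (key a b) (key i j) with h1 | h1
          · exact x.2 a b h1
          by_contra hne
          obtain ⟨rfl, rfl⟩ := key_inj (hH _ (x : H).2 a b hne) hij (by omega : key i j = key a b)
          exact hne h
      have hfne : f.range ≠ ⊥ := fun h => hgne (by
        have : f ⟨⟨g, hg⟩, hg0⟩ ∈ f.range := ⟨_, rfl⟩
        rw [h, Subgroup.mem_bot] at this
        exact this)
      have htop : Nat.card f.range = p := by
        rcases (Nat.dvd_prime hp.out).1 (show Nat.card f.range ∣ p from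
          (card_subgroup_dvd_card f.range).trans (by simp)) with h | h
        · exact absurd (Subgroup.card_eq_one.1 h) hfne
        · exact h
      rw [hker, Subgroup.index_ker, htop, ← pow_succ] at hmul
      rw [← hmul]
      congr 1
      have : jumps H (key i j) = insert (i, j) (jumps H (key i j + 1)) := by
        ext q
        rw [Finset.mem_insert, mem_jumps, mem_jumps]
        constructor
        · rintro ⟨h1, h2⟩
          rcases h2.lt_or_eq with h3 | h3
          · exact Or.inr ⟨h1, h3⟩
          · obtain ⟨e1, e2⟩ := key_inj h1.1 hij h3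
            exact Or.inl (Prod.ext e1.symm e2.symm)
        · rintro (rfl | ⟨h1, h2⟩)
          · exact ⟨⟨hij, g, hg, hg0, hgne⟩, le_rfl⟩
          · exact ⟨h1, by omega⟩
      rw [this, Finset.card_insert_of_notMem fun h => by have := (mem_jumps.1 h).2; simp at this]
    · have heq : level H hH t = level H hH (t + 1) := by
        refine le_antisymm (fun g hg a b hab => ?_) hle
        rcases Nat.lt_or_ge (key a b) t with h1 | h1
        · exact hg a b h1
        by_contra hne
        have he : key a b = t := by omega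
        exact hex ⟨(a, b), ⟨hH g g.2 a b hne, g, g.2, fun c e hce => hg c e (he ▸ hce), hne⟩, he⟩
      rw [heq, ih (t + 1) (by omega)]
      congr 2
      ext q
      rw [mem_jumps, mem_jumps]
      constructor
      · exact fun h => ⟨h.1, by omega⟩
      · rintro ⟨h1, h2⟩
        exact ⟨h1, Nat.lt_of_le_of_ne h2 fun h3 => hex ⟨q, h1, h3.symm⟩⟩

theorem card_eq (hH : Upper H) : Nat.card H = p ^ (jumps H 0).card := by
  rw [← card_level hH (k * k + k) 0 (Nat.zero_add _)]
  have : level H hH 0 = ⊤ := eq_top_iff.2 fun g _ a b h => absurd h (Nat.not_lt_zero _)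
  rw [this, Subgroup.card_top]

/-- The leading position of a commutator. -/
theorem jump_commutator (hH : Upper H) {F : Subgroup (GL (Fin k) (ZMod p))} (hF : ⁅H, H⁆ ≤ F) {i j l : Fin k}
    (h1 : Jump H (i, j)) (h2 : Jump H (j, l)) : Jump F (i, l) := by
  obtain ⟨hij, x, hx, hx0, hxne⟩ := h1
  obtain ⟨hjl, y, hy, hy0, hyne⟩ := h2
  simp only [Fin.lt_def] at hij hjl
  simp only at hx0 hy0 hxne hyne
  refine ⟨show i < l by rw [Fin.lt_def]; omega, ⁅x, y⁆, hF (commutator_mem_commutator hx hy), ?_⟩
  set C := ent x * ent y - ent y * ent x with hC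
  have hXY : ∀ a c b, ent x a c * ent y c b ≠ 0 →
      (l : ℕ) - i < (b : ℕ) - a ∨ ((l : ℕ) - i = (b : ℕ) - a ∧ (i : ℕ) ≤ a ∧ (c : ℕ) = a + (j - i)) := by
    intro a c b hne
    have h1 := hH x hx a c (left_ne_zero_of_mul hne)
    have h2 := hH y hy c b (right_ne_zero_of_mul hne)
    have h3 := key_le (not_lt.1 fun h => left_ne_zero_of_mul hne (hx0 a c h))
    have h4 := key_le (not_lt.1 fun h => right_ne_zero_of_mul hne (hy0 c b h))
    simp only [Fin.lt_def] at h1 h2
    omega
  have hYX : ∀ a c b, ent y a c * ent x c b ≠ 0 →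
      (l : ℕ) - i < (b : ℕ) - a ∨ ((l : ℕ) - i = (b : ℕ) - a ∧ (i : ℕ) < a) := by
    intro a c b hne
    have h1 := hH y hy a c (left_ne_zero_of_mul hne)
    have h2 := hH x hx c b (right_ne_zero_of_mul hne)
    have h3 := key_le (not_lt.1 fun h => left_ne_zero_of_mul hne (hy0 a c h))
    have h4 := key_le (not_lt.1 fun h => right_ne_zero_of_mul hne (hx0 c b h))
    simp only [Fin.lt_def] at h1 h2
    omega
  have hC0 : ∀ a b, key a b < key i l → C a b = 0 := by
    intro a b hab
    rw [hC, Matrix.sub_apply, Matrix.mul_apply, Matrix.mul_apply, Finset.sum_eq_zero, Finset.sum_eq_zero, sub_zero]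
    · intro c _
      by_contra hne
      rcases hYX a c b hne with h | ⟨h, h'⟩
      · exact absurd hab (key_lt_of_lt h).not_gt
      · unfold key at hab; rw [h] at hab; omega
    · intro c _
      by_contra hne
      rcases hXY a c b hne with h | ⟨h, h', -⟩
      · exact absurd hab (key_lt_of_lt h).not_gt
      · unfold key at hab; rw [h] at hab; omega
  have hCil : C i l = ent x i j * ent y j l := by
    rw [hC, Matrix.sub_apply, Matrix.mul_apply, Matrix.mul_apply, Finset.sum_eq_single j,
      Finset.sum_eq_zero, sub_zero]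
    · intro c _
      by_contra hne
      rcases hYX i c l hne with h | ⟨-, h'⟩ <;> omega
    · intro c _ hc
      by_contra hne
      rcases hXY i c l hne with h | ⟨-, -, h'⟩
      · omega
      · exact hc (Fin.ext (by omega))
    · intro h; exact absurd (Finset.mem_univ j) h
  have hz : ent ⁅x, y⁆ = C + C * ent (x⁻¹ * y⁻¹) := by
    have e : C = (x : Matrix (Fin k) (Fin k) (ZMod p)) * y - (y : Matrix (Fin k) (Fin k) (ZMod p)) * x := by
      simp only [hC, ent]; noncomm_ring
    have e2 : C + C * ent (x⁻¹ * y⁻¹) = C * ((x⁻¹ * y⁻¹ : (GL (Fin k) (ZMod p))) : Matrix (Fin k) (Fin k) (ZMod p)) := by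
      simp only [ent]; noncomm_ring
    rw [e2, e, sub_mul, ← Units.val_mul, ← Units.val_mul, ← Units.val_mul, ← Units.val_mul, ent,
      show y * x * (x⁻¹ * y⁻¹) = 1 by group, Units.val_one, commutatorElement_def, mul_assoc (x * y)]
  have hzero : ∀ a b, key a b ≤ key i l → (C * ent (x⁻¹ * y⁻¹)) a b = 0 := by
    intro a b hab
    rw [Matrix.mul_apply, Finset.sum_eq_zero]
    intro c _
    by_contra hne
    have hcb := hH _ (mul_mem (inv_mem hx) (inv_mem hy)) c b (right_ne_zero_of_mul hne)
    rw [Fin.lt_def] at hcb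
    rcases Nat.lt_or_ge ((c : ℕ) - a) ((b : ℕ) - a) with h | h
    · exact left_ne_zero_of_mul hne (hC0 a c ((key_lt_of_lt h).trans_le hab))
    · refine left_ne_zero_of_mul hne (hC0 a c ?_)
      rcases key_le hab with h' | ⟨h', -⟩
      · exact key_lt_of_lt (by omega)
      · exact key_lt_of_lt (by omega)
  refine ⟨fun a b hab => ?_, ?_⟩
  · rw [hz, Matrix.add_apply, hC0 a b hab, hzero a b hab.le, add_zero]
  · show ent ⁅x, y⁆ i l ≠ 0
    rw [hz, Matrix.add_apply, hCil, hzero i l le_rfl, add_zero]
    exact mul_ne_zero hxne hyne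

/-- A set of ordered pairs with no triangle. -/
theorem card_le_of_triangle_free (E : Finset (Fin k × Fin k)) (hlt : ∀ q ∈ E, q.1 < q.2)
    (htri : ∀ i j l, (i, j) ∈ E → (j, l) ∈ E → (i, l) ∉ E) : E.card ≤ k * k / 4 := by
  classical
  let G : SimpleGraph (Fin k) := SimpleGraph.fromRel fun a b => (a, b) ∈ E
  have hadj : ∀ a b, a < b → G.Adj a b → (a, b) ∈ E := by
    intro a b hab h
    rcases h.2 with h1 | h1
    · exact h1
    · exact absurd (hlt _ h1) (lt_asymm hab)
  have hcf : G.CliqueFree 3 := by
    intro s hs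
    obtain ⟨hs1, hs2⟩ := (SimpleGraph.isNClique_iff G).1 hs
    let e := s.orderEmbOfFin hs2
    have hmem : ∀ i, e i ∈ s := fun i => s.orderEmbOfFin_mem hs2 i
    have hl : ∀ {u v : Fin 3}, u < v → (e u, e v) ∈ E := fun {u v} huv =>
      hadj _ _ (e.strictMono huv) (hs1 (hmem u) (hmem v) (e.strictMono huv).ne)
    exact htri _ _ _ (hl (u := 0) (v := 1) (by decide)) (hl (u := 1) (v := 2) (by decide))
      (hl (u := 0) (v := 2) (by decide))
  have h1 : E.card ≤ G.edgeFinset.card := by
    refine Finset.card_le_card_of_injOn (fun q => s(q.1, q.2)) (fun q hq => ?_) ?_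
    · rw [SimpleGraph.coe_edgeFinset, SimpleGraph.mem_edgeSet]
      exact ⟨(hlt q hq).ne, Or.inl hq⟩
    · intro q hq r hr e
      rcases Sym2.eq_iff.1 e with ⟨e1, e2⟩ | ⟨e1, e2⟩
      · exact Prod.ext e1 e2
      · have a1 := hlt q hq
        have a2 := hlt r hr
        rw [e1, e2] at a1
        exact absurd a2 (lt_asymm a1)
  have h2 := SimpleGraph.CliqueFree.card_edgeFinset_le (r := 2) (G := G) hcf
  simp only [Fintype.card_fin] at h2
  refine h1.trans (h2.trans ?_)
  rcases Nat.mod_two_eq_zero_or_one k with h | h <;> rw [h] <;> norm_num [pow_two] <;>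
    exact Nat.div_le_div_right (by omega)

/-- A unitriangular `p`-subgroup of `GL (k, p)` has at most `k ^ 2 / 4` generators. -/
theorem index_frattini_le (hH : Upper H) : (frattini H).index ≤ p ^ (k * k / 4) := by
  classical
  set F := (frattini H).map H.subtype with hF
  have hFH : F ≤ H := map_subtype_le _
  have hFu : Upper F := fun g hg => hH g (hFH hg)
  have hHp : IsPGroup p H := IsPGroup.of_card (card_eq hH)
  have hcom : ⁅H, H⁆ ≤ F := by
    rw [← map_subtype_commutator]
    exact map_mono (commutator_le_frattini hHp)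
  have hsub : jumps F 0 ⊆ jumps H 0 := fun q hq => by
    rw [mem_jumps] at hq ⊢
    exact ⟨hq.1.mono hFH, hq.2⟩
  have h1 : (frattini H).index = p ^ ((jumps H 0).card - (jumps F 0).card) := by
    have h := (frattini H).card_mul_index
    rw [← Subgroup.card_map_of_injective (f := H.subtype) H.subtype_injective, ← hF, card_eq hFu,
      card_eq hH] at h
    rw [← Nat.add_sub_cancel' (Finset.card_le_card hsub), pow_add, Nat.mul_right_inj (pow_ne_zero _ hp.out.ne_zero)] at h
    exact h
  rw [h1, ← Finset.card_sdiff_of_subset hsub]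
  refine Nat.pow_le_pow_right hp.out.pos (card_le_of_triangle_free _ (fun q hq => ?_) ?_)
  · exact (mem_jumps.1 (Finset.mem_sdiff.1 hq).1).1.1
  · intro i j l h12 h23 h13
    refine (Finset.mem_sdiff.1 h13).2 (mem_jumps.2 ⟨?_, Nat.zero_le _⟩)
    exact jump_commutator hH hcom (mem_jumps.1 (Finset.mem_sdiff.1 h12).1).1 (mem_jumps.1 (Finset.mem_sdiff.1 h23).1).1

/-- A `p`-group acting on a vector space over `ZMod p` is unitriangular in some basis. -/
theorem exists_unitriangular {P V : Type*} [Group P] [Finite P] [AddCommGroup V] [Module (ZMod p) V]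
    [FiniteDimensional (ZMod p) V] (hP : IsPGroup p P) (ρ : P →* (Module.End (ZMod p) V)ˣ)
    (hk : Module.finrank (ZMod p) V = k) :
    ∃ σ : P →* (GL (Fin k) (ZMod p)), σ.ker = ρ.ker ∧ Upper σ.range := by
  classical
  have key : ∀ d ≤ k, ∃ v : Fin d → V, LinearIndependent (ZMod p) v ∧
      ∀ (g : P) (j : Fin d), (ρ g : Module.End (ZMod p) V) (v j) - v j ∈
        Submodule.span (ZMod p) (v '' {i | i < j}) := by
    intro d
    induction d with
    | zero => exact fun _ => ⟨Fin.elim0, linearIndependent_empty_type, fun _ j => j.elim0⟩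
    | succ d ih =>
      intro hd
      obtain ⟨v, hv, hg⟩ := ih (by omega)
      set W := Submodule.span (ZMod p) (Set.range v) with hW
      have hinv : ∀ g : P, ∀ w ∈ W, (ρ g : Module.End (ZMod p) V) w ∈ W := by
        intro g w hw
        refine (Submodule.span_le.2 ?_ : W ≤ W.comap (ρ g : Module.End (ZMod p) V)) hw
        rintro _ ⟨j, rfl⟩
        show (ρ g : Module.End (ZMod p) V) (v j) ∈ W
        rw [← sub_add_cancel ((ρ g : Module.End (ZMod p) V) (v j)) (v j)]
        exact add_mem (Submodule.span_mono (Set.image_subset_range _ _) (hg g j)) (Submodule.subset_span ⟨j, rfl⟩)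
      haveI : Nontrivial (V ⧸ W) := Submodule.Quotient.nontrivial_iff.2 fun h => by
        have := finrank_span_eq_card hv
        rw [← hW, h, finrank_top, Fintype.card_fin] at this
        omega
      obtain ⟨q, hq0, hq⟩ := Cfsg.Agent.S4010.exists_fixed hP (Cfsg.Agent.S4010.quo ρ W hinv)
      obtain ⟨x, rfl⟩ := Submodule.Quotient.mk_surjective W q
      refine ⟨Fin.snoc v x, hv.finSnoc fun h => hq0 ((Submodule.Quotient.mk_eq_zero W).2 h), fun g j => ?_⟩
      refine Fin.lastCases ?_ (fun i => ?_) j
      · have h := hq g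
        rw [Cfsg.Agent.S4010.quo_apply, Submodule.Quotient.eq] at h
        rw [Fin.snoc_last]
        refine Submodule.span_mono ?_ h
        rintro _ ⟨i, rfl⟩
        exact ⟨i.castSucc, Fin.castSucc_lt_last i, by simp⟩
      · rw [Fin.snoc_castSucc]
        refine Submodule.span_mono ?_ (hg g i)
        rintro _ ⟨a, ha, rfl⟩
        exact ⟨a.castSucc, (by simpa using ha : a.castSucc < i.castSucc), by simp⟩
  obtain ⟨v, hv, hg⟩ := key k le_rfl
  have hsp : Submodule.span (ZMod p) (Set.range v) = ⊤ :=
    Submodule.eq_top_of_finrank_eq (by rw [finrank_span_eq_card hv, Fintype.card_fin, hk])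
  let B := Module.Basis.mk hv hsp.ge
  let σ : P →* (GL (Fin k) (ZMod p)) := (Units.map (LinearMap.toMatrixAlgEquiv B).toRingEquiv.toMulEquiv.toMonoidHom).comp ρ
  refine ⟨σ, ?_, ?_⟩
  · ext g
    rw [MonoidHom.mem_ker, MonoidHom.mem_ker, MonoidHom.comp_apply]
    exact map_eq_one_iff _ (Units.map_injective (LinearMap.toMatrixAlgEquiv B).injective)
  rintro _ ⟨g, rfl⟩ i j hne
  by_contra hij
  refine hne ?_
  have h0 : B.repr ((ρ g : Module.End (ZMod p) V) (v j) - v j) i = 0 := by
    have hB : ⇑B = v := Module.Basis.coe_mk _ _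
    have h1 := hg g j
    rw [← hB, Module.Basis.mem_span_image] at h1
    by_contra h
    rw [← hB] at h
    exact hij (h1 (Finsupp.mem_support_iff.2 h))
  show (LinearMap.toMatrixAlgEquiv B (ρ g : Module.End (ZMod p) V) - 1) i j = 0
  rw [Matrix.sub_apply, LinearMap.toMatrixAlgEquiv_apply]
  have hB : B j = v j := Module.Basis.mk_apply hv hsp.ge j
  rw [map_sub, Finsupp.sub_apply, ← hB, B.repr_self, Finsupp.single_apply] at h0
  rw [Matrix.one_apply]
  simpa [eq_comm] using h0

end Cfsg.Lib.PGroup.Lead
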