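import Cfsg.Agent.Lib.PGroup.MaxClassUniform

/-!
# The degree of commutativity of a `p`-group of maximal class, `p` odd

Blackburn's theorem: in a `p`-group of maximal class of order `p ^ n` the two-step centralizers
of `γ_k / γ_{k+2}`, `k ≤ n - 4`, coincide; if the centralizer of `γ_{n-3}` differs from them
then `n` is even and at most `p + 1`.
-/

set_option autoImplicit false
set_option linter.unusedSectionVars false

namespace Cfsg.Lib.PGroup.Degree

open Subgroup Cfsg.Lib.PGroup.MaxClass Cfsg.Lib.PGroup.Uniform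
open scoped commutatorElement

universe u

variable {p : ℕ} [hp : Fact p.Prime] {X : Type u} [Group X]

local notation:max "γ[" k "]" => (Subgroup.lowerCentralSeries (⊤ : Subgroup _) k)

omit hp in
/-- The power law where the commutator subgroup has exponent `p`. -/
theorem mul_pow_eq {W : Subgroup X} (hPL : Cfsg.Lib.PGroup.Regular.PowLaw p W)
    (hexp : ∀ z ∈ ⁅W, W⁆, z ^ p = 1) {a b : X} (ha : a ∈ W) (hb : b ∈ W) :
    (a * b) ^ p = a ^ p * b ^ p := by
  obtain ⟨e, he, hprod⟩ := hPL ⟨a, ha⟩ ⟨b, hb⟩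
  have he1 : e = 1 := by
    refine mem_bot.1 ((?_ : Cfsg.powerClosure p 1 _ ≤ ⊥) he)
    refine (closure_le _).2 ?_
    rintro _ ⟨w, hw, rfl⟩
    refine mem_bot.2 (Subtype.ext ?_)
    rw [pow_one, SubgroupClass.coe_pow]
    refine hexp _ ?_
    have h1 := mem_map_of_mem W.subtype hw
    rw [map_commutator] at h1
    exact commutator_mono (map_subtype_le _) (map_subtype_le _) h1
  have h2 := congrArg Subtype.val hprod
  rw [he1, mul_one] at h2
  exact h2

omit hp in
theorem comm_mem_top {i j k : ℕ} (hk : k ≤ i + j + 1) {a b : X} (ha : a ∈ γ[i]) (hb : b ∈ γ[j]) :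
    ⁅a, b⁆ ∈ γ[k] :=
  commutator_lcs_mem hk (commutator_mem_commutator ha hb)

variable [Finite X] {n : ℕ} (h : IsMax p X n)
include h

theorem mem_last_central {z : X} (hz : z ∈ γ[n - 2]) (g : X) : g * z = z * g := by
  have := mem_gamma_succ hz g
  rw [gamma_eq_bot h (show n - 1 ≤ n - 2 + 1 by omega), mem_bot] at this
  exact (commutatorElement_eq_one_iff_mul_comm.mp this).symm

/-- `γ_k` has exponent `p` if `n ≤ k + p`; modulo the centre all of `X` does if `n ≤ p + 1`. -/
theorem exponent_aux (hp2 : p ≠ 2) :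
    (∀ k, 1 ≤ k → n ≤ k + p → ∀ x ∈ (γ[k] : Subgroup X), x ^ p = 1) ∧
      (n ≤ p + 1 → ∀ y : X, y ^ p ∈ γ[n - 2]) := by
  induction n using Nat.strong_induction_on generalizing X with
  | _ n ih =>
  have hp3 : 3 ≤ p := by have := hp.out.two_le; omega
  have hn := h.three
  have hE : n ≤ p + 1 → ∀ y : X, y ^ p ∈ γ[n - 2] := by
    intro hnp
    rcases Nat.eq_or_lt_of_le hn with hn3 | hn4
    · intro y
      rw [← hn3]
      exact pow_mem_gamma_succ h (k := 0) (mem_top y)
    have hq := isMax_quotient h (m := n - 2) (by omega) (by omega)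
    rw [show n - 2 + 1 = n - 1 by omega] at hq
    obtain ⟨ihexp, ihE⟩ := ih (n - 1) (by omega) hq
    set π := QuotientGroup.mk' (γ[n - 2] : Subgroup X) with hπ
    have hy2 : ∀ y : X, y ^ p ∈ γ[n - 3] := by
      intro y
      have h1 := ihE (by omega) (π y)
      rw [← map_pow, mk_mem_gamma h (by omega)] at h1
      rwa [show n - 3 = n - 1 - 2 by omega]
    have hPL : Cfsg.Lib.PGroup.Regular.PowLaw p (⊤ : Subgroup (X ⧸ (γ[n - 2] : Subgroup X))) := by
      refine Cfsg.Lib.PGroup.Regular.powLaw_of_lcs ?_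
      rw [← Subgroup.map_eq_bot_iff_of_injective _ (⊤ : Subgroup (X ⧸ (γ[n - 2] : Subgroup X))).subtype_injective,
        Subgroup.top_subtype_lowerCentralSeries]
      exact gamma_eq_bot hq (by omega)
    have hhom : ∀ a b : X, π (a * b) ^ p = π a ^ p * π b ^ p := fun a b => by
      rw [map_mul]
      refine mul_pow_eq hPL (fun z hz => ?_) (mem_top _) (mem_top _)
      refine ihexp 1 le_rfl (by omega) z ?_
      rw [Subgroup.lowerCentralSeries_succ, Subgroup.lowerCentralSeries_zero]
      exact hz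
    have hout : ∀ y : X, y ∉ twoCent X (n - 3) → y ^ p ∈ γ[n - 2] := by
      intro y hy
      by_contra hne
      refine hy (mem_twoCent.2 (comm_level h (by omega) (hy2 y) ?_ ?_))
      · rwa [show n - 3 + 1 = n - 2 by omega]
      · rw [commutatorElement_eq_one_iff_mul_comm.2 (((Commute.refl y).pow_left p).eq)]
        exact one_mem _
    obtain ⟨g, hg⟩ : ∃ g : X, g ∉ twoCent X (n - 3) := by
      by_contra hall
      push Not at hall
      have h1 := index_twoCent h (k := n - 3) (by omega) (by omega)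
      rw [show twoCent X (n - 3) = ⊤ from eq_top_iff.2 fun x _ => hall x, index_top] at h1
      exact hp.out.ne_one h1.symm
    have hpi : ∀ a : X, a ^ p ∈ γ[n - 2] → π a ^ p = 1 := fun a ha => by
      rw [← map_pow]; exact (QuotientGroup.eq_one_iff _).2 ha
    intro y
    by_cases hy : y ∈ twoCent X (n - 3)
    · have h1 := hhom y g
      rw [hpi g (hout g hg), hpi (y * g) (hout (y * g) fun hc => hg ?_), mul_one, ← map_pow] at h1
      · exact (QuotientGroup.eq_one_iff _).1 h1.symm
      · have := mul_mem (inv_mem hy) hc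
        rwa [inv_mul_cancel_left] at this
    · exact hout y hy
  refine ⟨?_, hE⟩
  suffices key : ∀ d k, 1 ≤ k → n - 1 ≤ k + d → n ≤ k + p → ∀ x ∈ (γ[k] : Subgroup X), x ^ p = 1 from
    fun k hk hkp => key (n - 1) k hk (by omega) hkp
  intro d
  induction d with
  | zero =>
    intro k hk hd _ x hx
    rw [gamma_eq_bot h (by omega), mem_bot] at hx
    rw [hx, one_pow]
  | succ d ihd =>
    intro k hk hd hkp x hx
    rcases Nat.lt_or_ge k (n - 1) with hkn | hkn
    swap
    · rw [gamma_eq_bot h hkn, mem_bot] at hx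
      rw [hx, one_pow]
    have hdeep := ihd (k + 1) (by omega) (by omega) (by omega)
    have hPL := powLaw_gamma h hp2 hk (by omega) (le_refl (γ[k] : Subgroup X))
    let Ω : Subgroup X :=
      { carrier := {v | v ∈ γ[k] ∧ v ^ p = 1}
        one_mem' := ⟨one_mem _, one_pow p⟩
        mul_mem' := by
          rintro a b ⟨ha, ha'⟩ ⟨hb, hb'⟩
          refine ⟨mul_mem ha hb, ?_⟩
          have := Cfsg.Lib.PGroup.Regular.pow_mul_eq_one ((isPGroup h).to_subgroup _) hPL 1
            (x := ⟨a, ha⟩) (y := ⟨b, hb⟩)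
            (by rw [pow_one]; exact Subtype.ext ha') (by rw [pow_one]; exact Subtype.ext hb')
          rw [pow_one] at this
          exact congrArg Subtype.val this
        inv_mem' := by
          rintro a ⟨ha, ha'⟩
          exact ⟨inv_mem ha, by rw [inv_pow, ha', inv_one]⟩ }
    suffices hle : (γ[k] : Subgroup X) ≤ Ω from (hle hx).2
    obtain ⟨k', rfl⟩ : ∃ k', k = k' + 1 := ⟨k - 1, by omega⟩
    -- powers of the level above are central
    have hcen : ∀ y ∈ (γ[k'] : Subgroup X), y ^ p ∈ γ[n - 2] := by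
      intro y hy
      rcases Nat.eq_zero_or_pos k' with rfl | hk'
      · exact hE (by omega) y
      · have hq := isMax_quotient h (m := n - 2) (by omega) (by omega)
        rw [show n - 2 + 1 = n - 1 by omega] at hq
        have h1 := (ih (n - 1) (by omega) hq).1 k' hk' (by omega)
          (QuotientGroup.mk' (γ[n - 2] : Subgroup X) y) ((mk_mem_gamma h (by omega)).2 hy)
        rw [← map_pow] at h1
        exact (QuotientGroup.eq_one_iff _).1 h1
    rw [Subgroup.lowerCentralSeries_succ, commutator_le]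
    intro y hy g _
    set c := ⁅g, y⁆ with hc
    have hck : c ∈ γ[k' + 1] := by
      rw [hc, ← commutatorElement_inv]
      exact inv_mem (mem_gamma_succ hy g)
    suffices hcp : c ^ p = 1 by
      rw [← commutatorElement_inv g y]
      exact inv_mem (show c ∈ Ω from ⟨hck, hcp⟩)
    set W := zpowers y ⊔ (γ[k' + 1] : Subgroup X) with hWdef
    have hWW : ⁅W, W⁆ ≤ γ[k' + 2] := by
      have haux : ∀ A : Subgroup X, ⁅(γ[k' + 1] : Subgroup X), A⁆ ≤ γ[k' + 2] := fun A =>
        (commutator_mono le_rfl le_top).trans (Subgroup.lowerCentralSeries_succ _ (k' + 1)).ge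
      rw [hWdef]
      refine commutator_sup_le ?_ (haux _)
      rw [commutator_comm]
      refine commutator_sup_le ?_ (haux _)
      rw [commutator_le]
      rintro _ ⟨i, rfl⟩ _ ⟨j, rfl⟩
      rw [commutatorElement_eq_one_iff_mul_comm.2 ((Commute.refl y).zpow_zpow i j).eq]
      exact one_mem _
    have hPLW : Cfsg.Lib.PGroup.Regular.PowLaw p W := by
      refine Cfsg.Lib.PGroup.Regular.powLaw_of_lcs ?_
      rw [← Subgroup.map_eq_bot_iff_of_injective _ W.subtype_injective,
        Subgroup.top_subtype_lowerCentralSeries, ← le_bot_iff]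
      have hW : ∀ j, 1 ≤ j → W.lowerCentralSeries j ≤ γ[k' + j + 1] := by
        intro j hj
        induction j, hj using Nat.le_induction with
        | base =>
          show W.lowerCentralSeries (0 + 1) ≤ _
          rw [Subgroup.lowerCentralSeries_succ, Subgroup.lowerCentralSeries_zero]
          exact hWW
        | succ j hj ihj =>
          rw [Subgroup.lowerCentralSeries_succ]
          refine (commutator_mono ihj le_top).trans ?_
          rw [show k' + (j + 1) + 1 = k' + j + 1 + 1 by omega]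
          exact (Subgroup.lowerCentralSeries_succ _ _).ge
      exact (hW (p - 1) (by omega)).trans (gamma_eq_bot h (by omega)).le
    have h1 := mul_pow_eq hPLW (fun z hz => hdeep z (hWW hz)) (mem_sup_right hck)
      (mem_sup_left (mem_zpowers y) : y ∈ W)
    have h2 : g * y * g⁻¹ = c * y := by rw [hc, commutatorElement_def]; group
    rw [← h2, conj_pow, mem_last_central h (hcen y hy) g, mul_inv_cancel_right] at h1
    exact mul_eq_right.mp h1.symm

theorem pow_eq_one (hp2 : p ≠ 2) {k : ℕ} (hk : 1 ≤ k) (hkp : n ≤ k + p) {x : X} (hx : x ∈ γ[k]) :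
    x ^ p = 1 :=
  (exponent_aux h hp2).1 k hk hkp x hx

/-- `℧₁(γ_k) ≤ γ_{k+p-1}`. -/
theorem pow_mem_gamma (hp2 : p ≠ 2) {k : ℕ} (hk : 1 ≤ k) {x : X} (hx : x ∈ γ[k]) :
    x ^ p ∈ γ[k + p - 1] := by
  have := hp.out.two_le
  rcases Nat.lt_or_ge (k + p) n with hlt | hge
  · have hq := isMax_quotient h (m := k + p - 1) (by omega) (by omega)
    have h1 := pow_eq_one hq hp2 hk (by omega) ((mk_mem_gamma h (by omega)).2 hx)
    rw [← map_pow] at h1
    exact (QuotientGroup.eq_one_iff _).1 h1
  · rw [pow_eq_one h hp2 hk hge hx]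
    exact one_mem _

/-- The two-step centralizers repeat with period `p - 1`. -/
theorem twoCent_shift (hp2 : p ≠ 2) {k : ℕ} (hk : 1 ≤ k) (hk' : k + p + 2 ≤ n) :
    twoCent X k = twoCent X (k + p - 1) := by
  have := hp.out.two_le
  obtain ⟨t, ht1, ht2, ht⟩ := exists_powers_eq h hp2 hk (by omega)
  have hle : powers p X k ≤ γ[k + p - 1] := (closure_le _).2 (by
    rintro _ ⟨w, hw, rfl⟩
    exact pow_mem_gamma h hp2 hk hw)
  rw [ht] at hle
  have htt : t = k + p - 1 := by
    have h1 := card_le_of_le hle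
    rw [card_gamma h t (by omega) (by omega), card_gamma h (k + p - 1) (by omega) (by omega)] at h1
    have := (Nat.pow_le_pow_iff_right hp.out.one_lt).1 h1
    omega
  subst htt
  refine eq_of_le_of_card_ge (twoCent_le_shift h hp2 hk hk' ht1 ht2 ht) (le_of_eq ?_)
  refine Nat.eq_of_mul_eq_mul_right hp.out.pos ?_
  calc Nat.card ↥(twoCent X (k + p - 1)) * p
      = Nat.card ↥(twoCent X (k + p - 1)) * (twoCent X (k + p - 1)).index := by
        rw [index_twoCent h (show 1 ≤ k + p - 1 by omega) (by omega)]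
    _ = Nat.card ↥(twoCent X k) * (twoCent X k).index := by rw [card_mul_index, card_mul_index]
    _ = _ := by rw [index_twoCent h hk (show k + 3 ≤ n by omega)]

theorem twoCent_le_imp_eq {i j : ℕ} (hi : 1 ≤ i) (hi' : i + 3 ≤ n) (hj : 1 ≤ j) (hj' : j + 3 ≤ n)
    (hle : twoCent X i ≤ twoCent X j) : twoCent X i = twoCent X j := by
  refine eq_of_le_of_card_ge hle (le_of_eq ?_)
  refine Nat.eq_of_mul_eq_mul_right hp.out.pos ?_
  conv_lhs => rw [← index_twoCent h hj hj', card_mul_index]
  conv_rhs => rw [← index_twoCent h hi hi', card_mul_index]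

omit [Finite X] in
/-- Conjugation by `g` on a commutator in degree close to the bottom. -/
theorem comm_step {i j : ℕ} (hij : n ≤ i + j + 4) {a b : X} (ha : a ∈ γ[i]) (hb : b ∈ γ[j]) (g : X) :
    ⁅g, ⁅a, b⁆⁆ = ⁅a, ⁅g, b⁆⁆ * ⁅⁅g, a⁆, b⁆ := by
  have hbot : ∀ {k : ℕ} {x : X}, n - 1 ≤ k → x ∈ γ[k] → x = 1 := by
    intro k x hk hx
    have := Subgroup.lowerCentralSeries_antitone (⊤ : Subgroup X) hk hx
    rwa [h.top, mem_bot] at this
  have hcen : ∀ {k : ℕ} {x : X}, n - 2 ≤ k → x ∈ γ[k] → ∀ y, x * y = y * x := by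
    intro k x hk hx y
    exact commutatorElement_eq_one_iff_mul_comm.mp (hbot (k := k + 1) (by omega) (mem_gamma_succ hx y))
  have hga : ⁅g, a⁆ ∈ γ[i + 1] := by
    rw [← commutatorElement_inv]; exact inv_mem (mem_gamma_succ ha g)
  have hgb : ⁅g, b⁆ ∈ γ[j + 1] := by
    rw [← commutatorElement_inv]; exact inv_mem (mem_gamma_succ hb g)
  set a' := ⁅g, a⁆ with ha'
  set b' := ⁅g, b⁆ with hb'
  set A := ⁅a, b⁆ with hA
  have h1 : ⁅a', b'⁆ = 1 := hbot (k := i + j + 3) (by omega) (comm_mem_top (by omega) hga hgb)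
  have h2 : b' * A = A * b' := commutatorElement_eq_one_iff_mul_comm.mp
    (hbot (k := i + j + 3) (by omega) (comm_mem_top (by omega) hgb
      (comm_mem_top (k := i + j + 1) le_rfl ha hb)))
  have hB1 := hcen (k := i + j + 2) (by omega) (comm_mem_top (by omega) ha hgb)
  have hB2 := hcen (k := i + j + 2) (by omega) (comm_mem_top (by omega) hga hb)
  have e1 : ⁅a, b' * b⁆ = ⁅a, b'⁆ * A := by
    calc ⁅a, b' * b⁆ = ⁅a, b'⁆ * (b' * A * b'⁻¹) := by
          rw [hA, commutatorElement_def, commutatorElement_def, commutatorElement_def]; group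
      _ = ⁅a, b'⁆ * A := by rw [h2, mul_inv_cancel_right]
  have e2 : ⁅a', b' * b⁆ = ⁅a', b⁆ := by
    calc ⁅a', b' * b⁆ = ⁅a', b'⁆ * (b' * ⁅a', b⁆ * b'⁻¹) := by
          rw [commutatorElement_def, commutatorElement_def, commutatorElement_def]; group
      _ = ⁅a', b⁆ := by rw [h1, one_mul, ← hB2 b', mul_inv_cancel_right]
  have e3 : a' * A = A * a' := commutatorElement_eq_one_iff_mul_comm.mp
    (hbot (k := i + j + 3) (by omega) (comm_mem_top (by omega) hga
      (comm_mem_top (k := i + j + 1) le_rfl ha hb)))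
  have e4 : g * A * g⁻¹ = ⁅a' * a, b' * b⁆ := by
    rw [hA, ha', hb', commutatorElement_def, commutatorElement_def, commutatorElement_def,
      commutatorElement_def]
    group
  have e5 : ⁅a' * a, b' * b⁆ = a' * ⁅a, b' * b⁆ * a'⁻¹ * ⁅a', b' * b⁆ := by
    rw [commutatorElement_def, commutatorElement_def, commutatorElement_def]; group
  have e6 : a' * (⁅a, b'⁆ * A) * a'⁻¹ = ⁅a, b'⁆ * A := by
    rw [← mul_assoc, ← hB1 a', mul_assoc ⁅a, b'⁆, e3, ← mul_assoc, mul_inv_cancel_right]
  calc ⁅g, A⁆ = g * A * g⁻¹ * A⁻¹ := commutatorElement_def g A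
    _ = ⁅a, b'⁆ * A * ⁅a', b⁆ * A⁻¹ := by rw [e4, e5, e1, e2, e6]
    _ = _ := by rw [mul_assoc ⁅a, b'⁆ A, ← hB2 A, ← mul_assoc, mul_inv_cancel_right]

/-- The iterated commutators of `s` with `g`. -/
def chain (g s : X) (i : ℕ) : X := (fun z => ⁅g, z⁆)^[i] s

omit hp h [Finite X] in
theorem chain_succ (g s : X) (i : ℕ) : chain g s (i + 1) = ⁅g, chain g s i⁆ :=
  Function.iterate_succ_apply' _ _ _

omit hp h [Finite X] in
theorem chain_mem (g s : X) : ∀ i, chain g s i ∈ (γ[i] : Subgroup X)
  | 0 => by rw [Subgroup.lowerCentralSeries_zero]; exact mem_top _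
  | i + 1 => by
    rw [chain_succ, ← commutatorElement_inv]
    exact inv_mem (mem_gamma_succ (chain_mem g s i) g)

omit hp h [Finite X] in
theorem map_chain {Y : Type*} [Group Y] (f : X →* Y) (g s : X) :
    ∀ i, f (chain g s i) = chain (f g) (f s) i
  | 0 => rfl
  | i + 1 => by rw [chain_succ, chain_succ, map_commutatorElement, map_chain f g s i]

theorem index_gamma_one : (γ[1] : Subgroup X).index = p ^ 2 := by
  have := h.three
  refine Nat.eq_of_mul_eq_mul_left (pow_pos hp.out.pos (n - 1 - 1)) ?_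
  rw [← pow_add, show n - 1 - 1 + 2 = n by omega, ← h.card, ← card_gamma h 1 le_rfl (by omega),
    card_mul_index]

/-- Two elements that differ modulo `γ₁` in a maximal subgroup generate. -/
theorem closure_pair_eq_top {P : Subgroup X} (hP : P.index = p) (h1 : (γ[1] : Subgroup X) ≤ P) {g s : X}
    (hg : g ∉ P) (hs : s ∈ P) (hs' : s ∉ γ[1]) : closure ({g, s} : Set X) = ⊤ := by
  refine frattini_nongenerating ?_
  rw [frattini_eq h, eq_top_iff]
  refine (Cfsg.Lib.PGroup.sup_zpowers_eq_top_of_index (p := p) hP hg).ge.trans (sup_le ?_ ?_)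
  swap
  · exact zpowers_le.2 (mem_sup_left (subset_closure (Set.mem_insert g _)))
  have hlt : (γ[1] : Subgroup X) < zpowers s ⊔ γ[1] :=
    lt_of_le_of_ne le_sup_right fun e => hs' (e ▸ mem_sup_left (mem_zpowers s))
  have h2 := index_strictAnti hlt
  rw [index_gamma_one h] at h2
  obtain ⟨i, hi⟩ := (isPGroup h).index (zpowers s ⊔ (γ[1] : Subgroup X))
  rw [hi] at h2
  have hi1 := (Nat.pow_lt_pow_iff_right hp.out.one_lt).1 h2
  have hle : zpowers s ⊔ γ[1] ≤ P := sup_le (zpowers_le.2 hs) h1
  have heq : zpowers s ⊔ γ[1] = P := by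
    refine eq_of_le_of_card_ge hle (Nat.le_of_mul_le_mul_right (c := p) ?_ hp.out.pos)
    calc Nat.card P * p = Nat.card P * P.index := by rw [hP]
      _ = Nat.card X := card_mul_index P
      _ = Nat.card ↥(zpowers s ⊔ (γ[1] : Subgroup X)) * p ^ i := by rw [← hi, card_mul_index]
      _ ≤ _ := Nat.mul_le_mul le_rfl (le_of_le_of_eq
            (Nat.pow_le_pow_right hp.out.pos (show i ≤ 1 by omega)) (pow_one p))
  rw [← heq]
  have hsmem : s ∈ closure ({g, s} : Set X) := subset_closure (by simp)
  exact sup_le_sup (zpowers_le.2 hsmem) le_rfl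

theorem chain_level {g s : X} (htop : closure ({g, s} : Set X) = ⊤) {m : ℕ} (hm : m + 2 ≤ n)
    (hg : ∀ i, 1 ≤ i → i < m → g ∉ twoCent X i) :
    ∀ i, 1 ≤ i → i ≤ m → chain g s i ∉ γ[i + 1] := by
  intro i hi
  induction i, hi using Nat.le_induction with
  | base =>
    intro _ hc
    have h1 := Cfsg.Lib.PGroup.Regular.commutator_le_of_pair htop
      (show ⁅g, s⁆ ∈ (γ[1 + 1] : Subgroup X) from hc)
    rw [← Subgroup.top_lowerCentralSeries_one] at h1
    have h2 := card_le_of_le h1
    rw [card_gamma h 1 le_rfl (by omega), card_gamma h (1 + 1) (by omega) (by omega)] at h2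
    have := (Nat.pow_le_pow_iff_right hp.out.one_lt).1 h2
    omega
  | succ i hi ih =>
    intro him hc
    refine hg i hi (by omega) (mem_twoCent.2 (comm_level h hi (chain_mem g s i) (ih (by omega)) ?_))
    rw [← commutatorElement_inv]
    exact inv_mem (show ⁅g, chain g s i⁆ ∈ _ from chain_succ g s i ▸ hc)

omit [Finite X] in
/-- The alternation of the commutators of a chain, for `g` centralizing `γ_{n-3}`. -/
theorem alt {g : X} (hg : g ∈ twoCent X (n - 3)) (s : X) {i j : ℕ} (hij : i + j + 4 = n) :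
    ⁅chain g s (i + 1), chain g s j⁆ = ⁅chain g s i, chain g s (j + 1)⁆⁻¹ := by
  have h1 := comm_step h (by omega) (chain_mem g s i) (chain_mem g s j) g
  rw [← chain_succ, ← chain_succ] at h1
  have h2 : ⁅g, ⁅chain g s i, chain g s j⁆⁆ = 1 := by
    have h3 := mem_twoCent.1 hg _ (comm_mem_top (k := n - 3) (by omega) (chain_mem g s i) (chain_mem g s j))
    rw [show n - 3 + 2 = n - 1 by omega, h.top, mem_bot] at h3
    rw [← commutatorElement_inv, h3, inv_one]
  rw [h2] at h1
  exact eq_inv_of_mul_eq_one_right h1.symm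

/-- An exceptional group has even exponent and order at most `p ^ (p + 1)`. -/
theorem exceptional (hp2 : p ≠ 2) {P : Subgroup X} (h5 : 5 ≤ n)
    (hP : ∀ i, 1 ≤ i → i + 4 ≤ n → twoCent X i = P) (hne : twoCent X (n - 3) ≠ P) :
    Even n ∧ n ≤ p + 1 := by
  have hev : Even n := by
    by_contra hodd
    rw [Nat.not_even_iff_odd] at hodd
    obtain ⟨r, hr⟩ := hodd
    have hP1 : P = twoCent X 1 := (hP 1 le_rfl (by omega)).symm
    have hMidx := index_twoCent h (k := n - 3) (by omega) (by omega)
    have hPidx : P.index = p := by rw [hP1]; exact index_twoCent h le_rfl (by omega)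
    obtain ⟨g, hgM, hgP⟩ := SetLike.not_le_iff_exists.1 fun hle => hne
      (hP1 ▸ twoCent_le_imp_eq h (by omega) (by omega) le_rfl (by omega) (hP1 ▸ hle))
    obtain ⟨s, hsP, hsM⟩ := SetLike.not_le_iff_exists.1 fun hle => hne
      (hP1 ▸ (twoCent_le_imp_eq h le_rfl (by omega) (by omega) (by omega) (hP1 ▸ hle)).symm)
    have hs1 : s ∉ (γ[1] : Subgroup X) := fun hc => hsM (gamma_one_le_twoCent _ hc)
    have htop := closure_pair_eq_top h hPidx (hP1 ▸ gamma_one_le_twoCent 1) hgP hsP hs1
    have hlev := chain_level h htop (m := n - 3) (by omega) (fun i hi hi' => by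
      rw [hP i hi (by omega)]; exact hgP) (n - 3) (by omega) le_rfl
    have hA : ∀ d, d ≤ r - 1 → ⁅chain g s (r - 1 - d), chain g s (r - 1 + d)⁆ = 1 := by
      intro d
      induction d with
      | zero =>
        intro _
        rw [Nat.sub_zero, Nat.add_zero, commutatorElement_eq_one_iff_mul_comm]
      | succ d ih =>
        intro hd
        have h1 := alt h hgM s (i := r - 1 - (d + 1)) (j := r - 1 + d) (by omega)
        rw [show r - 1 - (d + 1) + 1 = r - 1 - d by omega, ih (by omega),
          show r - 1 + d + 1 = r - 1 + (d + 1) by omega, eq_comm, inv_eq_one] at h1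
        exact h1
    have h0 := hA (r - 1) le_rfl
    rw [Nat.sub_self, show r - 1 + (r - 1) = n - 3 by omega] at h0
    refine hsM (mem_twoCent.2 (comm_level h (by omega) (chain_mem g s (n - 3)) hlev ?_))
    rw [← commutatorElement_inv, show ⁅s, chain g s (n - 3)⁆ = 1 from h0, inv_one]
    exact one_mem _
  refine ⟨hev, ?_⟩
  by_contra hbig
  rcases Nat.eq_or_lt_of_le (show p + 2 ≤ n by omega) with heq | hlt
  · obtain ⟨r, hr⟩ := hev
    obtain ⟨q, hq⟩ := hp.out.odd_of_ne_two hp2
    omega
  · have := hp.out.two_le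
    refine hne ?_
    rw [← hP (n - p - 2) (by omega) (by omega), twoCent_shift h hp2 (k := n - p - 2) (by omega) (by omega)]
    congr 1
    omega

omit [Finite X] in
theorem comm_inv_mul {x z : X} (hx : x ∈ γ[n - 3]) (hz : z ∈ γ[n - 2]) (g : X) :
    ⁅g, x⁻¹ * z⁆ = ⁅g, x⁆⁻¹ := by
  have hb : ∀ y ∈ (γ[n - 2] : Subgroup X), ∀ w : X, y * w = w * y := by
    intro y hy w
    have := mem_gamma_succ hy w
    rw [show n - 2 + 1 = n - 1 by have := h.three; omega, h.top, mem_bot] at this
    exact commutatorElement_eq_one_iff_mul_comm.mp this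
  have hc : ⁅g, x⁆ ∈ (γ[n - 2] : Subgroup X) := by
    rw [← commutatorElement_inv]
    refine inv_mem (Subgroup.lowerCentralSeries_antitone _ (show n - 2 ≤ n - 3 + 1 by omega) ?_)
    exact mem_gamma_succ hx g
  have e1 : g * z * g⁻¹ = z := by rw [← hb z hz g, mul_inv_cancel_right]
  calc ⁅g, x⁻¹ * z⁆ = g * x⁻¹ * g⁻¹ * (g * z * g⁻¹) * z⁻¹ * x := by rw [commutatorElement_def]; group
    _ = g * x⁻¹ * g⁻¹ * x := by rw [e1]; group
    _ = x⁻¹ * ⁅g, x⁆⁻¹ * x := by rw [commutatorElement_def]; group
    _ = _ := by rw [mul_assoc, hb _ (inv_mem hc) x, inv_mul_cancel_left]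

omit hp h [Finite X] in
/-- The three subgroup lemma modulo a normal subgroup. -/
theorem commutator_le_of_rotate {H₁ H₂ H₃ N : Subgroup X} [N.Normal] (h1 : ⁅⁅H₂, H₃⁆, H₁⁆ ≤ N)
    (h2 : ⁅⁅H₃, H₁⁆, H₂⁆ ≤ N) : ⁅⁅H₁, H₂⁆, H₃⁆ ≤ N := by
  have key : ∀ K : Subgroup X, K ≤ N ↔ K.map (QuotientGroup.mk' N) = ⊥ := fun K => by
    rw [Subgroup.map_eq_bot_iff, QuotientGroup.ker_mk']
  rw [key, map_commutator, map_commutator] at h1 h2 ⊢
  exact commutator_commutator_eq_bot_of_rotate h1 h2

/-- Blackburn: the two-step centralizers of `γ_k / γ_{k+2}`, `k ≤ n - 4`, coincide. -/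
theorem twoCent_eq (hp2 : p ≠ 2) :
    ∀ i, 1 ≤ i → i + 4 ≤ n → twoCent X i = twoCent X 1 := by
  induction n using Nat.strong_induction_on generalizing X with
  | _ n ih =>
  intro i hi hin
  rcases Nat.lt_or_ge n 6 with hn6 | hn6
  · rw [show i = 1 by omega]
  have hq := isMax_quotient h (m := n - 2) (by omega) (by omega)
  rw [show n - 2 + 1 = n - 1 by omega] at hq
  set π := QuotientGroup.mk' (γ[n - 2] : Subgroup X) with hπ
  have hcomap : ∀ j, 1 ≤ j → j + 4 ≤ n →
      twoCent X j = (twoCent (X ⧸ (γ[n - 2] : Subgroup X)) j).comap π := by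
    intro j hj hj'
    ext g
    rw [mem_comap, mem_twoCent, mem_twoCent]
    constructor
    · intro hg b hb
      obtain ⟨b, rfl⟩ := QuotientGroup.mk'_surjective _ b
      rw [← map_commutatorElement]
      exact (mk_mem_gamma h (by omega)).2 (hg b ((mk_mem_gamma h (by omega)).1 hb))
    · intro hg b hb
      refine (mk_mem_gamma h (m := n - 2) (by omega)).1 ?_
      rw [map_commutatorElement]
      exact hg _ ((mk_mem_gamma h (by omega)).2 hb)
  set P := twoCent X 1 with hP
  have hsmall : ∀ j, 1 ≤ j → j + 5 ≤ n → twoCent X j = P := fun j hj hj' => by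
    rw [hP, hcomap j hj (by omega), hcomap 1 le_rfl (by omega), ih (n - 1) (by omega) hq j hj (by omega)]
  rcases Nat.lt_or_ge (i + 4) n with hlt | hge
  · exact hsmall i hi (by omega)
  obtain rfl : i = n - 4 := by omega
  have hPidx : P.index = p := index_twoCent h le_rfl (by omega)
  by_contra hne
  by_cases hM : twoCent X (n - 3) = P
  swap
  · -- three subgroups
    refine hne (twoCent_le_imp_eq h le_rfl (by omega) hi (by omega) fun x hx => ?_).symm
    have hstep : ∀ a b, 1 ≤ a → 1 ≤ b → a + b + 4 = n →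
        ⁅(γ[a] : Subgroup X), (γ[b] : Subgroup X)⁆ ≤ γ[n - 2] := by
      intro a b ha hb hab
      have hP1 : ∀ c, 1 ≤ c → c + 5 ≤ n → ⁅(γ[c] : Subgroup X), P⁆ ≤ γ[c + 2] := by
        intro c hc hc'
        rw [commutator_le]
        intro u hu v hv
        rw [← hsmall c hc hc'] at hv
        exact mem_twoCent.1 hv u hu
      have h3 : ⁅⁅(γ[a] : Subgroup X), (γ[b] : Subgroup X)⁆, P⁆ = ⊥ := by
        refine commutator_commutator_eq_bot_of_rotate ?_ ?_ <;> rw [← le_bot_iff]
        · refine (commutator_mono (hP1 b hb (by omega)) le_rfl).trans ?_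
          exact (commutator_lcs_mem (by omega)).trans (gamma_eq_bot h (le_refl _)).le
        · rw [commutator_comm P]
          refine (commutator_mono (hP1 a ha (by omega)) le_rfl).trans ?_
          exact (commutator_lcs_mem (by omega)).trans (gamma_eq_bot h (le_refl _)).le
      by_contra hnle
      have heq : ⁅(γ[a] : Subgroup X), (γ[b] : Subgroup X)⁆ = γ[n - 3] :=
        eq_gamma_of_normal h (by omega) (commutator_lcs_mem (by omega)) (by
          rwa [show n - 3 + 1 = n - 2 by omega])
      rw [heq] at h3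
      refine hM (twoCent_le_imp_eq h le_rfl (by omega) (by omega) (by omega) fun y hy =>
        mem_twoCent.2 fun u hu => ?_).symm
      have := commutator_mem_commutator hu hy
      rw [h3, mem_bot] at this
      rw [this]
      exact one_mem _
    have hgen : ⁅(γ[n - 4] : Subgroup X), P⁆ ≤ γ[n - 2] := by
      have e : (γ[n - 4] : Subgroup X) = ⁅(γ[n - 5] : Subgroup X), (⊤ : Subgroup X)⁆ := by
        rw [show n - 4 = n - 5 + 1 by omega, Subgroup.lowerCentralSeries_succ]
      rw [e]
      refine commutator_le_of_rotate ?_ ?_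
      · refine le_trans ?_ (hstep 1 (n - 5) le_rfl (by omega) (by omega))
        refine commutator_mono ?_ le_rfl
        rw [show (1 : ℕ) = 0 + 1 from rfl, Subgroup.lowerCentralSeries_succ, Subgroup.lowerCentralSeries_zero]
        exact commutator_mono le_rfl le_top
      · rw [commutator_comm P]
        refine le_trans (commutator_mono ?_ le_rfl) (commutator_lcs_mem (j := 0) (k := n - 2)
          (i := n - 3) (by omega) |>.trans' (commutator_mono le_rfl (Subgroup.lowerCentralSeries_zero _).ge))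
        rw [commutator_le]
        intro u hu v hv
        rw [← hsmall (n - 5) (by omega) (by omega)] at hv
        have := mem_twoCent.1 hv u hu
        rwa [show n - 5 + 2 = n - 3 by omega] at this
    refine mem_twoCent.2 fun b hb => ?_
    rw [show n - 4 + 2 = n - 2 by omega]
    exact hgen (commutator_mem_commutator hb hx)
  · -- the quotient would be exceptional
    have hneq : twoCent (X ⧸ (γ[n - 2] : Subgroup X)) (n - 4) ≠
        twoCent (X ⧸ (γ[n - 2] : Subgroup X)) 1 := fun e => hne (by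
      rw [hP, hcomap (n - 4) hi (by omega), hcomap 1 le_rfl (by omega), e])
    obtain ⟨hev, hbound⟩ := exceptional hq hp2 (by omega) (P := twoCent (X ⧸ (γ[n - 2] : Subgroup X)) 1)
      (fun j hj hj' => ih (n - 1) (by omega) hq j hj (by omega))
      (by rwa [show n - 1 - 3 = n - 4 by omega])
    obtain ⟨r, hr⟩ := hev
    set L := twoCent X (n - 4) with hL
    have hLP : ¬ L ≤ P := fun hle =>
      hne (twoCent_le_imp_eq h hi (by omega) le_rfl (by omega) hle)
    have hPL : ¬ P ≤ L := fun hle =>
      hne (twoCent_le_imp_eq h le_rfl (by omega) hi (by omega) hle).symm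
    obtain ⟨g, hgL, hgP⟩ := SetLike.not_le_iff_exists.1 hLP
    obtain ⟨s, hsP, hsL⟩ := SetLike.not_le_iff_exists.1 hPL
    have hs1 : s ∉ (γ[1] : Subgroup X) := fun hc => hsL (gamma_one_le_twoCent _ hc)
    have htop := closure_pair_eq_top h hPidx (gamma_one_le_twoCent 1) hgP hsP hs1
    have hlev := chain_level h htop (m := n - 4) (by omega)
      (fun j hj hj' => by rw [hsmall j hj (by omega)]; exact hgP) (n - 4) hi le_rfl
    set A : ℕ → X := fun a => ⁅chain g s a, chain g s (n - 4 - a)⁆ with hA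
    set B : ℕ → X := fun a => ⁅chain g s a, chain g s (n - 3 - a)⁆ with hB
    have hAmem : ∀ a, a ≤ n - 4 → A a ∈ γ[n - 3] := fun a ha =>
      comm_mem_top (by omega) (chain_mem g s a) (chain_mem g s _)
    have hgq : π g ∈ twoCent (X ⧸ (γ[n - 2] : Subgroup X)) (n - 1 - 3) := by
      rw [show n - 1 - 3 = n - 4 by omega]
      rw [hL, hcomap (n - 4) hi (by omega)] at hgL
      exact hgL
    have halt : ∀ a, a + 5 ≤ n → A a * A (a + 1) ∈ γ[n - 2] := by
      intro a ha
      have h1 := alt hq hgq (π s) (i := a) (j := n - 5 - a) (by omega)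
      rw [← map_chain, ← map_chain, ← map_chain, ← map_chain, ← map_commutatorElement,
        ← map_commutatorElement, show n - 5 - a + 1 = n - 4 - a by omega,
        show n - 5 - a = n - 4 - (a + 1) by omega, eq_inv_iff_mul_eq_one, ← map_mul] at h1
      have h2 := (QuotientGroup.eq_one_iff _).1 h1
      show A a * A (a + 1) ∈ _
      have h3 := (inferInstance : (γ[n - 2] : Subgroup X).Normal).conj_mem _ h2 (A a)
      rwa [← mul_assoc, mul_inv_cancel_right] at h3
    set w := ⁅g, A 0⁆ with hw
    have hw' : ∀ a, a + 4 ≤ n → ⁅g, A a⁆ = w ^ ((-1 : ℤ) ^ a) := by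
      intro a
      induction a with
      | zero => intro _; simp [hw]
      | succ a iha =>
        intro ha
        rw [← inv_mul_cancel_left (A a) (A (a + 1)),
          comm_inv_mul h (hAmem a (by omega)) (halt a (by omega)) g, iha (by omega), ← zpow_neg, pow_succ,
          mul_neg_one]
    have hB' : ∀ a, a + 3 ≤ n → B a = w ^ ((-1 : ℤ) ^ (a + 1) * a) := by
      intro a
      induction a with
      | zero =>
        intro _
        have hsM : s ∈ twoCent X (n - 3) := hM ▸ hsP
        have h1 := mem_twoCent.1 hsM _ (chain_mem g s (n - 3))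
        rw [show n - 3 + 2 = n - 1 by omega, h.top, mem_bot] at h1
        show ⁅chain g s 0, chain g s (n - 3 - 0)⁆ = _
        rw [Nat.sub_zero, ← commutatorElement_inv, show chain g s 0 = s from rfl, h1]
        simp
      | succ a iha =>
        intro ha
        have h1 := comm_step h (show n ≤ a + (n - 4 - a) + 4 by omega) (chain_mem g s a)
          (chain_mem g s (n - 4 - a)) g
        rw [← chain_succ, ← chain_succ, show n - 4 - a + 1 = n - 3 - a by omega] at h1
        have h2 : w ^ ((-1 : ℤ) ^ a) = B a * ⁅chain g s (a + 1), chain g s (n - 4 - a)⁆ := by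
          rw [← hw' a (by omega)]; exact h1
        rw [iha (by omega)] at h2
        show ⁅chain g s (a + 1), chain g s (n - 3 - (a + 1))⁆ = _
        rw [show n - 3 - (a + 1) = n - 4 - a by omega, ← mul_right_inj (w ^ ((-1 : ℤ) ^ (a + 1) * a)), ← h2,
          ← zpow_add]
        congr 1
        push_cast
        ring
    have hmid := hB' (r - 1) (by omega)
    have hB0 : B (r - 1) = 1 := by
      show ⁅chain g s (r - 1), chain g s (n - 3 - (r - 1))⁆ = 1
      rw [show n - 3 - (r - 1) = r - 1 by omega, commutatorElement_eq_one_iff_mul_comm]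
    rw [hB0] at hmid
    have hA0 : A 0 ∉ γ[n - 2] := by
      intro hc
      refine hsL (mem_twoCent.2 (comm_level h hi (chain_mem g s (n - 4)) hlev ?_))
      rw [show n - 4 + 2 = n - 2 by omega, ← commutatorElement_inv]
      refine inv_mem ?_
      simpa [hA, show chain g s 0 = s from rfl] using hc
    have hw1 : w ≠ 1 := by
      intro hw1
      refine hgP (hM ▸ mem_twoCent.2 (comm_level h (by omega) (hAmem 0 (by omega)) ?_ ?_))
      · rwa [show n - 3 + 1 = n - 2 by omega]
      · rw [← commutatorElement_inv, ← hw, hw1, inv_one]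
        exact one_mem _
    have hwp : w ^ p = 1 := by
      refine pow_eq_one h hp2 (k := n - 2) (by omega) (by omega) ?_
      rw [hw, ← commutatorElement_inv]
      refine inv_mem (Subgroup.lowerCentralSeries_antitone _ (show n - 2 ≤ n - 3 + 1 by omega) ?_)
      exact mem_gamma_succ (hAmem 0 (by omega)) g
    have hord := orderOf_eq_prime hwp hw1
    have h1 := orderOf_dvd_iff_zpow_eq_one.2 hmid.symm
    rw [hord, (isUnit_neg_one.pow _).dvd_mul_left, Int.natCast_dvd_natCast] at h1
    have := Nat.le_of_dvd (by omega) h1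
    omega

end Cfsg.Lib.PGroup.Degree
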