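import Cfsg.Agent.Lib.PGroup.MaximalClass
import Cfsg.Agent.Lib.PGroup.CentralizerSq
import Cfsg.Agent.Lib.TwoGroup.MaximalClass

/-!
# Uniform elements in `p`-groups of maximal class

Outside any proper subgroup of a `p`-group of maximal class there is an element whose centralizer
has order `p²`. For odd `p` the two-step centralizers repeat themselves along the `p`-th power
maps, so at most `p - 1` of them are different.
-/

set_option autoImplicit false
set_option linter.unusedSectionVars false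

namespace Cfsg.Lib.PGroup.Uniform

open Subgroup Cfsg.Lib.PGroup.MaxClass
open scoped commutatorElement

universe u

variable {p : ℕ} [hp : Fact p.Prime] {X : Type u} [Group X]

local notation:max "γ[" k "]" => (Subgroup.lowerCentralSeries (⊤ : Subgroup _) k)

/-- The two-step centralizer: the centralizer of `γ_k / γ_{k+2}`. -/
def twoCent (X : Type u) [Group X] (k : ℕ) : Subgroup X :=
  (centralizer (((γ[k] : Subgroup X).map (QuotientGroup.mk' (γ[k + 2] : Subgroup X))) :
    Set (X ⧸ (γ[k + 2] : Subgroup X)))).comap (QuotientGroup.mk' (γ[k + 2] : Subgroup X))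

theorem mem_twoCent {k : ℕ} {g : X} : g ∈ twoCent X k ↔ ∀ b ∈ (γ[k] : Subgroup X), ⁅b, g⁆ ∈ γ[k + 2] := by
  rw [twoCent, mem_comap, mem_centralizer_iff]
  constructor
  · intro h b hb
    rw [← QuotientGroup.eq_one_iff, ← QuotientGroup.mk'_apply, map_commutatorElement,
      commutatorElement_eq_one_iff_mul_comm]
    exact h _ (mem_map_of_mem _ hb)
  · rintro h _ ⟨b, hb, rfl⟩
    refine commutatorElement_eq_one_iff_mul_comm.mp ?_
    rw [← map_commutatorElement]
    exact (QuotientGroup.eq_one_iff _).mpr (h b hb)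

theorem gamma_one_le_twoCent (k : ℕ) : (γ[1] : Subgroup X) ≤ twoCent X k := fun _ hg =>
  mem_twoCent.2 fun _ hb => commutator_lcs_mem (by omega) (commutator_mem_commutator hb hg)

/-- The `p`-th powers of `γ_k`. -/
def powers (p : ℕ) (X : Type u) [Group X] (k : ℕ) : Subgroup X :=
  closure {z : X | ∃ w ∈ (γ[k] : Subgroup X), z = w ^ p}

instance powers_normal (k : ℕ) : (powers p X k).Normal := by
  refine ⟨fun u hu g => ?_⟩
  have : powers p X k ≤ (powers p X k).comap (MulAut.conj g).toMonoidHom := by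
    refine (closure_le _).2 ?_
    rintro _ ⟨a, ha, rfl⟩
    exact subset_closure ⟨g * a * g⁻¹, (inferInstance : (γ[k] : Subgroup X).Normal).conj_mem a ha g,
      by simp [conj_pow]⟩
  exact this hu

theorem powers_antitone {k l : ℕ} (h : k ≤ l) : powers p X l ≤ powers p X k :=
  closure_mono fun _ ⟨w, hw, e⟩ => ⟨w, Subgroup.lowerCentralSeries_antitone _ h hw, e⟩

/-- Finitely many proper subgroups, at most `p` of them, do not cover a `p`-group. -/
theorem exists_avoid [Finite X] {ι : Type*} (s : Finset ι) (K : ι → Subgroup X) (hX : IsPGroup p X)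
    (hs : s.card ≤ p) (hK : ∀ i ∈ s, K i ≠ ⊤) (hne : 1 < Nat.card X) : ∃ x : X, ∀ i ∈ s, x ∉ K i := by
  classical
  haveI := Fintype.ofFinite X
  obtain ⟨m, hm⟩ := IsPGroup.iff_card.1 hX
  obtain ⟨N, rfl⟩ : ∃ N, m = N + 1 := ⟨m - 1, by
    rcases Nat.eq_zero_or_pos m with rfl | h
    · rw [hm, pow_zero] at hne; omega
    · omega⟩
  have hle : ∀ i ∈ s, Nat.card (K i) ≤ p ^ N := by
    intro i hi
    obtain ⟨j, hj, hjc⟩ := (Nat.dvd_prime_pow hp.out).1 (hm ▸ (K i).card_subgroup_dvd_card)
    rw [hjc]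
    refine Nat.pow_le_pow_right hp.out.pos ?_
    by_contra hlt
    exact hK i hi (Subgroup.eq_top_of_card_eq _ (by rw [hjc, hm]; congr 1; omega))
  by_contra hall
  push Not at hall
  have h1 : (Finset.univ : Finset X).erase 1 ⊆
      s.biUnion fun i => (Finset.univ.filter (· ∈ K i)).erase 1 := fun x hx => by
    obtain ⟨i, hi, hxi⟩ := hall x
    exact Finset.mem_biUnion.2 ⟨i, hi, Finset.mem_erase.2
      ⟨(Finset.mem_erase.1 hx).1, Finset.mem_filter.2 ⟨Finset.mem_univ _, hxi⟩⟩⟩
  have h2 := (Finset.card_le_card h1).trans (Finset.card_biUnion_le_card_mul _ _ (p ^ N - 1) fun i hi => by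
    rw [Finset.card_erase_of_mem (Finset.mem_filter.2 ⟨Finset.mem_univ _, one_mem _⟩)]
    refine Nat.sub_le_sub_right (le_trans (le_of_eq ?_) (hle i hi)) 1
    rw [Nat.card_eq_fintype_card, Fintype.card_subtype])
  rw [Finset.card_erase_of_mem (Finset.mem_univ _), Finset.card_univ, ← Nat.card_eq_fintype_card, hm] at h2
  have h3 := h2.trans (Nat.mul_le_mul_right _ hs)
  have h4 : 1 ≤ p ^ N := Nat.one_le_pow _ _ hp.out.pos
  have h5 : p * 1 ≤ p * p ^ N := Nat.mul_le_mul le_rfl h4
  rw [Nat.mul_sub, ← pow_succ'] at h3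
  rw [← pow_succ'] at h5
  have := hp.out.two_le
  omega

variable [Finite X] {n : ℕ} (h : IsMax p X n)
include h

theorem exists_of_level {k : ℕ} (hk : 1 ≤ k) (hk' : k + 2 ≤ n) :
    ∃ a : X, a ∈ γ[k] ∧ a ∉ γ[k + 1] := by
  by_contra hall
  push Not at hall
  have h2 := card_le_of_le (show (γ[k] : Subgroup X) ≤ γ[k + 1] from hall)
  rw [card_gamma h k hk (by omega), card_gamma h (k + 1) (by omega) (by omega)] at h2
  have := (Nat.pow_le_pow_iff_right hp.out.one_lt).1 h2
  omega

theorem index_twoCent {k : ℕ} (hk : 1 ≤ k) (hk' : k + 3 ≤ n) : (twoCent X k).index = p := by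
  obtain ⟨a, ha, ha'⟩ := exists_of_level h hk (by omega)
  set π := QuotientGroup.mk' (γ[k + 2] : Subgroup X) with hπ
  have hmem : ∀ g : X, g ∈ twoCent X k ↔ ⁅a, g⁆ ∈ γ[k + 2] := fun g =>
    ⟨fun hg => mem_twoCent.1 hg a ha, fun hg => mem_twoCent.2 (comm_level h hk ha ha' hg)⟩
  have hin : ∀ g : X, ⁅g, a⁆ ∈ γ[k + 1] := fun g => by
    rw [← commutatorElement_inv]; exact inv_mem (mem_gamma_succ ha g)
  have hcen : ∀ g : X, π ⁅g, a⁆ ∈ center (X ⧸ (γ[k + 2] : Subgroup X)) := fun g => mem_center_mod (hin g)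
  let f : X →* center (X ⧸ (γ[k + 2] : Subgroup X)) := MonoidHom.mk' (fun g => ⟨π ⁅g, a⁆, hcen g⟩) (by
    intro g g'
    refine Subtype.ext ?_
    show π ⁅g * g', a⁆ = π ⁅g, a⁆ * π ⁅g', a⁆
    have e : ⁅g * g', a⁆ = g * ⁅g', a⁆ * g⁻¹ * ⁅g, a⁆ := by
      simp only [commutatorElement_def]; group
    rw [e, map_mul, map_mul, map_mul, map_inv, mem_center_iff.1 (hcen g') (π g), mul_inv_cancel_right,
      mem_center_iff.1 (hcen g) (π ⁅g', a⁆)])
  have hker : f.ker = twoCent X k := by
    ext g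
    rw [MonoidHom.mem_ker, hmem]
    show (⟨π ⁅g, a⁆, hcen g⟩ : center (X ⧸ (γ[k + 2] : Subgroup X))) = 1 ↔ _
    rw [Subtype.ext_iff]
    show π ⁅g, a⁆ = 1 ↔ _
    rw [hπ, QuotientGroup.mk'_apply, QuotientGroup.eq_one_iff, ← commutatorElement_inv, inv_mem_iff]
  have hle : Nat.card f.range ≤ p := by
    have hq := isMax_quotient h (m := k + 2) (by omega) (by omega)
    have hc := card_gamma hq (k + 1) (by omega) (by omega)
    rw [show k + 2 + 1 - 1 - (k + 1) = 1 by omega, pow_one] at hc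
    refine le_of_le_of_eq ?_ hc
    refine Nat.card_le_card_of_injective (fun r => ⟨((r : center (X ⧸ (γ[k + 2] : Subgroup X))) : X ⧸ (γ[k + 2] : Subgroup X)), ?_⟩) ?_
    · obtain ⟨g, hg⟩ := r.2
      rw [← hg]
      exact (mk_mem_gamma h (by omega)).2 (hin g)
    · intro r s hrs
      exact Subtype.ext (Subtype.ext (Subtype.mk.inj hrs))
  rw [← index_ker f, hker] at hle
  obtain ⟨i, hi⟩ := (isPGroup h).index (twoCent X k)
  rw [hi] at hle ⊢
  have hi0 : i ≠ 0 := by
    rintro rfl
    obtain ⟨g, hg⟩ := exists_comm_ne h hk hk' ha ha'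
    rw [pow_zero, index_eq_one] at hi
    exact hg ((hmem g).1 (hi ▸ mem_top g))
  have hi1 : i ≤ 1 := (Nat.pow_le_pow_iff_right hp.out.one_lt).1 (by rwa [pow_one])
  rw [show i = 1 by omega, pow_one]

theorem twoCent_ne_top {k : ℕ} (hk : 1 ≤ k) (hk' : k + 3 ≤ n) : twoCent X k ≠ ⊤ := fun e => by
  have := index_twoCent h hk hk'
  rw [e, index_top] at this
  exact hp.out.ne_one this.symm

theorem powers_le_succ (k : ℕ) : powers p X k ≤ γ[k + 1] :=
  (closure_le _).2 (by rintro _ ⟨w, hw, rfl⟩; exact pow_mem_gamma_succ h hw)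

theorem powers_lt (hp2 : p ≠ 2) {k : ℕ} (hk : 1 ≤ k) (hk' : k + p + 1 ≤ n) :
    ¬ powers p X k ≤ powers p X (k + 1) ⊔ γ[k + p] := by
  intro hle
  obtain ⟨a, ha, ha'⟩ := exists_of_level h hk (by have := hp.out.two_le; omega)
  exact pow_not_mem h hp2 hk hk' ha ha' (hle (subset_closure ⟨a, ha, rfl⟩))

/-- `℧₁(γ_k)` is some `γ_t` with `k < t < k + p`. -/
theorem exists_powers_eq (hp2 : p ≠ 2) {k : ℕ} (hk : 1 ≤ k) (hk' : k + p + 1 ≤ n) :
    ∃ t, k + 1 ≤ t ∧ t + 1 ≤ k + p ∧ powers p X k = γ[t] := by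
  classical
  have hnp : ¬ powers p X k ≤ γ[k + p] := fun hle => powers_lt h hp2 hk hk' (hle.trans le_sup_right)
  have hex : ∃ t, ¬ powers p X k ≤ γ[t + 1] := ⟨k + p - 1, by rwa [show k + p - 1 + 1 = k + p by omega]⟩
  have h1 : ¬ powers p X k ≤ γ[Nat.find hex + 1] := Nat.find_spec hex
  have h2 : Nat.find hex ≤ k + p - 1 := Nat.find_min' hex (by rwa [show k + p - 1 + 1 = k + p by omega])
  have h3 : k + 1 ≤ Nat.find hex := by
    by_contra hc
    exact h1 ((powers_le_succ h k).trans (Subgroup.lowerCentralSeries_antitone _ (by omega)))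
  have h4 : powers p X k ≤ γ[Nat.find hex] := by
    have := Nat.find_min hex (show Nat.find hex - 1 < Nat.find hex by omega)
    rwa [not_not, show Nat.find hex - 1 + 1 = Nat.find hex by omega] at this
  exact ⟨Nat.find hex, h3, by omega, eq_gamma_of_normal h (by omega) h4 h1⟩

theorem powers_succ_le (hp2 : p ≠ 2) {k t : ℕ} (hk : 1 ≤ k) (hk' : k + p + 1 ≤ n) (ht : 1 ≤ t)
    (hle : powers p X k ≤ γ[t]) : powers p X (k + 1) ≤ γ[t + 1] := by
  by_contra hne
  have heq := eq_gamma_of_normal h ht ((powers_antitone (by omega)).trans hle) hne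
  exact powers_lt h hp2 hk hk' (hle.trans (heq.ge.trans le_sup_left))

theorem twoCent_le_shift (hp2 : p ≠ 2) {k t : ℕ} (hk : 1 ≤ k) (hk' : k + p + 2 ≤ n) (ht1 : k + 1 ≤ t)
    (ht2 : t + 1 ≤ k + p) (ht : powers p X k = γ[t]) : twoCent X k ≤ twoCent X t := by
  intro g hg
  have hU2 : powers p X (k + 2) ≤ γ[t + 2] :=
    powers_succ_le h hp2 (by omega) (by omega) (by omega) (powers_succ_le h hp2 hk (by omega) (by omega) ht.le)
  set π := QuotientGroup.mk' (γ[t + 2] : Subgroup X) with hπ
  have hq := isMax_quotient h (m := t + 2) (by omega) (by omega)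
  have hexp : ∀ y ∈ (γ[k + 2] : Subgroup (X ⧸ (γ[t + 2] : Subgroup X))), y ^ p = 1 := by
    intro y hy
    obtain ⟨w, rfl⟩ := QuotientGroup.mk'_surjective _ y
    rw [← map_pow]
    exact (QuotientGroup.eq_one_iff _).2 (hU2 (subset_closure ⟨w, (mk_mem_gamma h (by omega)).1 hy, rfl⟩))
  set W := (γ[k] : Subgroup (X ⧸ (γ[t + 2] : Subgroup X))) with hW
  have hPL : Cfsg.Lib.PGroup.Regular.PowLaw p W := powLaw_gamma hq hp2 hk (by omega) le_rfl
  have hWW : ⁅W, W⁆ ≤ γ[k + 2] := commutator_lcs_mem (by omega)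
  refine mem_twoCent.2 ?_
  suffices hs : (γ[t] : Subgroup X) ≤ (centralizer ({π g} : Set (X ⧸ (γ[t + 2] : Subgroup X)))).comap π by
    intro b hb
    have h1 := mem_centralizer_singleton_iff.1 (hs hb)
    rw [← QuotientGroup.eq_one_iff, ← QuotientGroup.mk'_apply, map_commutatorElement,
      commutatorElement_eq_one_iff_mul_comm]
    exact h1
  rw [← ht]
  refine (closure_le _).2 ?_
  rintro _ ⟨x, hx, rfl⟩
  rw [SetLike.mem_coe, mem_comap, mem_centralizer_singleton_iff]
  set c := ⁅x⁻¹, g⁆ with hc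
  have hck : c ∈ γ[k + 2] := mem_twoCent.1 hg _ (inv_mem hx)
  have hgx : g * x * g⁻¹ = x * c := by rw [hc, commutatorElement_def]; group
  let xW : W := ⟨π x, (mk_mem_gamma h (by omega)).2 hx⟩
  let cW : W := ⟨π c, (mk_mem_gamma h (by omega)).2 (Subgroup.lowerCentralSeries_antitone _ (by omega) hck)⟩
  obtain ⟨e, he, hprod⟩ := hPL xW cW
  have he1 : e = 1 := by
    refine mem_bot.1 ((?_ : Cfsg.powerClosure p 1 _ ≤ ⊥) he)
    refine (closure_le _).2 ?_
    rintro _ ⟨w, hw, rfl⟩
    refine mem_bot.2 (Subtype.ext ?_)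
    rw [pow_one, SubgroupClass.coe_pow]
    refine hexp _ (hWW ?_)
    have h1 := mem_map_of_mem W.subtype hw
    rw [map_commutator] at h1
    exact commutator_mono (map_subtype_le _) (map_subtype_le _) h1
  have h2 : (π x * π c) ^ p = π x ^ p * π c ^ p * (e : X ⧸ (γ[t + 2] : Subgroup X)) := by
    have := congrArg Subtype.val hprod
    simp only [Subgroup.coe_mul, SubgroupClass.coe_pow] at this
    exact this
  rw [he1, OneMemClass.coe_one, mul_one, hexp (π c) ((mk_mem_gamma h (by omega)).2 hck), mul_one,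
    ← map_mul, ← hgx, ← map_pow, ← map_pow, conj_pow] at h2
  rw [map_mul, map_mul, map_inv, mul_inv_eq_iff_eq_mul] at h2
  exact h2.symm

/-- For odd `p` there are at most `p - 1` different two-step centralizers. -/
theorem exists_small_family (hp2 : p ≠ 2) : ∃ R : Finset ℕ, R.card + 1 ≤ p ∧
    (∀ r ∈ R, 1 ≤ r ∧ r + 3 ≤ n) ∧
    ∀ i, 1 ≤ i → i + 3 ≤ n → ∃ r ∈ R, twoCent X r = twoCent X i := by
  classical
  have hp2' := hp.out.two_le
  have hn := h.three
  set V := Finset.Icc 1 (n - p - 2) with hV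
  have hf : ∀ k ∈ V, ∃ t, k + 1 ≤ t ∧ t + 1 ≤ k + p ∧ powers p X k = γ[t] := fun k hk => by
    rw [hV, Finset.mem_Icc] at hk
    exact exists_powers_eq h hp2 hk.1 (by omega)
  choose! f hf1 hf2 hf3 using hf
  have hinj : ∀ k ∈ V, ∀ l ∈ V, k < l → f k < f l := by
    intro k hk l hl hkl
    rw [hV, Finset.mem_Icc] at hk
    have h1 : powers p X l ≤ γ[f k + 1] := (powers_antitone (by omega)).trans
      (powers_succ_le h hp2 hk.1 (by omega)
        (by have := hf1 k (by rw [hV, Finset.mem_Icc]; exact hk); omega)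
        (hf3 k (by rw [hV, Finset.mem_Icc]; exact hk)).le)
    by_contra hc
    rw [hf3 l hl] at h1
    have h2 := card_le_of_le ((Subgroup.lowerCentralSeries_antitone (⊤ : Subgroup X) (le_of_not_gt hc)).trans h1)
    have e1 := hf2 k (by rw [hV, Finset.mem_Icc]; exact hk)
    have e2 := hf1 k (by rw [hV, Finset.mem_Icc]; exact hk)
    rw [card_gamma h (f k) (by omega) (by omega), card_gamma h (f k + 1) (by omega) (by omega)] at h2
    have := (Nat.pow_le_pow_iff_right hp.out.one_lt).1 h2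
    omega
  have hsub : V.image f ⊆ Finset.Icc 1 (n - 3) := by
    intro t ht
    obtain ⟨k, hk, rfl⟩ := Finset.mem_image.1 ht
    have := hf1 k hk
    have := hf2 k hk
    rw [hV, Finset.mem_Icc] at hk
    rw [Finset.mem_Icc]
    omega
  have hcard : (V.image f).card = n - p - 2 := by
    rw [Finset.card_image_of_injOn, hV, Nat.card_Icc]
    · omega
    · intro k hk l hl hkl
      rcases lt_trichotomy k l with hlt | heq | hlt
      · have := hinj k hk l hl hlt; omega
      · exact heq
      · have := hinj l hl k hk hlt; omega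
  refine ⟨Finset.Icc 1 (n - 3) \ V.image f, ?_, fun r hr => ?_, ?_⟩
  · rw [Finset.card_sdiff_of_subset hsub, hcard, Nat.card_Icc]
    omega
  · rw [Finset.mem_sdiff, Finset.mem_Icc] at hr
    omega
  intro i
  induction i using Nat.strong_induction_on with
  | _ i ih =>
  intro hi hi'
  by_cases him : i ∈ V.image f
  · obtain ⟨k, hk, rfl⟩ := Finset.mem_image.1 him
    have hk1 := hk
    rw [hV, Finset.mem_Icc] at hk1
    have h1 := hf1 k hk
    obtain ⟨r, hr, hre⟩ := ih k (by omega) hk1.1 (by omega)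
    refine ⟨r, hr, hre.trans ?_⟩
    refine eq_of_le_of_card_ge (twoCent_le_shift h hp2 hk1.1 (by omega) h1 (hf2 k hk) (hf3 k hk)) ?_
    refine Nat.le_of_mul_le_mul_right (le_of_eq ?_) hp.out.pos
    conv_lhs => rw [← index_twoCent h hi hi', card_mul_index]
    conv_rhs => rw [← index_twoCent h hk1.1 (show k + 3 ≤ n by omega), card_mul_index]
  · exact ⟨i, Finset.mem_sdiff.2 ⟨Finset.mem_Icc.2 ⟨hi, by omega⟩, him⟩, rfl⟩

theorem not_mem_center {x : X} (hx : x ∉ γ[1]) : x ∉ center X := by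
  intro hc
  have hn := h.three
  apply h.below
  suffices hsuff : (γ[1] : Subgroup X) = ⊥ from
    le_bot_iff.1 ((Subgroup.lowerCentralSeries_antitone _ (show 1 ≤ n - 2 by omega)).trans hsuff.le)
  have hX := isPGroup h
  have hZ : (center X ⊔ γ[1] : Subgroup X).index ≤ p := by
    obtain ⟨i, hi⟩ := hX.index (center X ⊔ γ[1] : Subgroup X)
    have hlt : (γ[1] : Subgroup X) < center X ⊔ γ[1] :=
      lt_of_le_of_ne le_sup_right fun e => hx (e ▸ mem_sup_left hc)
    have h1 := index_strictAnti hlt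
    have h2 : (γ[1] : Subgroup X).index = p ^ 2 := by
      refine Nat.eq_of_mul_eq_mul_left (pow_pos hp.out.pos (n - 1 - 1)) ?_
      rw [← pow_add, show n - 1 - 1 + 2 = n by omega, ← h.card, ← card_gamma h 1 le_rfl (by omega), card_mul_index]
    rw [hi, h2] at h1
    rw [hi]
    have := (Nat.pow_lt_pow_iff_right hp.out.one_lt).1 h1
    exact le_of_le_of_eq (Nat.pow_le_pow_right hp.out.pos (show i ≤ 1 by omega)) (pow_one p)
  obtain ⟨y, hy⟩ : ∃ y : X, center X ⊔ zpowers y = ⊤ := by
    by_cases htop : (center X ⊔ γ[1] : Subgroup X) = ⊤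
    · refine ⟨1, ?_⟩
      rw [zpowers_one_eq_bot, sup_bot_eq]
      exact frattini_nongenerating (by rw [frattini_eq h]; exact htop)
    · obtain ⟨y, -, hy⟩ := SetLike.exists_of_lt (lt_top_iff_ne_top.2 htop)
      obtain ⟨i, hi⟩ := hX.index (center X ⊔ γ[1] : Subgroup X)
      have hip : (center X ⊔ γ[1] : Subgroup X).index = p := by
        refine le_antisymm hZ ?_
        rw [hi]
        refine Nat.le_self_pow ?_ p
        rintro rfl
        exact htop (index_eq_one.1 (hi.trans (pow_zero p)))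
      refine ⟨y, frattini_nongenerating ?_⟩
      rw [frattini_eq h, sup_assoc, sup_comm (zpowers y), ← sup_assoc]
      exact Cfsg.Lib.PGroup.sup_zpowers_eq_top_of_index (p := p) hip hy
  rw [Subgroup.top_lowerCentralSeries_one, eq_bot_iff]
  refine Cfsg.Lib.PGroup.CentralizerSq.commutator_le_of_gen (Q := center X) hy ?_
  rw [commutator_le]
  intro a ha b _
  rw [mem_bot, commutatorElement_eq_one_iff_mul_comm]
  exact (mem_center_iff.1 ha b).symm

theorem sq_le_card_centralizer {x : X} (hx : x ∉ γ[1]) :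
    p ^ 2 ≤ Nat.card (centralizer ({x} : Set X)) := by
  have hn := h.three
  set C := centralizer ({x} : Set X)
  have hZC : (γ[n - 2] : Subgroup X) ≤ C := by
    intro z hz
    rw [mem_centralizer_singleton_iff]
    refine commutatorElement_eq_one_iff_mul_comm.mp ?_
    have := mem_gamma_succ hz x
    rwa [gamma_eq_bot h (show n - 1 ≤ n - 2 + 1 by omega), mem_bot] at this
  have hlt : (γ[n - 2] : Subgroup X) < C := lt_of_le_of_ne hZC fun e =>
    hx (Subgroup.lowerCentralSeries_antitone _ (show 1 ≤ n - 2 by omega)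
      (e.symm ▸ mem_centralizer_singleton_iff.2 rfl))
  have h1 := Cfsg.Lib.Fusion.card_lt_card_of_lt hlt
  obtain ⟨i, hi⟩ := IsPGroup.iff_card.1 ((isPGroup h).to_subgroup C)
  rw [card_gamma h (n - 2) (by omega) (by omega), hi] at h1
  rw [hi]
  have := (Nat.pow_lt_pow_iff_right hp.out.one_lt).1 h1
  exact Nat.pow_le_pow_right hp.out.pos (by omega)

/-- An element outside `γ₁` and all two-step centralizers has centralizer of order `p²`. -/
theorem card_centralizer_of_avoid {x : X} (hx : x ∉ γ[1])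
    (hav : ∀ i, 1 ≤ i → i + 3 ≤ n → x ∉ twoCent X i) :
    Nat.card (centralizer ({x} : Set X)) = p ^ 2 := by
  have hn := h.three
  refine le_antisymm ?_ (sq_le_card_centralizer h hx)
  set C := centralizer ({x} : Set X) with hC
  have hC1 : C ⊓ γ[1] ≤ γ[n - 2] := by
    rintro a ⟨haC, ha⟩
    by_contra hne
    obtain ⟨k, hk1, hk2, hak, hak'⟩ := exists_level h ha hne
    refine hav k hk1 (by omega) (mem_twoCent.2 (comm_level h hk1 hak hak' ?_))
    rw [commutatorElement_eq_one_iff_mul_comm.2 (mem_centralizer_singleton_iff.1 haC)]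
    exact one_mem _
  have hne : C ⊔ γ[1] ≠ ⊤ := fun e => by
    have h1 : C = ⊤ := frattini_nongenerating (by rw [frattini_eq h]; exact e)
    exact not_mem_center h hx (mem_center_iff.2 fun g => mem_centralizer_singleton_iff.1 (h1 ▸ mem_top g : g ∈ C))
  have h1 : Nat.card ↥(C ⊔ γ[1]) ≤ p ^ (n - 1) := by
    obtain ⟨i, hi, hic⟩ := (Nat.dvd_prime_pow hp.out).1 (h.card ▸ (C ⊔ γ[1]).card_subgroup_dvd_card)
    rw [hic]
    refine Nat.pow_le_pow_right hp.out.pos ?_
    by_contra hlt
    exact hne (Subgroup.eq_top_of_card_eq _ (by rw [hic, h.card]; congr 1; omega))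
  have h2 := Cfsg.Lib.Core.card_mul_relIndex (le_sup_right : (γ[1] : Subgroup X) ≤ C ⊔ γ[1])
  rw [sup_comm, relIndex_sup_left, card_gamma h 1 le_rfl (by omega)] at h2
  have h3 := Cfsg.Lib.Core.card_mul_relIndex (inf_le_left : C ⊓ γ[1] ≤ C)
  rw [inf_relIndex_left] at h3
  have h4 : Nat.card ↥(C ⊓ γ[1]) ≤ p := by
    refine (card_le_of_le hC1).trans (le_of_eq ?_)
    rw [card_gamma h (n - 2) (by omega) (by omega), show n - 1 - (n - 2) = 1 by omega, pow_one]
  have h5 : (γ[1] : Subgroup X).relIndex C ≤ p := by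
    rw [sup_comm] at h1
    rw [← h2, show p ^ (n - 1) = p ^ (n - 1 - 1) * p by rw [← pow_succ]; congr 1; omega] at h1
    exact Nat.le_of_mul_le_mul_left h1 (pow_pos hp.out.pos _)
  rw [← h3, sq]
  exact Nat.mul_le_mul h4 h5

/-- Outside any proper subgroup there is an element with centralizer of order `p²`. -/
theorem exists_uniform {T : Subgroup X} (hT : T ≠ ⊤) :
    ∃ x : X, x ∉ T ∧ x ∉ γ[1] ∧ Nat.card (centralizer ({x} : Set X)) = p ^ 2 := by
  classical
  have hn := h.three
  have hX := isPGroup h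
  have hne : 1 < Nat.card X := by rw [h.card]; exact Nat.one_lt_pow (by omega) hp.out.one_lt
  have hT' : T ⊔ γ[1] ≠ ⊤ := fun e => hT (frattini_nongenerating (by rw [frattini_eq h]; exact e))
  by_cases hp2 : p = 2
  · subst hp2
    haveI := hX.isNilpotent
    have hcl : Group.nilpotencyClass X = n - 1 := by
      have h1 := Subgroup.lowerCentralSeries_eq_bot_iff_nilpotencyClass_le.1 h.top
      have h2 : ¬ Group.nilpotencyClass X ≤ n - 2 := fun hc =>
        h.below (Subgroup.lowerCentralSeries_eq_bot_iff_nilpotencyClass_le.2 hc)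
      omega
    obtain ⟨C, hCc, hCi⟩ := Cfsg.Lib.TwoGroup.MaximalClass.exists_cyclic_index_two n hn X h.card hcl
    have hCn : C.Normal := normal_of_index_eq_two hCi
    obtain ⟨x, hx⟩ := exists_avoid (p := 2) (Finset.univ : Finset Bool)
      (fun b => if b then C else T ⊔ γ[1]) hX (by simp) (fun b _ => by
        cases b
        · exact hT'
        · intro e
          simp only [if_true] at e
          rw [e, index_top] at hCi
          omega) hne
    have hxC : x ∉ C := hx true (Finset.mem_univ _)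
    have hxT : x ∉ T ⊔ γ[1] := hx false (Finset.mem_univ _)
    have hab : (commutator X).index = 2 ^ 2 := by
      rw [← Subgroup.top_lowerCentralSeries_one]
      refine Nat.eq_of_mul_eq_mul_left (pow_pos (show 0 < 2 by norm_num) (n - 1 - 1)) ?_
      rw [← pow_add, show n - 1 - 1 + 2 = n by omega, ← h.card, ← card_gamma h 1 le_rfl (by omega), card_mul_index]
    exact ⟨x, fun hm => hxT (mem_sup_left hm), fun hm => hxT (mem_sup_right hm),
      Cfsg.Lib.PGroup.CentralizerSq.card_centralizer hX hab hCi (fun a ha b hb => by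
        letI := hCc
        exact congrArg Subtype.val (IsCyclic.commGroup.mul_comm (⟨a, ha⟩ : C) ⟨b, hb⟩)) hxC⟩
  obtain ⟨R, hR, hR1, hR2⟩ := exists_small_family h hp2
  obtain ⟨x, hx⟩ := exists_avoid (p := p) (Finset.insertNone R)
    (fun o : Option ℕ => o.elim (T ⊔ γ[1]) (twoCent X)) hX
    (by rw [Finset.card_insertNone]; omega) (fun o ho => by
      cases o with
      | none => exact hT'
      | some r => exact twoCent_ne_top h (hR1 r (by simpa using ho)).1 (hR1 r (by simpa using ho)).2) hne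
  have hxT : x ∉ T ⊔ γ[1] := hx none (by simp)
  have hxg : x ∉ γ[1] := fun hm => hxT (mem_sup_right hm)
  refine ⟨x, fun hm => hxT (mem_sup_left hm), hxg, card_centralizer_of_avoid h hxg fun i hi hi' hmem => ?_⟩
  obtain ⟨r, hr, hre⟩ := hR2 i hi hi'
  have h1 := hx (some r) (by simpa using hr)
  rw [Option.elim_some, hre] at h1
  exact h1 hmem

/-- The class of a uniform element `x` is the coset `γ₁ x`. -/
theorem exists_conj {x : X} (hCx : Nat.card (centralizer ({x} : Set X)) = p ^ 2) {s : X} (hs : s ∈ γ[1]) :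
    ∃ g : X, g * x * g⁻¹ = s * x := by
  have hn := h.three
  set C := centralizer ({x} : Set X) with hC
  let φ : X ⧸ C → (γ[1] : Subgroup X) := fun q => Quotient.liftOn' q
    (fun g => (⟨⁅g, x⁆, mem_gamma_succ (k := 0) (by rw [Subgroup.lowerCentralSeries_zero]; exact mem_top g) x⟩ :
      (γ[1] : Subgroup X))) (by
    intro a b hab
    rw [QuotientGroup.leftRel_apply, hC, mem_centralizer_singleton_iff] at hab
    refine Subtype.ext ?_
    show ⁅a, x⁆ = ⁅b, x⁆
    have h1 : a * x * a⁻¹ = b * x * b⁻¹ := by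
      calc a * x * a⁻¹ = a * (x * (a⁻¹ * b)) * b⁻¹ := by group
        _ = a * (a⁻¹ * b * x) * b⁻¹ := by rw [hab]
        _ = _ := by group
    rw [commutatorElement_def, commutatorElement_def, h1])
  have hinj : Function.Injective φ := by
    intro q r
    induction q using Quotient.inductionOn' with | _ a => ?_
    induction r using Quotient.inductionOn' with | _ b => ?_
    intro hab
    have h2 : ⁅a, x⁆ = ⁅b, x⁆ := congrArg Subtype.val hab
    simp only [commutatorElement_def] at h2
    refine Quotient.sound' ?_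
    rw [QuotientGroup.leftRel_apply, hC, mem_centralizer_singleton_iff]
    have h3 : a * x * a⁻¹ = b * x * b⁻¹ := mul_right_cancel h2
    calc a⁻¹ * b * x = a⁻¹ * (b * x * b⁻¹) * b := by group
      _ = a⁻¹ * (a * x * a⁻¹) * b := by rw [h3]
      _ = _ := by group
  have hcard : Nat.card (X ⧸ C) = Nat.card (γ[1] : Subgroup X) := by
    have h1 := C.card_eq_card_quotient_mul_card_subgroup
    rw [h.card, hCx] at h1
    rw [card_gamma h 1 le_rfl (by omega)]
    refine Nat.eq_of_mul_eq_mul_right (pow_pos hp.out.pos 2) ?_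
    rw [← h1, ← pow_add]
    congr 1; omega
  obtain ⟨q, hq⟩ := ((Nat.bijective_iff_injective_and_card φ).2 ⟨hinj, hcard⟩).2 ⟨s, hs⟩
  induction q using Quotient.inductionOn' with | _ g => ?_
  refine ⟨g, ?_⟩
  have h2 : ⁅g, x⁆ = s := congrArg Subtype.val hq
  rw [← h2, commutatorElement_def, inv_mul_cancel_right]

end Cfsg.Lib.PGroup.Uniform
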