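import Cfsg.Agent.Lib.PGroup.Elements
import Mathlib.GroupTheory.Sylow
import Mathlib.GroupTheory.Nilpotent
import Cfsg.Prelude.Def_Transfer

/-! Abelian Sylow subgroups in groups with a nilpotent minimal cover. -/

set_option autoImplicit false

namespace Cfsg.Lib.NilCoverSylow

open Subgroup

variable {G : Type*} [Group G] [Finite G] {p : ℕ} [hp : Fact p.Prime]

/-- The `p`-elements of a nilpotent subgroup lie in one conjugate of a given Sylow subgroup. -/
theorem exists_sylow {A : Subgroup G} (hA : Group.IsNilpotent A) :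
    ∃ Q : Sylow p G, ∀ x ∈ A, (∃ k, x ^ p ^ k = 1) → x ∈ Q := by
  obtain ⟨S⟩ : Nonempty (Sylow p ↥A) := inferInstance
  have hSn : (S : Subgroup ↥A).Normal :=
    (Group.isNilpotent_of_finite_tfae.out 0 3 rfl rfl).mp hA p hp S
  obtain ⟨Q, hQ⟩ := (S.2.map A.subtype).exists_le_sylow
  refine ⟨Q, fun x hx ⟨k, hk⟩ => ?_⟩
  have hz : IsPGroup p (zpowers (⟨x, hx⟩ : A)) := by
    rintro ⟨_, i, rfl⟩
    refine ⟨k, Subtype.ext ?_⟩
    change ((⟨x, hx⟩ : A) ^ i) ^ p ^ k = 1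
    rw [← zpow_natCast, ← zpow_mul, mul_comm, zpow_mul, zpow_natCast]
    rw [show (⟨x, hx⟩ : A) ^ p ^ k = 1 from Subtype.ext (by simpa using hk), one_zpow]
  obtain ⟨S', hS'⟩ := hz.exists_le_sylow
  have hu := Sylow.unique_of_normal S hSn
  have : S' = S := Subsingleton.elim _ _
  exact hQ ⟨⟨x, hx⟩, this ▸ hS' (mem_zpowers _), rfl⟩

/-- A nilpotent subgroup containing a `p`-element centralizes it when Sylow subgroups are abelian. -/
theorem le_centralizer (P : Sylow p G) (hab : IsMulCommutative ↥(P : Subgroup G)) {A : Subgroup G}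
    (hA : Group.IsNilpotent A) {x : G} (hx : x ∈ A) (hxp : ∃ k, x ^ p ^ k = 1) :
    A ≤ centralizer ({x} : Set G) := by
  obtain ⟨Q, hQ⟩ := exists_sylow (p := p) hA
  intro c hc
  obtain ⟨k, hk⟩ := hxp
  refine Cfsg.Lib.PGroup.mem_of_ordCompl_pow_mem fun q hq hqc => ?_
  set d := c ^ (orderOf c / q ^ (orderOf c).factorization q)
  have hd : d ∈ A := pow_mem hc _
  rw [mem_centralizer_singleton_iff]
  by_cases hqp : q = p
  · subst hqp
    obtain ⟨e, he⟩ := P.equiv Q |> fun f => (⟨f, trivial⟩ : ∃ _f : P ≃* Q, True)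
    have hdQ := hQ d hd ⟨(orderOf c).factorization q, by
      rw [← Cfsg.Lib.PGroup.orderOf_ordCompl_pow hq]; exact pow_orderOf_eq_one d⟩
    have hxQ := hQ x hx ⟨k, hk⟩
    obtain ⟨a, ha⟩ := e.surjective ⟨d, hdQ⟩
    obtain ⟨b, hb⟩ := e.surjective ⟨x, hxQ⟩
    have h1 : (⟨d, hdQ⟩ : Q) * ⟨x, hxQ⟩ = ⟨x, hxQ⟩ * ⟨d, hdQ⟩ := by
      rw [← ha, ← hb, ← map_mul, ← map_mul, hab.is_comm.comm a b]
    exact congrArg Subtype.val h1
  · have h1 := Cfsg.Lib.PGroup.commute_of_coprime_orderOf (⟨d, hd⟩ : A) ⟨x, hx⟩ (by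
      rw [← orderOf_coe, ← orderOf_coe]
      refine Nat.Coprime.coprime_dvd_right (orderOf_dvd_of_pow_eq_one hk) ?_
      rw [Cfsg.Lib.PGroup.orderOf_ordCompl_pow hq]
      exact Nat.Coprime.pow _ _ ((Nat.coprime_primes hq hp.out).2 hqp))
    exact congrArg Subtype.val h1.eq

/-- Every non-trivial `p`-element lies in exactly one member of the cover. -/
theorem unique_member (hZ : center G = ⊥) (𝓐 : Finset (Subgroup G))
    (h𝓐 : ((∀ A ∈ 𝓐, A ≠ ⊤) ∧ (∀ g : G, ∃ A ∈ 𝓐, g ∈ A)) ∧ (∀ 𝓑 : Finset (Subgroup G),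
      (∀ A ∈ 𝓑, A ≠ ⊤) ∧ (∀ g : G, ∃ A ∈ 𝓑, g ∈ A) → 𝓐.card ≤ 𝓑.card) ∧
      (∀ A ∈ 𝓐, Group.IsNilpotent ↥A)) :
    (∀ M : Subgroup G, M ≠ ⊤ → ∀ A ∈ 𝓐, ∀ B ∈ 𝓐, A ≤ M → B ≤ M → A = B) ∧
    ∀ P : Sylow p G, IsMulCommutative ↥(P : Subgroup G) → ∀ x : G, x ≠ 1 → (∃ k, x ^ p ^ k = 1) →
      ∀ A ∈ 𝓐, ∀ B ∈ 𝓐, x ∈ A → x ∈ B → A = B := by
  classical
  have h1 : ∀ M : Subgroup G, M ≠ ⊤ → ∀ A ∈ 𝓐, ∀ B ∈ 𝓐, A ≤ M → B ≤ M → A = B := by
    intro M hM A hA B hB hAM hBM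
    by_contra hne
    have := h𝓐.2.1 (insert M ((𝓐.erase A).erase B)) ⟨fun C hC => ?_, fun g => ?_⟩
    · have h2 := Finset.card_insert_le M ((𝓐.erase A).erase B)
      have hB' : B ∈ 𝓐.erase A := Finset.mem_erase.2 ⟨Ne.symm hne, hB⟩
      have h3 := Finset.card_pos.2 ⟨B, hB'⟩
      rw [Finset.card_erase_of_mem hB'] at h2
      rw [Finset.card_erase_of_mem hA] at h2 h3
      omega
    · rcases Finset.mem_insert.1 hC with rfl | hC
      · exact hM
      · exact h𝓐.1.1 C (Finset.mem_of_mem_erase (Finset.mem_of_mem_erase hC))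
    · obtain ⟨C, hC, hgC⟩ := h𝓐.1.2 g
      by_cases hCA : C = A
      · exact ⟨M, Finset.mem_insert_self _ _, hAM (hCA ▸ hgC)⟩
      by_cases hCB : C = B
      · exact ⟨M, Finset.mem_insert_self _ _, hBM (hCB ▸ hgC)⟩
      exact ⟨C, Finset.mem_insert_of_mem
        (Finset.mem_erase.2 ⟨hCB, Finset.mem_erase.2 ⟨hCA, hC⟩⟩), hgC⟩
  refine ⟨h1, fun P hab x hx hxp A hA B hB hxA hxB => ?_⟩
  refine h1 (centralizer ({x} : Set G)) (fun htop => ?_) A hA B hB
    (le_centralizer P hab (h𝓐.2.2 A hA) hxA hxp) (le_centralizer P hab (h𝓐.2.2 B hB) hxB hxp)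
  apply hx
  rw [← mem_bot, ← hZ, mem_center_iff]
  intro g
  exact mem_centralizer_singleton_iff.1 (htop.ge (mem_top g))

variable (hZ : center G = ⊥) (𝓐 : Finset (Subgroup G))
  (h𝓐 : ((∀ A ∈ 𝓐, A ≠ ⊤) ∧ (∀ g : G, ∃ A ∈ 𝓐, g ∈ A)) ∧ (∀ 𝓑 : Finset (Subgroup G),
    (∀ A ∈ 𝓑, A ≠ ⊤) ∧ (∀ g : G, ∃ A ∈ 𝓑, g ∈ A) → 𝓐.card ≤ 𝓑.card) ∧
    (∀ A ∈ 𝓐, Group.IsNilpotent ↥A))
  (P : Sylow p G) (hab : IsMulCommutative ↥(P : Subgroup G))

include hZ h𝓐 hab in
/-- `P` lies in a single member, its centralizer. -/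
theorem exists_member (hne : (P : Subgroup G) ≠ ⊥)
    (hgood : (∃ y ∈ P, y ^ p ≠ 1) ∨ Nat.card ↥(P : Subgroup G) ≤ p) :
    ∃ A ∈ 𝓐, (P : Subgroup G) ≤ A ∧ centralizer ((P : Subgroup G) : Set G) = A := by
  obtain ⟨h1, h2⟩ := unique_member (p := p) hZ 𝓐 h𝓐
  have hcomm : ∀ a ∈ P, ∀ b ∈ P, a * b = b * a := fun a ha b hb =>
    congrArg Subtype.val (hab.is_comm.comm ⟨a, ha⟩ ⟨b, hb⟩)
  have hpel : ∀ x ∈ P, ∃ k, x ^ p ^ k = 1 := fun x hx => by
    obtain ⟨k, hk⟩ := P.2 ⟨x, hx⟩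
    exact ⟨k, congrArg Subtype.val hk⟩
  obtain ⟨x₀, hx₀, hx₀1⟩ := (P : Subgroup G).bot_or_exists_ne_one.resolve_left hne
  -- all of `P` lies in one member
  obtain ⟨A, hA, hPA⟩ : ∃ A ∈ 𝓐, (P : Subgroup G) ≤ A := by
    by_cases hex : ∀ x ∈ P, x ^ p = 1
    · have hcard : Nat.card ↥(P : Subgroup G) ≤ p := by
        exact hgood.resolve_left (fun ⟨y, hy, hy1⟩ => hy1 (hex y hy))
      have hgen : zpowers x₀ = (P : Subgroup G) := by
        refine eq_of_le_of_card_ge (zpowers_le.2 hx₀) ?_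
        rw [Nat.card_zpowers, orderOf_eq_prime (hex x₀ hx₀) hx₀1]
        exact hcard
      obtain ⟨A, hA, hxA⟩ := h𝓐.1.2 x₀
      exact ⟨A, hA, hgen ▸ zpowers_le.2 hxA⟩
    · push Not at hex
      obtain ⟨y, hy, hy1⟩ := hex
      obtain ⟨A, hA, hyA⟩ := h𝓐.1.2 y
      -- elements of order `p`
      have hord : ∀ x ∈ P, x ^ p = 1 → x ∈ A := by
        intro x hx hxp
        obtain ⟨B, hB, hxyB⟩ := h𝓐.1.2 (x * y)
        have h3 : (x * y) ^ p = y ^ p := by
          rw [(show Commute x y from hcomm x hx y hy).mul_pow, hxp, one_mul]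
        obtain ⟨k, hk⟩ := hpel y hy
        have : A = B := h2 P hab (y ^ p) hy1 ⟨k, by rw [← pow_mul, mul_comm, pow_mul, hk, one_pow]⟩
          A hA B hB (pow_mem hyA p) (h3 ▸ pow_mem hxyB p)
        subst this
        simpa using mul_mem hxyB (inv_mem hyA)
      refine ⟨A, hA, fun x hx => ?_⟩
      by_cases hx1 : x = 1
      · exact hx1 ▸ one_mem _
      obtain ⟨B, hB, hxB⟩ := h𝓐.1.2 x
      obtain ⟨k, hk⟩ := hpel x hx
      obtain ⟨m, hm, hm'⟩ : ∃ m, x ^ p ^ m ≠ 1 ∧ (x ^ p ^ m) ^ p = 1 := by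
        classical
        have hex : ∃ k, x ^ p ^ k = 1 := ⟨k, hk⟩
        obtain ⟨m, hm⟩ : ∃ m, Nat.find hex = m + 1 := ⟨Nat.find hex - 1,
          (Nat.succ_pred_eq_of_ne_zero fun h0 => hx1 (by simpa [h0] using Nat.find_spec hex)).symm⟩
        exact ⟨m, Nat.find_min hex (by omega), by
          rw [← pow_mul, ← pow_succ, ← hm]; exact Nat.find_spec hex⟩
      have hAB := h2 P hab (x ^ p ^ m) hm ⟨1, by rw [pow_one]; exact hm'⟩ A hA B hB
        (hord _ (pow_mem hx _) hm') (pow_mem hxB _)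
      exact hAB ▸ hxB
  -- `A` is the centralizer of `P`
  have hAc : A ≤ centralizer ((P : Subgroup G) : Set G) := fun c hc =>
    mem_centralizer_iff.2 fun x hx =>
      (mem_centralizer_singleton_iff.1
        (le_centralizer P hab (h𝓐.2.2 A hA) (hPA hx) (hpel x hx) hc)).symm
  have hcA : centralizer ((P : Subgroup G) : Set G) ≤ A := by
    intro c hc
    refine Cfsg.Lib.PGroup.mem_of_ordCompl_pow_mem fun q hq hqc => ?_
    set d := c ^ (orderOf c / q ^ (orderOf c).factorization q)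
    have hd : d ∈ centralizer ((P : Subgroup G) : Set G) := pow_mem hc _
    have hdo : d ^ q ^ (orderOf c).factorization q = 1 := by
      rw [← Cfsg.Lib.PGroup.orderOf_ordCompl_pow hq]; exact pow_orderOf_eq_one d
    by_cases hqp : q = p
    · subst hqp
      refine hPA ?_
      have hsup : IsPGroup q (closure ((P : Set G) ∪ {d})) := by
        refine Cfsg.Lib.PGroup.isPGroup_closure_of_commute ?_ ?_
        · rintro a (ha | rfl) b (hb | rfl)
          exacts [hcomm a ha b hb, mem_centralizer_iff.1 hd a ha,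
            (mem_centralizer_iff.1 hd b hb).symm, rfl]
        · rintro a (ha | rfl)
          exacts [hpel a ha, ⟨_, hdo⟩]
      have := P.3 hsup (fun a ha => subset_closure (Or.inl ha))
      exact this.le (subset_closure (Or.inr rfl))
    · obtain ⟨B, hB, hxdB⟩ := h𝓐.1.2 (x₀ * d)
      obtain ⟨k, hk⟩ := hpel x₀ hx₀
      set m := q ^ (orderOf c).factorization q
      have hco : (orderOf x₀).Coprime m := Nat.Coprime.coprime_dvd_left
        (orderOf_dvd_of_pow_eq_one hk) (Nat.Coprime.pow _ _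
          ((Nat.coprime_primes hp.out hq).2 (Ne.symm hqp)))
      have hxdm : (x₀ * d) ^ m = x₀ ^ m := by
        rw [(show Commute x₀ d from mem_centralizer_iff.1 hd x₀ hx₀).mul_pow, hdo, mul_one]
      obtain ⟨l, hl⟩ := exists_pow_eq_self_of_coprime hco.symm
      have hxB : x₀ ∈ B := by
        rw [← hl, ← hxdm]
        exact pow_mem (pow_mem hxdB m) l
      obtain rfl : A = B := h2 P hab x₀ hx₀1 ⟨k, hk⟩ A hA B hB (hPA hx₀) hxB
      simpa using mul_mem (inv_mem hxB) hxdB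
  exact ⟨A, hA, hPA, le_antisymm hcA hAc⟩

include hZ h𝓐 hab in
/-- The structure when `P` is cyclic or abelian but not elementary abelian. -/
theorem centralizer_eq_member (hnn : ¬ (P : Subgroup G).Normal)
    (hnel : ¬ (Cfsg.IsElementaryAbelian p (P : Subgroup G) ∧ p < Nat.card ↥(P : Subgroup G))) :
    ∃ A ∈ 𝓐, (P : Subgroup G) ≤ A ∧ ¬ p ∣ ((P : Subgroup G).subgroupOf A).index ∧
      IsCoatom (normalizer ((P : Subgroup G) : Set G)) ∧
      (∀ g : G, g ∉ normalizer ((P : Subgroup G) : Set G) →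
        ¬ p ∣ Nat.card ↥(normalizer ((P : Subgroup G) : Set G) ⊓
          (normalizer ((P : Subgroup G) : Set G)).map (MulAut.conj g).toMonoidHom)) ∧
      centralizer ((P : Subgroup G) : Set G) = A ∧
      ∀ M : Subgroup G, IsCoatom M → A ≤ M → M = normalizer ((P : Subgroup G) : Set G) := by
  obtain ⟨h1, h2⟩ := unique_member (p := p) hZ 𝓐 h𝓐
  have hne : (P : Subgroup G) ≠ ⊥ := fun h => hnn (h ▸ inferInstance)
  have hgood : (∃ y ∈ P, y ^ p ≠ 1) ∨ Nat.card ↥(P : Subgroup G) ≤ p := by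
    by_contra hcon
    push Not at hcon
    exact hnel ⟨⟨hab, hcon.1⟩, hcon.2⟩
  obtain ⟨A, hA, hPA, heq⟩ := exists_member hZ 𝓐 h𝓐 P hab hne hgood
  obtain ⟨x₀, hx₀, hx₀1⟩ := (P : Subgroup G).bot_or_exists_ne_one.resolve_left hne
  have hpel : ∀ (Q : Sylow p G), ∀ x ∈ Q, ∃ k, x ^ p ^ k = 1 := fun Q x hx => by
    obtain ⟨k, hk⟩ := Q.2 ⟨x, hx⟩
    exact ⟨k, congrArg Subtype.val hk⟩
  -- the member of another Sylow subgroup
  have hother : ∀ g : G, ∃ B ∈ 𝓐, ((g • P : Sylow p G) : Subgroup G) ≤ B ∧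
      centralizer (((g • P : Sylow p G) : Subgroup G) : Set G) = B := by
    intro g
    have e := (P.equivSMul g)
    refine exists_member hZ 𝓐 h𝓐 (g • P) ?_ ?_ ?_
    · exact ⟨⟨fun a b => e.symm.injective (by rw [map_mul, map_mul, hab.is_comm.comm])⟩⟩
    · intro h
      refine hne (card_eq_one.1 ?_)
      rw [Nat.card_congr e.toEquiv]
      exact card_eq_one.2 h
    · rcases hgood with ⟨y, hy, hy1⟩ | hle
      · refine Or.inl ⟨_, (e ⟨y, hy⟩).2, fun h => hy1 ?_⟩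
        have h3 : e (⟨y, hy⟩ ^ p) = 1 := by
          rw [map_pow]; exact Subtype.ext (by simpa using h)
        exact congrArg Subtype.val ((MulEquiv.map_eq_one_iff e).1 h3)
      · exact Or.inr (by rw [← Nat.card_congr e.toEquiv]; exact hle)
  have hsame : ∀ g : G, ∀ B ∈ 𝓐, ((g • P : Sylow p G) : Subgroup G) ≤ B → B = A →
      g ∈ normalizer ((P : Subgroup G) : Set G) := by
    intro g B hB hgB hBA
    subst hBA
    obtain ⟨Q, hQ⟩ := exists_sylow (p := p) (h𝓐.2.2 B hB)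
    have h3 : P = Q := Sylow.ext (P.3 Q.2 (fun x hx => hQ x (hPA hx) (hpel P x hx))).symm
    have h4 : g • P = Q := Sylow.ext ((g • P).3 Q.2 (fun x hx => hQ x (hgB hx) (hpel _ x hx))).symm
    exact Sylow.smul_eq_iff_mem_normalizer.1 (h4.trans h3.symm)
  have hNtop : normalizer ((P : Subgroup G) : Set G) ≠ ⊤ := fun h => hnn (normalizer_eq_top_iff.1 h)
  have hmax : ∀ M : Subgroup G, M ≠ ⊤ → A ≤ M → M ≤ normalizer ((P : Subgroup G) : Set G) := by
    intro M hM hAM m hm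
    obtain ⟨B, hB, hgB, hBc⟩ := hother m
    have hBM : B ≤ M := by
      rw [← hBc]
      intro c hc
      have hconj : m⁻¹ * c * m ∈ A := by
        rw [← heq]
        refine mem_centralizer_iff.2 fun x hx => ?_
        have hx' : m * x * m⁻¹ ∈ ((m • P : Sylow p G) : Subgroup G) := by
          rw [Sylow.coe_subgroup_smul, mem_pointwise_smul_iff_inv_smul_mem]
          simpa [MulAut.smul_def, mul_assoc] using SetLike.mem_coe.1 hx
        have h3 := congrArg (fun z => m⁻¹ * z * m) (mem_centralizer_iff.1 hc _ hx')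
        simpa [mul_assoc] using h3
      have := M.mul_mem (M.mul_mem hm (hAM hconj)) (M.inv_mem hm)
      simpa [mul_assoc] using this
    exact hsame m B hB hgB (h1 M hM B hB A hA hBM hAM)
  have hAN : A ≤ normalizer ((P : Subgroup G) : Set G) := heq ▸ fun _ hx => centralizer_le_normalizer _ hx
  refine ⟨A, hA, hPA, ?_, ⟨hNtop, fun K hK => ?_⟩, ?_, heq, fun M hM hAM => ?_⟩
  · exact fun hd => P.not_dvd_index (hd.trans (relIndex_dvd_index_of_le hPA))
  · by_contra hKt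
    exact hK.not_ge (hmax K hKt (hAN.trans hK.le))
  · intro g hg hdvd
    obtain ⟨w, hw⟩ := exists_prime_orderOf_dvd_card' p hdvd
    have hw1 : (w : G) ≠ 1 := fun h => hp.out.one_lt.ne' (by
      rw [← hw, ← orderOf_coe, h, orderOf_one])
    have hwp : (w : G) ^ p ^ 1 = 1 := by
      rw [pow_one, ← coe_pow, orderOf_dvd_iff_pow_eq_one.1 (dvd_of_eq hw), coe_one]
    obtain ⟨hwN, hwN'⟩ := mem_inf.1 w.2
    -- a `p`-element normalizing `P` lies in `P`
    have hin : ∀ v : G, v ∈ normalizer ((P : Subgroup G) : Set G) → v ^ p ^ 1 = 1 → v ∈ P := by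
      intro v hv hvp
      have hz : IsPGroup p (zpowers v) := by
        rintro ⟨_, i, rfl⟩
        refine ⟨1, Subtype.ext ?_⟩
        change (v ^ i) ^ p ^ 1 = 1
        rw [← zpow_natCast, ← zpow_mul, mul_comm, zpow_mul, zpow_natCast, hvp, one_zpow]
      have := P.3 (hz.to_sup_of_normal_right' P.2 (zpowers_le.2 hv)) le_sup_right
      exact this.le (mem_sup_left (mem_zpowers v))
    obtain ⟨v, hv, hvw⟩ := hwN'
    have hvP : v ∈ P := by
      refine hin v hv ((MulAut.conj g).injective ?_)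
      have : (MulAut.conj g) v = w := hvw
      rw [map_pow, this, hwp, map_one]
    obtain ⟨B, hB, hgB, -⟩ := hother g
    have hwB : (w : G) ∈ B := by
      refine hgB ?_
      rw [Sylow.coe_subgroup_smul, mem_pointwise_smul_iff_inv_smul_mem, ← hvw]
      simpa [MulAut.smul_def, mul_assoc] using (SetLike.mem_coe.1 hvP : v ∈ (P : Subgroup G))
    exact hg (hsame g B hB hgB (h2 P hab w hw1 ⟨1, hwp⟩ B hB A hA hwB (hPA (hin _ hwN hwp))))
  · exact ((hM.le_iff).1 (hmax M hM.1 hAM)).resolve_left hNtop |>.symm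

end Cfsg.Lib.NilCoverSylow
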