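import Cfsg.Agent.Lib.PGroup.MaximalClass

/-!
# `3`-groups of maximal class with an element of order three whose centralizer has order nine

Every subgroup is generated by two elements, unless the group is the wreath product of two groups
of order three.
-/

set_option autoImplicit false

namespace Cfsg.Lib.PGroup.PearlThree

open Subgroup Cfsg.Lib.PGroup.MaxClass
open scoped commutatorElement

universe u

variable {X : Type u} [Group X] [Fact (Nat.Prime 3)]

local notation:max "γ[" k "]" => (Subgroup.lowerCentralSeries (⊤ : Subgroup _) k)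

/-- The elements commuting with `y` modulo `γ_m`. -/
def centMod (m : ℕ) (y : X) : Subgroup X :=
  (centralizer ({QuotientGroup.mk' (γ[m] : Subgroup X) y} : Set (X ⧸ (γ[m] : Subgroup X)))).comap
    (QuotientGroup.mk' (γ[m] : Subgroup X))

omit [Fact (Nat.Prime 3)] in
theorem mem_centMod {m : ℕ} {y g : X} : g ∈ centMod m y ↔ ⁅y, g⁆ ∈ γ[m] := by
  rw [centMod, mem_comap, mem_centralizer_singleton_iff, ← QuotientGroup.eq_one_iff ⁅y, g⁆,
    ← QuotientGroup.mk'_apply, map_commutatorElement, commutatorElement_eq_one_iff_mul_comm]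
  exact eq_comm

omit [Fact (Nat.Prime 3)] in
theorem comm_symm {m : ℕ} {y g : X} (h : ⁅y, g⁆ ∈ γ[m]) : ⁅g, y⁆ ∈ γ[m] := by
  rw [← commutatorElement_inv]
  exact inv_mem h

omit [Fact (Nat.Prime 3)] in
theorem comm_mem_gamma {a b m : ℕ} (hab : m ≤ a + b + 1) {u v : X} (hu : u ∈ γ[a]) (hv : v ∈ γ[b]) :
    ⁅u, v⁆ ∈ γ[m] :=
  commutator_lcs_mem hab (commutator_mem_commutator hu hv)

omit [Fact (Nat.Prime 3)] in
theorem mk_commute {a b m : ℕ} (hab : m ≤ a + b + 1) {u v : X} (hu : u ∈ γ[a]) (hv : v ∈ γ[b]) :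
    Commute (QuotientGroup.mk' (γ[m] : Subgroup X) u) (QuotientGroup.mk' (γ[m] : Subgroup X) v) := by
  rw [commute_iff_eq, ← commutatorElement_eq_one_iff_mul_comm, ← map_commutatorElement]
  exact (QuotientGroup.eq_one_iff _).2 (comm_mem_gamma hab hu hv)

/-- The cube of a product in class two. -/
theorem cube_comm {Q : Type*} [Group Q] {y s c : Q} (h : y * s = c * (s * y)) (hs : Commute c s)
    (hy : Commute c y) : (s * y) ^ 3 = c ^ 3 * (s ^ 3 * y ^ 3) := by
  have hcy := hy.eq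
  have hcs := hs.eq
  calc (s * y) ^ 3 = s * (y * s) * (y * s) * y := by rw [pow_succ, pow_two]; group
    _ = (s * c) * s * (y * c) * s * y * y := by rw [h]; group
    _ = (c * s) * s * (c * y) * s * y * y := by rw [← hcs, ← hcy]
    _ = c * (s * s * c) * y * s * y * y := by group
    _ = c * (c * (s * s)) * (y * s) * y * y := by
        rw [show s * s * c = c * (s * s) from ((hs.mul_right hs).eq).symm]; group
    _ = c * (c * (s * s)) * (c * (s * y)) * y * y := by rw [h]
    _ = c * c * (s * s * c) * s * y * y * y := by group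
    _ = c * c * (c * (s * s)) * s * y * y * y := by
        rw [show s * s * c = c * (s * s) from ((hs.mul_right hs).eq).symm]
    _ = _ := by simp only [pow_succ, pow_zero, one_mul, mul_assoc]

variable [Finite X] {n : ℕ} (h : IsMax 3 X n) {x : X} (hx3 : x ^ 3 = 1)
  (hCx : Nat.card (centralizer ({x} : Set X)) = 9)

include h hCx

theorem exists_conj {s : X} (hs : s ∈ γ[1]) : ∃ g : X, g * x * g⁻¹ = s * x := by
  have hn := h.three
  set C := centralizer ({x} : Set X) with hC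
  let φ : X ⧸ C → (γ[1] : Subgroup X) := fun q => Quotient.liftOn' q
    (fun g => (⟨⁅g, x⁆, mem_gamma_succ (k := 0) (by rw [Subgroup.lowerCentralSeries_zero]; exact mem_top g) x⟩ :
      (γ[1] : Subgroup X))) (by
    intro a b hab
    rw [QuotientGroup.leftRel_apply, hC, mem_centralizer_singleton_iff] at hab
    refine Subtype.ext ?_
    show ⁅a, x⁆ = ⁅b, x⁆
    have h1 : a * x * a⁻¹ = b * x * b⁻¹ := by
      calc a * x * a⁻¹ = a * (x * (a⁻¹ * b)) * b⁻¹ := by group
        _ = a * (a⁻¹ * b * x) * b⁻¹ := by rw [hab]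
        _ = _ := by group
    rw [commutatorElement_def, commutatorElement_def, h1])
  have hinj : Function.Injective φ := by
    intro q r
    induction q using Quotient.inductionOn' with | _ a => ?_
    induction r using Quotient.inductionOn' with | _ b => ?_
    intro hab
    have h2 : ⁅a, x⁆ = ⁅b, x⁆ := congrArg Subtype.val hab
    simp only [commutatorElement_def] at h2
    refine Quotient.sound' ?_
    rw [QuotientGroup.leftRel_apply, hC, mem_centralizer_singleton_iff]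
    have h3 : a * x * a⁻¹ = b * x * b⁻¹ := mul_right_cancel h2
    calc a⁻¹ * b * x = a⁻¹ * (b * x * b⁻¹) * b := by group
      _ = a⁻¹ * (a * x * a⁻¹) * b := by rw [h3]
      _ = _ := by group
  have hcard : Nat.card (X ⧸ C) = Nat.card (γ[1] : Subgroup X) := by
    have h1 := C.card_eq_card_quotient_mul_card_subgroup
    rw [h.card, hCx] at h1
    rw [card_gamma h 1 le_rfl (by omega)]
    refine Nat.eq_of_mul_eq_mul_right (show 0 < 9 by norm_num) ?_
    rw [← h1, show (9 : ℕ) = 3 ^ 2 from rfl, ← pow_add]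
    congr 1; omega
  obtain ⟨q, hq⟩ := ((Nat.bijective_iff_injective_and_card φ).2 ⟨hinj, hcard⟩).2 ⟨s, hs⟩
  induction q using Quotient.inductionOn' with | _ g => ?_
  refine ⟨g, ?_⟩
  have h2 : ⁅g, x⁆ = s := congrArg Subtype.val hq
  rw [← h2, commutatorElement_def, inv_mul_cancel_right]

theorem x_not_mem : x ∉ γ[1] := by
  intro hx
  obtain ⟨g, hg⟩ := exists_conj h hCx (inv_mem hx)
  rw [inv_mul_cancel] at hg
  have h1 : x = 1 := by
    have h2 := congrArg (fun v => g⁻¹ * v * g) hg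
    simpa [mul_assoc] using h2
  have h3 : centralizer ({x} : Set X) = ⊤ :=
    eq_top_iff.2 fun v _ => mem_centralizer_singleton_iff.2 (by rw [h1, mul_one, one_mul])
  rw [h3, card_top, h.card] at hCx
  have h4 : (3 : ℕ) ^ n = 3 ^ 2 := hCx
  have := Nat.pow_right_injective (by norm_num) h4
  have := h.three
  omega

include hx3

theorem zpow_eq_one_of_mem {K : Subgroup X} (hxK : x ∉ K) {i : ℤ} (hi : x ^ i ∈ K) : x ^ i = 1 := by
  by_contra hne
  refine hxK ?_
  have hx1 : x ≠ 1 := fun h1 => hxK (h1 ▸ one_mem K)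
  have hz : zpowers (x ^ i) = zpowers x := by
    refine eq_of_le_of_card_ge (zpowers_le.2 (zpow_mem (mem_zpowers x) i)) ?_
    have h1 : (x ^ i) ^ 3 = 1 := by
      rw [← zpow_natCast, ← zpow_mul, mul_comm, zpow_mul, zpow_natCast, hx3, one_zpow]
    rw [Nat.card_zpowers, Nat.card_zpowers, orderOf_eq_prime h1 hne, orderOf_eq_prime hx3 hx1]
  exact zpowers_le.1 (hz ▸ zpowers_le.2 hi)

theorem conj_cube {g : X} (hg : g ∈ γ[1]) : (x * g) ^ 3 = 1 := by
  obtain ⟨c, hc⟩ := exists_conj h hCx hg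
  rw [show x * g = x * (g * x) * x⁻¹ by group, conj_pow, ← hc, conj_pow, hx3]
  group

/-- Only `⟨x⟩γ_m` commutes with `x` modulo `γ_{m+1}`. -/
theorem mem_sup_of_comm {m : ℕ} (hm : 1 ≤ m) (hm' : m + 1 ≤ n - 1) {g : X}
    (hg : ⁅x, g⁆ ∈ γ[m + 1]) : g ∈ zpowers x ⊔ γ[m] := by
  set B := centMod (m + 1) x with hB
  set C := centralizer ({x} : Set X) with hC
  have hCB : C ≤ B := fun c hc => by
    rw [hB, mem_centMod, commutatorElement_eq_one_iff_mul_comm.2 (mem_centralizer_singleton_iff.1 hc).symm]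
    exact one_mem _
  have hWB : zpowers x ⊔ γ[m] ≤ B := by
    refine sup_le (zpowers_le.2 ?_) fun t ht => ?_
    · rw [hB, mem_centMod, commutatorElement_self]
      exact one_mem _
    · rw [hB, mem_centMod]
      exact comm_symm (mem_gamma_succ ht x)
  have hrel : C.relIndex B ≤ Nat.card (γ[m + 1] : Subgroup X) := by
    rw [relIndex, index]
    refine Nat.card_le_card_of_injective
      (fun q => Quotient.liftOn' q
        (fun b => (⟨⁅(b : X), x⁆, comm_symm (mem_centMod.1 b.2)⟩ : (γ[m + 1] : Subgroup X))) (by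
      intro a b hab
      rw [QuotientGroup.leftRel_apply, mem_subgroupOf, hC, mem_centralizer_singleton_iff] at hab
      simp only [coe_mul, coe_inv] at hab
      refine Subtype.ext ?_
      show ⁅(a : X), x⁆ = ⁅(b : X), x⁆
      rw [commutatorElement_def, commutatorElement_def]
      congr 1
      calc (a : X) * x * (a : X)⁻¹ = a * (x * ((a : X)⁻¹ * b)) * (b : X)⁻¹ := by group
        _ = a * ((a : X)⁻¹ * b * x) * (b : X)⁻¹ := by rw [hab]
        _ = _ := by group)) ?_
    intro q r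
    induction q using Quotient.inductionOn' with | _ a => ?_
    induction r using Quotient.inductionOn' with | _ b => ?_
    intro hab
    have h2 : ⁅(a : X), x⁆ = ⁅(b : X), x⁆ := congrArg Subtype.val hab
    simp only [commutatorElement_def] at h2
    refine Quotient.sound' ?_
    rw [QuotientGroup.leftRel_apply, mem_subgroupOf, hC, mem_centralizer_singleton_iff]
    have h3 : (a : X) * x * (a : X)⁻¹ = b * x * (b : X)⁻¹ := mul_right_cancel h2
    simp only [coe_mul, coe_inv]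
    calc (a : X)⁻¹ * b * x = (a : X)⁻¹ * (b * x * (b : X)⁻¹) * b := by group
      _ = (a : X)⁻¹ * (a * x * (a : X)⁻¹) * b := by rw [h3]
      _ = _ := by group
  have hBcard : Nat.card B ≤ 3 ^ (n - m) := by
    rw [← Cfsg.Lib.Core.card_mul_relIndex hCB, hCx]
    rw [card_gamma h (m + 1) (by omega) hm'] at hrel
    refine (Nat.mul_le_mul le_rfl hrel).trans ?_
    rw [show (9 : ℕ) = 3 ^ 2 from rfl, ← pow_add]
    exact Nat.pow_le_pow_right (by norm_num) (by omega)
  have hW : 3 ^ (n - m) ≤ Nat.card ↥(zpowers x ⊔ γ[m] : Subgroup X) := by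
    have hxm : x ∉ γ[m] := fun hc => x_not_mem h hCx (Subgroup.lowerCentralSeries_antitone _ hm hc)
    have hlt : (γ[m] : Subgroup X) < zpowers x ⊔ γ[m] :=
      lt_of_le_of_ne le_sup_right fun he => hxm (he ▸ mem_sup_left (mem_zpowers x))
    have h1 := Cfsg.Lib.Fusion.card_lt_card_of_lt hlt
    obtain ⟨i, hi⟩ := IsPGroup.iff_card.1 ((MaxClass.isPGroup h).to_subgroup (zpowers x ⊔ γ[m]))
    rw [card_gamma h m hm (by omega), hi] at h1
    have := (Nat.pow_lt_pow_iff_right (by norm_num)).1 h1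
    rw [hi]
    exact Nat.pow_le_pow_right (by norm_num) (by omega)
  rw [eq_of_le_of_card_ge hWB (hBcard.trans hW)]
  exact mem_centMod.2 hg

/-- `x` moves every level of the series one step down. -/
theorem uniform {k : ℕ} (hk : 1 ≤ k) (hk' : k + 2 ≤ n - 1) {g : X} (hg : g ∈ γ[k])
    (hxg : ⁅x, g⁆ ∈ γ[k + 2]) : g ∈ γ[k + 1] := by
  obtain ⟨u, hu, t, ht, rfl⟩ :=
    mem_sup_of_normal_right.1 (mem_sup_of_comm h hx3 hCx (m := k + 1) (by omega) hk' hxg)
  obtain ⟨i, rfl⟩ := mem_zpowers_iff.1 hu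
  have h1 : x ^ i ∈ γ[k] := by
    have h2 := mul_mem hg (inv_mem (Subgroup.lowerCentralSeries_antitone _ (by omega : k ≤ k + 1) ht))
    rwa [mul_inv_cancel_right] at h2
  rw [zpow_eq_one_of_mem h hx3 hCx
    (fun hc => x_not_mem h hCx (Subgroup.lowerCentralSeries_antitone _ hk hc)) h1, one_mul]
  exact ht

/-- Conjugates of `x`: `g^3 [x,g]^3 [x,x,g] = 1`. -/
theorem norm_identity {k : ℕ} (hk : 1 ≤ k) {g : X} (hg : g ∈ γ[k]) :
    g ^ 3 * ⁅x, g⁆ ^ 3 * ⁅x, ⁅x, g⁆⁆ ∈ γ[k + 3] := by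
  set π := QuotientGroup.mk' (γ[k + 3] : Subgroup X) with hπ
  set d := ⁅x, g⁆ with hd
  set e := ⁅x, d⁆ with he
  have hdk : d ∈ γ[k + 1] := comm_symm (mem_gamma_succ hg x)
  have hek : e ∈ γ[k + 2] := comm_symm (mem_gamma_succ hdk x)
  have h0 : (x * g * x⁻¹) * (x * (x * g * x⁻¹) * x⁻¹) * g = 1 := by
    have h1 := conj_cube h hx3 hCx (Subgroup.lowerCentralSeries_antitone _ hk hg)
    have hxx : x⁻¹ * x⁻¹ = x := by
      rw [← mul_inv_rev, inv_eq_iff_mul_eq_one, ← pow_two, ← pow_succ, hx3]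
    calc (x * g * x⁻¹) * (x * (x * g * x⁻¹) * x⁻¹) * g
        = x * g * x * g * (x⁻¹ * x⁻¹) * g := by group
      _ = x * g * x * g * x * g := by rw [hxx]
      _ = (x * g) ^ 3 := by rw [pow_succ, pow_two]; group
      _ = 1 := h1
  have hxg : x * g * x⁻¹ = d * g := by rw [hd, commutatorElement_def]; group
  have hxd : x * d * x⁻¹ = e * d := by rw [he, commutatorElement_def]; group
  rw [hxg, show x * (d * g) * x⁻¹ = (x * d * x⁻¹) * (x * g * x⁻¹) by group, hxd, hxg] at h0
  have h1 := congrArg π h0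
  simp only [map_mul, map_one] at h1
  have hde : Commute (π d) (π e) := mk_commute (by omega) hdk hek
  have hdg : Commute (π d) (π g) := mk_commute (by omega) hdk hg
  have heg : Commute (π e) (π g) := mk_commute (by omega) hek hg
  rw [← QuotientGroup.eq_one_iff, ← QuotientGroup.mk'_apply, map_mul, map_mul, map_pow, map_pow]
  rw [← h1]
  calc π g ^ 3 * π d ^ 3 * π e = π d ^ 3 * π e * π g ^ 3 := by
        rw [mul_assoc, ((hdg.pow_left 3).mul_left heg).pow_right 3 |>.eq]
    _ = π d * (π e * π d) * (π d * π g) * π g * π g := by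
        rw [← hde.eq, pow_succ, pow_two, pow_succ, pow_two]
        simp only [mul_assoc]
        rw [hde.left_comm]
    _ = π d * π g * (π e * π d * (π d * π g)) * π g := by
        have h2 : Commute (π g) (π e * π d * π d) := ((heg.symm.mul_right hdg.symm).mul_right hdg.symm)
        simp only [mul_assoc] at h2 ⊢
        rw [← mul_assoc (π g) (π e), ← mul_assoc (π g * π e), ← mul_assoc (π g * π e * π d),
          show π g * π e * π d * π d = π g * (π e * (π d * π d)) by simp only [mul_assoc], h2.eq]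
        simp only [mul_assoc]

theorem cube_aux {k : ℕ} (hk : 1 ≤ k) {g : X} (hg : g ∈ γ[k]) : ⁅x, g⁆ ^ 3 ∈ γ[k + 3] := by
  have hd : ⁅x, g⁆ ∈ γ[k + 1] := comm_symm (mem_gamma_succ hg x)
  have he : ⁅x, ⁅x, g⁆⁆ ∈ γ[k + 2] := comm_symm (mem_gamma_succ hd x)
  have hf : ⁅x, ⁅x, ⁅x, g⁆⁆⁆ ∈ γ[k + 3] := comm_symm (mem_gamma_succ he x)
  have hf' : ⁅x, ⁅x, ⁅x, ⁅x, g⁆⁆⁆⁆ ∈ γ[k + 3] :=
    Subgroup.lowerCentralSeries_antitone _ (by omega) (comm_symm (mem_gamma_succ hf x))
  have he3 : ⁅x, ⁅x, g⁆⁆ ^ 3 ∈ γ[k + 3] := by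
    have h1 : _ ∈ γ[k + 3] :=
      Subgroup.lowerCentralSeries_antitone _ (by omega) (norm_identity h hx3 hCx (k := k + 2) (by omega) he)
    exact (mul_mem_cancel_right (pow_mem hf 3)).1 ((mul_mem_cancel_right hf').1 h1)
  have h1 : _ ∈ γ[k + 3] :=
    Subgroup.lowerCentralSeries_antitone _ (by omega) (norm_identity h hx3 hCx (k := k + 1) (by omega) hd)
  exact (mul_mem_cancel_right he3).1 ((mul_mem_cancel_right hf).1 h1)

theorem cube_congr {k : ℕ} (hk : 1 ≤ k) {g : X} (hg : g ∈ γ[k]) :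
    g ^ 3 * ⁅x, ⁅x, g⁆⁆ ∈ γ[k + 3] := by
  have h1 := norm_identity h hx3 hCx hk hg
  have h2 := (inferInstance : (γ[k + 3] : Subgroup X).Normal).conj_mem _ (cube_aux h hx3 hCx hk hg) (g ^ 3)
  have h3 := mul_mem (inv_mem h2) h1
  simpa [mul_assoc] using h3

theorem cube_mem {k : ℕ} (hk : 1 ≤ k) {g : X} (hg : g ∈ γ[k]) : g ^ 3 ∈ γ[k + 2] := by
  have he : ⁅x, ⁅x, g⁆⁆ ∈ γ[k + 2] := comm_symm (mem_gamma_succ (comm_symm (mem_gamma_succ hg x)) x)
  exact (mul_mem_cancel_right he).1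
    (Subgroup.lowerCentralSeries_antitone _ (by omega) (cube_congr h hx3 hCx hk hg))

theorem cube_not_mem {k : ℕ} (hk : 1 ≤ k) (hk' : k + 4 ≤ n) {g : X} (hg : g ∈ γ[k])
    (hg' : g ∉ γ[k + 1]) : g ^ 3 ∉ γ[k + 3] := by
  intro hc
  have h1 : ⁅x, ⁅x, g⁆⁆ ∈ γ[k + 3] := (mul_mem_cancel_left hc).1 (cube_congr h hx3 hCx hk hg)
  have h2 : ⁅x, g⁆ ∈ γ[k + 2] :=
    uniform h hx3 hCx (k := k + 1) (by omega) (by omega) (comm_symm (mem_gamma_succ hg x)) h1
  exact hg' (uniform h hx3 hCx hk (by omega) hg h2)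

omit hx3 hCx in
/-- `γ₂/γ₃` and `γ₁/γ₂` are nontrivial. -/
theorem exists_top {k : ℕ} (hk : 1 ≤ k) (hk' : k + 2 ≤ n) :
    ∃ g ∈ (γ[k] : Subgroup X), g ∉ γ[k + 1] := by
  by_contra hall
  push Not at hall
  have h2 := card_le_of_le (show (γ[k] : Subgroup X) ≤ γ[k + 1] from hall)
  rw [card_gamma h k hk (by omega), card_gamma h (k + 1) (by omega) (by omega)] at h2
  have := (Nat.pow_le_pow_iff_right (by norm_num)).1 h2
  omega

omit hx3 hCx in
/-- An element of level one exists. -/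
theorem exists_one : ∃ s ∈ (γ[1] : Subgroup X), s ∉ γ[2] :=
  exists_top h le_rfl (by have := h.three; omega)

omit h hx3 hCx [Finite X] [Fact (Nat.Prime 3)] in
/-- The two-step centralizer `C(γ₁/γ₃)`. -/
def twoStep (X : Type u) [Group X] : Subgroup X := ⨅ s ∈ (γ[1] : Subgroup X), centMod 3 s

omit h hx3 hCx [Finite X] [Fact (Nat.Prime 3)] in
theorem mem_twoStep {y : X} : y ∈ twoStep X ↔ ∀ s ∈ (γ[1] : Subgroup X), ⁅s, y⁆ ∈ γ[3] := by
  simp only [twoStep, mem_iInf, mem_centMod]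

omit h hx3 hCx [Finite X] [Fact (Nat.Prime 3)] in
theorem gamma_one_le_twoStep : (γ[1] : Subgroup X) ≤ twoStep X :=
  fun _ ha => mem_twoStep.2 fun _ hs => comm_mem_gamma (a := 1) (b := 1) (by norm_num) hs ha

omit h hx3 hCx [Finite X] [Fact (Nat.Prime 3)] in
instance twoStep_normal : (twoStep X).Normal := by
  refine ⟨fun a ha g => ?_⟩
  have h1 : ⁅g, a⁆ ∈ γ[1] := comm_symm (mem_gamma_succ (k := 0) (mem_top a) g)
  have h2 := mul_mem (gamma_one_le_twoStep h1) ha
  rwa [commutatorElement_def, inv_mul_cancel_right] at h2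

theorem x_not_mem_twoStep (h4 : 4 ≤ n) : x ∉ twoStep X := by
  intro hx
  obtain ⟨s, hs, hs'⟩ := exists_one h
  exact hs' (uniform h hx3 hCx le_rfl (by omega) hs (comm_symm (mem_twoStep.1 hx s hs)))

theorem card_twoStep (h4 : 4 ≤ n) : Nat.card (twoStep X) = 3 ^ (n - 1) := by
  obtain ⟨s, hs, hs'⟩ := exists_one h
  have hBs : centMod 3 s ≤ twoStep X := by
    intro y hy
    rw [mem_twoStep]
    intro t ht
    have hle : (γ[1] : Subgroup X) ≤ centMod 3 y := by
      rw [← sup_zpowers h le_rfl hs hs']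
      refine sup_le (zpowers_le.2 (mem_centMod.2 (comm_symm (mem_centMod.1 hy)))) fun v hv => ?_
      exact mem_centMod.2 (comm_symm (mem_gamma_succ hv y))
    exact comm_symm (mem_centMod.1 (hle ht))
  have hidx : (centMod 3 s).index ≤ 3 := by
    have hB : (γ[3] : Subgroup X).relIndex γ[2] ≤ 3 := by
      have h1 := Cfsg.Lib.Core.card_mul_relIndex
        (Subgroup.lowerCentralSeries_antitone (⊤ : Subgroup X) (show 2 ≤ 3 by norm_num))
      rw [card_gamma h 3 (by omega) (by omega), card_gamma h 2 (by omega) (by omega),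
        show n - 1 - 2 = (n - 1 - 3) + 1 by omega, pow_succ] at h1
      exact (Nat.eq_of_mul_eq_mul_left (pow_pos (by norm_num) _) h1).le
    refine le_trans ?_ hB
    rw [relIndex, index, index]
    refine Nat.card_le_card_of_injective
      (fun q => Quotient.liftOn' q (fun a => ((⟨⁅a, s⁆, comm_symm (mem_gamma_succ hs a)⟩ :
        (γ[2] : Subgroup X)) : (γ[2] : Subgroup X) ⧸ (γ[3] : Subgroup X).subgroupOf γ[2])) (by
      intro a b hab
      rw [QuotientGroup.leftRel_apply, mem_centMod] at hab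
      refine QuotientGroup.eq.2 ?_
      simp only [mem_subgroupOf, coe_mul, coe_inv]
      rw [show ⁅a, s⁆⁻¹ * ⁅b, s⁆ = (s * a * s⁻¹) * ⁅a⁻¹ * b, s⁆ * (s * a * s⁻¹)⁻¹ by
        simp only [commutatorElement_def]; group]
      exact (inferInstance : (γ[3] : Subgroup X).Normal).conj_mem _ (comm_symm hab) _)) ?_
    intro q r
    induction q using Quotient.inductionOn' with | _ a => ?_
    induction r using Quotient.inductionOn' with | _ b => ?_
    intro hab
    simp only [Quotient.liftOn'_mk''] at hab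
    have h1 := QuotientGroup.eq.1 hab
    simp only [mem_subgroupOf, coe_mul, coe_inv] at h1
    refine Quotient.sound' ?_
    rw [QuotientGroup.leftRel_apply, mem_centMod]
    refine comm_symm ?_
    have h2 := (inferInstance : (γ[3] : Subgroup X).Normal).conj_mem _ h1 (s * a * s⁻¹)⁻¹
    convert h2 using 1
    simp only [commutatorElement_def]; group
  have hX : IsPGroup 3 X := MaxClass.isPGroup h
  obtain ⟨i, hi⟩ := hX.index (twoStep X)
  have hi1 : (twoStep X).index ≤ 3 :=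
    (Nat.le_of_dvd (Nat.pos_of_ne_zero index_ne_zero_of_finite) (index_dvd_of_le hBs)).trans hidx
  have hne : (twoStep X).index ≠ 1 := fun h1 =>
    x_not_mem_twoStep h hx3 hCx h4 (index_eq_one.1 h1 ▸ mem_top x)
  rw [hi] at hi1 hne
  have hi2 : i = 1 := by
    rcases Nat.lt_or_ge i 2 with h2 | h2
    · rcases (show i = 0 ∨ i = 1 by omega) with rfl | rfl
      · exact absurd (pow_zero 3) hne
      · rfl
    · exact absurd ((Nat.pow_le_pow_right (show 0 < 3 by norm_num) h2).trans hi1) (by norm_num)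
  have h3 := (twoStep X).card_mul_index
  rw [hi, hi2, h.card, pow_one, show n = (n - 1) + 1 by omega, pow_succ] at h3
  exact Nat.eq_of_mul_eq_mul_right (show 0 < 3 by norm_num) h3

theorem eq_top_of_twoStep_le (h4 : 4 ≤ n) {K : Subgroup X} (hK : twoStep X ≤ K) {z : X} (hz : z ∈ K)
    (hz' : z ∉ twoStep X) : K = ⊤ := by
  refine eq_top_of_le_card K ?_
  obtain ⟨i, hi⟩ := IsPGroup.iff_card.1 ((MaxClass.isPGroup h).to_subgroup K)
  have h1 := Cfsg.Lib.Fusion.card_lt_card_of_lt (lt_of_le_not_ge hK fun hle => hz' (hle hz))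
  rw [card_twoStep h hx3 hCx h4, hi] at h1
  have := (Nat.pow_lt_pow_iff_right (by norm_num)).1 h1
  rw [h.card, hi]
  exact Nat.pow_le_pow_right (by norm_num) (by omega)

theorem twoStep_eq (h4 : 4 ≤ n) {y : X} (hy : y ∈ twoStep X) (hy' : y ∉ γ[1]) :
    zpowers y ⊔ γ[1] = twoStep X := by
  refine eq_of_le_of_card_ge (sup_le (zpowers_le.2 hy) gamma_one_le_twoStep) ?_
  obtain ⟨i, hi⟩ := IsPGroup.iff_card.1 ((MaxClass.isPGroup h).to_subgroup (zpowers y ⊔ γ[1]))
  have h1 := Cfsg.Lib.Fusion.card_lt_card_of_lt (lt_of_le_of_ne (le_sup_right : (γ[1] : Subgroup X) ≤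
    zpowers y ⊔ γ[1]) fun he => hy' (he ▸ mem_sup_left (mem_zpowers y)))
  rw [card_gamma h 1 le_rfl (by omega), hi] at h1
  have := (Nat.pow_lt_pow_iff_right (by norm_num)).1 h1
  rw [card_twoStep h hx3 hCx h4, hi]
  exact Nat.pow_le_pow_right (by norm_num) (by omega)

theorem uniform_zero (h4 : 4 ≤ n) {y : X} (hy : y ∈ twoStep X) (hxy : ⁅x, y⁆ ∈ γ[2]) : y ∈ γ[1] := by
  obtain ⟨u, hu, t, ht, rfl⟩ :=
    mem_sup_of_normal_right.1 (mem_sup_of_comm h hx3 hCx (m := 1) le_rfl (by omega) hxy)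
  obtain ⟨i, rfl⟩ := mem_zpowers_iff.1 hu
  have h1 : x ^ i ∈ twoStep X := by
    have h2 := mul_mem hy (inv_mem (gamma_one_le_twoStep ht))
    rwa [mul_inv_cancel_right] at h2
  rw [zpow_eq_one_of_mem h hx3 hCx (x_not_mem_twoStep h hx3 hCx h4) h1, one_mul]
  exact ht

theorem twoStep_cube_comm (h4 : 4 ≤ n) {y : X} (hy : y ∈ twoStep X) :
    ⁅x, y⁆ ^ 3 * ⁅x, y ^ 3⁆⁻¹ ∈ γ[4] := by
  set π := QuotientGroup.mk' (γ[4] : Subgroup X) with hπ
  set s := ⁅x, y⁆ with hs
  have hsk : s ∈ γ[1] := comm_symm (mem_gamma_succ (k := 0) (mem_top y) x)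
  set c := ⁅y, s⁆ with hc
  have hck : c ∈ γ[3] := comm_symm (mem_twoStep.1 hy s hsk)
  have hys : π y * π s = π c * (π s * π y) := by
    rw [← map_mul, ← map_mul, ← map_mul]; congr 1; rw [hc, commutatorElement_def]; group
  have hcs : Commute (π c) (π s) := mk_commute (by omega) hck hsk
  have hcy : Commute (π c) (π y) := mk_commute (b := 0) (by omega) hck (mem_top y)
  have hc3 : π c ^ 3 = 1 := by
    rw [← map_pow]
    exact (QuotientGroup.eq_one_iff _).2
      (Subgroup.lowerCentralSeries_antitone _ (by omega) (cube_mem h hx3 hCx (k := 3) (by omega) hck))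
  have h1 : π (x * y ^ 3 * x⁻¹) = π (s ^ 3 * y ^ 3) := by
    rw [← conj_pow, show x * y * x⁻¹ = s * y by rw [hs, commutatorElement_def]; group, map_pow, map_mul,
      cube_comm hys hcs hcy, hc3, one_mul, map_mul, map_pow, map_pow]
  rw [← QuotientGroup.eq_one_iff, ← QuotientGroup.mk'_apply, ← hπ]
  rw [show s ^ 3 * ⁅x, y ^ 3⁆⁻¹ = (s ^ 3 * y ^ 3) * (x * y ^ 3 * x⁻¹)⁻¹ by
    rw [commutatorElement_def]; group, map_mul, map_inv, h1, mul_inv_cancel]

theorem cube_mem_zero (h4 : 4 ≤ n) {y : X} (hy : y ∈ twoStep X) : y ^ 3 ∈ γ[2] := by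
  have h1 : y ^ 3 ∈ γ[1] := MaxClass.pow_mem_gamma_succ h (k := 0) (mem_top y)
  refine uniform h hx3 hCx le_rfl (by omega) h1 ?_
  have h2 : ⁅x, y⁆ ^ 3 ∈ γ[3] := cube_mem h hx3 hCx le_rfl (comm_symm (mem_gamma_succ (k := 0) (mem_top y) x))
  have h3 : _ ∈ γ[3] :=
    Subgroup.lowerCentralSeries_antitone _ (by omega) (twoStep_cube_comm h hx3 hCx h4 hy)
  exact inv_mem_iff.1 ((mul_mem_cancel_left h2).1 h3)

theorem cube_not_mem_zero (h5 : 5 ≤ n) {y : X} (hy : y ∈ twoStep X) (hy' : y ∉ γ[1]) :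
    y ^ 3 ∉ γ[3] := by
  intro hc
  have h1 : ⁅x, y ^ 3⁆ ∈ γ[4] := comm_symm (mem_gamma_succ hc x)
  have h2 : ⁅x, y⁆ ^ 3 ∈ γ[4] :=
    (mul_mem_cancel_right (inv_mem h1)).1 (twoStep_cube_comm h hx3 hCx (by omega) hy)
  exact cube_not_mem h hx3 hCx le_rfl (by omega) (comm_symm (mem_gamma_succ (k := 0) (mem_top y) x))
    (fun hs => hy' (uniform_zero h hx3 hCx (by omega) hy hs)) h2

/-- `γ_1`-level commutators: the two-step centralizer centralises every `γ_k/γ_{k+2}`. -/
theorem twoStep_comm (h4 : 4 ≤ n) {y : X} (hy : y ∈ twoStep X) :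
    ∀ k, 1 ≤ k → ∀ g ∈ (γ[k] : Subgroup X), ⁅y, g⁆ ∈ γ[k + 2] := by
  intro k
  induction k using Nat.strong_induction_on with
  | _ k ih =>
  intro hk g hg
  rcases Nat.lt_or_ge (k + 1) (n - 1) with hs | hs
  swap
  · rw [gamma_eq_bot h (show n - 1 ≤ k + 2 by omega), ← gamma_eq_bot h hs]
    exact comm_symm (mem_gamma_succ hg y)
  obtain rfl | rfl | hk3 : k = 1 ∨ k = 2 ∨ 3 ≤ k := by omega
  · exact comm_symm (mem_twoStep.1 hy g hg)
  · by_cases hy1 : y ∈ γ[1]
    · exact comm_mem_gamma (by omega) hy1 hg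
    · have hy2 := cube_mem_zero h hx3 hCx h4 hy
      have hy3 := cube_not_mem_zero h hx3 hCx (by omega) hy hy1
      have hle : (γ[2] : Subgroup X) ≤ centMod 4 y := by
        rw [← sup_zpowers h (by omega) hy2 hy3]
        refine sup_le (zpowers_le.2 (mem_centMod.2 ?_)) fun v hv => mem_centMod.2 (comm_symm (mem_gamma_succ hv y))
        rw [commutatorElement_eq_one_iff_mul_comm.2 (Commute.self_pow y 3).eq]
        exact one_mem _
      exact mem_centMod.1 (hle hg)
  · obtain ⟨j, rfl⟩ : ∃ j, k = j + 2 := ⟨k - 2, by omega⟩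
    obtain ⟨g₀, hg₀, hg₀'⟩ := exists_top h (k := j) (by omega) (by omega)
    have hc3 := cube_not_mem h hx3 hCx (k := j) (by omega) (by omega) hg₀ hg₀'
    have hle : (γ[j + 2] : Subgroup X) ≤ centMod (j + 4) y := by
      rw [← sup_zpowers h (by omega) (cube_mem h hx3 hCx (by omega) hg₀) hc3]
      refine sup_le (zpowers_le.2 (mem_centMod.2 ?_)) fun v hv => mem_centMod.2 (comm_symm (mem_gamma_succ hv y))
      set c := ⁅y, g₀⁆ with hc
      have hck : c ∈ γ[j + 2] := ih j (by omega) (by omega) g₀ hg₀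
      have hc3' : c ^ 3 ∈ γ[j + 4] := cube_mem h hx3 hCx (by omega) hck
      rw [← QuotientGroup.eq_one_iff, ← QuotientGroup.mk'_apply,
        show ⁅y, g₀ ^ 3⁆ = (c * g₀) ^ 3 * (g₀ ^ 3)⁻¹ by
          rw [hc, commutatorElement_def, commutatorElement_def, show y * g₀ * y⁻¹ * g₀⁻¹ * g₀ = y * g₀ * y⁻¹ by group,
            conj_pow],
        map_mul, map_pow, map_mul, (mk_commute (by omega) hck hg₀).mul_pow, map_inv, map_pow _ g₀,
        mul_inv_cancel_right, ← map_pow]
      exact (QuotientGroup.eq_one_iff _).2 hc3'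
    exact mem_centMod.1 (hle hg)

theorem uniform_other (h4 : 4 ≤ n) {z : X} (hz : z ∉ twoStep X) {k : ℕ} (hk : 1 ≤ k) (hk' : k + 2 ≤ n - 1)
    {g : X} (hg : g ∈ γ[k]) (hg' : g ∉ γ[k + 1]) : ⁅z, g⁆ ∉ γ[k + 2] := by
  intro hc
  have hK : centMod (k + 2) g = ⊤ := eq_top_of_twoStep_le h hx3 hCx h4
    (fun y hy => mem_centMod.2 (comm_symm (twoStep_comm h hx3 hCx h4 hy k hk g hg)))
    (mem_centMod.2 (comm_symm hc)) hz
  exact hg' (uniform h hx3 hCx hk hk' hg (comm_symm (mem_centMod.1 (hK ▸ mem_top x))))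

theorem uniform_other_zero (h4 : 4 ≤ n) {z : X} (hz : z ∉ twoStep X) {y : X} (hy : y ∈ twoStep X)
    (hy' : y ∉ γ[1]) : ⁅z, y⁆ ∉ γ[2] := by
  intro hc
  have hK : centMod 2 y = ⊤ := eq_top_of_twoStep_le h hx3 hCx h4 (by
    rw [← twoStep_eq h hx3 hCx h4 hy hy']
    refine sup_le (zpowers_le.2 (mem_centMod.2 ?_)) fun v hv => mem_centMod.2 (comm_symm (mem_gamma_succ hv y))
    rw [commutatorElement_self]; exact one_mem _) (mem_centMod.2 (comm_symm hc)) hz
  exact hy' (uniform_zero h hx3 hCx h4 hy (comm_symm (mem_centMod.1 (hK ▸ mem_top x))))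

/-- `twoStep, γ₁, γ₂, …` -/
def level (X : Type u) [Group X] (k : ℕ) : Subgroup X := if k = 0 then twoStep X else γ[k]

omit h hx3 hCx [Finite X] [Fact (Nat.Prime 3)] in
theorem level_zero : level X 0 = twoStep X := if_pos rfl

omit h hx3 hCx [Finite X] [Fact (Nat.Prime 3)] in
theorem level_succ (k : ℕ) : level X (k + 1) = γ[k + 1] := if_neg (Nat.succ_ne_zero k)

omit h hx3 hCx [Finite X] [Fact (Nat.Prime 3)] in
theorem level_of_pos {k : ℕ} (hk : 1 ≤ k) : level X k = γ[k] := if_neg (by omega)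

omit h hx3 hCx [Finite X] [Fact (Nat.Prime 3)] in
theorem level_succ_le (k : ℕ) : level X (k + 1) ≤ level X k := by
  rcases Nat.eq_zero_or_pos k with rfl | hk
  · rw [level_zero, level_succ]; exact gamma_one_le_twoStep
  · rw [level_of_pos hk, level_succ]; exact Subgroup.lowerCentralSeries_antitone _ (by omega)

theorem card_level (h4 : 4 ≤ n) {k : ℕ} (hk : k ≤ n - 1) : Nat.card (level X k) = 3 ^ (n - 1 - k) := by
  rcases Nat.eq_zero_or_pos k with rfl | hk0
  · rw [level_zero, card_twoStep h hx3 hCx h4, Nat.sub_zero]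
  · rw [level_of_pos hk0, card_gamma h k hk0 hk]

theorem level_sup (h4 : 4 ≤ n) {k : ℕ} {a : X} (ha : a ∈ level X k) (ha' : a ∉ level X (k + 1)) :
    zpowers a ⊔ level X (k + 1) = level X k := by
  rcases Nat.eq_zero_or_pos k with rfl | hk0
  · rw [level_zero, level_succ] at *
    exact twoStep_eq h hx3 hCx h4 ha ha'
  · rw [level_of_pos hk0, level_succ] at *
    exact sup_zpowers h hk0 ha ha'

theorem level_step (h4 : 4 ≤ n) {z : X} (hz : z ∉ twoStep X) {k : ℕ} (hk : k + 2 ≤ n - 1) {a : X}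
    (ha : a ∈ level X k) (ha' : a ∉ level X (k + 1)) :
    ⁅z, a⁆ ∈ level X (k + 1) ∧ ⁅z, a⁆ ∉ level X (k + 2) := by
  rcases Nat.eq_zero_or_pos k with rfl | hk0
  · rw [level_zero, level_succ] at *
    rw [level_succ]
    exact ⟨comm_symm (mem_gamma_succ (k := 0) (mem_top a) z), uniform_other_zero h hx3 hCx h4 hz ha ha'⟩
  · rw [level_of_pos hk0, level_succ] at *
    rw [level_succ]
    exact ⟨comm_symm (mem_gamma_succ ha z), uniform_other h hx3 hCx h4 hz hk0 hk ha ha'⟩

theorem level_le_of_step (h4 : 4 ≤ n) {z : X} (hz : z ∉ twoStep X) {W : Subgroup X} (hzW : z ∈ W) :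
    ∀ k, (∃ a ∈ W, a ∈ level X k ∧ a ∉ level X (k + 1)) → level X k ≤ W := by
  suffices H : ∀ d k, n - 1 - k = d → (∃ a ∈ W, a ∈ level X k ∧ a ∉ level X (k + 1)) → level X k ≤ W by
    exact fun k => H _ k rfl
  intro d
  induction d using Nat.strong_induction_on with
  | _ d ih =>
  rintro k hd ⟨a, haW, ha, ha'⟩
  rw [← level_sup h hx3 hCx h4 ha ha']
  refine sup_le (zpowers_le.2 haW) ?_
  rcases Nat.lt_or_ge (k + 1) (n - 1) with hk | hk
  · obtain ⟨h1, h2⟩ := level_step h hx3 hCx h4 hz (by omega) ha ha'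
    refine ih _ (by omega) (k + 1) rfl ⟨_, ?_, h1, h2⟩
    rw [commutatorElement_def]
    exact mul_mem (mul_mem (mul_mem hzW haW) (inv_mem hzW)) (inv_mem haW)
  · rw [level_succ, gamma_eq_bot h hk]
    exact bot_le

/-- Subgroups outside the two-step centralizer. -/
theorem gen_of_not_le (h4 : 4 ≤ n) {H : Subgroup X} (hH : ¬ H ≤ twoStep X) :
    ∃ T : Finset X, T.card ≤ 2 ∧ closure (T : Set X) = H := by
  classical
  obtain ⟨z, hzH, hz⟩ := SetLike.not_le_iff_exists.1 hH
  have hsplit : ∀ v ∈ H, ∃ i : ℤ, ∃ g ∈ H ⊓ twoStep X, v = z ^ i * g := by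
    intro v hv
    have htop := eq_top_of_twoStep_le h hx3 hCx h4 (le_sup_right : twoStep X ≤ zpowers z ⊔ twoStep X)
      (mem_sup_left (mem_zpowers z)) hz
    obtain ⟨u, hu, g, hg, rfl⟩ := mem_sup_of_normal_right.1 (htop ▸ mem_top v)
    obtain ⟨i, rfl⟩ := mem_zpowers_iff.1 hu
    exact ⟨i, g, ⟨by simpa using mul_mem (inv_mem (zpow_mem hzH i)) hv, hg⟩, rfl⟩
  by_cases hN : H ⊓ twoStep X = ⊥
  · refine ⟨{z}, by simp, ?_⟩
    rw [Finset.coe_singleton, ← zpowers_eq_closure]
    refine le_antisymm (zpowers_le.2 hzH) fun v hv => ?_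
    obtain ⟨i, g, hg, rfl⟩ := hsplit v hv
    rw [hN, mem_bot] at hg
    rw [hg, mul_one]
    exact zpow_mem (mem_zpowers z) i
  have hex : ∃ k, ¬ H ⊓ twoStep X ≤ level X (k + 1) := ⟨n, fun hle => hN (le_bot_iff.1 (hle.trans (by
    rw [level_succ, gamma_eq_bot h (show n - 1 ≤ n + 1 by omega)])))⟩
  set k := Nat.find hex with hk
  have hk' : ¬ H ⊓ twoStep X ≤ level X (k + 1) := Nat.find_spec hex
  have hNk : H ⊓ twoStep X ≤ level X k := by
    rcases Nat.eq_zero_or_pos k with hk0 | hk0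
    · rw [hk0, level_zero]; exact inf_le_right
    · have h1 := Nat.find_min hex (show k - 1 < Nat.find hex by omega)
      rw [not_not, show k - 1 + 1 = k by omega] at h1
      exact h1
  obtain ⟨a, ha, ha'⟩ := SetLike.not_le_iff_exists.1 hk'
  refine ⟨{z, a}, Finset.card_le_two, le_antisymm ((closure_le _).2 ?_) fun v hv => ?_⟩
  · intro w hw
    simp only [Finset.coe_insert, Finset.coe_singleton, Set.mem_insert_iff, Set.mem_singleton_iff] at hw
    rcases hw with rfl | rfl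
    · exact hzH
    · exact ha.1
  · obtain ⟨i, g, hg, rfl⟩ := hsplit v hv
    have hzW : z ∈ closure (({z, a} : Finset X) : Set X) := subset_closure (by simp)
    refine mul_mem (zpow_mem hzW i) ?_
    exact level_le_of_step h hx3 hCx h4 hz hzW k ⟨a, subset_closure (by simp), hNk ha, ha'⟩ (hNk hg)

/-- Cubes detect the levels: `|H : ℧₁(H)| ≤ 9` inside the two-step centralizer. -/
theorem relIndex_cube_le (h4 : 4 ≤ n)
    (hgood : ∀ y ∈ twoStep X, y ∉ γ[1] → y ^ 3 ∉ γ[3]) {H : Subgroup X} (hH : H ≤ twoStep X) :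
    (closure {v : X | ∃ a ∈ H, v = a ^ 3}).relIndex H ≤ 9 := by
  set K := closure {v : X | ∃ a ∈ H, v = a ^ 3} with hK
  have hKH : K ≤ H := (closure_le _).2 (by rintro _ ⟨a, ha, rfl⟩; exact pow_mem ha 3)
  have key : ∀ d k, n - 1 - k ≤ d → Nat.card ↥(H ⊓ level X k) ≤ 9 * Nat.card ↥(K ⊓ γ[k + 2]) := by
    intro d
    induction d with
    | zero =>
      intro k hd
      rw [level_of_pos (show 1 ≤ k by omega), gamma_eq_bot h (show n - 1 ≤ k by omega), inf_bot_eq, card_bot]
      exact Nat.mul_pos (by norm_num) Nat.card_pos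
    | succ d ih =>
      intro k hd
      rcases Nat.lt_or_ge n (k + 4) with hsmall | hbig
      · refine le_trans ?_ (Nat.le_mul_of_pos_right _ Nat.card_pos)
        rcases Nat.lt_or_ge (n - 1) k with h1 | h1
        · rw [level_of_pos (show 1 ≤ k by omega), gamma_eq_bot h (show n - 1 ≤ k by omega), inf_bot_eq, card_bot]
          norm_num
        · refine (card_le_of_le inf_le_right).trans ?_
          rw [card_level h hx3 hCx h4 h1, show (9 : ℕ) = 3 ^ 2 from rfl]
          exact Nat.pow_le_pow_right (by norm_num) (by omega)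
      have ih' := ih (k + 1) (by omega)
      by_cases hj : H ⊓ level X k ≤ level X (k + 1)
      · refine (card_le_of_le (le_inf inf_le_left hj)).trans (ih'.trans ?_)
        exact Nat.mul_le_mul le_rfl
          (card_le_of_le (inf_le_inf le_rfl (Subgroup.lowerCentralSeries_antitone _ (by omega))))
      obtain ⟨a, ha, ha'⟩ := SetLike.not_le_iff_exists.1 hj
      have hle1 : Nat.card ↥(H ⊓ level X k) ≤ 3 * Nat.card ↥(H ⊓ level X (k + 1)) := by
        have h1 : H ⊓ level X (k + 1) ≤ H ⊓ level X k := inf_le_inf le_rfl (level_succ_le k)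
        have hri : (H ⊓ level X (k + 1)).relIndex (H ⊓ level X k) ≤ 3 := by
          have h3 := Cfsg.Lib.Core.card_mul_relIndex (level_succ_le (X := X) k)
          rw [card_level h hx3 hCx h4 (by omega), card_level h hx3 hCx h4 (by omega),
            show n - 1 - k = (n - 1 - (k + 1)) + 1 by omega, pow_succ] at h3
          have h5 := Nat.eq_of_mul_eq_mul_left (pow_pos (by norm_num) _) h3
          rw [show H ⊓ level X (k + 1) = level X (k + 1) ⊓ (H ⊓ level X k) by
            rw [inf_comm H (level X (k + 1))]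
            exact le_antisymm (le_inf inf_le_left (le_inf inf_le_right
              (inf_le_left.trans (level_succ_le k)))) (le_inf inf_le_left (inf_le_right.trans inf_le_left)),
            inf_relIndex_right, ← h5]
          refine relIndex_le_of_le_right inf_le_right ?_
          rw [h5]; norm_num
        rw [← Cfsg.Lib.Core.card_mul_relIndex h1, mul_comm 3]
        exact Nat.mul_le_mul le_rfl hri
      have hlt : (K ⊓ γ[k + 3] : Subgroup X) < K ⊓ γ[k + 2] := by
        refine lt_of_le_not_ge (inf_le_inf le_rfl (Subgroup.lowerCentralSeries_antitone _ (by omega))) fun hle => ?_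
        have hmem : a ^ 3 ∈ K ⊓ γ[k + 2] ∧ a ^ 3 ∉ γ[k + 3] := by
          refine ⟨⟨subset_closure ⟨a, ha.1, rfl⟩, ?_⟩, ?_⟩
          · rcases Nat.eq_zero_or_pos k with rfl | hk0
            · exact cube_mem_zero h hx3 hCx h4 (level_zero (X := X) ▸ ha.2)
            · exact cube_mem h hx3 hCx hk0 (level_of_pos (X := X) hk0 ▸ ha.2)
          · rw [level_succ] at ha'
            rcases Nat.eq_zero_or_pos k with rfl | hk0
            · exact hgood a (level_zero (X := X) ▸ ha.2) ha'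
            · exact cube_not_mem h hx3 hCx hk0 hbig (level_of_pos (X := X) hk0 ▸ ha.2) ha'
        exact hmem.2 (hle hmem.1).2
      have hle2 : 3 * Nat.card ↥(K ⊓ γ[k + 3] : Subgroup X) ≤ Nat.card ↥(K ⊓ γ[k + 2] : Subgroup X) := by
        obtain ⟨u, hu⟩ := IsPGroup.iff_card.1 ((MaxClass.isPGroup h).to_subgroup (K ⊓ γ[k + 3]))
        obtain ⟨v, hv⟩ := IsPGroup.iff_card.1 ((MaxClass.isPGroup h).to_subgroup (K ⊓ γ[k + 2]))
        have h1 := Cfsg.Lib.Fusion.card_lt_card_of_lt hlt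
        rw [hu, hv] at h1 ⊢
        rw [← pow_succ']
        exact Nat.pow_le_pow_right (by norm_num) ((Nat.pow_lt_pow_iff_right (by norm_num)).1 h1)
      calc Nat.card ↥(H ⊓ level X k) ≤ 3 * Nat.card ↥(H ⊓ level X (k + 1)) := hle1
        _ ≤ 3 * (9 * Nat.card ↥(K ⊓ γ[k + 3] : Subgroup X)) := Nat.mul_le_mul le_rfl ih'
        _ = 9 * (3 * Nat.card ↥(K ⊓ γ[k + 3] : Subgroup X)) := by ring
        _ ≤ _ := Nat.mul_le_mul le_rfl hle2
  have h1 := (key (n - 1) 0 (by omega)).trans (Nat.mul_le_mul le_rfl (card_le_of_le inf_le_left))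
  rw [level_zero, inf_eq_left.2 hH, ← Cfsg.Lib.Core.card_mul_relIndex hKH, mul_comm 9] at h1
  exact Nat.le_of_mul_le_mul_left h1 Nat.card_pos

omit hx3 hCx in
theorem gen_of_cube {H : Subgroup X} (hH : (closure {v : X | ∃ a ∈ H, v = a ^ 3}).relIndex H ≤ 9) :
    ∃ T : Finset X, T.card ≤ 2 ∧ closure (T : Set X) = H := by
  classical
  have hHp : IsPGroup 3 H := (MaxClass.isPGroup h).to_subgroup H
  have hle : closure {v : X | ∃ a ∈ H, v = a ^ 3} ≤ (frattini H).map H.subtype := by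
    refine (closure_le _).2 ?_
    rintro _ ⟨a, ha, rfl⟩
    exact ⟨⟨a, ha⟩ ^ 3, Cfsg.Lib.PGroup.pow_mem_frattini hHp _, rfl⟩
  have hidx : (frattini H).index ≤ 3 ^ 2 := by
    refine le_trans ?_ ((relIndex_le_of_le_left hle index_ne_zero_of_finite).trans (by simpa using hH))
    rw [relIndex, subgroupOf, comap_map_eq_self_of_injective H.subtype_injective]
  obtain ⟨T, hT, hTtop⟩ := exists_finset_closure hHp hidx
  refine ⟨T.image fun v : H => (v : X), Finset.card_image_le.trans hT, ?_⟩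
  rw [Finset.coe_image, show (fun v : H => (v : X)) = ⇑H.subtype from rfl, ← MonoidHom.map_closure, hTtop,
    ← MonoidHom.range_eq_map, range_subtype]

/-- The wreath product. -/
theorem exists_perm_nine (hn4 : n = 4) {y : X} (hy : y ∈ twoStep X) (hy' : y ∉ γ[1]) (hy3 : y ^ 3 = 1) :
    ∃ W : Sylow 3 (Equiv.Perm (Fin 9)), Nonempty (X ≃* ↥(W : Subgroup (Equiv.Perm (Fin 9)))) := by
  subst hn4
  obtain ⟨s, hs, hs'⟩ := exists_one h
  have hγ3 : (γ[3] : Subgroup X) = ⊥ := gamma_eq_bot h (by norm_num)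
  have hys : Commute y s := by
    have h1 := mem_twoStep.1 hy s hs
    rw [hγ3, mem_bot, commutatorElement_eq_one_iff_mul_comm] at h1
    exact h1.symm
  have hs3 : s ^ 3 = 1 := by
    have h1 := cube_mem h hx3 hCx (k := 1) le_rfl hs
    rwa [hγ3, mem_bot] at h1
  let ψ : zpowers y × zpowers s →* X := MonoidHom.noncommCoprod (zpowers y).subtype (zpowers s).subtype (by
    rintro ⟨a, ha⟩ ⟨b, hb⟩
    obtain ⟨i, rfl⟩ := mem_zpowers_iff.1 ha
    obtain ⟨j, rfl⟩ := mem_zpowers_iff.1 hb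
    exact hys.zpow_zpow i j)
  have hψ : ∀ a b, ψ (a, b) = (a : X) * b := fun a b => rfl
  have hy1 : y ≠ 1 := fun h1 => hy' (h1 ▸ one_mem _)
  have hs1 : s ≠ 1 := fun h1 => hs' (h1 ▸ one_mem _)
  -- a central element of the image is trivial
  have hker : ∀ a b, ψ (a, b) ∈ center X → a = 1 ∧ b = 1 := by
    rintro ⟨a, ha⟩ ⟨b, hb⟩ hc
    rw [hψ] at hc
    obtain ⟨i, rfl⟩ := mem_zpowers_iff.1 ha
    obtain ⟨j, rfl⟩ := mem_zpowers_iff.1 hb
    have hmem : y ^ i * s ^ j ∈ twoStep X := mul_mem (zpow_mem hy i) (zpow_mem (gamma_one_le_twoStep hs) j)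
    have hx' : ⁅x, y ^ i * s ^ j⁆ = 1 := commutatorElement_eq_one_iff_mul_comm.2 (mem_center_iff.1 hc x)
    have h1 : y ^ i * s ^ j ∈ γ[1] := uniform_zero h hx3 hCx (le_refl 4) hmem (hx' ▸ one_mem _)
    have hi : y ^ i = 1 := by
      have h2 := mul_mem h1 (inv_mem (zpow_mem hs j))
      rw [mul_inv_cancel_right] at h2
      by_contra hne
      have hz : zpowers (y ^ i) = zpowers y := by
        refine eq_of_le_of_card_ge (zpowers_le.2 (zpow_mem (mem_zpowers y) i)) ?_
        rw [Nat.card_zpowers, Nat.card_zpowers, orderOf_eq_prime hy3 hy1, orderOf_eq_prime (p := 3) (show (y ^ i) ^ 3 = 1 by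
            rw [← zpow_natCast, ← zpow_mul, mul_comm, zpow_mul, zpow_natCast, hy3, one_zpow]) hne]
      exact hy' (zpowers_le.1 (hz ▸ zpowers_le.2 h2))
    simp only [hi, one_mul] at hx' h1
    have hj : s ^ j ∈ γ[2] := uniform h hx3 hCx le_rfl le_rfl h1 (hx' ▸ one_mem _)
    have hj1 : s ^ j = 1 := by
      by_contra hne
      have hz : zpowers (s ^ j) = zpowers s := by
        refine eq_of_le_of_card_ge (zpowers_le.2 (zpow_mem (mem_zpowers s) j)) ?_
        rw [Nat.card_zpowers, Nat.card_zpowers, orderOf_eq_prime hs3 hs1, orderOf_eq_prime (p := 3) (show (s ^ j) ^ 3 = 1 by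
            rw [← zpow_natCast, ← zpow_mul, mul_comm, zpow_mul, zpow_natCast, hs3, one_zpow]) hne]
      exact hs' (zpowers_le.1 (hz ▸ zpowers_le.2 hj))
    exact ⟨Subtype.ext hi, Subtype.ext hj1⟩
  have hinj : Function.Injective ψ := by
    rw [← MonoidHom.ker_eq_bot_iff, eq_bot_iff]
    rintro ⟨a, b⟩ hab
    obtain ⟨ha, hb⟩ := hker a b (by rw [MonoidHom.mem_ker.1 hab]; exact one_mem _)
    exact mem_bot.2 (Prod.ext ha hb)
  have hDcard : Nat.card ψ.range = 9 := by
    rw [← Nat.card_congr (MonoidHom.ofInjective hinj).toEquiv, Nat.card_prod, Nat.card_zpowers, Nat.card_zpowers,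
      orderOf_eq_prime hy3 hy1, orderOf_eq_prime hs3 hs1]
  have hq : Nat.card (X ⧸ ψ.range) = 9 := by
    have h1 := ψ.range.card_eq_card_quotient_mul_card_subgroup
    rw [h.card, hDcard] at h1
    omega
  have hcore : ψ.range.normalCore = ⊥ := by
    by_contra hne
    haveI := (MaxClass.isPGroup h).isNilpotent
    have h1 : Nontrivial ψ.range.normalCore := (nontrivial_iff_ne_bot _).2 hne
    obtain ⟨w, hw, hw1, hwc⟩ : ∃ w ∈ ψ.range.normalCore, w ≠ 1 ∧ w ∈ center X := by
      have h2 : ψ.range.normalCore ⊓ center X ≠ ⊥ := Cfsg.Lib.PGroup.inf_center_ne_bot (MaxClass.isPGroup h) hne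
      obtain ⟨w, hw, hw1⟩ := (bot_or_exists_ne_one _).resolve_left h2
      exact ⟨w, hw.1, hw1, hw.2⟩
    obtain ⟨⟨a, b⟩, rfl⟩ := normalCore_le _ hw
    obtain ⟨ha, hb⟩ := hker a b hwc
    exact hw1 (by rw [ha, hb]; exact map_one ψ)
  haveI : Finite (X ⧸ ψ.range) := Nat.finite_of_card_ne_zero (by omega)
  have hq' : Nat.card (X ⧸ ψ.range) = Nat.card (Fin 9) := by rw [hq, Nat.card_fin]
  obtain ⟨e⟩ : Nonempty (X ⧸ ψ.range ≃ Fin 9) := Finite.card_eq.1 hq'
  let f : X →* Equiv.Perm (Fin 9) := e.permCongrHom.toMonoidHom.comp (MulAction.toPermHom X (X ⧸ ψ.range))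
  have hf : Function.Injective f := by
    refine e.permCongrHom.injective.comp ?_
    rw [← MonoidHom.ker_eq_bot_iff, ← normalCore_eq_ker, hcore]
  have hfc : Nat.card f.range = 3 ^ 4 := by
    rw [← Nat.card_congr (MonoidHom.ofInjective hf).toEquiv, h.card]
  refine ⟨Sylow.ofCard f.range ?_, ⟨MonoidHom.ofInjective hf⟩⟩
  rw [hfc, Nat.card_perm, Nat.card_fin]
  congr 1
  rw [show Nat.factorial 9 = 3 ^ 4 * 4480 by norm_num [Nat.factorial], Nat.factorization_mul (by norm_num) (by norm_num),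
    Finsupp.add_apply, Nat.Prime.factorization_pow (by norm_num), Finsupp.single_eq_same,
    Nat.factorization_eq_zero_of_not_dvd (by norm_num : ¬ 3 ∣ 4480)]

/-- Sectional rank two, or the wreath product. -/
theorem two_gen_or_wreath (h4 : 4 ≤ n) :
    (∀ H : Subgroup X, ∃ T : Finset X, T.card ≤ 2 ∧ closure (T : Set X) = H) ∨
      ∃ W : Sylow 3 (Equiv.Perm (Fin 9)), Nonempty (X ≃* ↥(W : Subgroup (Equiv.Perm (Fin 9)))) := by
  by_cases hgood : ∀ y ∈ twoStep X, y ∉ γ[1] → y ^ 3 ∉ γ[3]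
  · refine Or.inl fun H => ?_
    by_cases hH : H ≤ twoStep X
    · exact gen_of_cube h (relIndex_cube_le h hx3 hCx h4 hgood hH)
    · exact gen_of_not_le h hx3 hCx h4 hH
  · push Not at hgood
    obtain ⟨y, hy, hy', hy3⟩ := hgood
    have hn4 : n = 4 := by
      by_contra hne
      exact cube_not_mem_zero h hx3 hCx (by omega) hy hy' hy3
    rw [gamma_eq_bot h (by omega), mem_bot] at hy3
    exact Or.inr (exists_perm_nine h hx3 hCx hn4 hy hy' hy3)

end Cfsg.Lib.PGroup.PearlThree
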